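import Cfsg.Agent.Lib.Classical.TensorPowOrth.Max
import Cfsg.Agent.Lib.Classical.TensorPowSymp.App
import Cfsg.Agent.Lib.Classical.MaxTensorOrthApp
import Cfsg.Agent.Lib.Classical.QuadBasic

/-!
Quadratic forms whose polar form is a tensor power of an orthogonal space: maximality of the stabilisers.
-/

set_option autoImplicit false
set_option linter.unusedSectionVars false
set_option linter.style.haveILetI false

namespace Cfsg.Agent.Classical.TensorPowOrth

open Matrix Module MaxTv TensorMax TensorPow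
open Cfsg.Agent.Classical.TensorOrth (Sym iso)
open Cfsg.Agent.Classical.TensorSymp (powE powΦ powE_apply powΦ_mulVec mem_wreath)

variable {F : Type*} [Field F] [Fintype F] {ι : Type} [Fintype ι] [DecidableEq ι] {k t : ℕ}
  {Q : (ι → F) → F} {f₁ : (Fin k → F) → (Fin k → F) → F} {c : F} {e : ι ≃ (Fin t → Fin k)} {P : GL ι F}

theorem pow_form_eq (hT : ∀ x y : (Fin t → Fin k) → F,
      QuadraticMap.polar Q ((P : Matrix ι ι F) *ᵥ (x ∘ e)) ((P : Matrix ι ι F) *ᵥ (y ∘ e)) =
      c * ∑ a, ∑ b, x a * (∏ i, Geo.gramMatrix f₁ (a i) (b i)) * id (y b))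
    (x y : (Fin t → Fin k) → F) : QuadraticMap.polar Q (powE e P x) (powE e P y) = tf c f₁ x y := by
  rw [powE_apply, powE_apply, hT, tf]
  simp only [dotProduct, Matrix.mulVec, wm, Matrix.of_apply, Equiv.Perm.coe_one, id_eq, Finset.mul_sum,
    Geo.gramMatrix, gram]
  exact Finset.sum_congr rfl fun a _ => Finset.sum_congr rfl fun b _ => by ring

/-- The stabiliser of the tensor power is maximal in the derived group of the isometries. -/
theorem TData.orth_pow_maximal (hD : TData c f₁) (hex : ¬ (Fintype.card F = 3 ∧ k = 3))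
    (ht : 2 ≤ t)
    (hQ : Geo.IsNondegenerateQuadraticForm Q)
    (hpol : ∀ x y, QuadraticMap.polar Q (powE e P x) (powE e P y) = tf (κ := Fin t) c f₁ x y) :
    Geo.IsMaximalIn (Geo.omegaGL Q) (Geo.tensorWreathSubgroup k t e P ⊓ Geo.omegaGL Q) := by
  classical
  have hself : ∀ x, tf (κ := Fin t) c f₁ x x = 2 * Q (powE e P x) := fun x => by
    rw [← hpol, QuadraticMap.polar, ← two_smul F (powE e P x), hQ.smul]
    ring
  have hiso : ∀ g, powΦ e P g ∈ isometryGroup F Q ↔ g ∈ iso (tf (κ := Fin t) c f₁) := fun g => by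
    rw [mem_isometryGroup]
    refine ⟨fun h x y => ?_, fun h v => ?_⟩
    · rw [← hpol, ← hpol, ← powΦ_mulVec, ← powΦ_mulVec, QuadraticMap.polar, QuadraticMap.polar, ← Matrix.mulVec_add,
        h, h, h]
    · obtain ⟨x, rfl⟩ := (powE e P).surjective v
      rw [powΦ_mulVec]
      exact mul_left_cancel₀ hD.two (by rw [← hself, ← hself, h x x])
  have hmap : (iso (tf (κ := Fin t) c f₁)).map (powΦ e P).toMonoidHom = isometryGroup F Q := by
    ext y
    refine ⟨?_, fun hy => ⟨(powΦ e P).symm y, ?_, (powΦ e P).apply_symm_apply y⟩⟩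
    · rintro ⟨x, hx, rfl⟩
      exact (hiso x).2 hx
    · exact (hiso _).1 (by rwa [MulEquiv.apply_symm_apply])
  have hK : ∀ g, powΦ e P g ∈ Geo.omegaGL Q ↔ g ∈ GT (κ := Fin t) c f₁ := fun g => by
    have he : Geo.omegaGL Q = (GT (κ := Fin t) c f₁).map (powΦ e P).toMonoidHom := by
      rw [Geo.omegaGL, show Omega F Q = commutator _ from rfl, commutator_def, Subgroup.map_commutator,
        ← MonoidHom.range_eq_map, Subgroup.range_subtype, GT, Subgroup.map_commutator, hmap]
    rw [he]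
    exact Subgroup.mem_map_iff_mem (powΦ e P).injective
  have hW : ∀ g, powΦ e P g ∈ Geo.tensorWreathSubgroup k t e P ↔ g ∈ Wr F (Fin t) (Fin k) := mem_wreath e P
  have ht' : 2 ≤ Fintype.card (Fin t) := by rwa [Fintype.card_fin]
  refine isMaximalIn_intro inf_le_right (fun h => ?_) fun M hHM hMK g hg hgH => ?_
  · exact hD.gt_not_le_Wr ht' fun a ha => (hW a).1 (h ((hK a).2 ha)).1
  intro z hz
  obtain ⟨a, rfl⟩ := (powΦ e P).surjective z
  obtain ⟨b, rfl⟩ := (powΦ e P).surjective g
  have hb : b ∉ Wr F (Fin t) (Fin k) := fun h => hgH ⟨(hW b).2 h, hMK hg⟩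
  by_contra hzM
  exact hb (hD.maxAt (by rwa [Fintype.card_fin]) t (Fin t) (Fintype.card_fin t) ht (M.comap (powΦ e P).toMonoidHom)
    (fun x hx => (hK x).1 (hMK hx)) (fun x hx => hHM ⟨(hW x).2 hx.1, (hK x).2 hx.2⟩)
    (fun h => hzM (h ((hK a).1 hz))) hg)

end Cfsg.Agent.Classical.TensorPowOrth
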