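import Cfsg.Agent.Lib.Classical.TensorPow.Classify
import Cfsg.Agent.Lib.Classical.MaxTensorOrthApp

/-!
The tensor power of an orthogonal space: the form, the splitting off of one factor, frames of one square class, the
spinor signs of reflections at a factor, and the commutator group of the isometries.
-/

set_option autoImplicit false
set_option linter.unusedSectionVars false
set_option linter.unusedSimpArgs false

open scoped Kronecker commutatorElement

namespace Cfsg.Agent.Classical.TensorPowOrth

open Matrix Module MaxTv TensorMax TensorPow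
open Cfsg.Agent.Classical.TensorOrth (Sym NdOn iso TSP exists_sq_sq)

variable {F : Type*} [Field F] [Fintype F] {κ β : Type} [Fintype κ] [DecidableEq κ] [Fintype β] [DecidableEq β]

local notation "X" => (κ → β)
local notation "V" => ((κ → β) → F)
local notation "W" => (β → F)
local notation "Mn" => Matrix (κ → β) (κ → β) F
local notation "Mb" => Matrix β β F

theorem ptens_single (a : κ → β) : ptens (fun l => (Pi.single (a l) 1 : β → F)) = Pi.single a 1 := by
  funext b
  by_cases e : b = a
  · subst e; simp [ptens]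
  · obtain ⟨l, hl⟩ := Function.ne_iff.1 e
    rw [Pi.single_eq_of_ne e]
    exact Finset.prod_eq_zero (Finset.mem_univ l) (Pi.single_eq_of_ne hl _)

/-- Linear maps agreeing on pure tensors are equal. -/
theorem ext_ptens {U : Type*} [AddCommGroup U] [Module F U] {L L' : V →ₗ[F] U}
    (hL : ∀ xs : κ → β → F, L (ptens xs) = L' (ptens xs)) : L = L' :=
  (Pi.basisFun F (κ → β)).ext fun a => by rw [Pi.basisFun_apply, ← ptens_single]; exact hL _

/-- Expansion of a pure tensor of sums. -/
theorem ptens_sum (w : κ → β → F) (u : κ → β → W) :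
    ptens (fun l => ∑ a, w l a • u l a) = ∑ y : κ → β, (∏ l, w l (y l)) • ptens (fun l => u l (y l)) := by
  funext x
  simp only [ptens, Finset.sum_apply, Pi.smul_apply, smul_eq_mul]
  rw [Fintype.prod_sum]
  exact Finset.sum_congr rfl fun y _ => Finset.prod_mul_distrib

variable (c : F) (h : (β → F) → (β → F) → F)

/-- The Gram matrix. -/
def gram : Matrix β β F := Matrix.of fun a b => h (Pi.single a 1) (Pi.single b 1)

/-- The tensor power of the form, times a constant. -/
def tf (x y : (κ → β) → F) : F :=
  c * (x ⬝ᵥ (wm (1 : Equiv.Perm κ) (fun _ => gram h) *ᵥ y))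

/-- The form in the coordinates splitting off a factor. -/
def tfs (i : κ) (x y : (Rst i → β) × β → F) : F := tf c h ((spV i).symm x) ((spV i).symm y)

/-- The commutator group of the isometries. -/
def GT : Subgroup (GL (κ → β) F) := ⁅iso (tf (κ := κ) c h), iso (tf c h)⁆

/-- The data. -/
structure TData : Prop where
  two : (2 : F) ≠ 0
  hh : Sym h
  hc : c ≠ 0
  three : 3 ≤ Fintype.card β
  four : Fintype.card β = 4 → ∀ z z', ¬ TSP h z z'

variable {c h}

theorem apply_gram (hh : Sym h) (x y : W) : x ⬝ᵥ (gram h *ᵥ y) = h x y := by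
  have h1 : ∀ a, (gram h *ᵥ y) a = h (Pi.single a 1) y := fun a => by
    rw [hh.symm (Pi.single a 1) y, ← hh.lin_apply]
    conv_rhs => rw [← Finset.univ_sum_single y, map_sum]
    show ∑ b, h (Pi.single a 1) (Pi.single b 1) * y b = _
    refine Finset.sum_congr rfl fun b _ => ?_
    rw [show (Pi.single b (y b) : W) = y b • Pi.single b 1 by rw [← Pi.single_smul, smul_eq_mul, mul_one],
      map_smul, smul_eq_mul, hh.lin_apply, hh.symm, mul_comm]
  rw [← hh.lin_apply y x]
  conv_rhs => rw [← Finset.univ_sum_single x, map_sum]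
  refine Finset.sum_congr rfl fun a _ => ?_
  rw [h1, show (Pi.single a (x a) : W) = x a • Pi.single a 1 by rw [← Pi.single_smul, smul_eq_mul, mul_one],
    map_smul, smul_eq_mul, hh.lin_apply]

/-- The value of the determinant of the Gram matrix on an orthogonal basis. -/
theorem gram_det_sq (hh : Sym h) (e : β → W) (horth : ∀ a b, a ≠ b → h (e a) (e b) = 0) :
    (Matrix.of fun a b => e b a : Mb).det * (Matrix.of fun a b => e b a : Mb).det * (gram h).det =
      ∏ a, h (e a) (e a) := by
  have h1 : (Matrix.of fun a b => e b a : Mb)ᵀ * (gram h * (Matrix.of fun a b => e b a : Mb)) =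
      diagonal fun a => h (e a) (e a) := Matrix.ext fun a b => by
    have h2 : ((Matrix.of fun a b => e b a : Mb)ᵀ * (gram h * (Matrix.of fun a b => e b a : Mb))) a b =
        h (e a) (e b) := by
      rw [← apply_gram hh]; rfl
    rw [h2, Matrix.diagonal_apply]
    split_ifs with hab
    · subst hab; rfl
    · exact horth a b hab
  have := congrArg Matrix.det h1
  rw [Matrix.det_mul, Matrix.det_mul, Matrix.det_transpose, Matrix.det_diagonal] at this
  linear_combination this

/-- An orthogonal basis of one value. -/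
structure Frame (h : (β → F) → (β → F) → F) (d : F) (e : β → β → F) : Prop where
  orth : ∀ a b, a ≠ b → h (e a) (e b) = 0
  val : ∀ a, h (e a) (e a) = d

/-- An orthogonal basis of anisotropic vectors, of one square class in odd dimension. -/
structure Orth (h : (β → F) → (β → F) → F) (e : β → β → F) : Prop where
  orth : ∀ a b, a ≠ b → h (e a) (e b) = 0
  ne : ∀ a, h (e a) (e a) ≠ 0
  pair : ∀ a b, Even (Fintype.card β) ∨ IsSquare (h (e a) (e a) * h (e b) (e b))

theorem Frame.toOrth {d : F} {e : β → W} (he : Frame h d e) (hd : d ≠ 0) : Orth h e :=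
  ⟨he.orth, fun a => by rw [he.val]; exact hd, fun a b => Or.inr ⟨d, by rw [he.val, he.val]⟩⟩

variable (hT : TData c h)
include hT

theorem TData.tf_ptens (xs ys : κ → β → F) : tf c h (ptens xs) (ptens ys) = c * ∏ l, h (xs l) (ys l) := by
  rw [tf, wm_mulVec, dot_ptens]
  simp only [Equiv.Perm.coe_one, id_eq, apply_gram hT.hh]

theorem TData.gram_det_ne : (gram h).det ≠ 0 := fun hd => by
  obtain ⟨v, hv, hv0⟩ := Matrix.exists_mulVec_eq_zero_iff.2 hd
  exact hv (hT.hh.eq_zero v fun x => by rw [← apply_gram hT.hh, hv0, dotProduct_zero])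

theorem TData.sym : Sym (tf (κ := κ) c h) := by
  have hsymm : ∀ x y : V, tf c h x y = tf c h y x := fun x y => by
    simp only [tf, dotProduct, Matrix.mulVec, Finset.mul_sum]
    rw [Finset.sum_comm]
    refine Finset.sum_congr rfl fun a _ => Finset.sum_congr rfl fun b _ => ?_
    simp only [wm, Matrix.of_apply, Equiv.Perm.coe_one, id_eq, gram]
    rw [Finset.prod_congr rfl fun l _ => hT.hh.symm (Pi.single (b l) 1) (Pi.single (a l) 1)]
    ring
  refine
    { add_left := fun x y v => by simp only [tf, add_dotProduct, mul_add]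
      smul_left := fun r x v => by simp only [tf, smul_dotProduct, smul_eq_mul]; ring
      symm := hsymm
      eq_zero := fun w hw => ?_ }
  let G : GL β F := Matrix.GeneralLinearGroup.mkOfDetNeZero _ hT.gram_det_ne
  have h1 : (wgl (1 : Equiv.Perm κ) (fun _ => G) : Mn) *ᵥ w = 0 := funext fun a => by
    have h2 := hw (Pi.single a 1)
    rw [tf, single_one_dotProduct] at h2
    exact (mul_eq_zero.1 h2).resolve_left hT.hc
  exact gl_mulVec_injective _ (h1.trans (Matrix.mulVec_zero _).symm)

theorem TData.tfs_tmul (i : κ) (x x' : (Rst i → β) → F) (y y' : W) :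
    tfs c h i (tmul x y) (tmul x' y') = tf c h x x' * h y y' := by
  have hV := hT.sym (κ := κ)
  have hR := hT.sym (κ := Rst i)
  have hbase : ∀ (a a' : Rst i → β → F),
      tfs c h i (tmul (ptens a) y) (tmul (ptens a') y') = tf c h (ptens a) (ptens a') * h y y' := fun a a' => by
    have e : ∀ (a : Rst i → β → F) (y : W),
        (spV i).symm (tmul (ptens a) y) = ptens (fun l : κ => if hl : l = i then y else a ⟨l, hl⟩) := fun a y => by
      rw [LinearEquiv.symm_apply_eq, spV_ptens, dif_pos rfl]
      congr 2
      funext j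
      rw [dif_neg j.2]
    rw [tfs, e, e, hT.tf_ptens, hT.tf_ptens, Fintype.prod_eq_mul_prod_subtype_ne _ i, dif_pos rfl, dif_pos rfl,
      Finset.prod_congr rfl fun (j : Rst i) _ => by rw [dif_neg j.2, dif_neg j.2]]
    ring
  have h1 : ∀ (a' : Rst i → β → F) (x : (Rst i → β) → F),
      tfs c h i (tmul x y) (tmul (ptens a') y') = tf c h x (ptens a') * h y y' := fun a' x => by
    have := LinearMap.congr_fun (ext_ptens
      (L := (hV.lin ((spV i).symm (tmul (ptens a') y'))).comp ((spV i).symm.toLinearMap.comp (fac y)))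
      (L' := h y y' • hR.lin (ptens a')) fun a => by
        simp only [LinearMap.comp_apply, LinearEquiv.coe_coe, fac_apply, hV.lin_apply, LinearMap.smul_apply,
          hR.lin_apply, smul_eq_mul]
        rw [mul_comm]; exact hbase a a') x
    simp only [LinearMap.comp_apply, LinearEquiv.coe_coe, fac_apply, hV.lin_apply, LinearMap.smul_apply,
      hR.lin_apply, smul_eq_mul] at this
    rw [tfs, this, mul_comm]
  have h2 := LinearMap.congr_fun (ext_ptens
    (L := (hV.lin ((spV i).symm (tmul x y))).comp ((spV i).symm.toLinearMap.comp (fac y')))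
    (L' := h y y' • hR.lin x) fun a' => by
      simp only [LinearMap.comp_apply, LinearEquiv.coe_coe, fac_apply, hV.lin_apply, LinearMap.smul_apply,
        hR.lin_apply, smul_eq_mul]
      rw [hV.symm, show tf c h ((spV i).symm (tmul x y)) ((spV i).symm (tmul (ptens a') y')) =
        tf c h x (ptens a') * h y y' from h1 a' x, hR.symm x, mul_comm]) x'
  simp only [LinearMap.comp_apply, LinearEquiv.coe_coe, fac_apply, hV.lin_apply, LinearMap.smul_apply,
    hR.lin_apply, smul_eq_mul] at h2
  rw [tfs, hV.symm, h2, hR.symm, mul_comm]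

theorem TData.sym_tfs (i : κ) : Sym (tfs c h i) := by
  have hV := hT.sym (κ := κ)
  exact
    { add_left := fun x y v => by simp only [tfs, map_add, hV.add_left]
      smul_left := fun r x v => by simp only [tfs, map_smul, hV.smul_left]
      symm := fun x y => hV.symm _ _
      eq_zero := fun w hw => (spV i).symm.injective ((hV.eq_zero _ fun x => by
        simpa [tfs] using hw (spV i x)).trans (map_zero _).symm) }

theorem TData.sp_iso (i : κ) {g : GL X F} : sp i g ∈ iso (tfs c h i) ↔ g ∈ iso (tf c h) := by
  have e : ∀ x, (spV i).symm ((sp i g : Matrix _ _ F) *ᵥ x) = (g : Mn) *ᵥ (spV i).symm x := fun x => by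
    rw [LinearEquiv.symm_apply_eq, ← sp_mulVec, LinearEquiv.apply_symm_apply]
  refine ⟨fun hg x y => ?_, fun hg x y => ?_⟩
  · have := hg (spV i x) (spV i y)
    rwa [tfs, tfs, e, e, LinearEquiv.symm_apply_apply, LinearEquiv.symm_apply_apply] at this
  · rw [tfs, tfs, e, e, hg]

/-- Isometries at the factors with a permutation give isometries. -/
theorem TData.wgl_iso (σ : Equiv.Perm κ) {gs : κ → GL β F} (hgs : ∀ l, gs l ∈ iso h) : wgl σ gs ∈ iso (tf c h) := by
  have hs := hT.sym (κ := κ)
  have hpure : ∀ xs ys : κ → β → F, tf c h ((wgl σ gs : Mn) *ᵥ ptens xs) ((wgl σ gs : Mn) *ᵥ ptens ys) =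
      tf c h (ptens xs) (ptens ys) := fun xs ys => by
    rw [wgl_mulVec, wgl_mulVec, hT.tf_ptens, hT.tf_ptens]
    simp only [fun l => hgs l (xs (σ l)) (ys (σ l))]
    rw [Equiv.prod_comp σ fun l => h (xs l) (ys l)]
  have h1 : ∀ x ys, tf c h ((wgl σ gs : Mn) *ᵥ x) ((wgl σ gs : Mn) *ᵥ ptens ys) = tf c h x (ptens ys) := fun x ys => by
    have := LinearMap.congr_fun (ext_ptens
      (L := (hs.lin ((wgl σ gs : Mn) *ᵥ ptens ys)).comp (Matrix.toLin' (wgl σ gs : Mn)))
      (L' := hs.lin (ptens ys)) fun xs => by
        simp only [LinearMap.comp_apply, Matrix.toLin'_apply, hs.lin_apply, hpure]) x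
    simpa only [LinearMap.comp_apply, Matrix.toLin'_apply, hs.lin_apply] using this
  intro x y
  have := LinearMap.congr_fun (ext_ptens
    (L := (hs.lin ((wgl σ gs : Mn) *ᵥ x)).comp (Matrix.toLin' (wgl σ gs : Mn))) (L' := hs.lin x) fun ys => by
      simp only [LinearMap.comp_apply, Matrix.toLin'_apply, hs.lin_apply]
      rw [hs.symm, h1, hs.symm]) y
  simp only [LinearMap.comp_apply, Matrix.toLin'_apply, hs.lin_apply] at this
  rw [hs.symm, this, hs.symm]

theorem TData.pe_iso (i : κ) {B : GL β F} (hB : B ∈ iso h) : pe i B ∈ iso (tf c h) :=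
  hT.wgl_iso 1 fun l => by
    rcases eq_or_ne l i with rfl | e
    · rwa [Function.update_self]
    · rw [Function.update_of_ne e]; exact one_mem _

/-- A vector of given value in a non-degenerate space of dimension two. -/
theorem TData.exists_val {U : Submodule F W} (hU : NdOn h U) (h2d : 2 ≤ finrank F U) {d : F} (hd : d ≠ 0) :
    ∃ v ∈ U, h v v = d := by
  have hs := hT.hh
  obtain ⟨a, ha, haa⟩ := hs.exists_aniso hT.two hU
    (Submodule.exists_mem_ne_zero_of_ne_bot fun e => by rw [e, finrank_bot] at h2d; omega)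
  have d1 := finrank_le_inf_ker_add_one U (hs.lin a)
  obtain ⟨b, hb, hbb⟩ := hs.exists_aniso hT.two (hs.ndOn_inf_ker hU ha haa)
    (Submodule.exists_mem_ne_zero_of_ne_bot fun e => by rw [e, finrank_bot] at d1; omega)
  have hba : h b a = 0 := hb.2
  obtain ⟨x, y, hxy⟩ := exists_sq_sq hT.two haa hbb (-d)
  refine ⟨x • a + y • b, U.add_mem (U.smul_mem _ ha) (U.smul_mem _ hb.1), ?_⟩
  simp only [hs.add_left, hs.add_right, hs.smul_left, hs.smul_right, hs.symm a b, hba]
  linear_combination hxy

/-- The orthogonal space of orthogonal anisotropic vectors. -/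
theorem TData.exists_perp (s : Finset β) (e : β → W) (horth : ∀ a ∈ s, ∀ b ∈ s, a ≠ b → h (e a) (e b) = 0)
    (hval : ∀ a ∈ s, h (e a) (e a) ≠ 0) : ∃ U : Submodule F W, NdOn h U ∧
      Fintype.card β ≤ finrank F U + s.card ∧ ∀ x, x ∈ U ↔ ∀ a ∈ s, h x (e a) = 0 := by
  classical
  induction s using Finset.induction_on with
  | empty => exact ⟨⊤, hT.hh.ndOn_top, by rw [finrank_top, Module.finrank_pi]; omega, fun x => by simp⟩
  | insert a s ha ih =>
    obtain ⟨U, hU, hd, hmem⟩ := ih (fun x hx y hy => horth x (Finset.mem_insert_of_mem hx) y (Finset.mem_insert_of_mem hy))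
      (fun x hx => hval x (Finset.mem_insert_of_mem hx))
    have haU : e a ∈ U := (hmem _).2 fun b hb => horth a (Finset.mem_insert_self a s) b (Finset.mem_insert_of_mem hb)
      fun e' => ha (e' ▸ hb)
    refine ⟨U ⊓ LinearMap.ker (hT.hh.lin (e a)), hT.hh.ndOn_inf_ker hU haU (hval a (Finset.mem_insert_self a s)),
      ?_, fun x => ?_⟩
    · have := finrank_le_inf_ker_add_one U (hT.hh.lin (e a))
      rw [Finset.card_insert_of_notMem ha]
      omega
    · rw [Submodule.mem_inf, hmem, LinearMap.mem_ker, hT.hh.lin_apply, Finset.forall_mem_insert, and_comm]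

/-- A partial orthogonal basis extends with prescribed values. -/
theorem TData.ext_vals (val : β → F) (hval0 : ∀ a, val a ≠ 0) (hcl : IsSquare ((∏ a, val a) * (gram h).det))
    (s : Finset β) (e : β → W) (horth : ∀ a ∈ s, ∀ b ∈ s, a ≠ b → h (e a) (e b) = 0)
    (hval : ∀ a ∈ s, h (e a) (e a) = val a) :
    ∃ e' : β → W, (∀ a b, a ≠ b → h (e' a) (e' b) = 0) ∧ (∀ a, h (e' a) (e' a) = val a) ∧ ∀ a ∈ s, e' a = e a := by
  classical
  have hs := hT.hh
  obtain ⟨n, hn⟩ : ∃ n, n = Fintype.card β - s.card := ⟨_, rfl⟩
  induction n generalizing s e with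
  | zero =>
    have hu : s = Finset.univ := Finset.eq_univ_of_card _ (by have := Finset.card_le_univ s; omega)
    exact ⟨e, fun a b hab => horth a (by simp [hu]) b (by simp [hu]) hab, fun a => hval a (by simp [hu]),
      fun a _ => rfl⟩
  | succ n ih =>
    obtain ⟨a, ha⟩ : ∃ a, a ∉ s := by
      by_contra hc
      push Not at hc
      rw [Finset.eq_univ_of_forall hc, Finset.card_univ] at hn
      omega
    obtain ⟨U, hU, hUd, hmem⟩ := hT.exists_perp s e horth fun b hb => by rw [hval b hb]; exact hval0 b
    obtain ⟨v, hv, hvv⟩ : ∃ v ∈ U, h v v = val a := by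
      by_cases h2d : 2 ≤ finrank F U
      · exact hT.exists_val hU h2d (hval0 a)
      obtain ⟨v, hv, hvv⟩ := hs.exists_aniso hT.two hU
        (Submodule.exists_mem_ne_zero_of_ne_bot fun e' => by rw [e', finrank_bot] at hUd; omega)
      have hcard : s.card + 1 = Fintype.card β := by omega
      have hall : insert a s = Finset.univ :=
        Finset.eq_univ_of_card _ (by rw [Finset.card_insert_of_notMem ha, hcard])
      have hin : ∀ b, b ≠ a → b ∈ s := fun b hb => by
        have := Finset.mem_univ b
        rw [← hall, Finset.mem_insert] at this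
        exact this.resolve_left hb
      have h1 := gram_det_sq hs (Function.update e a v) fun x y hxy => by
        rcases eq_or_ne x a with rfl | hx
        · rw [Function.update_self, Function.update_of_ne hxy.symm]
          exact (hmem v).1 hv y (hin y hxy.symm)
        · rcases eq_or_ne y a with rfl | hy
          · rw [Function.update_self, Function.update_of_ne hx, hs.symm]
            exact (hmem v).1 hv x (hin x hx)
          · rw [Function.update_of_ne hx, Function.update_of_ne hy]
            exact horth x (hin x hx) y (hin y hy) hxy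
      obtain ⟨g, hg⟩ : ∃ g, g = ∏ b ∈ Finset.univ.erase a, val b := ⟨_, rfl⟩
      rw [← Finset.mul_prod_erase _ _ (Finset.mem_univ a), Finset.prod_congr rfl (fun b hb => by
        rw [Function.update_of_ne (Finset.ne_of_mem_erase hb), hval b (hin b (Finset.ne_of_mem_erase hb))]), ← hg,
        Function.update_self] at h1
      rw [← Finset.mul_prod_erase _ _ (Finset.mem_univ a), ← hg] at hcl
      obtain ⟨D, hD⟩ : ∃ D, D = (Matrix.of fun x y => Function.update e a v y x : Mb).det := ⟨_, rfl⟩
      rw [← hD] at h1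
      obtain ⟨s', hs'⟩ := hcl
      have hg0 : g ≠ 0 := hg ▸ Finset.prod_ne_zero_iff.2 fun b _ => hval0 b
      have hG : (gram h).det ≠ 0 := hT.gram_det_ne
      have hD0 : D ≠ 0 := fun e0 => by
        rw [e0, zero_mul, zero_mul] at h1
        exact mul_ne_zero hvv hg0 h1.symm
      refine ⟨(s' / (D * (gram h).det)) • v, U.smul_mem _ hv, ?_⟩
      rw [hs.smul_left, hs.smul_right]
      field_simp
      refine mul_left_cancel₀ hg0 ?_
      linear_combination (-(s' ^ 2)) * h1 - D ^ 2 * (gram h).det * hs'
    obtain ⟨e', h1, h2, heq⟩ := ih (insert a s) (Function.update e a v) (fun x hx y hy hxy => by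
      rcases eq_or_ne x a with rfl | hxa
      · rw [Function.update_self, Function.update_of_ne hxy.symm]
        exact (hmem v).1 hv y ((Finset.mem_insert.1 hy).resolve_left hxy.symm)
      · rcases eq_or_ne y a with rfl | hya
        · rw [Function.update_self, Function.update_of_ne hxy, hs.symm]
          exact (hmem v).1 hv x ((Finset.mem_insert.1 hx).resolve_left hxy)
        · rw [Function.update_of_ne hxa, Function.update_of_ne hya]
          exact horth x ((Finset.mem_insert.1 hx).resolve_left hxa) y ((Finset.mem_insert.1 hy).resolve_left hya) hxy)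
      (fun x hx => by
        rcases eq_or_ne x a with rfl | hxa
        · rwa [Function.update_self]
        · rw [Function.update_of_ne hxa, hval x ((Finset.mem_insert.1 hx).resolve_left hxa)])
      (by rw [Finset.card_insert_of_notMem ha]; omega)
    exact ⟨e', h1, h2, fun x hx => by
      rw [heq x (Finset.mem_insert_of_mem hx), Function.update_of_ne (fun e0 => ha (by rw [← e0]; exact hx))]⟩

/-- A partial frame extends to a frame, in odd dimension. -/
theorem TData.frame_extend (hodd : Odd (Fintype.card β)) {d : F} (hd : d ≠ 0) (hcl : IsSquare (d * (gram h).det))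
    (s : Finset β) (e : β → W)
    (horth : ∀ a ∈ s, ∀ b ∈ s, a ≠ b → h (e a) (e b) = 0) (hval : ∀ a ∈ s, h (e a) (e a) = d) :
    ∃ e', Frame h d e' ∧ ∀ a ∈ s, e' a = e a := by
  obtain ⟨e', h1, h2, h3⟩ := hT.ext_vals (fun _ => d) (fun _ => hd) (by
    obtain ⟨r, hr⟩ := hodd
    obtain ⟨s', hs'⟩ := hcl
    refine ⟨d ^ r * s', ?_⟩
    rw [Finset.prod_const, Finset.card_univ, hr]
    linear_combination (d ^ r * d ^ r) * hs') s e horth hval
  exact ⟨e', ⟨h1, h2⟩, h3⟩

theorem TData.exists_frame (hodd : Odd (Fintype.card β)) : ∃ e, Frame h (gram h).det e := by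
  obtain ⟨e, he, -⟩ := hT.frame_extend hodd hT.gram_det_ne ⟨(gram h).det, rfl⟩ ∅ (fun _ => 0)
    (by simp) (by simp)
  exact ⟨e, he⟩

theorem TData.exists_orth : ∃ e, Orth h e := by
  classical
  rcases Nat.even_or_odd (Fintype.card β) with hev | hodd
  · obtain ⟨a₀⟩ : Nonempty β := Fintype.card_pos_iff.1 (by have := hT.three; omega)
    obtain ⟨e, h1, h2, -⟩ := hT.ext_vals (Function.update (fun _ => 1) a₀ (gram h).det) (fun a => by
        by_cases e0 : a = a₀
        · subst e0; rw [Function.update_self]; exact hT.gram_det_ne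
        · rw [Function.update_of_ne e0]; exact one_ne_zero)
      ⟨(gram h).det, by
        rw [Finset.prod_update_of_mem (Finset.mem_univ _), Finset.prod_const_one, mul_one]⟩
      ∅ (fun _ => 0) (by simp) (by simp)
    exact ⟨e, h1, fun a => by
      rw [h2]
      by_cases e0 : a = a₀
      · subst e0; rw [Function.update_self]; exact hT.gram_det_ne
      · rw [Function.update_of_ne e0]; exact one_ne_zero, fun _ _ => Or.inl hev⟩
  · obtain ⟨e, he⟩ := hT.exists_frame hodd
    exact ⟨e, he.toOrth hT.gram_det_ne⟩

theorem Orth.expand {e : β → W} (he : Orth h e) (x : W) :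
    x = ∑ a, (h (e a) x / h (e a) (e a)) • e a := by
  have hs := hT.hh
  obtain ⟨r, hr⟩ : ∃ r, r = x - ∑ a, (h (e a) x / h (e a) (e a)) • e a := ⟨_, rfl⟩
  have h1 : ∀ b, h r (e b) = 0 := fun b => by
    rw [← hs.lin_apply, hr, map_sub, map_sum, Finset.sum_eq_single b (fun a _ hab => by
      rw [map_smul, hs.lin_apply, he.orth a b hab, smul_zero]) (fun h' => absurd (Finset.mem_univ b) h'),
      map_smul, hs.lin_apply, hs.lin_apply, smul_eq_mul, hs.symm (e b) x, div_mul_cancel₀ _ (he.ne b), sub_self]
  have hli : LinearIndependent F e := by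
    refine Fintype.linearIndependent_iff.2 fun g hg b => ?_
    have h2 := congrArg (hs.lin (e b)) hg
    rw [map_sum, map_zero, Finset.sum_eq_single b (fun a _ hab => by
      rw [map_smul, hs.lin_apply, he.orth a b hab, smul_zero]) (fun h' => absurd (Finset.mem_univ b) h'),
      map_smul, hs.lin_apply, smul_eq_mul] at h2
    exact (mul_eq_zero.1 h2).resolve_right (he.ne b)
  haveI : Nonempty β := Fintype.card_pos_iff.1 (by have := hT.three; omega)
  have htop := hli.span_eq_top_of_card_eq_finrank (by rw [Module.finrank_pi])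
  have h3 : r = 0 := hs.eq_zero r fun y => by
    rw [hs.symm]
    have hy : y ∈ Submodule.span F (Set.range e) := htop ▸ Submodule.mem_top
    induction hy using Submodule.span_induction with
    | mem z hz => obtain ⟨b, rfl⟩ := hz; exact h1 b
    | zero => exact hs.zero_right r
    | add u w _ _ hu hw => rw [hs.add_right, hu, hw, add_zero]
    | smul t u _ hu => rw [hs.smul_right, hu, mul_zero]
  rw [hr, sub_eq_zero] at h3
  exact h3

theorem Frame.expand {d : F} {e : β → W} (he : Frame h d e) (hd : d ≠ 0) (x : W) :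
    x = ∑ a, (h (e a) x / d) • e a := by
  conv_lhs => rw [(he.toOrth hd).expand hT x]
  simp only [he.val]

/-- The determinant of the Gram matrix is a non-square in dimension four. -/
theorem TData.det_four (h4 : Fintype.card β = 4) : ¬ IsSquare (gram h).det := fun hsq => by
  classical
  have hs := hT.hh
  obtain ⟨e, h1, h2, -⟩ := hT.ext_vals (fun _ => (1 : F)) (fun _ => one_ne_zero)
    (by rwa [Finset.prod_const_one, one_mul]) ∅ (fun _ => 0) (by simp) (by simp)
  obtain ⟨a, b, hab⟩ := exists_sq_sq hT.two (one_ne_zero (α := F)) one_ne_zero (1 : F)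
  let g : Fin 4 ≃ β := (Fintype.equivFinOfCardEq h4).symm
  have hg : ∀ i j, i ≠ j → h (e (g i)) (e (g j)) = 0 := fun i j hij => h1 _ _ fun e0 => hij (g.injective e0)
  have o01 := hg 0 1 (by decide)
  have o02 := hg 0 2 (by decide)
  have o03 := hg 0 3 (by decide)
  have o10 := hg 1 0 (by decide)
  have o12 := hg 1 2 (by decide)
  have o13 := hg 1 3 (by decide)
  have o20 := hg 2 0 (by decide)
  have o21 := hg 2 1 (by decide)
  have o23 := hg 2 3 (by decide)
  have o30 := hg 3 0 (by decide)
  have o31 := hg 3 1 (by decide)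
  have o32 := hg 3 2 (by decide)
  refine hT.four h4 (a • e (g 0) + b • e (g 1) + e (g 2)) ((-b) • e (g 0) + a • e (g 1) + e (g 3))
    ⟨?_, ?_, ?_, fun s t hst => ?_⟩
  all_goals try simp only [hs.add_left, hs.add_right, hs.smul_left, hs.smul_right, h2, o01, o02, o03, o10, o12, o13,
    o20, o21, o23, o30, o31, o32]
  · linear_combination hab
  · linear_combination hab
  · ring
  · have k2 := congrArg (fun v => h v (e (g 2))) hst
    have k3 := congrArg (fun v => h v (e (g 3))) hst
    simp only [hs.add_left, hs.smul_left, hs.zero_left, h2, o02, o12, o32, o03, o13, o23] at k2 k3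
    exact ⟨by linear_combination k2, by linear_combination k3⟩

/-- The reflection at an anisotropic vector. -/
theorem TData.exists_hrefl {v : W} (hv : h v v ≠ 0) :
    ∃ B ∈ iso h, ∀ x, (B : Mb) *ᵥ x = x - (2 * h x v / h v v) • v := by
  have hs := hT.hh
  let L : W →ₗ[F] W := LinearMap.id - ((2 / h v v) • hs.lin v).smulRight v
  have hL : ∀ x, L x = x - (2 * h x v / h v v) • v := fun x => by
    simp only [L, LinearMap.sub_apply, LinearMap.id_apply, LinearMap.smulRight_apply, LinearMap.smul_apply,
      hs.lin_apply, smul_eq_mul]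
    rw [div_mul_eq_mul_div]
  have hiso : ∀ x y, h (L x) (L y) = h x y := fun x y => by
    simp only [hL, hs.sub_left, hs.sub_right, hs.smul_left, hs.smul_right, hs.symm v y]
    field_simp
    ring
  obtain ⟨B, hB⟩ := exists_gl_of_injective L fun x y hxy => hs.eq_of_forall fun z => by
    rw [← hiso x, ← hiso y, hxy]
  exact ⟨B, fun x y => by rw [hB, hB, hiso], fun x => by rw [hB, hL]⟩

end Cfsg.Agent.Classical.TensorPowOrth
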