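import Cfsg.Agent.Lib.Classical.TensorPowOrth.Spinor
import Cfsg.Agent.Lib.Classical.MaxTensorOrthFull

/-!
Matrices on a tensor power seen as blocks at one factor, pure matrices, and operations at one factor.
-/

set_option autoImplicit false
set_option linter.unusedSectionVars false
set_option linter.unusedSimpArgs false

open scoped Kronecker

namespace Cfsg.Agent.Classical.TensorPowOrth

open Matrix Module MaxTv TensorMax TensorPow
open Cfsg.Agent.Classical.TensorOrth (Sym NdOn iso cj IsSieg wd)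

variable {F : Type*} [Field F] [Fintype F] {κ β : Type} [Fintype κ] [DecidableEq κ] [Fintype β] [DecidableEq β]
  {c : F} {h : (β → F) → (β → F) → F}

local notation "X" => (κ → β)
local notation "Mn" => Matrix (κ → β) (κ → β) F
local notation "Mb" => Matrix β β F
local notation "W" => (β → F)
local notation "Eb" => ((β → F) →ₗ[F] (β → F))

/-- The matrix with the factor `i` split off. -/
def rX (i : κ) (D : Matrix (κ → β) (κ → β) F) : Matrix ((Rst i → β) × β) ((Rst i → β) × β) F :=
  Matrix.reindex (spE i) (spE i) D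

theorem rX_mul (i : κ) (D E : Mn) : rX i (D * E) = rX i D * rX i E := by
  simp only [rX, Matrix.reindex_apply]
  exact (Matrix.submatrix_mul_equiv D E _ (spE i).symm _).symm

theorem rX_add (i : κ) (D E : Mn) : rX i (D + E) = rX i D + rX i E := rfl
theorem rX_sub (i : κ) (D E : Mn) : rX i (D - E) = rX i D - rX i E := rfl
theorem rX_smul (i : κ) (r : F) (D : Mn) : rX i (r • D) = r • rX i D := rfl

theorem rX_inj (i : κ) : Function.Injective (rX (F := F) (β := β) i) := fun _ _ h =>
  (Matrix.reindex (spE i) (spE i)).injective h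

theorem rX_one (i : κ) : rX i (1 : Mn) = 1 := by
  simp only [rX, Matrix.reindex_apply]
  exact Matrix.submatrix_one_equiv _

theorem rX_wm (i : κ) (gs : κ → Mb) :
    rX i (wm 1 gs) = (wm 1 fun j : Rst i => gs j.1) ⊗ₖ gs i := by
  ext p q
  obtain ⟨x, rfl⟩ := (spE i).surjective p
  obtain ⟨y, rfl⟩ := (spE i).surjective q
  rw [rX, Matrix.reindex_apply, Matrix.submatrix_apply, Equiv.symm_apply_apply, Equiv.symm_apply_apply]
  simp only [spE_apply, Matrix.kroneckerMap_apply, wm, Matrix.of_apply, Equiv.Perm.coe_one, id_eq]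
  rw [Fintype.prod_eq_mul_prod_subtype_ne _ i, mul_comm]

theorem rX_et (i : κ) (T : Mb) : rX i (et i T) = (1 : Matrix (Rst i → β) (Rst i → β) F) ⊗ₖ T := by
  rw [et, rX_wm, Function.update_self, funext fun j : Rst i => Function.update_of_ne j.2 T (1 : κ → Mb)]
  exact congrArg (· ⊗ₖ T) wm_one

theorem rX_et_ne {i l : κ} (hl : l ≠ i) (T : Mb) :
    rX i (et l T) = (et (⟨l, hl⟩ : Rst i) T) ⊗ₖ (1 : Mb) := by
  rw [et, rX_wm, Function.update_of_ne (Ne.symm hl), et]
  congr 2
  funext j
  by_cases e : j = ⟨l, hl⟩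
  · subst e; rw [Function.update_self, Function.update_self]
  · rw [Function.update_of_ne e, Function.update_of_ne fun e' : j.1 = l => e (Subtype.ext e')]
    rfl

/-- A block at the factor `i`, as an endomorphism. -/
def bl (i : κ) (y y' : Rst i → β) : Matrix (κ → β) (κ → β) F →ₗ[F] ((β → F) →ₗ[F] (β → F)) where
  toFun D := Matrix.toLin' (Matrix.of fun a b => rX i D (y, a) (y', b))
  map_add' D E := by rw [← map_add]; rfl
  map_smul' r D := by rw [← map_smul]; rfl

theorem eq_of_bl (i : κ) {D E : Mn} (H : ∀ y y', bl i y y' D = bl i y y' E) : D = E := rX_inj i <| by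
  ext p q
  exact congrFun (congrFun (Matrix.toLin'.injective (H p.1 q.1)) p.2) q.2

theorem bl_one (i : κ) (y y' : Rst i → β) :
    bl i y y' (1 : Mn) = (if y = y' then (1 : F) else 0) • (LinearMap.id : Eb) := by
  rw [← Matrix.toLin'_one, ← map_smul]
  refine congrArg Matrix.toLin' (Matrix.ext fun a b => ?_)
  rw [Matrix.of_apply, rX_one, Matrix.smul_apply, Matrix.one_apply, Matrix.one_apply, smul_eq_mul]
  by_cases e : y = y' <;> by_cases e' : a = b <;> simp [e, e']

/-- Conjugation at a factor. -/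
theorem bl_conj (i : κ) (B : GL β F) (D : Mn) (y y' : Rst i → β) :
    bl i y y' (et i (B : Mb) * D * et i ((B⁻¹ : GL β F) : Mb)) = cj B (bl i y y' D) := by
  have e : ∀ (T S : Mb), (Matrix.of fun a b => rX i (et i T * D * et i S) (y, a) (y', b)) =
      T * (Matrix.of fun a b => rX i D (y, a) (y', b)) * S := fun T S => by
    ext a b
    simp only [rX_mul, rX_et, Matrix.of_apply, Matrix.mul_apply, Fintype.sum_prod_type, Matrix.kroneckerMap_apply,
      Matrix.one_apply, ite_mul, one_mul, zero_mul, mul_ite, mul_zero, Finset.sum_ite_irrel, Finset.sum_const_zero,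
      Finset.sum_ite_eq, Finset.sum_ite_eq', Finset.mem_univ, if_true]
  refine LinearMap.ext fun v => ?_
  show Matrix.toLin' _ v = _
  rw [e, TensorOrth.cj_apply]
  show _ = (B : Mb) *ᵥ (Matrix.toLin' _ _)
  simp only [Matrix.toLin'_apply, ← Matrix.mulVec_mulVec]

/-- All blocks at the factor are multiples of one endomorphism. -/
def Pur (i : κ) (T : (β → F) →ₗ[F] (β → F)) (D : Matrix (κ → β) (κ → β) F) : Prop :=
  ∀ y y', ∃ r : F, bl i y y' D = r • T

theorem Pur.add {i : κ} {T : Eb} {D E : Mn} (hD : Pur i T D) (hE : Pur i T E) : Pur i T (D + E) := fun y y' => by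
  obtain ⟨r, hr⟩ := hD y y'
  obtain ⟨s, hs⟩ := hE y y'
  exact ⟨r + s, by rw [map_add, hr, hs, add_smul]⟩

theorem Pur.neg {i : κ} {T : Eb} {D : Mn} (hD : Pur i T D) : Pur i T (-D) := fun y y' => by
  obtain ⟨r, hr⟩ := hD y y'
  exact ⟨-r, by rw [map_neg, hr]; exact (neg_smul r T).symm⟩

theorem Pur.smul {i : κ} {T : Eb} {D : Mn} (hD : Pur i T D) (a : F) : Pur i T (a • D) := fun y y' => by
  obtain ⟨r, hr⟩ := hD y y'
  exact ⟨a * r, by rw [map_smul, hr, smul_smul]⟩

theorem pur_zero (i : κ) (T : Eb) : Pur i T (0 : Mn) := fun _ _ => ⟨0, by rw [map_zero, zero_smul]⟩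

theorem pur_one (i : κ) : Pur i (LinearMap.id : Eb) (1 : Mn) := fun y y' => ⟨_, bl_one i y y'⟩

/-- Operations at another factor keep the purity. -/
theorem Pur.conj {i l : κ} (hl : l ≠ i) {T : Eb} {D : Mn} (hD : Pur i T D) (S S' : Mb) :
    Pur i T (et l S * D * et l S') := by
  choose r hr using hD
  obtain ⟨R, hR⟩ : ∃ R : Matrix (Rst i → β) (Rst i → β) F, R = Matrix.of r := ⟨_, rfl⟩
  have h1 : rX i D = R ⊗ₖ LinearMap.toMatrix' T := by
    ext p q
    have h2 := congrArg LinearMap.toMatrix' (hr p.1 q.1)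
    change LinearMap.toMatrix' (Matrix.toLin' _) = _ at h2
    rw [LinearMap.toMatrix'_toLin', map_smul] at h2
    rw [Matrix.kroneckerMap_apply, hR]
    exact congrFun (congrFun h2 p.2) q.2
  intro y y'
  refine ⟨(et (⟨l, hl⟩ : Rst i) S * R * et (⟨l, hl⟩ : Rst i) S') y y', ?_⟩
  have e : rX i (et l S * D * et l S') =
      (et (⟨l, hl⟩ : Rst i) S * R * et (⟨l, hl⟩ : Rst i) S') ⊗ₖ LinearMap.toMatrix' T := by
    rw [rX_mul, rX_mul, h1, rX_et_ne hl, rX_et_ne hl, ← Matrix.mul_kronecker_mul, ← Matrix.mul_kronecker_mul,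
      one_mul, mul_one]
  conv_rhs => rw [← Matrix.toLin'_toMatrix' T, ← map_smul]
  refine congrArg Matrix.toLin' (Matrix.ext fun a b => ?_)
  rw [Matrix.of_apply, e]
  rfl

theorem pur_wm (i : κ) (gs : κ → Mb) : Pur i (Matrix.toLin' (gs i)) (wm 1 gs) := fun y y' => by
  refine ⟨wm (1 : Equiv.Perm (Rst i)) (fun j => gs j.1) y y', ?_⟩
  rw [← map_smul]
  refine congrArg Matrix.toLin' (Matrix.ext fun a b => ?_)
  rw [Matrix.of_apply, rX_wm]
  rfl

/-- Pure at every factor is a multiple of a pure matrix. -/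
theorem exists_eq_wm {D : Mn} {gs : κ → Mb} (h : ∀ l, Pur l (Matrix.toLin' (gs l)) D) (hgs : ∀ l, gs l ≠ 0) :
    ∃ r : F, D = r • wm 1 gs := by
  classical
  have h' : ∀ l, ∃ a b, gs l a b ≠ 0 := fun l => by
    by_contra hc
    push Not at hc
    exact hgs l (Matrix.ext hc)
  choose p q hpq using h'
  have hone : ∀ (l : κ) (x y : X), D x y * gs l (p l) (q l) =
      gs l (x l) (y l) * D (Function.update x l (p l)) (Function.update y l (q l)) := fun l x y => by
    obtain ⟨r, hr⟩ := h l (fun j => x j.1) (fun j => y j.1)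
    have h2 := congrArg LinearMap.toMatrix' hr
    change LinearMap.toMatrix' (Matrix.toLin' _) = _ at h2
    rw [LinearMap.toMatrix'_toLin', map_smul, LinearMap.toMatrix'_toLin'] at h2
    have e : ∀ (x : X) (a : β), (spE l).symm ((fun j => x j.1), a) = Function.update x l a := fun x a => by
      rw [Equiv.symm_apply_eq, spE_apply, Function.update_self]
      exact Prod.ext (funext fun j => (Function.update_of_ne j.2 _ _).symm) rfl
    have k1 := congrFun (congrFun h2 (x l)) (y l)
    have k2 := congrFun (congrFun h2 (p l)) (q l)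
    simp only [Matrix.of_apply, rX, Matrix.reindex_apply, Matrix.submatrix_apply, e, Function.update_eq_self,
      Matrix.smul_apply, smul_eq_mul] at k1 k2
    rw [k1, k2]; ring
  have key : ∀ (s : Finset κ) (x y : X), D x y * ∏ l ∈ s, gs l (p l) (q l) =
      (∏ l ∈ s, gs l (x l) (y l)) *
        D (fun l => if l ∈ s then p l else x l) (fun l => if l ∈ s then q l else y l) := by
    intro s
    induction s using Finset.induction_on with
    | empty => intro x y; simp
    | insert a s ha ih =>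
      intro x y
      have h1 := hone a (fun l => if l ∈ s then p l else x l) (fun l => if l ∈ s then q l else y l)
      have e1 : ∀ (p x : X), Function.update (fun l => if l ∈ s then p l else x l) a (p a) =
          fun l => if l ∈ insert a s then p l else x l := fun p x => funext fun l => by
        by_cases e : l = a
        · subst e; simp
        · simp [e]
      rw [e1 p x, e1 q y] at h1
      simp only [if_neg ha] at h1
      rw [Finset.prod_insert ha, Finset.prod_insert ha]
      linear_combination (gs a (p a) (q a)) * ih x y + (∏ l ∈ s, gs l (x l) (y l)) * h1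
  refine ⟨D p q / ∏ l, gs l (p l) (q l), Matrix.ext fun x y => ?_⟩
  have hne : ∏ l, gs l (p l) (q l) ≠ 0 := Finset.prod_ne_zero_iff.2 fun l _ => hpq l
  rw [Matrix.smul_apply, smul_eq_mul, div_mul_eq_mul_div, eq_div_iff hne, key]
  simp [wm, mul_comm]

/-- A commuting family of nilpotent operators fixes something of an invariant group outside `K` modulo `K`. -/
theorem exists_fixed_add {k V B : Type*} [Field k] [AddCommGroup V] [Module k V] [Fintype B]
    {T : AddSubgroup V} {K : Submodule k V} {S₀ : V} (hS : S₀ ∈ T) (hS' : S₀ ∉ K) (op : B → Module.End k V)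
    (hcomm : ∀ i j, Commute (op i) (op j)) (hT : ∀ i, ∀ S ∈ T, op i S ∈ T) (hK : ∀ i, ∀ S ∈ K, op i S ∈ K)
    (hnil : ∀ i, IsNilpotent (op i)) : ∃ S ∈ T, S ∉ K ∧ ∀ i, op i S ∈ K := by
  classical
  suffices key : ∀ s : Finset B, ∃ S ∈ T, S ∉ K ∧ ∀ i ∈ s, op i S ∈ K by
    obtain ⟨S, h1, h2, h3⟩ := key Finset.univ
    exact ⟨S, h1, h2, fun i => h3 i (Finset.mem_univ i)⟩
  intro s
  induction s using Finset.induction_on with
  | empty => exact ⟨S₀, hS, hS', fun i hi => absurd hi (Finset.notMem_empty i)⟩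
  | insert i s _ ih =>
    obtain ⟨S, h1, h2, h3⟩ := ih
    obtain ⟨N, hN⟩ := hnil i
    have hex : ∃ m, (op i ^ m) S ∈ K := ⟨N, by rw [hN]; exact K.zero_mem⟩
    obtain ⟨m, hm⟩ : ∃ m, Nat.find hex = m + 1 := Nat.exists_eq_succ_of_ne_zero fun h0 => h2 (by
      have := Nat.find_spec hex
      rwa [h0, pow_zero] at this)
    refine ⟨(op i ^ m) S, ?_, Nat.find_min hex (by omega), fun j hj => ?_⟩
    · clear hm
      induction m with
      | zero => rwa [pow_zero]
      | succ m ihm => rw [pow_succ', Module.End.mul_apply]; exact hT i _ ihm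
    rcases Finset.mem_insert.1 hj with rfl | hj
    · have := Nat.find_spec hex
      rwa [hm, pow_succ', Module.End.mul_apply] at this
    · rw [← Module.End.mul_apply, ((hcomm j i).pow_right m).eq, Module.End.mul_apply]
      have hmap : ∀ (m : ℕ), ∀ S ∈ K, (op i ^ m) S ∈ K := fun m => by
        induction m with
        | zero => intro S hS; rwa [pow_zero]
        | succ m ihm => intro S hS; rw [pow_succ', Module.End.mul_apply]; exact hK i _ (ihm S hS)
      exact hmap m _ (h3 j hj)

/-- Conjugation by a unipotent minus one is nilpotent. -/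
theorem isNilpotent_conj {n : Type} [Fintype n] [DecidableEq n] {G H : Matrix n n F} (hG : IsNilpotent (G - 1))
    (hH : IsNilpotent (H - 1)) :
    IsNilpotent (LinearMap.mulLeft F G * LinearMap.mulRight F H - 1 : Module.End F (Matrix n n F)) := by
  have e : (LinearMap.mulLeft F G * LinearMap.mulRight F H - 1 : Module.End F (Matrix n n F)) =
      LinearMap.mulLeft F (G - 1) * LinearMap.mulRight F H + LinearMap.mulRight F (H - 1) := by
    refine LinearMap.ext fun T => ?_
    simp [Module.End.mul_apply, sub_mul, mul_sub]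
  have hl : IsNilpotent (LinearMap.mulLeft F (G - 1)) := by
    obtain ⟨k, hk⟩ := hG
    exact ⟨k, by rw [LinearMap.pow_mulLeft, hk, LinearMap.mulLeft_zero_eq_zero]⟩
  have hr : IsNilpotent (LinearMap.mulRight F (H - 1)) := by
    obtain ⟨k, hk⟩ := hH
    exact ⟨k, by rw [LinearMap.pow_mulRight, hk, LinearMap.mulRight_zero_eq_zero]⟩
  have c1 : Commute (LinearMap.mulLeft F (G - 1)) (LinearMap.mulRight F H) :=
    LinearMap.commute_mulLeft_right _ _
  have c2 : Commute (LinearMap.mulLeft F (G - 1) * LinearMap.mulRight F H) (LinearMap.mulRight F (H - 1)) := by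
    refine (LinearMap.commute_mulLeft_right _ _).mul_left ?_
    refine LinearMap.ext fun T => ?_
    show (T * (H - 1)) * H = (T * H) * (H - 1)
    rw [mul_assoc, mul_assoc]
    congr 1
    rw [sub_mul, mul_sub, one_mul, mul_one]
  rw [e]
  exact c2.isNilpotent_add (c1.isNilpotent_mul_right hl) hr

/-- Endomorphisms fixed modulo scalars by the Siegel maps at `a`. -/
theorem TData.block_shape (hT : TData c h) (hex : ¬ (Fintype.card F = 3 ∧ Fintype.card β = 3)) {a u : W}
    (haa : h a a = 0) (huu : h u u = 0) (hua : h u a = 1) {S : Eb}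
    (hS : ∀ w g, h w a = 0 → IsSieg h g a w → cj g S - S ∈ F ∙ (LinearMap.id : Eb)) :
    ∃ α δ : F, ∃ v ∈ hT.hh.perp2 u a, ∀ x, S x = α • x + (δ * h x a) • a + wd a v hT.hh x := by
  have hs := hT.hh
  obtain ⟨S', hS'⟩ : ∃ S' : Eb, ∀ x y, h (S x) y = h x (S' y) := by
    have hdet : IsUnit (gram h).det := isUnit_iff_ne_zero.2 hT.gram_det_ne
    refine ⟨Matrix.toLin' ((gram h)⁻¹ * (LinearMap.toMatrix' S)ᵀ * gram h), fun x y => ?_⟩
    rw [Matrix.toLin'_apply, ← apply_gram hs, ← apply_gram hs, Matrix.mulVec_mulVec _ (gram h), ← Matrix.mul_assoc,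
      ← Matrix.mul_assoc, Matrix.mul_nonsing_inv _ hdet, Matrix.one_mul, ← Matrix.mulVec_mulVec,
      Matrix.dotProduct_mulVec x, Matrix.vecMul_transpose, LinearMap.toMatrix'_mulVec]
  obtain ⟨P, hP⟩ : ∃ P : Eb, P = (2 : F)⁻¹ • (S + S') := ⟨_, rfl⟩
  obtain ⟨N, hN⟩ : ∃ N : Eb, N = (2 : F)⁻¹ • (S - S') := ⟨_, rfl⟩
  have hS'' : ∀ x y, h (S' x) y = h x (S y) := fun x y => by rw [hs.symm, ← hS', hs.symm]
  have hPsa : ∀ x y, h (P x) y = h x (P y) := fun x y => by
    simp only [hP, LinearMap.smul_apply, LinearMap.add_apply, hs.smul_left, hs.smul_right, hs.add_left, hs.add_right,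
      hS', hS'']
    ring
  have hNsk : ∀ x y, h (N x) y = -h x (N y) := fun x y => by
    simp only [hN, LinearMap.smul_apply, LinearMap.sub_apply, hs.smul_left, hs.smul_right, hs.sub_left, hs.sub_right,
      hS', hS'']
    ring
  have hadj : ∀ {g : GL β F} {μ : F}, g ∈ iso h → cj g S - S = μ • (LinearMap.id : Eb) →
      cj g S' - S' = μ • (LinearMap.id : Eb) := fun {g μ} hg he => LinearMap.ext fun y => hs.eq_of_forall fun x => by
    obtain ⟨x', rfl⟩ : ∃ x', (g : Mb) *ᵥ x' = x := ⟨_, mulVec_inv_cancel g x⟩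
    obtain ⟨y', rfl⟩ : ∃ y', (g : Mb) *ᵥ y' = y := ⟨_, mulVec_inv_cancel g y⟩
    have k := congrArg (fun t => h t ((g : Mb) *ᵥ y')) (LinearMap.congr_fun he ((g : Mb) *ᵥ x'))
    simp only [LinearMap.sub_apply, LinearMap.smul_apply, LinearMap.id_apply, TensorOrth.cj_apply, inv_mulVec_cancel,
      hs.sub_left, hs.smul_left, hg _ _, hS'] at k
    simp only [LinearMap.sub_apply, LinearMap.smul_apply, LinearMap.id_apply, TensorOrth.cj_apply, inv_mulVec_cancel,
      hs.symm _ ((g : Mb) *ᵥ x'), hs.sub_right, hs.smul_right, hg _ _]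
    exact k
  obtain ⟨α, δ, hR⟩ := TensorOrth.fixed_shape hs hT.two hT.three hex haa huu hua hPsa fun w g hw hg => by
    obtain ⟨μ, hμ⟩ := Submodule.mem_span_singleton.1 (hS w g hw hg)
    obtain ⟨g', hg', hg''⟩ := hs.exists_sieg hT.two haa hw
    rw [hs.sieg_unique hg hg''] at hμ ⊢
    refine Submodule.mem_span_singleton.2 ⟨μ, ?_⟩
    rw [hP, map_smul, map_add]
    have k1 := hadj hg' hμ.symm
    linear_combination (norm := skip) (2 : F)⁻¹ • hμ - (2 : F)⁻¹ • k1
    have := hT.two
    match_scalars <;> field_simp <;> ring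
  obtain ⟨v, hv, hNv⟩ := TensorOrth.wd_of_fixed hs hT.two hT.three haa huu hua hNsk fun w g hw hg => by
    obtain ⟨μ, hμ⟩ := Submodule.mem_span_singleton.1 (hS w g hw hg)
    obtain ⟨g', hg', hg''⟩ := hs.exists_sieg hT.two haa hw
    rw [hs.sieg_unique hg hg''] at hμ ⊢
    rw [hN, map_smul, map_sub]
    have k1 := hadj hg' hμ.symm
    linear_combination (norm := module) -((2 : F)⁻¹ • hμ) - (2 : F)⁻¹ • k1
  refine ⟨α, δ, v, hv, fun x => ?_⟩
  have e : S = P + N := by
    have := hT.two
    rw [hP, hN, ← smul_add, add_add_sub_cancel, ← two_smul F S, smul_smul, inv_mul_cancel₀ this, one_smul]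
  conv_lhs => rw [e, LinearMap.add_apply, hR, hNv]

end Cfsg.Agent.Classical.TensorPowOrth
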