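import Cfsg.Agent.Lib.Classical.TensorPowOrth.Scal
import Cfsg.Agent.Lib.Classical.TensorPowOrth.SlPair
import Cfsg.Agent.Lib.Classical.TensorPow.Swap

/-!
A proper overgroup of the stabiliser of a tensor power of an orthogonal space of dimension at least five stabilises the
decomposition.
-/

set_option autoImplicit false
set_option linter.unusedSectionVars false
set_option linter.unusedSimpArgs false
set_option linter.style.haveILetI false

open scoped Kronecker

namespace Cfsg.Agent.Classical.TensorPowOrth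

open Matrix Module MaxTv TensorMax TensorPow Overfield
open Cfsg.Agent.Classical.TensorOrth (Sym NdOn iso sl IsEich TSP ext_pure ext_kron)

variable {F : Type*} [Field F] [Fintype F] {κ β : Type} [Fintype κ] [DecidableEq κ] [Fintype β] [DecidableEq β]
  {c : F} {h : (β → F) → (β → F) → F}

local notation "X" => (κ → β)
local notation "Mn" => Matrix (κ → β) (κ → β) F
local notation "Mb" => Matrix β β F
local notation "W" => (β → F)

namespace Px

variable {M : Subgroup (GL (κ → β) F)} (hM : Px c h M)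
include hM

/-- The map of a Siegel element at a singular plane on pure tensors. -/
theorem eich_pure (i : κ) {x : GL ((Rst i → β) × β) F} {z₁ z₂ : W} (p : TSP h z₁ z₂) (hx : IsEich h x z₁ z₂)
    (a : (Rst i → β) → F) (w : W) :
    (x : Matrix ((Rst i → β) × β) ((Rst i → β) × β) F) *ᵥ tmul a w =
      tmul a (w + h w z₁ • z₂ - h w z₂ • z₁) := by
  rw [hx, (hM.sl' i).sl_tmul, (hM.sl' i).sl_tmul, p.iso₂, zero_div, zero_smul, sub_zero, tmul_sub_right,
    tmul_add_right, tmul_smul_left, tmul_smul_left, tmul_smul_right, tmul_smul_right]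

/-- The square of the displacement of a long root element vanishes. -/
theorem eich_sq (i : κ) {x : GL X F} {z₁ z₂ : W} (p : TSP h z₁ z₂) (hx : IsEich h (sp i x) z₁ z₂) :
    ((x : Mn) - 1) * ((x : Mn) - 1) = 0 := by
  have hs := hM.data.hh
  have hz21 : h z₂ z₁ = 0 := by rw [hs.symm]; exact p.orth
  refine rX_inj i ?_
  rw [rX_mul, rX_sub, rX_one, show rX i (0 : Mn) = 0 from rfl]
  refine Matrix.toLin'.injective (ext_pure fun a w => ?_)
  rw [Matrix.toLin'_apply, map_zero, LinearMap.zero_apply, ← Matrix.mulVec_mulVec,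
    show rX i (x : Mn) = (sp i x : Matrix ((Rst i → β) × β) ((Rst i → β) × β) F) from rfl, Matrix.sub_mulVec,
    Matrix.one_mulVec, Matrix.sub_mulVec, Matrix.one_mulVec, hM.eich_pure i p hx, ← tmul_sub_right,
    hM.eich_pure i p hx, ← tmul_sub_right]
  refine (congrArg (tmul a) ?_).trans (tmul_zero_right a)
  simp only [hs.sub_left, hs.add_left, hs.smul_left, p.iso₁, p.iso₂, p.orth, hz21, mul_zero, add_zero, sub_zero,
    sub_self, zero_smul]

/-- The conjugate under an element of the stabiliser among the isometries. -/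
theorem conjW {t : GL X F} (ht : t ∈ iso (tf (κ := κ) c h)) (htW : t ∈ Wr F κ β) :
    Px c h (M.map (MulAut.conj t).toMonoidHom) := by
  have hT := hM.data
  refine ⟨hT, hM.hex, ?_, fun x hx => ?_, fun hall => hM.proper fun x hx => ?_, hM.ht, hM.ih⟩
  · rintro _ ⟨x, hx, rfl⟩
    exact hT.conj_mem ht (hM.le hx)
  · refine ⟨t⁻¹ * x * t, hM.mem ⟨?_, ?_⟩, by simp [mul_assoc]⟩
    · exact mul_mem (mul_mem ((Wr F κ β).inv_mem htW) hx.1) htW
    · simpa using hT.conj_mem (inv_mem ht) hx.2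
  · obtain ⟨y, hy, e⟩ := hall (hT.conj_mem ht hx)
    simp only [MulEquiv.coe_toMonoidHom, MulAut.conj_apply, mul_left_inj, mul_right_inj] at e
    exact e ▸ hy

/-- Two factors: an element conjugating a long root element to the other factor is in the stabiliser. -/
theorem fus_two_even (h2κ : Fintype.card κ = 2) {i m : κ} {g x : GL X F} (hg : g ∈ M) {z₁ z₂ : W}
    (p : TSP h z₁ z₂) (hX : IsEich h (sp i x) z₁ z₂) {B : GL β F} (hB : g * x * g⁻¹ = pe m B) : g ∈ Wr F κ β := by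
  classical
  have hT := hM.data
  have hcr := card_rst_one i
  obtain ⟨j, hj⟩ := Fintype.card_eq_one_iff.1 (show Fintype.card (Rst i) = 1 by omega)
  obtain ⟨τ, hτ⟩ : ∃ τ, τ = wgl (Equiv.swap i m) fun _ => (1 : GL β F) := ⟨_, rfl⟩
  have hτi : τ ∈ iso (tf (κ := κ) c h) := hτ ▸ hT.wgl_iso _ fun _ => one_mem _
  have hτW : τ ∈ Wr F κ β := hτ ▸ wgl_mem _ _
  have hP := hM.conjW hτi hτW
  obtain ⟨M', hM'⟩ : ∃ M', M' = M.map (MulAut.conj τ).toMonoidHom := ⟨_, rfl⟩
  rw [← hM'] at hP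
  have hO := hM.sl' i
  have hy : τ * g * x * (τ * g)⁻¹ = pe i B := by
    rw [show τ * g * x * (τ * g)⁻¹ = τ * (g * x * g⁻¹) * τ⁻¹ by group, hB, hτ,
      pe_conj_eq m B (Equiv.swap_apply_left i m), one_mul, inv_one, mul_one]
  have hk : IsKron (sp i (τ * g)) := by
    refine hO.conj_kron' (hM.noRoot i) (hM.scal i) (hM.kmem i) (hP.sl' i) (hP.noRoot i) (hP.scal i) (hP.kmem i)
      ((hT.sp_iso i).2 (mul_mem hτi (hM.iso_mem hg))) ?_ ?_ ?_ p hX ⟨B, fun a w => ?_⟩
    · rintro _ ⟨y, hy, rfl⟩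
      refine ⟨τ * g * y * (τ * g)⁻¹, ?_, by simp⟩
      rw [hM']
      exact ⟨g * y * g⁻¹, mul_mem (mul_mem hg hy) (inv_mem hg), by simp [mul_assoc]⟩
    · rintro _ ⟨y, hy, rfl⟩
      refine ⟨(τ * g)⁻¹ * y * (τ * g), ?_, by simp⟩
      rw [hM'] at hy
      obtain ⟨y₀, hy₀, rfl⟩ := hy
      simpa [mul_assoc] using mul_mem (mul_mem (inv_mem hg) hy₀) hg
    · rintro k r z hkk - ⟨r₀, hr₀, rfl⟩ hz hz0 hR e
      obtain ⟨k₀, rfl⟩ := (sp (F := F) (β := β) i).surjective k
      simp only [MulEquiv.coe_toMonoidHom] at e hR ⊢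
      rw [← map_mul, (sp (F := F) (β := β) i).injective.eq_iff] at e
      have hx0 : τ⁻¹ * k₀ = g * r₀⁻¹ := by
        rw [eq_mul_inv_iff_mul_eq, mul_assoc, e, inv_mul_cancel_left]
      have hxG : τ⁻¹ * k₀ ∈ GT c h := hx0 ▸ mul_mem (hM.le hg) (inv_mem hr₀)
      have hxW : τ⁻¹ * k₀ ∈ Wr F κ β := by
        obtain ⟨A, B₀, hAB⟩ := isKron_iff.1 hkk
        exact mul_mem (inv_mem hτW) (mem_Wr_of_sp hAB (one_of_subsingleton hj A))
      have hrM : r₀ ∈ M := by
        have h1 := mul_mem (inv_mem (hM.mem ⟨hxW, hxG⟩)) hg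
        rwa [hx0, _root_.mul_inv_rev, inv_inv, inv_mul_cancel_right] at h1
      rw [← e, map_mul]
      exact IsKron.mul hkk (hO.rad_eich (hM.noRoot i) (hM.scal i) hR (mem_Mi.2 hrM) hz hz0).1
    · rw [← map_inv, ← map_mul, ← map_mul, hy, sp_pe, k2_mulVec, Units.val_one, Matrix.one_mulVec]
  obtain ⟨A, B₁, hAB⟩ := isKron_iff.1 hk
  have h1 := mem_Wr_of_sp hAB (one_of_subsingleton hj A)
  have := mul_mem (inv_mem hτW) h1
  rwa [inv_mul_cancel_left] at this

/-- The stabiliser is closed for fusion of long root elements. -/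
theorem cl (i : κ) : Cl h (Mi M i) ((Wr F κ β).map (sp i).toMonoidHom) := by
  classical
  have hT := hM.data
  have hs := hT.hh
  haveI := hM.nontrivial
  haveI : Nonempty κ := ⟨i⟩
  have hO := hM.sl' i
  constructor
  · rintro _ ⟨g, hg, rfl⟩ hk
    exact ⟨g, hM.kron_mem hg hk, rfl⟩
  · rintro _ ⟨g, hg, rfl⟩ _ ⟨x, hx, rfl⟩ z₁ z₂ p hX - hmem
    simp only [MulEquiv.coe_toMonoidHom] at hX hmem ⊢
    rw [← map_inv, ← map_mul, ← map_mul] at hmem
    have hy : g * x * g⁻¹ ∈ Wr F κ β := (Subgroup.mem_map_iff_mem (sp (F := F) i).injective).1 hmem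
    have hysq : (((g * x * g⁻¹ : GL X F) : Mn) - 1) * (((g * x * g⁻¹ : GL X F) : Mn) - 1) = 0 := by
      have e : ((g * x * g⁻¹ : GL X F) : Mn) - 1 = (g : Mn) * ((x : Mn) - 1) * ((g⁻¹ : GL X F) : Mn) := by
        rw [mul_sub, sub_mul, mul_one, ← Units.val_mul, ← Units.val_mul, ← Units.val_mul, mul_inv_cancel,
          Units.val_one]
      rw [e, show (g : Mn) * ((x : Mn) - 1) * ((g⁻¹ : GL X F) : Mn) * ((g : Mn) * ((x : Mn) - 1) * ((g⁻¹ : GL X F) : Mn)) =
        (g : Mn) * (((x : Mn) - 1) * (((g⁻¹ : GL X F) : Mn) * (g : Mn)) * ((x : Mn) - 1)) * ((g⁻¹ : GL X F) : Mn) by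
          simp only [mul_assoc], ← Units.val_mul, inv_mul_cancel, Units.val_one, mul_one, hM.eich_sq i p hX,
        mul_zero, zero_mul]
    obtain ⟨m, B, hB⟩ := quad_mem_Wr hT.two hT.three hy hysq
    by_cases htwo : Even (Fintype.card β) ∧ Fintype.card κ = 2
    · exact ⟨g, hM.fus_two_even htwo.2 hg p hX hB, rfl⟩
    obtain ⟨σ, gs, hπ, hσ⟩ : ∃ (σ : Equiv.Perm κ) (gs : κ → GL β F), wgl σ gs ∈ M ∧ σ i = m := by
      rcases Nat.even_or_odd (Fintype.card β) with hev | hodd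
      · rcases eq_or_ne m i with rfl | hmi
        · exact ⟨1, 1, by rw [wgl_one]; exact one_mem M, rfl⟩
        have ht3 : 3 ≤ Fintype.card κ := by
          have := hM.ht
          have : Fintype.card κ ≠ 2 := fun e => htwo ⟨hev, e⟩
          omega
        obtain ⟨σ, gs, -, hπ, hσ⟩ := hM.exists_mov hev ht3 i m hmi
        exact ⟨σ, gs, hπ, hσ⟩
      · obtain ⟨gs, -, hπ⟩ := hM.exists_perm hodd i m
        exact ⟨_, gs, hπ, Equiv.swap_apply_left i m⟩
    obtain ⟨π, hπd⟩ : ∃ π, π = wgl σ gs := ⟨_, rfl⟩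
    rw [← hπd] at hπ
    have hpy : π * (g * x * g⁻¹) * π⁻¹ = pe i (gs i * B * (gs i)⁻¹) := by
      rw [hB, hπd]; exact pe_conj_eq m B hσ
    have hk : IsKron (sp i (π * g)) := by
      refine hO.conj_kron (hM.noRoot i) (hM.scal i) (hM.kmem i) (mem_Mi.2 (mul_mem hπ hg)) p hX
        ⟨gs i * B * (gs i)⁻¹, fun a w => ?_⟩
      rw [← map_inv, ← map_mul, ← map_mul, show π * g * x * (π * g)⁻¹ = π * (g * x * g⁻¹) * π⁻¹ by group, hpy,
        sp_pe, k2_mulVec, Units.val_one, Matrix.one_mulVec]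
    have h1 := hM.kron_mem (mul_mem hπ hg) hk
    refine ⟨g, ?_, rfl⟩
    have := mul_mem ((Wr F κ β).inv_mem (hπd ▸ wgl_mem _ _ : π ∈ Wr F κ β)) h1
    rwa [inv_mul_cancel_left] at this
  · rintro _ ⟨g, hg, rfl⟩ hgW _ ⟨x, hx, rfl⟩ z₁ z₂ p hX hXk hcom
    simp only [MulEquiv.coe_toMonoidHom] at hgW hX hXk hcom ⊢
    obtain ⟨u₁, u₂, -, -, -, a11, a12, -, -⟩ := p.dual hs hT.two
    obtain ⟨B, hB⟩ : ∃ B : GL β F, ∀ w, (B : Mb) *ᵥ w = w + h w z₁ • z₂ - h w z₂ • z₁ := by
      obtain ⟨B, -, hB⟩ := hs.exists_sieg hT.two p.iso₁ (w := z₂) (by rw [hs.symm]; exact p.orth)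
      exact ⟨B, fun w => by rw [hB, p.iso₂, zero_div, zero_mul, zero_smul, sub_zero]⟩
    have hxB : x = pe i B := (sp (F := F) i).injective (ext_kron fun a w => by
      rw [hM.eich_pure i p hX, sp_pe, k2_mulVec, Units.val_one, Matrix.one_mulVec, hB])
    refine kron_of_comm_pe ((Subgroup.mem_map_iff_mem (sp (F := F) i).injective).1 hgW) (U := B) (fun r hr => ?_) ?_
    · have e1 : (B : Mb) *ᵥ z₁ = z₁ := by rw [hB, p.iso₁, p.orth]; simp
      rw [hr, Matrix.smul_mulVec, Matrix.one_mulVec] at e1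
      have e2 : r = 1 := smul_left_injective F p.ne₁ (show r • z₁ = (1 : F) • z₁ by rw [e1, one_smul])
      have e3 := hB u₁
      rw [hr, e2, one_smul, Matrix.one_mulVec, a11, a12, one_smul, zero_smul, sub_zero] at e3
      exact p.ne₂ (left_eq_add.1 e3)
    · rw [← hxB]
      exact (sp (F := F) i).injective (by rw [map_mul, map_mul]; exact hcom)

/-- For dimension at least five of the factor, the overgroup stabilises the decomposition. -/
theorem le_Wr_five (h5 : 5 ≤ Fintype.card β) : M ≤ Wr F κ β := by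
  intro g hg
  obtain ⟨i⟩ : Nonempty κ := Fintype.card_pos_iff.1 (by have := hM.ht; omega)
  exact (Subgroup.mem_map_iff_mem (sp (F := F) i).injective).1
    ((hM.sl' i).all_mem (hM.noRoot i) (hM.scal i) (hM.kmem i) (hM.cl i) h5 (mem_Mi.2 hg))

end Px

end Cfsg.Agent.Classical.TensorPowOrth
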