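import Cfsg.Agent.Lib.Classical.TensorPowOrth.ThreeMain

/-!
Factors of dimension four: frames of anisotropic vectors, reflections, diagonal involutions and their traces.
-/

set_option autoImplicit false
set_option linter.unusedSectionVars false
set_option linter.unusedSimpArgs false
set_option linter.style.haveILetI false

open scoped Kronecker

namespace Cfsg.Agent.Classical.TensorPowOrth

open Matrix Module MaxTv TensorMax TensorPow
open Cfsg.Agent.Classical.TensorOrth (Sym NdOn iso TSP IsSieg)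

variable {F : Type*} [Field F] [Fintype F] {κ β : Type} [Fintype κ] [DecidableEq κ] [Fintype β] [DecidableEq β]
  {c : F} {h : (β → F) → (β → F) → F}

local notation "X" => (κ → β)
local notation "Mn" => Matrix (κ → β) (κ → β) F
local notation "Mb" => Matrix β β F
local notation "W" => (β → F)

/-- An orthogonal basis of anisotropic vectors of a space of dimension four. -/
structure F4 (h : (β → F) → (β → F) → F) (e : Fin 4 → β → F) : Prop where
  orth : ∀ a b, a ≠ b → h (e a) (e b) = 0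
  ne : ∀ a, h (e a) (e a) ≠ 0

/-- A similitude with multiplier `μ`. -/
def Sim (h : (β → F) → (β → F) → F) (μ : F) (B : GL β F) : Prop :=
  ∀ x y, h ((B : Matrix β β F) *ᵥ x) ((B : Matrix β β F) *ᵥ y) = μ * h x y

/-- The sign of a place of a diagonal involution. -/
def sgS (S : Finset (Fin 4)) (a : Fin 4) : F := if a ∈ S then -1 else 1

/-- The involution with sign `-1` at the places in `S`. -/
def Dg (e : Fin 4 → β → F) (S : Finset (Fin 4)) (B : GL β F) : Prop :=
  ∀ a, (B : Matrix β β F) *ᵥ e a = (sgS S a : F) • e a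

theorem F4.perm {e : Fin 4 → W} (he : F4 h e) (π : Equiv.Perm (Fin 4)) : F4 h (e ∘ π) :=
  ⟨fun _ _ hab => he.orth _ _ fun e0 => hab (π.injective e0), fun _ => he.ne _⟩

theorem sim_one_of_iso {B : GL β F} (hB : B ∈ iso h) : Sim h 1 B := fun x y => by rw [hB, one_mul]

theorem sgS_sq (S : Finset (Fin 4)) (a : Fin 4) : sgS S a * sgS S a = (1 : F) := by
  rw [sgS]; split_ifs <;> ring

theorem sgS_symmDiff (S T : Finset (Fin 4)) (a : Fin 4) : sgS S a * sgS T a = (sgS (symmDiff S T) a : F) := by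
  by_cases h1 : a ∈ S <;> by_cases h2 : a ∈ T <;> simp [sgS, Finset.mem_symmDiff, h1, h2]

theorem Dg.mul {e : Fin 4 → W} {S T : Finset (Fin 4)} {A B : GL β F} (hA : Dg e S A) (hB : Dg e T B) :
    Dg e (symmDiff S T) (A * B) := fun a => by
  rw [Units.val_mul, ← Matrix.mulVec_mulVec, hB a, Matrix.mulVec_smul, hA a, smul_smul, mul_comm, sgS_symmDiff]

theorem Dg.one (e : Fin 4 → W) : Dg e ∅ (1 : GL β F) := fun a => by
  simp [sgS]

theorem sgS_compl (S : Finset (Fin 4)) (a : Fin 4) : sgS Sᶜ a = -(sgS S a : F) := by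
  by_cases h1 : a ∈ S <;> simp [sgS, h1]

theorem Dg.neg {e : Fin 4 → W} {S : Finset (Fin 4)} {A : GL β F} (hA : Dg e S A) : Dg e Sᶜ (-A) := fun a => by
  rw [sgS_compl, Units.val_neg, Matrix.neg_mulVec, hA a, neg_smul]

theorem Dg.reframe {e : Fin 4 → W} {S : Finset (Fin 4)} {A : GL β F} (hA : Dg e S A) (π : Equiv.Perm (Fin 4)) :
    Dg (e ∘ π) (S.image π.symm) A := fun a => by
  rw [Function.comp_apply, hA]
  congr 1
  by_cases h1 : π a ∈ S <;> simp [sgS, h1, Finset.mem_image, Equiv.symm_apply_eq]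

variable (hT : TData c h)
include hT

theorem TData.sim_ne (h4 : Fintype.card β = 4) {μ : F} {B : GL β F} (hB : Sim h μ B) : μ ≠ 0 := fun e => by
  obtain ⟨v, -, hv⟩ := hT.hh.exists_aniso hT.two hT.hh.ndOn_top
    (Submodule.exists_mem_ne_zero_of_ne_bot fun e' => by
      have := congrArg (fun U : Submodule F W => finrank F U) e'
      simp only [finrank_top, Module.finrank_pi, finrank_bot] at this
      omega)
  refine gl_mulVec_ne_zero B (fun e0 : v = 0 => hv (by rw [e0, hT.hh.zero_left])) (hT.hh.eq_zero _ fun x => ?_)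
  obtain ⟨y, rfl⟩ : ∃ y, (B : Mb) *ᵥ y = x := ⟨_, mulVec_inv_cancel B x⟩
  rw [hB, e, zero_mul]

/-- The orthogonal space of fewer than four orthogonal anisotropic vectors. -/
theorem TData.exists_perpN (h4 : Fintype.card β = 4) : ∀ (n : ℕ) (v : Fin n → W),
    (∀ a b, a ≠ b → h (v a) (v b) = 0) → (∀ a, h (v a) (v a) ≠ 0) →
    ∃ U : Submodule F W, NdOn h U ∧ 4 ≤ finrank F U + n ∧ ∀ x, x ∈ U ↔ ∀ a, h x (v a) = 0
  | 0, _, _, _ => ⟨⊤, hT.hh.ndOn_top, by rw [finrank_top, Module.finrank_pi]; omega, fun x => by simp⟩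
  | n + 1, v, horth, hne => by
    obtain ⟨U, hU, hd, hmem⟩ := TData.exists_perpN h4 n (fun a => v a.castSucc)
      (fun a b hab => horth _ _ fun e => hab (Fin.castSucc_injective _ e)) (fun a => hne _)
    have hin : v (Fin.last n) ∈ U := (hmem _).2 fun a => horth _ _ (Fin.castSucc_ne_last a).symm
    refine ⟨U ⊓ LinearMap.ker (hT.hh.lin (v (Fin.last n))), hT.hh.ndOn_inf_ker hU hin (hne _), ?_, fun x => ?_⟩
    · have := finrank_le_inf_ker_add_one U (hT.hh.lin (v (Fin.last n)))
      omega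
    · rw [Submodule.mem_inf, hmem, LinearMap.mem_ker, hT.hh.lin_apply, Fin.forall_fin_succ']

/-- Orthogonal eigenvectors of an isometric involution extend to a frame of eigenvectors. -/
theorem TData.frame_ext (h4 : Fintype.card β = 4) {B : GL β F} (hB : B ∈ iso h) (hBB : B * B = 1) :
    ∀ (j n : ℕ) (hn : n + j = 4) (v : Fin n → W), (∀ a b, a ≠ b → h (v a) (v b) = 0) →
    (∀ a, h (v a) (v a) ≠ 0) → (∀ a, (B : Mb) *ᵥ v a = v a ∨ (B : Mb) *ᵥ v a = -v a) →
    ∃ e : Fin 4 → W, F4 h e ∧ (∀ a : Fin n, e (Fin.castLE (by omega) a) = v a) ∧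
      ∀ a, (B : Mb) *ᵥ e a = e a ∨ (B : Mb) *ᵥ e a = -e a
  | 0, n, hn, v, horth, hne, heig => by
    have hn4 : n = 4 := by omega
    subst hn4
    exact ⟨v, ⟨horth, hne⟩, fun a => rfl, heig⟩
  | j + 1, n, hn, v, horth, hne, heig => by
    have hs := hT.hh
    obtain ⟨U, hU, hd, hmem⟩ := hT.exists_perpN h4 n v horth hne
    obtain ⟨x, hx, hxx⟩ := hs.exists_aniso hT.two hU (Submodule.exists_mem_ne_zero_of_ne_bot fun e => by
      rw [e, finrank_bot] at hd; omega)
    have hBBx : (B : Mb) *ᵥ ((B : Mb) *ᵥ x) = x := by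
      rw [Matrix.mulVec_mulVec, ← Units.val_mul, hBB, Units.val_one, Matrix.one_mulVec]
    have hBx : ∀ a, h ((B : Mb) *ᵥ x) (v a) = 0 := fun a => by
      have h1 := hB x ((B : Mb) *ᵥ v a)
      rw [Matrix.mulVec_mulVec, ← Units.val_mul, hBB, Units.val_one, Matrix.one_mulVec] at h1
      rw [h1]
      rcases heig a with e | e <;> rw [e]
      · exact (hmem x).1 hx a
      · rw [hs.neg_right, (hmem x).1 hx a, neg_zero]
    obtain ⟨w, hw, hwp, hwe⟩ : ∃ w, h w w ≠ 0 ∧ (∀ a, h w (v a) = 0) ∧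
        ((B : Mb) *ᵥ w = w ∨ (B : Mb) *ᵥ w = -w) := by
      by_cases h1 : h (x + (B : Mb) *ᵥ x) (x + (B : Mb) *ᵥ x) = 0
      · refine ⟨x - (B : Mb) *ᵥ x, fun e => hxx ?_,
          fun a => by rw [hs.sub_left, hBx, (hmem x).1 hx a, sub_zero],
          Or.inr (by rw [Matrix.mulVec_sub, hBBx, neg_sub])⟩
        have h2 := hB x x
        simp only [hs.add_left, hs.add_right, hs.sub_left, hs.sub_right, hs.symm ((B : Mb) *ᵥ x) x, h2] at h1 e
        have h22 : (2 : F) * 2 ≠ 0 := mul_ne_zero hT.two hT.two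
        exact mul_left_cancel₀ h22 (by linear_combination h1 + e)
      · exact ⟨_, h1, fun a => by rw [hs.add_left, hBx, (hmem x).1 hx a, add_zero],
          Or.inl (by rw [Matrix.mulVec_add, hBBx, add_comm])⟩
    obtain ⟨e, he, hev, hee⟩ := TData.frame_ext h4 hB hBB j (n + 1) (by omega) (Fin.snoc v w)
      (fun a b hab => by
        induction a using Fin.lastCases with
        | last =>
          induction b using Fin.lastCases with
          | last => exact absurd rfl hab
          | cast b => rw [Fin.snoc_last, Fin.snoc_castSucc]; exact hwp b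
        | cast a =>
          induction b using Fin.lastCases with
          | last => rw [Fin.snoc_last, Fin.snoc_castSucc, hs.symm]; exact hwp a
          | cast b =>
            rw [Fin.snoc_castSucc, Fin.snoc_castSucc]
            exact horth _ _ fun e => hab (by rw [e]))
      (fun a => by
        induction a using Fin.lastCases with
        | last => rw [Fin.snoc_last]; exact hw
        | cast a => rw [Fin.snoc_castSucc]; exact hne a)
      (fun a => by
        induction a using Fin.lastCases with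
        | last => rw [Fin.snoc_last]; exact hwe
        | cast a => rw [Fin.snoc_castSucc]; exact heig a)
    refine ⟨e, he, fun a => ?_, hee⟩
    have := hev a.castSucc
    rwa [Fin.snoc_castSucc] at this

theorem TData.frame1 (h4 : Fintype.card β = 4) {v : W} (hv : h v v ≠ 0) :
    ∃ e : Fin 4 → W, F4 h e ∧ e 0 = v := by
  obtain ⟨e, he, hev, -⟩ := hT.frame_ext h4 (one_mem (iso h)) (one_mul 1) 3 1 rfl ![v]
    (fun a b hab => absurd (Subsingleton.elim a b) hab) (fun a => by fin_cases a; exact hv)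
    (fun a => Or.inl (by rw [Units.val_one, Matrix.one_mulVec]))
  exact ⟨e, he, by simpa using hev 0⟩

theorem TData.frame2 (h4 : Fintype.card β = 4) {v u : W} (hv : h v v ≠ 0) (hu : h u u ≠ 0) (hvu : h v u = 0) :
    ∃ e : Fin 4 → W, F4 h e ∧ e 0 = v ∧ e 1 = u := by
  obtain ⟨e, he, hev, -⟩ := hT.frame_ext h4 (one_mem (iso h)) (one_mul 1) 2 2 rfl ![v, u]
    (fun a b hab => by
      fin_cases a <;> fin_cases b <;> first | exact absurd rfl hab | simpa using hvu | simpa [hT.hh.symm u v] using hvu)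
    (fun a => by fin_cases a <;> simpa) (fun a => Or.inl (by rw [Units.val_one, Matrix.one_mulVec]))
  exact ⟨e, he, by simpa using hev 0, by simpa using hev 1⟩

theorem TData.frame0 (h4 : Fintype.card β = 4) : ∃ e : Fin 4 → W, F4 h e := by
  obtain ⟨e, he, -, -⟩ := hT.frame_ext h4 (one_mem (iso h)) (one_mul 1) 4 0 rfl Fin.elim0
    (fun a => a.elim0) (fun a => a.elim0) (fun a => a.elim0)
  exact ⟨e, he⟩

variable {e : Fin 4 → β → F} (he : F4 h e)
include he

theorem F4.toOrth (h4 : Fintype.card β = 4) : Orth h (e ∘ Fintype.equivFinOfCardEq h4) :=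
  ⟨fun _ _ hab => he.orth _ _ fun e0 => hab ((Fintype.equivFinOfCardEq h4).injective e0), fun _ => he.ne _,
    fun _ _ => Or.inl ⟨2, by omega⟩⟩

theorem F4.expand (h4 : Fintype.card β = 4) (x : W) : x = ∑ a, (h (e a) x / h (e a) (e a)) • e a := by
  conv_lhs => rw [(he.toOrth hT h4).expand hT x]
  exact Fintype.sum_equiv (Fintype.equivFinOfCardEq h4) _ _ fun _ => rfl

theorem F4.ext_lin (h4 : Fintype.card β = 4) {U : Type*} [AddCommGroup U] [Module F U] {L L' : W →ₗ[F] U}
    (hL : ∀ a, L (e a) = L' (e a)) : L = L' := LinearMap.ext fun x => by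
  rw [he.expand hT h4 x]
  simp only [map_sum, map_smul, hL]

theorem F4.ext_mat (h4 : Fintype.card β = 4) {A B : Mb} (hAB : ∀ a, A *ᵥ e a = B *ᵥ e a) : A = B :=
  Matrix.toLin'.injective (he.ext_lin hT h4 fun a => by simpa using hAB a)

theorem Dg.unique (h4 : Fintype.card β = 4) {S : Finset (Fin 4)} {A B : GL β F} (hA : Dg e S A) (hB : Dg e S B) :
    A = B :=
  Units.ext (he.ext_mat hT h4 fun a => by rw [hA a, hB a])

/-- The product of the values of a frame is not a square. -/
theorem F4.not_sq (h4 : Fintype.card β = 4) :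
    ¬ IsSquare (h (e 0) (e 0) * h (e 1) (e 1) * h (e 2) (e 2) * h (e 3) (e 3)) := by
  intro hsq
  have h1 := gram_det_sq hT.hh (e ∘ Fintype.equivFinOfCardEq h4) (he.toOrth hT h4).orth
  rw [show ∏ a, h ((e ∘ Fintype.equivFinOfCardEq h4) a) ((e ∘ Fintype.equivFinOfCardEq h4) a) =
      ∏ a, h (e a) (e a) from Fintype.prod_equiv (Fintype.equivFinOfCardEq h4) _ _ fun _ => rfl,
    Fin.prod_univ_four] at h1
  obtain ⟨D, hD⟩ : ∃ D, D = (Matrix.of fun a b => (e ∘ Fintype.equivFinOfCardEq h4) b a : Mb).det := ⟨_, rfl⟩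
  rw [← hD] at h1
  have hne : ∀ a, h (e a) (e a) ≠ 0 := he.ne
  obtain ⟨s, hs'⟩ := hsq
  have hD0 : D ≠ 0 := fun e0 => by
    rw [e0, zero_mul, zero_mul] at h1
    exact mul_ne_zero (mul_ne_zero (mul_ne_zero (hne 0) (hne 1)) (hne 2)) (hne 3) h1.symm
  refine hT.det_four h4 ⟨s / D, ?_⟩
  field_simp
  linear_combination h1 + hs'

omit he in
theorem TData.trace_rk (x y : W) : Matrix.trace (rk hT.hh x y) = h x y := by
  rw [← hT.hh.lin_apply y x]
  conv_rhs => rw [← Finset.univ_sum_single x, map_sum]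
  simp only [Matrix.trace, Matrix.diag, rk, LinearMap.toMatrix'_apply, LinearMap.smulRight_apply, hT.hh.lin_apply,
    Pi.smul_apply, smul_eq_mul]
  refine Finset.sum_congr rfl fun a _ => ?_
  rw [show (Pi.single a (x a) : W) = x a • Pi.single a 1 by rw [← Pi.single_smul, smul_eq_mul, mul_one],
    hT.hh.smul_left, mul_comm]

/-- The trace along a frame. -/
theorem F4.trace_eq (h4 : Fintype.card β = 4) (A : Mb) :
    A.trace = ∑ a, h (A *ᵥ e a) (e a) / h (e a) (e a) := by
  have hA : A = ∑ a, (h (e a) (e a))⁻¹ • rk hT.hh (A *ᵥ e a) (e a) := he.ext_mat hT h4 fun b => by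
    rw [Matrix.sum_mulVec, Finset.sum_eq_single b (fun a _ hab => by
      rw [Matrix.smul_mulVec, rk_mulVec, he.orth b a hab.symm, zero_smul, smul_zero])
      (fun h' => absurd (Finset.mem_univ b) h'), Matrix.smul_mulVec, rk_mulVec, smul_smul,
      inv_mul_cancel₀ (he.ne b), one_smul]
  conv_lhs => rw [hA]
  simp only [Matrix.trace_sum, Matrix.trace_smul, hT.trace_rk, smul_eq_mul]
  exact Finset.sum_congr rfl fun a _ => by rw [div_eq_inv_mul]

theorem Dg.trace (h4 : Fintype.card β = 4) {S : Finset (Fin 4)} {B : GL β F} (hB : Dg e S B) :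
    (B : Mb).trace = ∑ a, sgS S a := by
  rw [he.trace_eq hT h4]
  exact Finset.sum_congr rfl fun a _ => by rw [hB a, hT.hh.smul_left, mul_div_cancel_right₀ _ (he.ne a)]

theorem Dg.iso (h4 : Fintype.card β = 4) {S : Finset (Fin 4)} {B : GL β F} (hB : Dg e S B) : B ∈ iso h := by
  intro x y
  have hs := hT.hh
  have key : ∀ b, ∀ x, h ((B : Mb) *ᵥ x) ((B : Mb) *ᵥ e b) = h x (e b) := fun b => by
    have := he.ext_lin hT h4 (L := (hs.lin ((B : Mb) *ᵥ e b)).comp (Matrix.toLin' (B : Mb)))
      (L' := hs.lin (e b)) fun a => by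
        simp only [LinearMap.comp_apply, Matrix.toLin'_apply, hs.lin_apply, hB a, hB b, hs.smul_left, hs.smul_right]
        rcases eq_or_ne a b with rfl | hab
        · rw [← mul_assoc, sgS_sq, one_mul]
        · rw [he.orth a b hab, mul_zero, mul_zero]
    exact fun x => by simpa [hs.lin_apply] using LinearMap.congr_fun this x
  have := he.ext_lin hT h4 (L := (hs.lin ((B : Mb) *ᵥ x)).comp (Matrix.toLin' (B : Mb))) (L' := hs.lin x) fun a => by
    simp only [LinearMap.comp_apply, Matrix.toLin'_apply, hs.lin_apply]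
    rw [hs.symm, key, hs.symm]
  have h1 := LinearMap.congr_fun this y
  simp only [LinearMap.comp_apply, Matrix.toLin'_apply, hs.lin_apply] at h1
  rw [hs.symm, h1, hs.symm]

omit he

/-- An isometric involution is diagonal in a frame. -/
theorem TData.invol_dg (h4 : Fintype.card β = 4) {B : GL β F} (hB : B ∈ TensorOrth.iso h) (hBB : B * B = 1)
    {n : ℕ} (hn : n ≤ 4) (v : Fin n → W) (horth : ∀ a b, a ≠ b → h (v a) (v b) = 0)
    (hne : ∀ a, h (v a) (v a) ≠ 0) (heig : ∀ a, (B : Mb) *ᵥ v a = v a ∨ (B : Mb) *ᵥ v a = -v a) :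
    ∃ (e : Fin 4 → W) (S : Finset (Fin 4)), F4 h e ∧ (∀ a : Fin n, e (Fin.castLE hn a) = v a) ∧ Dg e S B := by
  classical
  obtain ⟨e, he, hev, hee⟩ := hT.frame_ext h4 hB hBB (4 - n) n (by omega) v horth hne heig
  refine ⟨e, Finset.univ.filter fun a => (B : Mb) *ᵥ e a = -e a, he, hev, fun a => ?_⟩
  by_cases h1 : (B : Mb) *ᵥ e a = -e a
  · rw [sgS, if_pos (by simpa using h1), h1, neg_one_smul]
  · rw [sgS, if_neg (by simpa using h1), one_smul, (hee a).resolve_right h1]

end Cfsg.Agent.Classical.TensorPowOrth
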