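import Cfsg.Agent.Lib.Classical.TensorPowOrth.FourSlot

/-!
Factors of dimension four, at least three of them: the centralisers of reflections, of planes and of their products at
two factors, and the maximality.
-/

set_option autoImplicit false
set_option linter.unusedSectionVars false
set_option linter.unusedSimpArgs false
set_option linter.style.haveILetI false

open scoped Kronecker

namespace Cfsg.Agent.Classical.TensorPowOrth

open Matrix Module MaxTv TensorMax TensorPow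
open Cfsg.Agent.Classical.TensorOrth (Sym NdOn iso TSP IsSieg)

variable {F : Type*} [Field F] [Fintype F] {κ β : Type} [Fintype κ] [DecidableEq κ] [Fintype β] [DecidableEq β]
  {c : F} {h : (β → F) → (β → F) → F}

local notation "X" => (κ → β)
local notation "V" => ((κ → β) → F)
local notation "Mn" => Matrix (κ → β) (κ → β) F
local notation "Mb" => Matrix β β F
local notation "W" => (β → F)

/-- The product of two reflections at a factor as a polynomial in two products. -/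
theorem comm_of_two {g : GL (κ → β) F} (h2 : (2 : F) ≠ 0) {i : κ} {A P Q : GL β F}
    (hA : (A : Mb) = 1 - (2 : F)⁻¹ • ((1 - (P : Mb)) * (1 - (Q : Mb))))
    (hP : g * pe i P = pe i P * g) (hQ : g * pe i Q = pe i Q * g) : g * pe i A = pe i A * g := by
  have hP' : (g : Mn) * (pe i P : Mn) = (pe i P : Mn) * (g : Mn) := by rw [← Units.val_mul, hP, Units.val_mul]
  have hQ' : (g : Mn) * (pe i Q : Mn) = (pe i Q : Mn) * (g : Mn) := by rw [← Units.val_mul, hQ, Units.val_mul]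
  have e : ∀ B : GL β F, et i (1 - (B : Mb)) = 1 - (pe i B : Mn) := fun B => by
    rw [sub_eq_add_neg, ← neg_one_smul F (B : Mb), et_add, et_smul, et_one, et_val, neg_one_smul, ← sub_eq_add_neg]
  have eA : (pe i A : Mn) = 1 - (2 : F)⁻¹ • ((1 - (pe i P : Mn)) * (1 - (pe i Q : Mn))) := by
    rw [← et_val, hA, ← e P, ← e Q, et_mul, sub_eq_add_neg, ← neg_smul, et_add, et_one, et_smul, neg_smul,
      ← sub_eq_add_neg]
  have hPQ : (g : Mn) * ((1 - (pe i P : Mn)) * (1 - (pe i Q : Mn))) =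
      (1 - (pe i P : Mn)) * (1 - (pe i Q : Mn)) * (g : Mn) := by
    rw [← mul_assoc, mul_sub (g : Mn), hP', mul_one, ← one_sub_mul, mul_assoc, mul_sub (g : Mn), hQ', mul_one,
      ← one_sub_mul, mul_assoc]
  refine Units.ext ?_
  generalize ((1 - (pe i P : Mn)) * (1 - (pe i Q : Mn))) = R at eA hPQ
  rw [Units.val_mul, Units.val_mul, eA, mul_sub, sub_mul, mul_one, one_mul, Matrix.mul_smul, Matrix.smul_mul, hPQ]

namespace Px

variable {M : Subgroup (GL (κ → β) F)} (hM : Px c h M) (h4 : Fintype.card β = 4)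
include hM h4

/-- The centraliser of two reflections at a factor stabilises the decomposition. -/
theorem cent_two_rf {i : κ} {v u : W} (hv : h v v ≠ 0) (hu : h u u ≠ 0) (hvu : h v u = 0) {g : GL X F} (hg : g ∈ M)
    (h1 : g * pe i (rf hM.data v) = pe i (rf hM.data v) * g)
    (h2 : g * pe i (rf hM.data u) = pe i (rf hM.data u) * g) : g ∈ Wr F κ β := by
  classical
  have hT := hM.data
  obtain ⟨N, hN⟩ : ∃ N : Subgroup (GL X F), N = M ⊓ Subgroup.centralizer {pe i (rf hT v)} ⊓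
      Subgroup.centralizer {pe i (rf hT u)} := ⟨_, rfl⟩
  have hmem : ∀ k, k ∈ N ↔ k ∈ M ∧ k * pe i (rf hT v) = pe i (rf hT v) * k ∧
      k * pe i (rf hT u) = pe i (rf hT u) * k := fun k => by
    rw [hN, Subgroup.mem_inf, Subgroup.mem_inf, Subgroup.mem_centralizer_singleton_iff,
      Subgroup.mem_centralizer_singleton_iff]
    tauto
  refine hM.res_le h4 hu (i := i) (N := N) (fun k hk => ((hmem k).1 hk).1)
    (fun k hk t ht' => hT.line_of_comm hu ((hmem k).1 hk).2.2 ht')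
    (fun A hA hAG => (hmem _).2 ⟨hM.mem ⟨emb_mem_Wr hA, hT.emb_GT hAG⟩, emb_pe_comm A _, emb_pe_comm A _⟩)
    ?_ ((hmem g).2 ⟨hg, h1, h2⟩)
  intro k hk hkfx
  obtain ⟨l, hli⟩ := nonempty_rst hM.ht i
  obtain ⟨K, hK⟩ : ∃ K : Subgroup (GL X F), K = N ⊓ Fx F i u := ⟨_, rfl⟩
  refine hM.le_of_coprime h4 (K := K) (fun x hx => ?_) l ?_ ?_ (show k ∈ K from hK ▸ Subgroup.mem_inf.2 ⟨hk, hkfx⟩)
  · exact ((hmem x).1 (hK ▸ hx : x ∈ N ⊓ Fx F i u).1).1
  · intro B hB x hx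
    rw [hK] at hx ⊢
    obtain ⟨hxM, hxv, hxu⟩ := (hmem x).1 hx.1
    have hc : ∀ A, pe l B * pe i A = pe i A * pe l B := fun A => pe_comm hli B A
    have hconj : ∀ A, x * pe i A = pe i A * x →
        pe l B * x * (pe l B)⁻¹ * pe i A = pe i A * (pe l B * x * (pe l B)⁻¹) := fun A hA => by
      calc pe l B * x * (pe l B)⁻¹ * pe i A = pe l B * x * ((pe l B)⁻¹ * pe i A) := by rw [mul_assoc]
        _ = pe l B * x * (pe i A * (pe l B)⁻¹) := by rw [(Commute.inv_left (hc A)).eq]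
        _ = pe l B * (x * pe i A) * (pe l B)⁻¹ := by group
        _ = pe l B * pe i A * x * (pe l B)⁻¹ := by rw [hA]; group
        _ = pe i A * (pe l B * x * (pe l B)⁻¹) := by rw [hc]; group
    refine Subgroup.mem_inf.2 ⟨(hmem _).2 ⟨mul_mem (mul_mem (hM.pe_mem hB) hxM) (inv_mem (hM.pe_mem hB)),
      hconj _ hxv, hconj _ hxu⟩, fun t ht' => ?_⟩
    rw [← map_inv, Units.val_mul, Units.val_mul, ← Matrix.mulVec_mulVec, ← Matrix.mulVec_mulVec,
      hx.2 _ (pe_line hli _ ht'), Matrix.mulVec_mulVec, ← Units.val_mul, ← map_mul, mul_inv_cancel, map_one,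
      Units.val_one, Matrix.one_mulVec]
  · intro p _ _ x hx hxW y hy hyc n hn
    rw [hK] at hx
    obtain ⟨hxM, hxv, -⟩ := (hmem x).1 hx.1
    haveI := hT.nontriv h4
    obtain ⟨B, hB, hBu, rfl⟩ := hT.fx_Wr (fun e : u = 0 => hu (by rw [e, hT.hh.zero_left])) hxW (hM.iso_mem hxM) hx.2
    rw [← map_mul, ← map_mul] at hxv
    obtain ⟨r, hr, hBv⟩ := hT.eig_of_comm_rf hv (pe_injective i hxv)
    rw [← map_pow, ← map_one (pe (F := F) (κ := κ) (β := β) i)] at hn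
    have h5 := congrArg Units.val (pe_injective i hn)
    rw [Units.val_pow_eq_pow_val, Units.val_one] at h5
    have hpow : ∀ m : ℕ, ((B : Mb) ^ m) *ᵥ v = r ^ m • v := fun m => by
      induction m with
      | zero => rw [pow_zero, pow_zero, Matrix.one_mulVec, one_smul]
      | succ m ih => rw [pow_succ', ← Matrix.mulVec_mulVec, ih, Matrix.mulVec_smul, hBv, smul_smul, ← pow_succ]
    have hr1 : r = 1 := by
      have h6 := hpow (p ^ n)
      rw [h5, Matrix.one_mulVec] at h6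
      have h7 : r ^ p ^ n = 1 := smul_left_injective F (fun e : v = 0 => hv (by rw [e, hT.hh.zero_left]))
        (show r ^ p ^ n • v = (1 : F) • v by rw [one_smul]; exact h6.symm)
      have h8 : (r - 1) ^ p ^ n = 0 := by rw [sub_pow_char_pow, one_pow, h7, sub_self]
      exact sub_eq_zero.1 (pow_eq_zero_iff (pow_ne_zero _ (Fact.out (p := p.Prime)).ne_zero) |>.1 h8)
    rw [hT.eq_one_of_fix_two h4 hB hv hu hvu (by rw [hBv, hr1, one_smul]) hBu (m := p ^ n)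
      (by rw [sub_pow_char_pow_of_commute (p := p) (h := Commute.one_right _), one_pow, h5, sub_self]), map_one]

variable (ht : 3 ≤ Fintype.card κ)
include ht

theorem rf_mem (i : κ) {v : W} (hv : h v v ≠ 0) :
    pe i (rf hM.data v) ∈ M ∧ pe i (rf hM.data v) ∈ Wr F κ β :=
  ⟨hM.pe_mem (hM.data.refl_mem ⟨2, by omega⟩ ht i hv (hM.data.rf_iso v) (hM.data.rf_apply hv)),
    TensorPow.pe_mem _ _⟩

/-- The members fixing the tensors of an anisotropic vector at a factor stabilise the decomposition. -/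
theorem fx_le4 {i : κ} {v : W} (hv : h v v ≠ 0) {g : GL X F} (hg : g ∈ M) (hfx : g ∈ Fx F i v) :
    g ∈ Wr F κ β := by
  classical
  have hT := hM.data
  have hs := hT.hh
  haveI := hT.nontriv h4
  haveI : Nonempty β := Fintype.card_pos_iff.1 (by omega)
  obtain ⟨l, hli⟩ := nonempty_rst hM.ht i
  obtain ⟨ν, hν⟩ : ∃ ν : F, ¬ IsSquare ν := FiniteField.exists_nonsquare fun e2 => hT.two (by
    haveI := ringChar.of_eq e2; exact CharTwo.two_eq_zero)
  have hν0 : ν ≠ 0 := fun e => hν ⟨0, by rw [e, mul_zero]⟩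
  obtain ⟨U, hU, hd, hmem⟩ := hT.exists_perpN h4 1 ![v] (fun a b hab => absurd (Subsingleton.elim a b) hab)
    (fun a => by fin_cases a; exact hv)
  obtain ⟨u, hu, huu⟩ := hT.exists_val hU (by omega) (one_ne_zero (α := F))
  obtain ⟨u₂, hu₂, huu₂⟩ := hT.exists_val hU (by omega) hν0
  have huv : h u v = 0 := (hmem u).1 hu 0
  have hu₂v : h u₂ v = 0 := (hmem u₂).1 hu₂ 0
  have hu1 : h u u ≠ 0 := by rw [huu]; exact one_ne_zero
  have hu21 : h u₂ u₂ ≠ 0 := by rw [huu₂]; exact hν0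
  obtain ⟨K, hK⟩ : ∃ K : Subgroup (GL X F), K = M ⊓ Fx F i v := ⟨_, rfl⟩
  have hKm : ∀ k ∈ K, k ∈ M ∧ k ∈ Fx F i v ∧ k * pe i (rf hT v) = pe i (rf hT v) * k := fun k hk => by
    rw [hK] at hk
    exact ⟨hk.1, hk.2, hT.fx_comm hv (hM.iso_mem hk.1) hk.2⟩
  have hfxrf : ∀ w, h w v = 0 → h w w ≠ 0 → pe i (rf hT w) ∈ K := fun w hw hww => hK ▸ Subgroup.mem_inf.2
    ⟨(hM.rf_mem h4 ht i hww).1, fun t ht' => fixed_of_mem_line
      (hT.rf_perp hww (show h v w = 0 by rw [hs.symm, hw])) ht'⟩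
  obtain ⟨P, hP, -, -, -⟩ := hT.exists_pure_perp h4 l hv
  obtain ⟨x, hx⟩ : ∃ x, x = pe l P := ⟨_, rfl⟩
  rw [← hx] at hP
  have hxM := (hM.pure_mem h4 hP).1
  have hxc : ∀ A, x * pe i A = pe i A * x := fun A => hx ▸ pe_comm hli P A
  -- elements of `K` conjugating into elements at the factor
  have hback : ∀ k ∈ K, ∀ {a : W}, h a a ≠ 0 → h v a = 0 → ∀ A,
      k * pe i (rf hT a) * k⁻¹ = pe i A → k ∈ Wr F κ β := by
    intro k hk a ha hva A e
    have h5 : k⁻¹ * x * k ∈ Wr F κ β := by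
      refine hM.cent_two_rf h4 (i := i) hv ha hva (mul_mem (mul_mem (inv_mem (hKm k hk).1) hxM) (hKm k hk).1) ?_ ?_
      · exact (((Commute.inv_left (hKm k hk).2.2).mul_left (hxc _)).mul_left (hKm k hk).2.2).eq
      · refine comm_conj (Q := x) ?_
        rw [e, hxc]
    have := hM.fus_pure h4 hP (inv_mem (hKm k hk).1) (by rwa [inv_inv])
    simpa using (Wr F κ β).inv_mem this
  have hnc : ∀ k ∈ K, k * pe i (rf hT u) * k⁻¹ ≠ pe i (rf hT u₂) := by
    intro k hk e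
    obtain ⟨B, hB, -, rfl⟩ := hT.fx_Wr (fun e : v = 0 => hv (by rw [e, hs.zero_left]))
      (hback k hk hu1 (by rw [hs.symm, huv]) _ e) (hM.iso_mem (hKm k hk).1) (hKm k hk).2.1
    rw [← map_inv, ← map_mul, ← map_mul, hT.rf_conj h4 (sim_one_of_iso hB) hu1] at e
    obtain ⟨r, -, hr⟩ := hT.rf_inj (by rw [hB]; exact hu1) hu21 (pe_injective i e)
    exact hν ⟨r, by rw [← huu₂, hr, hs.smul_left, hs.smul_right, hB, huu]; ring⟩
  obtain ⟨a, ha⟩ : ∃ a, a = pe (κ := κ) i (rf hT u) := ⟨_, rfl⟩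
  obtain ⟨b, hb⟩ : ∃ b, b = g * pe i (rf hT u₂) * g⁻¹ := ⟨_, rfl⟩
  have hgK : g ∈ K := hK ▸ Subgroup.mem_inf.2 ⟨hg, hfx⟩
  have haK : a ∈ K := ha ▸ hfxrf u huv hu1
  have hbK : b ∈ K := hb ▸ mul_mem (mul_mem hgK (hfxrf u₂ hu₂v hu21)) (inv_mem hgK)
  have haa : a * a = 1 := ha ▸ hT.pe_rf_sq i hu1
  have hbb : b * b = 1 := hb ▸ conj_invol (hT.pe_rf_sq i hu21)
  obtain ⟨w, hwK, hw1, hwa, hwb, hcase⟩ := dih_split haa hbb haK hbK fun k hk e => hnc (g⁻¹ * k)
    (mul_mem (inv_mem hgK) hk) (by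
      rw [show g⁻¹ * k * pe i (rf hT u) * (g⁻¹ * k)⁻¹ = g⁻¹ * (k * pe i (rf hT u) * k⁻¹) * g by group, ← ha, e, hb]
      group)
  obtain ⟨hwM, hwfx, hwv⟩ := hKm w hwK
  have hww : w * w = 1 := by
    have h5 : (a * w) * (a * w) = 1 := by
      rcases hcase with ⟨k, -, e, -⟩ | ⟨k, -, e, -⟩
      · rw [← e]; exact conj_invol haa
      · rw [← e]; exact conj_invol hbb
    rwa [mul_assoc, ← mul_assoc w, hwa, mul_assoc a w w, ← mul_assoc, haa, one_mul] at h5
  have hwW : w ∈ Wr F κ β := hM.cent_two_rf h4 hv hu1 (by rw [hs.symm, huv]) hwM hwv (ha ▸ hwa)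
  obtain ⟨B, hB, hBv, rfl⟩ := hT.fx_Wr (fun e : v = 0 => hv (by rw [e, hs.zero_left])) hwW (hM.iso_mem hwM) hwfx
  rw [← map_mul, ← map_one (pe (F := F) (κ := κ) (β := β) i)] at hww
  have hBB : B * B = 1 := pe_injective i hww
  have hBu : (B : Mb) *ᵥ u = u ∨ (B : Mb) *ᵥ u = -u := by
    rw [ha, ← map_mul, ← map_mul] at hwa
    obtain ⟨r, -, hr⟩ := hT.eig_of_comm_rf hu1 (pe_injective i hwa)
    have h5 := hB u u
    rw [hr, hs.smul_left, hs.smul_right, huu, mul_one] at h5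
    rcases mul_self_eq_one_iff.1 h5 with e | e <;> rw [e] at hr
    · exact Or.inl (by rwa [one_smul] at hr)
    · exact Or.inr (by rwa [neg_one_smul] at hr)
  obtain ⟨e, S, he, hev, hS⟩ := hT.invol_dg h4 hB hBB (show 2 ≤ 4 by omega) ![v, u]
    (fun p q hpq => by
      fin_cases p <;> fin_cases q <;> first | exact absurd rfl hpq | simpa [hs.symm v u] using huv | simpa using huv)
    (fun p => by fin_cases p <;> simp [hv, hu1])
    (fun p => by fin_cases p <;> simp [hBv, hBu])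
  have he0 : e 0 = v := hev 0
  have he1 : e 1 = u := hev 1
  have hS0 : (0 : Fin 4) ∉ S := fun h0 => by
    have h5 := hS 0
    rw [sgS, if_pos h0, he0, hBv, neg_one_smul, eq_neg_iff_add_eq_zero, ← two_smul F, smul_eq_zero] at h5
    exact hv (by rw [h5.resolve_left hT.two, hs.zero_left])
  have htr : ((rf hT u * B : GL β F) : Mb).trace = 2 := by
    rcases hcase with ⟨k, -, e', -⟩ | ⟨k, -, e', -⟩
    · rw [← hT.trace_rf h4 hu1]
      refine hT.trace_pe_inj h4 (i := i) (j := i) ?_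
      rw [map_mul, ← ha, ← e', trace_conj]
    · rw [← hT.trace_rf h4 hu21]
      refine hT.trace_pe_inj h4 (i := i) (j := i) ?_
      rw [map_mul, ← ha, ← e', trace_conj, hb, trace_conj]
  have hD : Dg e (symmDiff {1} S) (rf hT u * B) := by
    have h5 := Dg.rf hT he 1
    rw [he1] at h5
    exact h5.mul hS
  rw [hT.trace_dg h4 he hD] at htr
  obtain ⟨j, j', hSj, hneg⟩ : ∃ j j' : Fin 4, S = {1, j} ∧ ({0, 1, j} : Finset (Fin 4))ᶜ = {j'} := by
    have key : ∀ S : Finset (Fin 4), 0 ∉ S → S ≠ ∅ → (symmDiff {1} S).card = 1 →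
        ∃ j j' : Fin 4, S = {1, j} ∧ ({0, 1, j} : Finset (Fin 4))ᶜ = {j'} := by decide
    have hle : (symmDiff {1} S).card ≤ 3 := (by decide : ∀ S : Finset (Fin 4), 0 ∉ S → (symmDiff {1} S).card ≤ 3) S hS0
    refine key S hS0 (fun e' => hw1 ?_) ?_
    · rw [Dg.unique hT he h4 hS (e' ▸ Dg.one e), map_one]
    · have h5 : (2 : F) * (1 - ((symmDiff {1} S).card : F)) = 0 := by linear_combination htr
      have h6 := (mul_eq_zero.1 h5).resolve_left hT.two
      generalize (symmDiff {1} S).card = n at hle h6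
      interval_cases n
      · simp at h6
      · rfl
      · norm_num at h6
      · norm_num at h6
        exact absurd h6 hT.two
  obtain ⟨u', hu'⟩ : ∃ u', u' = e j' := ⟨_, rfl⟩
  have hu'1 : h u' u' ≠ 0 := hu' ▸ he.ne j'
  have hj'0 : j' ≠ 0 := fun e' => by
    have : (0 : Fin 4) ∈ ({0, 1, j} : Finset (Fin 4))ᶜ := by rw [hneg, e']; simp
    simp at this
  have hu'v : h v u' = 0 := by rw [hu', ← he0]; exact he.orth 0 j' hj'0.symm
  have hrf : rf hT u' = -(rf hT v * B) := by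
    have h5 := Dg.rf hT he 0
    rw [he0] at h5
    have h6 := (h5.mul hS).neg
    rw [show symmDiff ({0} : Finset (Fin 4)) S = {0, 1, j} by
      rw [hSj]
      ext t
      simp only [Finset.mem_symmDiff, Finset.mem_singleton, Finset.mem_insert]
      constructor
      · rintro (⟨rfl, -⟩ | ⟨h7, -⟩) <;> tauto
      · rintro (rfl | h7)
        · left; exact ⟨rfl, by simpa [hSj] using hS0⟩
        · right; exact ⟨h7, fun e' => hS0 (by rw [← e', hSj]; simpa using h7)⟩, hneg] at h6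
    rw [hu']
    exact Dg.unique hT he h4 (Dg.rf hT he j') h6
  obtain ⟨hbM, hbfx, hbv⟩ := hKm b hbK
  have hbW : b ∈ Wr F κ β := hM.cent_two_rf h4 hv hu'1 hu'v hbM hbv (by
    rw [hrf, pe_neg, map_mul, mul_neg, neg_mul, ← mul_assoc, hbv, mul_assoc, ← hwb, ← mul_assoc])
  obtain ⟨B', -, -, hB'⟩ := hT.fx_Wr (fun e : v = 0 => hv (by rw [e, hs.zero_left])) hbW (hM.iso_mem hbM) hbfx
  exact hback g hgK hu21 (by rw [hs.symm, hu₂v]) B' (hb ▸ hB')

/-- The centraliser of a reflection at a factor. -/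
theorem cent_rf {i : κ} {v : W} (hv : h v v ≠ 0) : Cen M (pe i (rf hM.data v)) := by
  intro g hg hc
  have hT := hM.data
  obtain ⟨N, hN⟩ : ∃ N : Subgroup (GL X F), N = M ⊓ Subgroup.centralizer {pe i (rf hT v)} := ⟨_, rfl⟩
  have hmem : ∀ k, k ∈ N ↔ k ∈ M ∧ k * pe i (rf hT v) = pe i (rf hT v) * k := fun k => by
    rw [hN, Subgroup.mem_inf, Subgroup.mem_centralizer_singleton_iff]
  exact hM.res_le h4 hv (i := i) (N := N) (fun k hk => ((hmem k).1 hk).1)
    (fun k hk t ht' => hT.line_of_comm hv ((hmem k).1 hk).2 ht')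
    (fun A hA hAG => (hmem _).2 ⟨hM.mem ⟨emb_mem_Wr hA, hT.emb_GT hAG⟩, emb_pe_comm A _⟩)
    (fun k hk hkfx => hM.fx_le4 h4 ht hv ((hmem k).1 hk).1 hkfx) ((hmem g).2 ⟨hg, hc⟩)

/-- A member conjugating a reflection at a factor to an element fixing a factor. -/
theorem fus_rf {i : κ} {v : W} (hv : h v v ≠ 0) {g : GL X F} (hg : g ∈ M)
    (hy : g * pe i (rf hM.data v) * g⁻¹ ∈ Wr F κ β) {l : κ} {U : GL β F} (hU : ∀ r : F, (U : Mb) ≠ r • 1)
    (hc : g * pe i (rf hM.data v) * g⁻¹ * pe l U = pe l U * (g * pe i (rf hM.data v) * g⁻¹)) : g ∈ Wr F κ β := by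
  have hT := hM.data
  haveI := hT.nontriv h4
  obtain ⟨σ, gs, e, hσ, -⟩ := slot_fix hy hU hc
  exact hM.fus_good h4 (hM.cent_rf h4 ht hv) (hM.rf_mem h4 ht i hv).1 (hT.pe_rf_sq i hv)
    (hT.trace_pe_rf_ne h4 i hv) hg e hσ

/-- The centraliser of a product of two reflections at one factor. -/
theorem cent_pl {i : κ} {v u : W} (hv : h v v ≠ 0) (hu : h u u ≠ 0) (hvu : h v u = 0) :
    Cen M (pe i (rf hM.data v * rf hM.data u)) := by
  classical
  intro g hg hgs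
  have hT := hM.data
  have hs := hT.hh
  haveI := hT.nontriv h4
  haveI : Nonempty β := Fintype.card_pos_iff.1 (by omega)
  obtain ⟨l, hli⟩ := nonempty_rst hM.ht i
  obtain ⟨e, he, he0, he1⟩ := hT.frame2 h4 hv hu hvu
  obtain ⟨σP, hσP⟩ : ∃ σP, σP = rf hT v * rf hT u := ⟨_, rfl⟩
  rw [← hσP] at hgs
  have hσns : ∀ r : F, (σP : Mb) ≠ r • 1 := hσP ▸ hT.pl_nonscalar h4 hv hu hvu
  obtain ⟨s, hs'⟩ : ∃ s, s = pe (κ := κ) i σP := ⟨_, rfl⟩
  obtain ⟨C, hC⟩ : ∃ C : Subgroup (GL X F), C = M ⊓ Subgroup.centralizer {s} := ⟨_, rfl⟩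
  have hmem : ∀ k, k ∈ C ↔ k ∈ M ∧ k * s = s * k := fun k => by
    rw [hC, Subgroup.mem_inf, Subgroup.mem_centralizer_singleton_iff]
  have he2v : h (e 2) v = 0 := he0 ▸ he.orth 2 0 (by decide)
  have he2u : h (e 2) u = 0 := he1 ▸ he.orth 2 1 (by decide)
  have hcv : rf hT v * σP = σP * rf hT v := by
    rw [hσP, mul_assoc, hT.rf_comm hv hu hvu]
  have hc2 : rf hT (e 2) * σP = σP * rf hT (e 2) := by
    rw [hσP, ← mul_assoc, hT.rf_comm (he.ne 2) hv he2v, mul_assoc, hT.rf_comm (he.ne 2) hu he2u, ← mul_assoc]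
  obtain ⟨a, ha⟩ : ∃ a, a = pe (κ := κ) i (rf hT v) := ⟨_, rfl⟩
  obtain ⟨a', ha'⟩ : ∃ a', a' = pe (κ := κ) i (rf hT (e 2)) := ⟨_, rfl⟩
  obtain ⟨b, hb⟩ : ∃ b, b = g * a' * g⁻¹ := ⟨_, rfl⟩
  have hgC : g ∈ C := (hmem g).2 ⟨hg, hs' ▸ hgs⟩
  have haC : a ∈ C := (hmem a).2 ⟨ha ▸ (hM.rf_mem h4 ht i hv).1, by rw [ha, hs', ← map_mul, ← map_mul, hcv]⟩
  have ha'C : a' ∈ C := (hmem a').2 ⟨ha' ▸ (hM.rf_mem h4 ht i (he.ne 2)).1, by
    rw [ha', hs', ← map_mul, ← map_mul, hc2]⟩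
  have hbC : b ∈ C := hb ▸ mul_mem (mul_mem hgC ha'C) (inv_mem hgC)
  have haa : a * a = 1 := ha ▸ hT.pe_rf_sq i hv
  have ha'a : a' * a' = 1 := ha' ▸ hT.pe_rf_sq i (he.ne 2)
  have hbb : b * b = 1 := hb ▸ conj_invol ha'a
  -- the conjugates of the two reflections by members of the stabiliser in `C`
  have himg : ∀ k ∈ C, k ∈ Wr F κ β → ∀ {q : W}, h q q ≠ 0 → ∃ B : GL β F, ∃ μ : F, Sim h μ B ∧
      B * σP = σP * B ∧ h ((B : Mb) *ᵥ q) ((B : Mb) *ᵥ q) ≠ 0 ∧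
      k * pe i (rf hT q) * k⁻¹ = pe i (rf hT ((B : Mb) *ᵥ q)) := by
    intro k hk hkW q hq
    obtain ⟨σ, gs, rfl, hσ, hcomm⟩ := slot_fix hkW hσns (hs' ▸ ((hmem k).1 hk).2)
    have hσ' : σ⁻¹ i = i := by conv_lhs => rw [← hσ, perm_inv_apply]
    obtain ⟨h5, h6⟩ := hT.conj_rf h4 (hM.iso_mem ((hmem _).1 hk).1) i hq
    rw [hσ'] at h5 h6
    obtain ⟨μ, hμ⟩ := hT.slot_simil (hM.iso_mem ((hmem _).1 hk).1) i
    exact ⟨gs i, μ, hμ, hcomm, h5, h6⟩
  obtain ⟨w, hwC, hw1, hwa, hwb, hcase⟩ := dih_split haa hbb haC hbC fun k hk ek => by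
    have hk' : g⁻¹ * k ∈ C := mul_mem (inv_mem hgC) hk
    have e5 : g⁻¹ * k * pe i (rf hT v) * (g⁻¹ * k)⁻¹ = a' := by
      rw [show g⁻¹ * k * pe i (rf hT v) * (g⁻¹ * k)⁻¹ = g⁻¹ * (k * pe i (rf hT v) * k⁻¹) * g by group, ← ha, ek, hb]
      group
    have hkW : g⁻¹ * k ∈ Wr F κ β := by
      obtain ⟨P, hP, -, -, -⟩ := hT.exists_pure_perp h4 l hv
      exact hM.fus4 h4 (hM.cent_rf h4 ht hv) ((hmem _).1 hk').1 hP
        (by rw [e5, ha']; exact (pe_comm hli P (rf hT (e 2))).symm)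
    obtain ⟨B, μ, -, hBc, hBv, e6⟩ := himg _ hk' hkW hv
    rw [e5, ha'] at e6
    obtain ⟨-, r, hr, hre⟩ := hT.pe_rf_inj h4 (he.ne 2) hBv e6
    obtain ⟨α, β', hab⟩ := hT.mem_of_comm_pl hv hu hvu (hσP ▸ hBc)
    rw [hab] at hre
    have k1 := congrArg (fun z => h z v) hre
    have k2 := congrArg (fun z => h z u) hre
    simp only [hs.add_left, hs.smul_left, hs.symm u v, hvu, he2v, he2u, mul_zero, add_zero, zero_add,
      mul_eq_zero] at k1 k2
    rw [k1.resolve_right hv, k2.resolve_right hu, zero_smul, zero_smul, add_zero] at hre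
    exact he.ne 2 (by rw [(smul_eq_zero.1 hre.symm).resolve_left hr, hs.zero_left])
  obtain ⟨hwM, hws⟩ := (hmem w).1 hwC
  have hwW : w ∈ Wr F κ β := hM.cent_rf h4 ht hv w hwM (ha ▸ hwa)
  have hawW : a * w ∈ Wr F κ β := mul_mem (ha ▸ TensorPow.pe_mem _ _) hwW
  have haws : a * w * s = s * (a * w) := by
    rw [mul_assoc, hws, ← mul_assoc, ((hmem a).1 haC).2, mul_assoc]
  rcases hcase with ⟨k, hk, e1, e2⟩ | ⟨k, hk, e1, -⟩
  · exfalso
    have hkW : k ∈ Wr F κ β := hM.fus_rf h4 ht hv ((hmem k).1 hk).1 (by rw [← ha, e1]; exact hawW) hσns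
      (by rw [← ha, e1, ← hs']; exact haws)
    obtain ⟨B, μ, -, hBc, hBv, e6⟩ := himg k hk hkW hv
    rw [← ha, e1] at e6
    obtain ⟨α, β', hab⟩ := hT.mem_of_comm_pl hv hu hvu (hσP ▸ hBc)
    obtain ⟨q, hq⟩ : ∃ q, q = (B : Mb) *ᵥ v := ⟨_, rfl⟩
    rw [← hq] at hab hBv e6
    have hwas : w = s := by
      have hw' : w = a * pe i (rf hT q) := by rw [← e6, ← mul_assoc, haa, one_mul]
      have hcomm : rf hT v * rf hT q = rf hT q * rf hT v := by
        have h5 : a * (a * w) = a * w * a := by rw [mul_assoc a w, hwa]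
        rw [e6, ha, ← map_mul, ← map_mul] at h5
        exact pe_injective i h5
      obtain ⟨r, -, hr⟩ := hT.eig_of_comm_rf hBv hcomm
      rw [hT.rf_apply hv, hab] at hr
      have k1 := congrArg (fun z => h z v) hr
      have k2 := congrArg (fun z => h z u) hr
      simp only [hs.sub_left, hs.add_left, hs.smul_left, hs.symm u v, hvu, mul_zero, add_zero, zero_add,
        sub_zero] at k1 k2
      rw [div_mul_cancel₀ _ hv] at k1
      by_cases hβ : β' = 0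
      · exfalso
        rw [hβ, zero_smul, add_zero] at hab
        have hα : α ≠ 0 := fun e' => hBv (by rw [hab, e', zero_smul, hs.zero_left])
        rw [hab, hT.rf_smul hv hα, ← ha, haa] at hw'
        exact hw1 hw'
      have hr1 : r = 1 := by
        refine (mul_right_cancel₀ (mul_ne_zero hβ hu) ?_).symm
        linear_combination k2
      rw [hr1] at k1
      have hα : α = 0 := by
        have : (2 : F) * (α * h v v) = 0 := by linear_combination -k1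
        exact (mul_eq_zero.1 ((mul_eq_zero.1 this).resolve_left hT.two)).resolve_right hv
      rw [hab, hα, zero_smul, zero_add, hT.rf_smul hu hβ, ha, ← map_mul, ← hσP, ← hs'] at hw'
      exact hw'
    have htr := congrArg (fun z : GL X F => (z : Mn).trace) e2
    rw [hwas] at htr
    rw [trace_conj, hb, show g * a' * g⁻¹ * s = g * (a' * s) * g⁻¹ by
      rw [mul_assoc _ g⁻¹ s, (Commute.inv_left (show g * s = s * g from hs' ▸ hgs)).eq]; group, trace_conj,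
      trace_conj, ha', hs', ← map_mul] at htr
    have h5 := hT.trace_pe_inj h4 htr
    have hD := (Dg.rf hT he 2).mul (hT.dg_pl he (show (0 : Fin 4) ≠ 1 by decide))
    rw [he0, he1, ← hσP] at hD
    rw [hT.trace_rf h4 (he.ne 2), hT.trace_dg h4 he hD,
      show (symmDiff ({2} : Finset (Fin 4)) {0, 1}).card = 3 by decide] at h5
    exact hT.four_ne (by norm_num at h5; linear_combination h5)
  · have hkgC : k * g ∈ C := mul_mem hk hgC
    have e3 : k * g * pe i (rf hT (e 2)) * (k * g)⁻¹ = a * w := by rw [← e1, hb, ha']; group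
    have hkW : k * g ∈ Wr F κ β := hM.fus_rf h4 ht (he.ne 2) ((hmem _).1 hkgC).1 (by rw [e3]; exact hawW) hσns
      (by rw [e3, ← hs']; exact haws)
    obtain ⟨B, μ, -, hBc, hBv, e6⟩ := himg _ hkgC hkW (he.ne 2)
    rw [e3] at e6
    obtain ⟨q, hq⟩ : ∃ q, q = (B : Mb) *ᵥ e 2 := ⟨_, rfl⟩
    rw [← hq] at hBv e6
    have hσq : (σP : Mb) *ᵥ q = q := by
      rw [hq, Matrix.mulVec_mulVec, ← Units.val_mul, ← hBc, Units.val_mul, ← Matrix.mulVec_mulVec, hσP, Units.val_mul,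
        ← Matrix.mulVec_mulVec, hT.rf_perp hu he2u, hT.rf_perp hv he2v]
    rw [hσP, Units.val_mul, ← Matrix.mulVec_mulVec, hT.rf_apply hu, Matrix.mulVec_sub, Matrix.mulVec_smul,
      hT.rf_perp hv (show h u v = 0 by rw [hs.symm, hvu]), hT.rf_apply hv, sub_sub, sub_eq_self] at hσq
    have hqv : h q v = 0 := by
      have k1 := congrArg (fun z => h z v) hσq
      simp only [hs.add_left, hs.smul_left, hs.zero_left, hs.symm u v, hvu, mul_zero, add_zero,
        div_mul_cancel₀ _ hv] at k1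
      exact (mul_eq_zero.1 k1).resolve_left hT.two
    have hqu : h q u = 0 := by
      have k1 := congrArg (fun z => h z u) hσq
      simp only [hs.add_left, hs.smul_left, hs.zero_left, hvu, mul_zero, zero_add, div_mul_cancel₀ _ hu] at k1
      exact (mul_eq_zero.1 k1).resolve_left hT.two
    have hw' : w = pe i (rf hT v * rf hT q) := by
      rw [map_mul, ← e6, ← ha, ← mul_assoc, haa, one_mul]
    obtain ⟨hbM, hbs⟩ := (hmem b).1 hbC
    obtain ⟨f, hf, -, hf0, hf1, hf2⟩ : ∃ f : Fin 4 → W, F4 h f ∧ True ∧ f 0 = v ∧ f 1 = u ∧ f 2 = q := by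
      obtain ⟨f, hf, hfv, -⟩ := hT.frame_ext h4 (one_mem (TensorOrth.iso h)) (one_mul 1) 1 3 rfl ![v, u, q]
        (fun p p' hpp => by
          fin_cases p <;> fin_cases p' <;> first
            | exact absurd rfl hpp
            | simp [hvu, hs.symm u v, hqv, hqu, hs.symm v q, hs.symm u q])
        (fun p => by fin_cases p <;> simp [hv, hu, hBv]) (fun p => Or.inl (by rw [Units.val_one, Matrix.one_mulVec]))
      exact ⟨f, hf, trivial, hfv 0, hfv 1, hfv 2⟩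
    have hpoly : (rf hT v : Mb) =
        1 - (2 : F)⁻¹ • ((1 - (σP : Mb)) * (1 - ((rf hT v * rf hT q : GL β F) : Mb))) := by
      refine hf.ext_mat hT h4 fun j => ?_
      have d0 := Dg.rf hT hf 0
      have d1 := hT.dg_pl hf (show (0 : Fin 4) ≠ 1 by decide)
      have d2 := hT.dg_pl hf (show (0 : Fin 4) ≠ 2 by decide)
      rw [hf0, hf1, ← hσP] at d1
      rw [hf0, hf2] at d2
      rw [hf0] at d0
      rw [d0 j, Matrix.sub_mulVec, Matrix.smul_mulVec, Matrix.one_mulVec, ← Matrix.mulVec_mulVec, Matrix.sub_mulVec,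
        Matrix.one_mulVec, Matrix.sub_mulVec, Matrix.one_mulVec, d2 j, Matrix.mulVec_sub, Matrix.mulVec_smul, d1 j]
      have h2 := hT.two
      have hne : ∀ a : Fin 4, a = 0 ∨ a = 1 ∨ a = 2 ∨ a = 3 := by decide
      rcases hne j with rfl | rfl | rfl | rfl <;> simp [sgS] <;> match_scalars <;> field_simp <;> ring
    have hba : b * pe i (rf hT v) = pe i (rf hT v) * b :=
      comm_of_two hT.two hpoly (hs' ▸ hbs) (by rw [← hw']; exact hwb.symm)
    have hbW : b ∈ Wr F κ β := hM.cent_rf h4 ht hv b hbM hba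
    exact hM.fus_rf h4 ht (he.ne 2) hg (by rw [← ha', ← hb]; exact hbW) hσns (by rw [← ha', ← hb, ← hs']; exact hbs)

/-- A member of the stabiliser commuting with a plane times a reflection at another factor keeps both. -/
theorem D_fix {i m : κ} (him : i ≠ m) {v u f : W} (hv : h v v ≠ 0) (hu : h u u ≠ 0) (hvu : h v u = 0) (hf : h f f ≠ 0)
    {k : GL X F} (hk : k ∈ Wr F κ β) (hki : k ∈ TensorOrth.iso (tf c h))
    (hc : k * (pe i (rf hM.data v * rf hM.data u) * pe m (rf hM.data f)) =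
      pe i (rf hM.data v * rf hM.data u) * pe m (rf hM.data f) * k) :
    ∃ σ gs, k = wgl σ gs ∧ σ m = m ∧ (gs m * rf hM.data f = rf hM.data f * gs m) ∧
      k * pe m (rf hM.data f) = pe m (rf hM.data f) * k := by
  classical
  have hT := hM.data
  haveI := hT.nontriv h4
  obtain ⟨σ, gs, rfl⟩ := hk
  have e : pe m (rf hT f) * pe i (rf hT v * rf hT u) =
      pe (σ⁻¹ m) (gs (σ⁻¹ m) * rf hT f * (gs (σ⁻¹ m))⁻¹) *
      pe (σ⁻¹ i) (gs (σ⁻¹ i) * (rf hT v * rf hT u) * (gs (σ⁻¹ i))⁻¹) := by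
    rw [← conj_pe, ← conj_pe, show ∀ k A B : GL X F, k * A * k⁻¹ * (k * B * k⁻¹) = k * (A * B) * k⁻¹ from
      fun k A B => by group, ← pe_comm him, hc, mul_inv_cancel_right]
  rcases wgl2_slot him.symm (fun e' => him.symm (σ⁻¹.injective e')) (hT.rf_nonscalar h4 hf) e with
    ⟨h1, r, hr⟩ | ⟨-, r, hr⟩
  · have hσ : σ m = m := by
      conv_lhs => rw [h1]
      exact perm_apply_inv σ m
    obtain ⟨hne, hconj⟩ := hT.conj_rf h4 hki m hf
    rw [← h1] at hr hconj hne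
    obtain ⟨μ, hμ⟩ := hT.slot_simil hki m
    have hcj := hT.rf_conj h4 hμ hf
    rw [hcj] at hr
    have htr := congrArg Matrix.trace hr
    rw [Matrix.trace_smul, hT.trace_rf h4 hne, hT.trace_rf h4 hf, smul_eq_mul] at htr
    have hr1 : r = 1 := (mul_right_cancel₀ hT.two (by linear_combination htr)).symm
    have heq : rf hT ((gs m : Mb) *ᵥ f) = rf hT f := Units.ext (by rw [hr, hr1, one_smul])
    refine ⟨σ, gs, rfl, hσ, mul_inv_eq_iff_eq_mul.1 (hcj.trans heq), ?_⟩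
    rw [heq] at hconj
    exact mul_inv_eq_iff_eq_mul.1 hconj
  · exfalso
    have htr := congrArg Matrix.trace hr
    rw [Units.val_mul, Units.val_mul, Matrix.trace_units_conj, hT.trace_pl h4 hv hu hvu, Matrix.trace_smul,
      hT.trace_rf h4 hf, smul_eq_mul] at htr
    refine Units.ne_zero (gs (σ⁻¹ i) * (rf hT v * rf hT u) * (gs (σ⁻¹ i))⁻¹) ?_
    rw [hr, (mul_eq_zero.1 htr.symm).resolve_right hT.two, zero_smul]

/-- The centraliser of a plane times a reflection at another factor. -/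
theorem cent_D {i m : κ} (him : i ≠ m) {v u f : W} (hv : h v v ≠ 0) (hu : h u u ≠ 0) (hvu : h v u = 0)
    (hf : h f f ≠ 0) : Cen M (pe i (rf hM.data v * rf hM.data u) * pe m (rf hM.data f)) := by
  classical
  intro g hg hgD
  have hT := hM.data
  have hs := hT.hh
  haveI := hT.nontriv h4
  haveI : Nonempty β := Fintype.card_pos_iff.1 (by omega)
  obtain ⟨e, he, he0⟩ := hT.frame1 h4 hf
  have he1f : h (e 1) f = 0 := he0 ▸ he.orth 1 0 (by decide)
  obtain ⟨D, hD⟩ : ∃ D, D = pe (κ := κ) i (rf hT v * rf hT u) * pe m (rf hT f) := ⟨_, rfl⟩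
  rw [← hD] at hgD
  obtain ⟨C, hC⟩ : ∃ C : Subgroup (GL X F), C = M ⊓ Subgroup.centralizer {D} := ⟨_, rfl⟩
  have hmem : ∀ k, k ∈ C ↔ k ∈ M ∧ k * D = D * k := fun k => by
    rw [hC, Subgroup.mem_inf, Subgroup.mem_centralizer_singleton_iff]
  have hfix : ∀ k ∈ C, k ∈ Wr F κ β → ∃ σ gs, k = wgl σ gs ∧ σ m = m ∧ gs m * rf hT f = rf hT f * gs m ∧
      k * pe m (rf hT f) = pe m (rf hT f) * k := fun k hk hkW =>
    hM.D_fix h4 ht him hv hu hvu hf hkW (hM.iso_mem ((hmem k).1 hk).1) (hD ▸ ((hmem k).1 hk).2)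
  obtain ⟨a, ha⟩ : ∃ a, a = pe (κ := κ) m (rf hT f) := ⟨_, rfl⟩
  obtain ⟨a', ha'⟩ : ∃ a', a' = pe (κ := κ) m (rf hT (e 1)) := ⟨_, rfl⟩
  obtain ⟨b, hb⟩ : ∃ b, b = g * a' * g⁻¹ := ⟨_, rfl⟩
  have hcD : ∀ A : GL β F, A * rf hT f = rf hT f * A → pe m A * D = D * pe m A := fun A hA => by
    rw [hD, ← mul_assoc, ← pe_comm him, mul_assoc, ← map_mul, hA, map_mul (pe m), ← mul_assoc]
  have haC : a ∈ C := (hmem a).2 ⟨ha ▸ (hM.rf_mem h4 ht m hf).1, ha ▸ hcD _ rfl⟩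
  have ha'C : a' ∈ C := (hmem a').2 ⟨ha' ▸ (hM.rf_mem h4 ht m (he.ne 1)).1,
    ha' ▸ hcD _ (hT.rf_comm (he.ne 1) hf he1f)⟩
  have hgC : g ∈ C := (hmem g).2 ⟨hg, hgD⟩
  have hbC : b ∈ C := hb ▸ mul_mem (mul_mem hgC ha'C) (inv_mem hgC)
  have haa : a * a = 1 := ha ▸ hT.pe_rf_sq m hf
  have hbb : b * b = 1 := hb ▸ conj_invol (ha' ▸ hT.pe_rf_sq m (he.ne 1))
  obtain ⟨w, hwC, hw1, hwa, hwb, hcase⟩ := dih_split haa hbb haC hbC fun k hk ek => by
    have hk' : g⁻¹ * k ∈ C := mul_mem (inv_mem hgC) hk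
    have e5 : g⁻¹ * k * pe m (rf hT f) * (g⁻¹ * k)⁻¹ = a' := by
      rw [show g⁻¹ * k * pe m (rf hT f) * (g⁻¹ * k)⁻¹ = g⁻¹ * (k * pe m (rf hT f) * k⁻¹) * g by group, ← ha, ek, hb]
      group
    have hkW : g⁻¹ * k ∈ Wr F κ β := hM.fus_rf h4 ht hf ((hmem _).1 hk').1
      (by rw [e5, ha']; exact TensorPow.pe_mem _ _) (hT.rf_nonscalar h4 hf)
      (by rw [e5, ha', ← map_mul, ← map_mul, hT.rf_comm (he.ne 1) hf he1f])
    obtain ⟨σ, gs, -, -, -, hc⟩ := hfix _ hk' hkW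
    rw [hc, mul_inv_cancel_right, ha'] at e5
    obtain ⟨-, r, -, hr⟩ := hT.pe_rf_inj h4 hf (he.ne 1) e5
    rw [hr, hs.smul_left, mul_eq_zero] at he1f
    rcases he1f with e' | e'
    · exact he.ne 1 (by rw [hr, e', zero_smul, hs.zero_left])
    · exact hf e'
  obtain ⟨hwM, hwD⟩ := (hmem w).1 hwC
  have hwW : w ∈ Wr F κ β := hM.cent_rf h4 ht hf w hwM (ha ▸ hwa)
  have hawW : a * w ∈ Wr F κ β := mul_mem (ha ▸ TensorPow.pe_mem _ _) hwW
  have hawa : a * w * pe m (rf hT f) = pe m (rf hT f) * (a * w) := by rw [← ha, mul_assoc, hwa]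
  rcases hcase with ⟨k, hk, e1, -⟩ | ⟨k, hk, e1, -⟩
  · exfalso
    have hkW : k ∈ Wr F κ β := hM.fus_rf h4 ht hf ((hmem k).1 hk).1 (by rw [← ha, e1]; exact hawW)
      (hT.rf_nonscalar h4 hf) (by rw [← ha, e1, ha]; exact ha ▸ hawa)
    obtain ⟨σ, gs, -, -, -, hc⟩ := hfix k hk hkW
    rw [ha, hc, mul_inv_cancel_right, left_eq_mul] at e1
    exact hw1 e1
  · have hkgC : k * g ∈ C := mul_mem hk hgC
    have e3 : k * g * pe m (rf hT (e 1)) * (k * g)⁻¹ = a * w := by rw [← e1, hb, ha']; group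
    have hkW : k * g ∈ Wr F κ β := hM.fus_rf h4 ht (he.ne 1) ((hmem _).1 hkgC).1 (by rw [e3]; exact hawW)
      (hT.rf_nonscalar h4 hf) (by rw [e3]; exact hawa)
    obtain ⟨σ, gs, hkg, hσ, hcomm, -⟩ := hfix _ hkgC hkW
    have hki := hM.iso_mem ((hmem _).1 hkgC).1
    rw [hkg] at e3 hki
    obtain ⟨hne, e6⟩ := hT.conj_rf h4 hki m (he.ne 1)
    have hσ' : σ⁻¹ m = m := by conv_lhs => rw [← hσ, perm_inv_apply]
    rw [hσ'] at hne e6
    rw [e3] at e6
    obtain ⟨q, hq⟩ : ∃ q, q = (gs m : Mb) *ᵥ e 1 := ⟨_, rfl⟩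
    rw [← hq] at e6 hne
    obtain ⟨r, hr, hrf⟩ := hT.eig_of_comm_rf hf hcomm
    obtain ⟨μ, hμ⟩ := hT.slot_simil hki m
    have hfq : h f q = 0 := by
      have h5 := hμ f (e 1)
      rw [hrf, ← hq, hs.smul_left, hs.symm f (e 1), he1f, mul_zero] at h5
      exact (mul_eq_zero.1 h5).resolve_left hr
    have hw' : w = pe m (rf hT f * rf hT q) := by
      rw [map_mul, ← e6, ← ha, ← mul_assoc, haa, one_mul]
    have hbM := ((hmem b).1 hbC).1
    have hbc : b * pe m (rf hT f * rf hT q) = pe m (rf hT f * rf hT q) * b := by rw [← hw']; exact hwb.symm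
    have hbW : b ∈ Wr F κ β := hM.cent_pl h4 ht hf hne hfq b hbM hbc
    exact hM.fus_rf h4 ht (he.ne 1) hg (by rw [← ha', ← hb]; exact hbW) (hT.pl_nonscalar h4 hf hne hfq)
      (by rw [← ha', ← hb]; exact hbc)

/-- The centraliser of reflections at two factors. -/
theorem cent_aa {i m : κ} (him : i ≠ m) {v f : W} (hv : h v v ≠ 0) (hf : h f f ≠ 0) :
    Cen M (pe i (rf hM.data v) * pe m (rf hM.data f)) := by
  classical
  intro g hg hgD
  have hT := hM.data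
  have hs := hT.hh
  haveI := hT.nontriv h4
  haveI : Nonempty β := Fintype.card_pos_iff.1 (by omega)
  obtain ⟨e, he, he0⟩ := hT.frame1 h4 hv
  have he1v : h v (e 1) = 0 := he0 ▸ he.orth 0 1 (by decide)
  obtain ⟨a, ha⟩ : ∃ a, a = pe (κ := κ) i (rf hT v) := ⟨_, rfl⟩
  obtain ⟨a2, ha2⟩ : ∃ a2, a2 = pe (κ := κ) m (rf hT f) := ⟨_, rfl⟩
  obtain ⟨a', ha'⟩ : ∃ a', a' = pe (κ := κ) i (rf hT (e 1)) := ⟨_, rfl⟩
  obtain ⟨b, hb⟩ : ∃ b, b = g * a' * g⁻¹ := ⟨_, rfl⟩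
  obtain ⟨v0, hv0⟩ : ∃ v0, v0 = a * a2 := ⟨_, rfl⟩
  rw [← ha, ← ha2, ← hv0] at hgD
  have haa : a * a = 1 := ha ▸ hT.pe_rf_sq i hv
  have ha2a : a2 * a2 = 1 := ha2 ▸ hT.pe_rf_sq m hf
  have hca : a * a2 = a2 * a := by rw [ha, ha2]; exact pe_comm him _ _
  obtain ⟨C, hC⟩ : ∃ C : Subgroup (GL X F), C = M ⊓ Subgroup.centralizer {v0} := ⟨_, rfl⟩
  have hmem : ∀ k, k ∈ C ↔ k ∈ M ∧ k * v0 = v0 * k := fun k => by
    rw [hC, Subgroup.mem_inf, Subgroup.mem_centralizer_singleton_iff]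
  have hfix : ∀ k ∈ C, k ∈ Wr F κ β →
      k * a * k⁻¹ = a ∨ (k * a * k⁻¹ = a2 ∧ k * a2 * k⁻¹ = a) := by
    intro k hk hkW
    obtain ⟨hkM, hkc⟩ := (hmem k).1 hk
    obtain ⟨σ, gs, rfl⟩ := hkW
    obtain ⟨hn1, c1⟩ := hT.conj_rf h4 (hM.iso_mem hkM) i hv
    obtain ⟨hn2, c2⟩ := hT.conj_rf h4 (hM.iso_mem hkM) m hf
    rw [← ha] at c1
    rw [← ha2] at c2
    have e5 : wgl σ gs * a * (wgl σ gs)⁻¹ * (wgl σ gs * a2 * (wgl σ gs)⁻¹) = a * a2 := by
      rw [show ∀ k A B : GL X F, k * A * k⁻¹ * (k * B * k⁻¹) = k * (A * B) * k⁻¹ from fun k A B => by group,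
        ← hv0, hkc, mul_inv_cancel_right]
    have e6 := e5
    rw [c1, c2, ha, ha2] at e6
    have hone : ∀ {p : W} {r : F}, h p p ≠ 0 → (rf hT p : Mb) = r • (rf hT v : Mb) → rf hT p = rf hT v := by
      intro p r hp hr
      have htr := congrArg Matrix.trace hr
      rw [Matrix.trace_smul, hT.trace_rf h4 hp, hT.trace_rf h4 hv, smul_eq_mul] at htr
      have hr1 : r = 1 := (mul_right_cancel₀ hT.two (by linear_combination htr)).symm
      exact Units.ext (by rw [hr, hr1, one_smul])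
    rcases wgl2_slot him (fun e' => him (σ⁻¹.injective e')) (hT.rf_nonscalar h4 hv) e6.symm with
      ⟨h1, r, hr⟩ | ⟨h1, r, hr⟩
    · left
      rw [c1, ← h1, ha]
      rw [← h1] at hr hn1
      rw [hone hn1 hr]
    · right
      have c3 : wgl σ gs * a2 * (wgl σ gs)⁻¹ = a := by
        rw [c2, ← h1, ha]
        rw [← h1] at hr hn2
        rw [hone hn2 hr]
      refine ⟨?_, c3⟩
      rw [c3] at e5
      calc wgl σ gs * a * (wgl σ gs)⁻¹ = wgl σ gs * a * (wgl σ gs)⁻¹ * (a * a) := by rw [haa, mul_one]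
        _ = a * a2 * a := by rw [← mul_assoc, e5]
        _ = a2 := by rw [hca, mul_assoc, haa, mul_one]
  have hcm : ∀ A : GL β F, A * rf hT v = rf hT v * A → pe i A * v0 = v0 * pe i A := fun A hA => by
    rw [hv0, ha, ha2, mul_assoc, ← pe_comm him, ← mul_assoc, ← map_mul, hA, map_mul, mul_assoc]
  have haC : a ∈ C := (hmem a).2 ⟨ha ▸ (hM.rf_mem h4 ht i hv).1, ha ▸ hcm _ rfl⟩
  have ha'C : a' ∈ C := (hmem a').2 ⟨ha' ▸ (hM.rf_mem h4 ht i (he.ne 1)).1,
    ha' ▸ hcm _ (hT.rf_comm (he.ne 1) hv (by rw [hs.symm, he1v]))⟩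
  have hgC : g ∈ C := (hmem g).2 ⟨hg, hgD⟩
  have hbC : b ∈ C := hb ▸ mul_mem (mul_mem hgC ha'C) (inv_mem hgC)
  have hbb : b * b = 1 := hb ▸ conj_invol (ha' ▸ hT.pe_rf_sq i (he.ne 1))
  obtain ⟨w, hwC, hw1, hwa, hwb, hcase⟩ := dih_split haa hbb haC hbC fun k hk ek => by
    have hk' : g⁻¹ * k ∈ C := mul_mem (inv_mem hgC) hk
    have e5 : g⁻¹ * k * a * (g⁻¹ * k)⁻¹ = a' := by
      rw [show g⁻¹ * k * a * (g⁻¹ * k)⁻¹ = g⁻¹ * (k * a * k⁻¹) * g by group, ek, hb]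
      group
    have hkW : g⁻¹ * k ∈ Wr F κ β := hM.fus_rf h4 ht hv ((hmem _).1 hk').1
      (by rw [← ha, e5, ha']; exact TensorPow.pe_mem _ _) (hT.rf_nonscalar h4 hv)
      (by rw [← ha, e5, ha', ha, ← map_mul, ← map_mul, hT.rf_comm (he.ne 1) hv (by rw [hs.symm, he1v])])
    rcases hfix _ hk' hkW with e7 | ⟨e7, -⟩ <;> rw [e5, ha'] at e7
    · rw [ha] at e7
      obtain ⟨-, r, -, hr⟩ := hT.pe_rf_inj h4 (he.ne 1) hv e7
      rw [hr, hs.smul_left, mul_eq_zero] at he1v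
      rcases he1v with e' | e'
      · exact hv (by rw [hr, e', zero_smul, hs.zero_left])
      · exact he.ne 1 e'
    · rw [ha2] at e7
      exact him (hT.pe_rf_inj h4 (he.ne 1) hf e7).1
  obtain ⟨hwM, hwv0⟩ := (hmem w).1 hwC
  have hwW : w ∈ Wr F κ β := hM.cent_rf h4 ht hv w hwM (ha ▸ hwa)
  have hawW : a * w ∈ Wr F κ β := mul_mem (ha ▸ TensorPow.pe_mem _ _) hwW
  have hawa : a * w * pe i (rf hT v) = pe i (rf hT v) * (a * w) := by rw [← ha, mul_assoc, hwa]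
  rcases hcase with ⟨k, hk, e1, e2⟩ | ⟨k, hk, e1, -⟩
  · exfalso
    have hkW : k ∈ Wr F κ β := hM.fus_rf h4 ht hv ((hmem k).1 hk).1 (by rw [← ha, e1]; exact hawW)
      (hT.rf_nonscalar h4 hv) (by rw [← ha, e1, ha]; exact ha ▸ hawa)
    rcases hfix k hk hkW with e' | ⟨e', -⟩ <;> rw [e1] at e'
    · exact hw1 (by rwa [mul_eq_left] at e')
    have hwv : w = v0 := by rw [hv0, ← e', ← mul_assoc, haa, one_mul]
    have htr := congrArg (fun z : GL X F => (z : Mn).trace) e2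
    rw [hwv] at htr
    rw [trace_conj, hb, show g * a' * g⁻¹ * v0 = g * (a' * v0) * g⁻¹ by
      rw [mul_assoc _ g⁻¹ v0, (Commute.inv_left (show g * v0 = v0 * g from hgD)).eq]; group, trace_conj,
      trace_conj, hv0, ← mul_assoc, ha', ha, ← map_mul, ha2, trace_pe2 him, hT.trace_pl h4 (he.ne 1) hv (by
        rw [hs.symm, he1v]), zero_mul, zero_mul] at htr
    exact hT.trace_pe_rf_ne h4 i (he.ne 1) htr
  · have hkgC : k * g ∈ C := mul_mem hk hgC
    have e3 : k * g * pe i (rf hT (e 1)) * (k * g)⁻¹ = a * w := by rw [← e1, hb, ha']; group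
    have hkW : k * g ∈ Wr F κ β := hM.fus_rf h4 ht (he.ne 1) ((hmem _).1 hkgC).1 (by rw [e3]; exact hawW)
      (hT.rf_nonscalar h4 hv) (by rw [e3]; exact hawa)
    have hki := hM.iso_mem ((hmem _).1 hkgC).1
    obtain ⟨σ, gs, hkg⟩ : ∃ σ gs, k * g = wgl σ gs := by obtain ⟨σ, gs, hh'⟩ := hkW; exact ⟨σ, gs, hh'⟩
    rw [hkg] at e3 hki
    obtain ⟨hne, e6⟩ := hT.conj_rf h4 hki i (he.ne 1)
    obtain ⟨hnv, c1⟩ := hT.conj_rf h4 hki i hv
    rw [e3] at e6
    obtain ⟨j, hj⟩ : ∃ j, j = σ⁻¹ i := ⟨_, rfl⟩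
    obtain ⟨q, hq⟩ : ∃ q, q = (gs j : Mb) *ᵥ e 1 := ⟨_, rfl⟩
    rw [← hj] at c1 e6 hne hnv
    rw [← hq] at e6 hne
    obtain ⟨μ, hμ⟩ := hT.slot_simil hki j
    have hperp : ∀ {p : W}, h p p ≠ 0 → rf hT ((gs j : Mb) *ᵥ v) = rf hT p → h p q = 0 := by
      intro p hp e'
      obtain ⟨r, hr, hre⟩ := hT.rf_inj hnv hp e'
      rw [hre, hs.smul_left, hq, hμ, he1v, mul_zero, mul_zero]
    obtain ⟨hbM, hbv0⟩ := (hmem b).1 hbC
    have hw' : w = a * pe j (rf hT q) := by rw [← e6, ← mul_assoc, haa, one_mul]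
    rcases hfix _ hkgC hkW with e' | ⟨e', -⟩ <;> rw [hkg] at e' <;> rw [← ha, e'] at c1
    · rw [ha] at c1
      obtain ⟨hji, r, hr, hre⟩ := hT.pe_rf_inj h4 hv hnv c1
      rw [← hji] at hw' c1
      have hvq : h v q = 0 := hperp hv (by rw [← hji]; exact (pe_injective i c1).symm)
      rw [ha, ← map_mul] at hw'
      have hbc : b * pe i (rf hT v * rf hT q) = pe i (rf hT v * rf hT q) * b := by rw [← hw']; exact hwb.symm
      have hbW : b ∈ Wr F κ β := hM.cent_pl h4 ht hv hne hvq b hbM hbc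
      exact hM.fus_rf h4 ht (he.ne 1) hg (by rw [← ha', ← hb]; exact hbW) (hT.pl_nonscalar h4 hv hne hvq)
        (by rw [← ha', ← hb]; exact hbc)
    · rw [ha2] at c1
      obtain ⟨hjm, r, hr, hre⟩ := hT.pe_rf_inj h4 hf hnv c1
      rw [← hjm] at hw' c1
      have hfq : h f q = 0 := hperp hf (by rw [← hjm]; exact (pe_injective m c1).symm)
      have hw'' : v0 * w = pe m (rf hT f * rf hT q) := by
        rw [hw', hv0, hca, mul_assoc, ← mul_assoc a a, haa, one_mul, ha2, map_mul]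
      have hbc : b * pe m (rf hT f * rf hT q) = pe m (rf hT f * rf hT q) * b := by
        rw [← hw'', ← mul_assoc, hbv0, mul_assoc, ← hwb, ← mul_assoc]
      have hbW : b ∈ Wr F κ β := hM.cent_pl h4 ht hf hne hfq b hbM hbc
      exact hM.fus_rf h4 ht (he.ne 1) hg (by rw [← ha', ← hb]; exact hbW) (hT.pl_nonscalar h4 hf hne hfq)
        (by rw [← ha', ← hb]; exact hbc)

/-- Planes at a factor are moved into the stabiliser. -/
theorem plane_or {g : GL X F} (hg : g ∈ M) {i : κ} {v u : W} (hv : h v v ≠ 0) (hu : h u u ≠ 0) (hvu : h v u = 0) :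
    g ∈ Wr F κ β ∨ g⁻¹ * pe i (rf hM.data v * rf hM.data u) * g ∈ Wr F κ β := by
  classical
  have hT := hM.data
  have hs := hT.hh
  haveI := hT.nontriv h4
  haveI : Nonempty β := Fintype.card_pos_iff.1 (by omega)
  obtain ⟨σP, hσP⟩ : ∃ σP, σP = rf hT v * rf hT u := ⟨_, rfl⟩
  rw [← hσP]
  have hσns : ∀ r : F, (σP : Mb) ≠ r • 1 := hσP ▸ hT.pl_nonscalar h4 hv hu hvu
  obtain ⟨s, hs'⟩ : ∃ s, s = pe (κ := κ) i σP := ⟨_, rfl⟩
  obtain ⟨a, ha⟩ : ∃ a, a = pe (κ := κ) i (rf hT v) := ⟨_, rfl⟩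
  obtain ⟨b, hb⟩ : ∃ b, b = g * a * g⁻¹ := ⟨_, rfl⟩
  rw [← hs']
  have hsM : s ∈ M := by
    rw [hs', hσP, map_mul]
    exact mul_mem (hM.rf_mem h4 ht i hv).1 (hM.rf_mem h4 ht i hu).1
  have haM : a ∈ M := ha ▸ (hM.rf_mem h4 ht i hv).1
  have hbM : b ∈ M := hb ▸ mul_mem (mul_mem hg haM) (inv_mem hg)
  have haa : a * a = 1 := ha ▸ hT.pe_rf_sq i hv
  have hss : s * s = 1 := by
    rw [hs', hσP, ← map_mul, mul_assoc, ← mul_assoc (rf hT u), hT.rf_comm hu hv (by rw [hs.symm, hvu]),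
      mul_assoc (rf hT v), hT.rf_sq hu, mul_one, hT.rf_sq hv, map_one]
  have hbb : b * b = 1 := hb ▸ conj_invol haa
  have hcs : Cen M s := by rw [hs', hσP]; exact hM.cent_pl h4 ht hv hu hvu
  obtain ⟨w, hwM, hw1, hws, hwb, hcase⟩ := dih_split hss hbb hsM hbM fun k _ ek => by
    have h5 := congrArg (fun z : GL X F => (z : Mn).trace) ek
    rw [trace_conj, hb, trace_conj, hs', ha] at h5
    have h6 := hT.trace_pe_inj h4 h5
    rw [hσP, hT.trace_pl h4 hv hu hvu, hT.trace_rf h4 hv] at h6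
    exact hT.two h6.symm
  have hwW : w ∈ Wr F κ β := hcs w hwM hws
  rcases hcase with ⟨k, hk, -, e2⟩ | ⟨k, hk, e1, -⟩
  · -- a conjugate of `w` centralises the reflection
    obtain ⟨w', hw'⟩ : ∃ w', w' = g⁻¹ * w * g := ⟨_, rfl⟩
    have hw'M : w' ∈ M := hw' ▸ mul_mem (mul_mem (inv_mem hg) hwM) hg
    have hw'a : w' * a = a * w' := hw' ▸ comm_conj (hb ▸ hwb.symm)
    have hw'1 : w' ≠ 1 := fun e => hw1 (by
      rw [hw', show g⁻¹ * w * g = g⁻¹ * w * g⁻¹⁻¹ by rw [inv_inv], conj_eq_one_iff] at e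
      exact e)
    have hw'W : w' ∈ Wr F κ β := hM.cent_rf h4 ht hv w' hw'M (ha ▸ hw'a)
    obtain ⟨k', hk'⟩ : ∃ k', k' = g⁻¹ * k * g := ⟨_, rfl⟩
    have hk'M : k' ∈ M := hk' ▸ mul_mem (mul_mem (inv_mem hg) hk) hg
    have e3 : k' * a * k'⁻¹ = a * w' := by
      rw [hk', hw', show g⁻¹ * k * g * a * (g⁻¹ * k * g)⁻¹ = g⁻¹ * (k * (g * a * g⁻¹) * k⁻¹) * g by group, ← hb, e2,
        hb]
      group
    have hyW : a * w' ∈ Wr F κ β := mul_mem (ha ▸ TensorPow.pe_mem _ _) hw'W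
    have hk'W : k' ∈ Wr F κ β := hM.fus_rf h4 ht hv hk'M (by rw [← ha, e3]; exact hyW) (hT.rf_nonscalar h4 hv)
      (by rw [← ha, e3, mul_assoc, hw'a])
    have hki := hM.iso_mem hk'M
    obtain ⟨σ, gs, rfl⟩ := hk'W
    obtain ⟨hne, c1⟩ := hT.conj_rf h4 hki i hv
    rw [← ha, e3] at c1
    obtain ⟨q, hq⟩ : ∃ q, q = (gs (σ⁻¹ i) : Mb) *ᵥ v := ⟨_, rfl⟩
    rw [← hq] at c1 hne
    have hw'' : w' = a * pe (σ⁻¹ i) (rf hT q) := by rw [← c1, ← mul_assoc, haa, one_mul]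
    have hfin : Cen M w' → g⁻¹ * s * g ∈ Wr F κ β := fun hc =>
      hc _ (mul_mem (mul_mem (inv_mem hg) hsM) hg) (by
        rw [hw', show g⁻¹ * s * g * (g⁻¹ * w * g) = g⁻¹ * (s * w) * g by group, ← hws]
        group)
    refine Or.inr (hfin ?_)
    by_cases hp : σ⁻¹ i = i
    · rw [hp] at hw'' c1
      rw [hw'', ha, ← map_mul]
      have hcomm : rf hT q * rf hT v = rf hT v * rf hT q := by
        have h5 : a * w' * a = a * (a * w') := by rw [mul_assoc, hw'a]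
        rw [c1, ha, ← map_mul, ← map_mul] at h5
        exact pe_injective i h5
      obtain ⟨r, -, hr⟩ := hT.eig_of_comm_rf hv hcomm
      rw [hT.rf_apply hne] at hr
      by_cases hvq : h v q = 0
      · exact hM.cent_pl h4 ht hv hne hvq
      exfalso
      have hco : (2 * h v q / h q q) ≠ 0 := div_ne_zero (mul_ne_zero hT.two hvq) hne
      have hqv : q = ((2 * h v q / h q q)⁻¹ * (1 - r)) • v := by
        rw [← smul_smul, sub_smul, one_smul, ← hr, sub_sub_cancel, inv_smul_smul₀ hco]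
      rw [hqv, hT.rf_smul hv (fun e' => hne (by rw [hqv, e', zero_smul, hs.zero_left])), ← ha, haa] at hw''
      exact hw'1 hw''
    · rw [hw'', ha]
      exact hM.cent_aa h4 ht (Ne.symm hp) hv hne
  · left
    have e3 : k * g * pe i (rf hT v) * (k * g)⁻¹ = s * w := by rw [← e1, hb, ha]; group
    have hyW : s * w ∈ Wr F κ β := mul_mem (hs' ▸ TensorPow.pe_mem _ _) hwW
    have hkgM : k * g ∈ M := mul_mem hk hg
    have hkW : k * g ∈ Wr F κ β := hM.fus_rf h4 ht hv hkgM (by rw [e3]; exact hyW) hσns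
      (by rw [e3, ← hs', mul_assoc, hws])
    have hki := hM.iso_mem hkgM
    obtain ⟨σ, gs, hkg⟩ : ∃ σ gs, k * g = wgl σ gs := by obtain ⟨σ, gs, hh'⟩ := hkW; exact ⟨σ, gs, hh'⟩
    rw [hkg] at e3 hki
    obtain ⟨hne, c1⟩ := hT.conj_rf h4 hki i hv
    rw [e3] at c1
    obtain ⟨q, hq⟩ : ∃ q, q = (gs (σ⁻¹ i) : Mb) *ᵥ v := ⟨_, rfl⟩
    rw [← hq] at c1 hne
    have hw' : w = s * pe (σ⁻¹ i) (rf hT q) := by rw [← c1, ← mul_assoc, hss, one_mul]
    by_cases hp : σ⁻¹ i = i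
    · rw [hp] at hw' c1
      rw [hs', ← map_mul] at hw'
      have hcomm : σP * rf hT q = rf hT q * σP := by
        have h5 : s * (s * w) = s * w * s := by rw [mul_assoc s w, hws]
        rw [c1, hs', ← map_mul, ← map_mul] at h5
        exact pe_injective i h5
      obtain ⟨r, hr0, hr⟩ := hT.eig_of_comm_rf hne hcomm
      rw [hσP, Units.val_mul, ← Matrix.mulVec_mulVec, hT.rf_apply hu, Matrix.mulVec_sub, Matrix.mulVec_smul,
        hT.rf_perp hv (show h u v = 0 by rw [hs.symm, hvu]), hT.rf_apply hv] at hr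
      by_cases hperp : h q v = 0 ∧ h q u = 0
      · obtain ⟨f, hf, hfv, -⟩ := hT.frame_ext h4 (one_mem (TensorOrth.iso h)) (one_mul 1) 1 3 rfl ![v, u, q]
          (fun p p' hpp => by
            fin_cases p <;> fin_cases p' <;> first
              | exact absurd rfl hpp
              | simp [hvu, hs.symm u v, hperp.1, hperp.2, hs.symm v q, hs.symm u q])
          (fun p => by fin_cases p <;> simp [hv, hu, hne])
          (fun p => Or.inl (by rw [Units.val_one, Matrix.one_mulVec]))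
        have hf0 : f 0 = v := hfv 0
        have hf1 : f 1 = u := hfv 1
        have hf2 : f 2 = q := hfv 2
        have hD := (hT.dg_pl hf (show (0 : Fin 4) ≠ 1 by decide)).mul (Dg.rf hT hf 2)
        rw [show symmDiff ({0, 1} : Finset (Fin 4)) {2} = ({3} : Finset (Fin 4))ᶜ by decide, hf0, hf1, hf2,
          ← hσP] at hD
        have hneg : σP * rf hT q = -rf hT (f 3) := Dg.unique hT hf h4 hD (Dg.rf hT hf 3).neg
        rw [hneg, pe_neg] at hw'
        rw [hw', neg_mul, mul_neg, neg_inj] at hwb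
        have hbW : b ∈ Wr F κ β := hM.cent_rf h4 ht (hf.ne 3) b hbM hwb.symm
        exact hM.fus_rf h4 ht hv hg (by rw [← ha, ← hb]; exact hbW) (hT.rf_nonscalar h4 (hf.ne 3))
          (by rw [← ha, ← hb]; exact hwb.symm)
      · have hr1 : r ≠ 1 := fun e' => hperp (by
          rw [e', one_smul] at hr
          have k1 := congrArg (fun z => h z v) hr
          have k2 := congrArg (fun z => h z u) hr
          simp only [hs.sub_left, hs.smul_left, hvu, hs.symm u v, mul_zero, sub_zero, div_mul_cancel₀ _ hv,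
            div_mul_cancel₀ _ hu] at k1 k2
          exact ⟨(mul_eq_zero.1 (show (2 : F) * h q v = 0 by linear_combination -k1)).resolve_left hT.two,
            (mul_eq_zero.1 (show (2 : F) * h q u = 0 by linear_combination -k2)).resolve_left hT.two⟩)
        have hqP : q = ((1 - r)⁻¹ * (2 * h q v / h v v)) • v + ((1 - r)⁻¹ * (2 * h q u / h u u)) • u := by
          rw [← smul_smul, ← smul_smul, ← smul_add, eq_inv_smul_iff₀ (sub_ne_zero.2 (Ne.symm hr1)), sub_smul,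
            one_smul, ← hr]
          abel
        obtain ⟨q', hq'0, hq'q, hpl⟩ := hT.pl_eq h4 hv hu hvu hqP hne
        rw [hσP, hpl, mul_assoc, hT.rf_sq hne, mul_one] at hw'
        rw [hw'] at hwb
        have hbW : b ∈ Wr F κ β := hM.cent_rf h4 ht hq'0 b hbM hwb.symm
        exact hM.fus_rf h4 ht hv hg (by rw [← ha, ← hb]; exact hbW) (hT.rf_nonscalar h4 hq'0)
          (by rw [← ha, ← hb]; exact hwb.symm)
    · rw [hs', hσP] at hw'
      rw [hw'] at hwb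
      have hbW : b ∈ Wr F κ β := hM.cent_D h4 ht (Ne.symm hp) hv hu hvu hne b hbM hwb.symm
      obtain ⟨τ, hs2, -, -, -, hc⟩ := hM.D_fix h4 ht (Ne.symm hp) hv hu hvu hne hbW (hM.iso_mem hbM) hwb.symm
      exact hM.fus_rf h4 ht hv hg (by rw [← ha, ← hb]; exact hbW) (hT.rf_nonscalar h4 hne)
        (by rw [← ha, ← hb]; exact hc)

/-- At least three factors of dimension four. -/
theorem le_Wr_big : M ≤ Wr F κ β := by
  classical
  intro g hg
  have hT := hM.data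
  have hs := hT.hh
  obtain ⟨i⟩ : Nonempty κ := Fintype.card_pos_iff.1 (by omega)
  obtain ⟨z, u, w₁, w₂, hz, hz0, hu, huz, h1z, h1u, h2z, h2u, h12, h11, h22⟩ := hT.exists_mid h4
  obtain ⟨B, hB, hBs⟩ := hs.exists_sieg hT.two hz h1z
  have hBw₁ : h ((B : Mb) *ᵥ w₁) ((B : Mb) *ᵥ w₁) ≠ 0 := by rw [hB]; exact h11
  have hBw₂ : h ((B : Mb) *ᵥ w₂) ((B : Mb) *ᵥ w₂) ≠ 0 := by rw [hB]; exact h22
  have hB12 : h ((B : Mb) *ᵥ w₁) ((B : Mb) *ᵥ w₂) = 0 := by rw [hB]; exact h12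
  rcases hM.plane_or h4 ht hg (i := i) h11 h22 h12 with h | hx₁
  · exact h
  rcases hM.plane_or h4 ht hg (i := i) hBw₁ hBw₂ hB12 with h | hx₂
  · exact h
  obtain ⟨σP, hσP⟩ : ∃ σP, σP = rf hT w₁ * rf hT w₂ := ⟨_, rfl⟩
  obtain ⟨B', hB', hB's⟩ := hs.exists_sieg hT.two hz (w := -w₁) (by rw [hs.neg_left, h1z, neg_zero])
  have hB'inv : B' = B⁻¹ := by
    refine eq_inv_of_mul_eq_one_left (hs.sieg_mul hT.two hB's hBs ?_ hz (by rw [hs.neg_left, h1z, neg_zero]) h1z)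
    intro x
    rw [neg_add_cancel, Units.val_one, Matrix.one_mulVec]
    simp [hs.zero_left, hs.zero_right]
  obtain ⟨B2, hB2, hB2s⟩ := hs.exists_sieg hT.two hz (w := -w₁ + -w₁)
    (by rw [hs.add_left, hs.neg_left, h1z, neg_zero, add_zero])
  have hB'B' : B' * B' = B2 := hs.sieg_mul hT.two hB's hB's hB2s hz (by rw [hs.neg_left, h1z, neg_zero])
    (by rw [hs.neg_left, h1z, neg_zero])
  have hconj : σP * B * σP = B' := by
    refine Units.ext (Matrix.ext_iff_mulVec.2 fun x => ?_)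
    have hσz : (σP : Mb) *ᵥ z = z := by
      rw [hσP, Units.val_mul, ← Matrix.mulVec_mulVec, hT.rf_perp h22 (by rw [hs.symm, h2z]),
        hT.rf_perp h11 (by rw [hs.symm, h1z])]
    have hσw : (σP : Mb) *ᵥ w₁ = -w₁ := by
      rw [hσP, Units.val_mul, ← Matrix.mulVec_mulVec, hT.rf_perp h22 h12, hT.rf_self h11]
    have hσi : σP ∈ TensorOrth.iso h := hσP ▸ mul_mem (hT.rf_iso w₁) (hT.rf_iso w₂)
    have hσσ : (σP : Mb) * (σP : Mb) = 1 := by
      rw [← Units.val_mul, hσP, mul_assoc, ← mul_assoc (rf hT w₂), hT.rf_comm h22 h11 (by rw [hs.symm, h12]),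
        mul_assoc (rf hT w₁), hT.rf_sq h22, mul_one, hT.rf_sq h11, Units.val_one]
    have h1 : h ((σP : Mb) *ᵥ x) z = h x z := by
      conv_lhs => rw [← hσz]
      rw [hσi]
    have h2 : h ((σP : Mb) *ᵥ x) w₁ = -h x w₁ := by
      have h5 := hσi x w₁
      rw [hσw, hs.neg_right] at h5
      linear_combination -h5
    rw [Units.val_mul, Units.val_mul, ← Matrix.mulVec_mulVec, ← Matrix.mulVec_mulVec, hBs, h1, h2, hB's,
      Matrix.mulVec_sub, Matrix.mulVec_sub, Matrix.mulVec_add, Matrix.mulVec_smul, Matrix.mulVec_smul,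
      Matrix.mulVec_smul, hσz, hσw, Matrix.mulVec_mulVec, hσσ, Matrix.one_mulVec, hs.neg_left, hs.neg_right,
      hs.neg_right]
    match_scalars <;> ring
  have hs2 : rf hT ((B : Mb) *ᵥ w₁) * rf hT ((B : Mb) *ᵥ w₂) = B * σP * B⁻¹ := by
    rw [hσP, ← hT.rf_conj h4 (sim_one_of_iso hB) h11, ← hT.rf_conj h4 (sim_one_of_iso hB) h22]
    group
  have hσσ' : σP * σP = 1 := by
    rw [hσP, mul_assoc, ← mul_assoc (rf hT w₂), hT.rf_comm h22 h11 (by rw [hs.symm, h12]),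
      mul_assoc (rf hT w₁), hT.rf_sq h22, mul_one, hT.rf_sq h11]
  have hpure : Pure h i (pe i B2) := by
    refine ⟨B2, z, -w₁ + -w₁, hB2, hz, hz0, by rw [hs.add_left, hs.neg_left, h1z, neg_zero, add_zero], ?_, hB2s, rfl⟩
    simp only [hs.add_left, hs.add_right, hs.neg_left, hs.neg_right, neg_neg]
    rw [← two_mul, ← two_mul]
    exact mul_ne_zero hT.two (mul_ne_zero hT.two h11)
  have heq : g⁻¹ * pe i B2 * g⁻¹⁻¹ =
      g⁻¹ * pe i σP * g * (g⁻¹ * pe i (rf hT ((B : Mb) *ᵥ w₁) * rf hT ((B : Mb) *ᵥ w₂)) * g) := by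
    rw [hs2, ← hB'B', inv_inv]
    conv_lhs => arg 1; arg 2; rw [show B' * B' = σP * B * σP * B⁻¹ by rw [hconj, hB'inv]]
    simp only [map_mul, map_inv]
    group
  have := hM.fus_pure h4 hpure (inv_mem hg) (by rw [heq, hσP]; exact mul_mem hx₁ hx₂)
  simpa using (Wr F κ β).inv_mem this

end Px

end Cfsg.Agent.Classical.TensorPowOrth
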