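import Cfsg.Agent.Lib.Classical.TensorPowOrth.FourPure

/-!
Factors of dimension four: groups normalised by the Siegel elements of one factor, and groups keeping the tensors with
an anisotropic vector at a factor.
-/

set_option autoImplicit false
set_option linter.unusedSectionVars false
set_option linter.unusedSimpArgs false
set_option linter.style.haveILetI false

open scoped Kronecker

namespace Cfsg.Agent.Classical.TensorPowOrth

open Matrix Module MaxTv TensorMax TensorPow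
open Cfsg.Agent.Classical.TensorOrth (Sym NdOn iso TSP IsSieg ext_pure ext_kron)

variable {F : Type*} [Field F] [Fintype F] {κ β : Type} [Fintype κ] [DecidableEq κ] [Fintype β] [DecidableEq β]
  {c : F} {h : (β → F) → (β → F) → F}

local notation "X" => (κ → β)
local notation "V" => ((κ → β) → F)
local notation "Mn" => Matrix (κ → β) (κ → β) F
local notation "Mb" => Matrix β β F
local notation "W" => (β → F)

variable (hT : TData c h)
include hT

theorem TData.pure_pow {l : κ} {x : GL X F} (hx : Pure h l x) {p : ℕ} [Fact p.Prime] [CharP F p] : x ^ p = 1 := by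
  obtain ⟨B, z, w, -, hz, -, hwz, -, hB, rfl⟩ := hx
  rw [← map_pow, TensorOrth.pow_char_eq_one hT.two (Matrix.ext_iff_mulVec.2 fun y => by
    rw [pow_succ, pow_two, ← Matrix.mulVec_mulVec, ← Matrix.mulVec_mulVec, hT.hh.sieg_cube hT.two hB hz hwz,
      Matrix.zero_mulVec]), map_one]

/-- An isometric unipotent element of the factor with square zero displacement is trivial. -/
theorem TData.eq_one_of_sq4 (h4 : Fintype.card β = 4) {B : GL β F} (hB : B ∈ TensorOrth.iso h)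
    (hsq : ((B : Mb) - 1) * ((B : Mb) - 1) = 0) : B = 1 := Units.ext (sub_eq_zero.1 (by
  by_contra h0
  exact (hT.nilp_simil (N := (B : Mb) - 1) (p := 2) (by rw [pow_two, hsq]) h0 (ν := 1)
    (fun x y => by rw [add_sub_cancel, hB, one_mul])).2 h4 hsq))

/-- A unipotent isometry fixing two orthogonal anisotropic vectors is trivial. -/
theorem TData.eq_one_of_fix_two (h4 : Fintype.card β = 4) {B : GL β F} (hB : B ∈ TensorOrth.iso h) {v u : W}
    (hv : h v v ≠ 0) (hu : h u u ≠ 0) (hvu : h v u = 0) (hBv : (B : Mb) *ᵥ v = v) (hBu : (B : Mb) *ᵥ u = u)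
    {m : ℕ} (hm : ((B : Mb) - 1) ^ m = 0) : B = 1 := by
  classical
  have hs := hT.hh
  obtain ⟨e, he, rfl, rfl⟩ := hT.frame2 h4 hv hu hvu
  refine Units.ext (sub_eq_zero.1 ?_)
  rw [Units.val_one]
  by_contra h0
  obtain ⟨N, hN⟩ : ∃ N, N = (B : Mb) - 1 := ⟨_, rfl⟩
  rw [← hN] at h0 hm
  obtain ⟨x, hx, hxx⟩ := exists_moved_once hm h0
  obtain ⟨y, hy⟩ : ∃ y, y = N *ᵥ x := ⟨_, rfl⟩
  rw [← hy] at hx hxx
  have hNx : ∀ t, N *ᵥ t = (B : Mb) *ᵥ t - t := fun t => by rw [hN, Matrix.sub_mulVec, Matrix.one_mulVec]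
  have hperp : ∀ t k, (B : Mb) *ᵥ k = k → h (N *ᵥ t) k = 0 := fun t k hk => by
    rw [hNx, hs.sub_left]
    nth_rw 1 [← hk]
    rw [hB, sub_self]
  have hBy : (B : Mb) *ᵥ y = y := sub_eq_zero.1 (by rw [← hNx, hxx])
  have hy0 : h y (e 0) = 0 := hy ▸ hperp x _ hBv
  have hy1 : h y (e 1) = 0 := hy ▸ hperp x _ hBu
  have hyy : h y y = 0 := by nth_rw 1 [hy]; exact hperp x _ hBy
  have hco : ∀ t, N *ᵥ t = (h (e 2) (N *ᵥ t) / h (e 2) (e 2)) • e 2 + (h (e 3) (N *ᵥ t) / h (e 3) (e 3)) • e 3 := by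
    intro t
    conv_lhs => rw [he.expand hT h4 (N *ᵥ t)]
    rw [Fin.sum_univ_four, hs.symm (e 0), hperp t _ hBv, hs.symm (e 1), hperp t _ hBu]
    simp
  have hline : ∀ t, N *ᵥ t ∈ F ∙ y := fun t => by
    obtain ⟨a, b, hab⟩ : ∃ a b : F, N *ᵥ t = a • e 2 + b • e 3 := ⟨_, _, hco t⟩
    obtain ⟨a', b', hab'⟩ : ∃ a b : F, y = a • e 2 + b • e 3 := ⟨_, _, by nth_rw 1 [hy]; exact hco x⟩
    have k1 : a * a' * h (e 2) (e 2) + b * b' * h (e 3) (e 3) = 0 := by
      have h1 := hperp t _ hBy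
      rw [hab, hab'] at h1
      simp only [hs.add_left, hs.add_right, hs.smul_left, hs.smul_right, he.orth 2 3 (by decide),
        he.orth 3 2 (by decide)] at h1
      linear_combination h1
    have k2 : a' * a' * h (e 2) (e 2) + b' * b' * h (e 3) (e 3) = 0 := by
      have h1 := hyy
      rw [hab'] at h1
      simp only [hs.add_left, hs.add_right, hs.smul_left, hs.smul_right, he.orth 2 3 (by decide),
        he.orth 3 2 (by decide)] at h1
      linear_combination h1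
    have ha' : a' ≠ 0 := fun e0 => by
      rw [e0, zero_mul, zero_mul, zero_add, mul_eq_zero, mul_self_eq_zero] at k2
      exact hx (by rw [hab', e0, k2.resolve_right (he.ne 3)]; simp)
    have hb' : b' ≠ 0 := fun e0 => by
      rw [e0, zero_mul, zero_mul, add_zero, mul_eq_zero, mul_self_eq_zero] at k2
      exact ha' (k2.resolve_right (he.ne 2))
    refine Submodule.mem_span_singleton.2 ⟨a / a', ?_⟩
    have hb : a / a' * b' = b := by
      field_simp
      refine mul_left_cancel₀ (mul_ne_zero hb' (he.ne 3)) ?_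
      linear_combination (-a') * k1 + a * k2
    rw [hab, hab', smul_add, smul_smul, smul_smul, div_mul_cancel₀ _ ha', hb]
  have hrk : N.rank ≤ 1 := by
    rw [Matrix.rank]
    refine (Submodule.finrank_mono (t := F ∙ y) ?_).trans (finrank_span_singleton hx).le
    rintro _ ⟨t, rfl⟩
    rw [Matrix.mulVecLin_apply]
    exact hline t
  have := (hT.nilp_simil (N := N) hm h0 (ν := 1) (fun a b => by rw [hN, add_sub_cancel, hB, one_mul])).1
  omega

namespace Px

variable {M : Subgroup (GL (κ → β) F)} (hM : Px c h M) (h4 : Fintype.card β = 4)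
include hM h4

omit hT in
theorem pure_mem {l : κ} {x : GL X F} (hx : Pure h l x) : x ∈ M ∧ x ∈ Wr F κ β := by
  obtain ⟨B, z, w, -, hz, -, hwz, -, hB, rfl⟩ := hx
  exact ⟨hM.pe_mem (hM.data.pe_sieg hB hz hwz), TensorPow.pe_mem _ _⟩

omit hT in
/-- A group normalised by the Siegel elements of a factor, with no unipotent elements fixed by them. -/
theorem le_of_coprime {K : Subgroup (GL X F)} (hKM : K ≤ M) (l : κ)
    (hnorm : ∀ (B : GL β F), pe l B ∈ GT c h → ∀ g ∈ K, pe l B * g * (pe l B)⁻¹ ∈ K)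
    (hfix : ∀ (p : ℕ) [Fact p.Prime] [CharP F p], ∀ g ∈ K, g ∈ Wr F κ β →
      ∀ x, Pure h l x → g * x = x * g → ∀ n : ℕ, g ^ p ^ n = 1 → g = 1) : K ≤ Wr F κ β := by
  classical
  have hT := hM.data
  have hs := hT.hh
  obtain ⟨z, u, w₁, w₂, hz, hz0, hu, huz, h1z, h1u, h2z, h2u, h12, h11, h22⟩ := hT.exists_mid h4
  have hwz : ∀ a : F × F, h (a.1 • w₁ + a.2 • w₂) z = 0 := fun a => by
    rw [hs.add_left, hs.smul_left, hs.smul_left, h1z, h2z]; ring
  choose S hS hSx using fun a : F × F => hs.exists_sieg hT.two (w := a.1 • w₁ + a.2 • w₂) hz (hwz a)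
  obtain ⟨φ, hφ⟩ : ∃ φ : Multiplicative (F × F) →* GL X F, ∀ a, φ a = pe l (S a.toAdd) := by
    refine ⟨(pe l).comp (MonoidHom.mk' (fun a => S (Multiplicative.toAdd a)) fun a b => ?_), fun _ => rfl⟩
    symm
    refine hs.sieg_mul hT.two (hSx _) (hSx _) ?_ hz (hwz _) (hwz _)
    convert hSx (Multiplicative.toAdd (a * b)) using 1
    rw [toAdd_mul, Prod.fst_add, Prod.snd_add, add_smul, add_smul]
    abel
  have hpure : ∀ a, a ≠ 1 → Pure h l (φ a) := fun a ha => by
    rw [hφ]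
    refine ⟨_, z, _, hS _, hz, hz0, hwz _, hT.sieg_ne h4 hz hz0 (hwz _) fun r hr => ha ?_, hSx _, rfl⟩
    have k1 := congrArg (fun v => h v w₁) hr
    have k2 := congrArg (fun v => h v w₂) hr
    simp only [hs.add_left, hs.smul_left, h12, hs.symm w₂ w₁, hs.symm z w₁, hs.symm z w₂, h1z, h2z, mul_zero,
      add_zero, zero_add, mul_eq_zero] at k1 k2
    exact Multiplicative.toAdd.injective (Prod.ext (k1.resolve_right h11) (k2.resolve_right h22))
  obtain ⟨p, hp⟩ := CharP.exists F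
  haveI := hp
  haveI hpF : Fact p.Prime := ⟨CharP.char_is_prime F p⟩
  have hinj : Function.Injective φ := (injective_iff_map_eq_one φ).2 fun a ha => by
    by_contra h1
    obtain ⟨B, z', w', -, hz', hz'0, hwz', hww', hB, hBe⟩ := hpure a h1
    haveI : Nonempty β := Fintype.card_pos_iff.1 (by omega)
    have hB1 : B = 1 := pe_injective l (by rw [← hBe, ha, map_one])
    obtain ⟨u', -, hu'⟩ := hs.exists_partner hT.two hz' hz'0
    have := hT.sieg_sq hz' hwz' hB u'
    rw [hB1, Units.val_one, sub_self, Matrix.zero_mulVec, hu', mul_one] at this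
    exact (smul_eq_zero.1 this.symm).elim (neg_ne_zero.2 hww') hz'0
  obtain ⟨A, hA⟩ : ∃ A, A = φ.range := ⟨_, rfl⟩
  haveI : IsMulCommutative A := ⟨⟨by
    rintro ⟨a, ha⟩ ⟨b, hb⟩
    obtain ⟨a, rfl⟩ := hA ▸ ha
    obtain ⟨b, rfl⟩ := hA ▸ hb
    refine Subtype.ext ?_
    show φ a * φ b = φ b * φ a
    rw [← map_mul, mul_comm, map_mul]⟩⟩
  have hAp : ∀ a, φ a ^ p = 1 := fun a => by
    by_cases h1 : a = 1
    · rw [h1, map_one, one_pow]
    · exact hT.pure_pow (hpure a h1)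
  have hcard : Nat.card A = Fintype.card F * Fintype.card F := by
    rw [hA, ← Fintype.card_prod, ← Nat.card_eq_fintype_card]
    exact (Nat.card_congr (Equiv.ofInjective _ hinj)).symm
  have hnormA : A ≤ Subgroup.normalizer (K : Set (GL X F)) := by
    rintro _ hx
    obtain ⟨a, rfl⟩ := hA ▸ hx
    have hin : ∀ a, pe l (S a) ∈ GT (κ := κ) c h := fun a => hT.pe_sieg (hSx a) hz (hwz a)
    rw [Subgroup.mem_normalizer_iff]
    refine fun g => ⟨fun hg => by rw [hφ]; exact hnorm _ (hin _) g hg, fun hg => ?_⟩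
    have h5 := hnorm _ (hin (a⁻¹ : Multiplicative (F × F)).toAdd) _ hg
    rw [← hφ, map_inv, inv_inv] at h5
    rwa [show (φ a)⁻¹ * (φ a * g * (φ a)⁻¹) * φ a = g by group] at h5
  have hx1 : (Multiplicative.ofAdd ((1 : F), (0 : F))) ≠ 1 := fun e =>
    one_ne_zero (α := F) (congrArg (fun a : Multiplicative (F × F) => a.toAdd.1) e)
  have hpK : ¬ p ∣ Nat.card K :=
    not_dvd_card_of_fix K (hAp (Multiplicative.ofAdd ((1 : F), (0 : F)))) (hnormA (hA ▸ ⟨_, rfl⟩))
      fun g hg hcom n hn => hfix p g hg (hM.cent_pure h4 (hpure _ hx1) (hKM hg) hcom) _ (hpure _ hx1) hcom n hn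
  obtain ⟨n, -, hn⟩ := FiniteField.card F p
  have hcyc : ¬ IsCyclic A := fun hc => by
    obtain ⟨a, ha⟩ := hc.exists_generator
    have h1 := orderOf_eq_card_of_forall_mem_zpowers ha
    have h5 : orderOf a ∣ p := orderOf_dvd_of_pow_eq_one (Subtype.ext (by
      have h9 : (a : GL X F) ∈ φ.range := by rw [← hA]; exact a.2
      obtain ⟨b, hb⟩ := h9
      rw [SubgroupClass.coe_pow, ← hb, hAp]; rfl))
    rw [h1, hcard] at h5
    have h6 := Nat.le_of_dvd hpF.out.pos h5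
    have h7 : p ≤ Fintype.card F := hn ▸ Nat.le_self_pow n.ne_zero p
    have h8 := hpF.out.two_le
    have : 2 * p ≤ Fintype.card F * Fintype.card F := Nat.mul_le_mul (h8.trans h7) h7
    omega
  have hcop : (Nat.card A).Coprime (Nat.card K) := by
    rw [hcard, hn, ← pow_add]
    exact Nat.Coprime.pow_left _ ((Nat.Prime.coprime_iff_not_dvd hpF.out).2 hpK)
  rw [← Cfsg.Agent.S0058.result A K hcyc hnormA hcop]
  refine iSup₂_le fun a ⟨ha, ha1⟩ g hg => ?_
  obtain ⟨b, rfl⟩ := hA ▸ ha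
  exact hM.cent_pure h4 (hpure b fun e => ha1 (by rw [e, map_one])) (hKM hg.1)
    (Subgroup.mem_centralizer_singleton_iff.1 hg.2)

omit hT in
/-- A group keeping the tensors with an anisotropic vector at a factor, known on those fixing them. -/
theorem res_le {i : κ} {u : W} (hu : h u u ≠ 0) {N : Subgroup (GL X F)} (hNM : N ≤ M)
    (hline : ∀ g ∈ N, ∀ t ∈ line i u, (g : Mn) *ᵥ t ∈ line i u)
    (hemb : ∀ A ∈ Wr F (Rst i) β, A ∈ GT (κ := Rst i) c h → emb i A ∈ N)
    (hker : ∀ g ∈ N, g ∈ Fx F i u → g ∈ Wr F κ β) : N ≤ Wr F κ β := by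
  classical
  have hT := hM.data
  haveI : Nontrivial β := Fintype.one_lt_card_iff_nontrivial.1 (by omega)
  have hu0 : u ≠ 0 := fun e => hu (by rw [e, hT.hh.zero_left])
  obtain ⟨j⟩ := nonempty_rst hM.ht i
  have hres : ∀ g ∈ N, ∃ A ∈ TensorOrth.iso (tf (κ := Rst i) c h), Res i u g A := by
    intro g hg
    obtain ⟨φ, hφ⟩ := exists_dual hu0
    obtain ⟨L, hL⟩ : ∃ L : ((Rst i → β) → F) →ₗ[F] ((Rst i → β) → F), L = (slice φ).comp
        ((Matrix.toLin' (sp i g : Matrix ((Rst i → β) × β) ((Rst i → β) × β) F)).comp (fac u)) := ⟨_, rfl⟩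
    have hLr : ∀ r, (sp i g : Matrix ((Rst i → β) × β) ((Rst i → β) × β) F) *ᵥ tmul r u = tmul (L r) u := by
      intro r
      obtain ⟨r', hr'⟩ := mem_line_iff.1 (hline g hg _ (mem_line_iff.2 ⟨r, LinearEquiv.apply_symm_apply _ _⟩))
      rw [← sp_mulVec, LinearEquiv.apply_symm_apply] at hr'
      rw [hr', hL, LinearMap.comp_apply, LinearMap.comp_apply, fac_apply, Matrix.toLin'_apply, hr', slice_tmul, hφ,
        one_smul]
    have hiso : ∀ r r', tf c h (L r) (L r') = tf c h r r' := fun r r' => by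
      have h1 := (hT.sp_iso i).2 (hM.iso_mem (hNM hg)) (tmul r u) (tmul r' u)
      rw [hLr, hLr, hT.tfs_tmul, hT.tfs_tmul] at h1
      exact mul_right_cancel₀ hu h1
    obtain ⟨A, hA⟩ := exists_gl_of_injective L fun r r' e => (hT.sym (κ := Rst i)).eq_of_forall fun x => by
      rw [← hiso r, ← hiso r', e]
    exact ⟨A, fun r r' => by rw [hA, hA, hiso], fun r => by rw [hA, hLr]⟩
  obtain ⟨G0, hG0⟩ : ∃ G0 : Subgroup (GL (Rst i → β) F), ∀ A, A ∈ G0 ↔
      A ∈ GT (κ := Rst i) c h ∧ ∃ g ∈ N, Res i u g A :=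
    ⟨{ carrier := {A | A ∈ GT (κ := Rst i) c h ∧ ∃ g ∈ N, Res i u g A}
       one_mem' := ⟨one_mem _, 1, one_mem _, Res.one⟩
       mul_mem' := fun {a b} ⟨ha, g, hg, hga⟩ ⟨hb, g', hg', hgb⟩ =>
        ⟨mul_mem ha hb, g * g', mul_mem hg hg', hga.mul hgb⟩
       inv_mem' := fun {a} ⟨ha, g, hg, hga⟩ => ⟨inv_mem ha, g⁻¹, inv_mem hg, hga.inv⟩ }, fun _ => Iff.rfl⟩
  obtain ⟨v, -, hv⟩ := hT.hh.exists_aniso hT.two hT.hh.ndOn_top (Submodule.exists_mem_ne_zero_of_ne_bot fun e' => by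
      have := congrArg (fun U : Submodule F W => finrank F U) e'
      simp only [finrank_top, Module.finrank_pi, finrank_bot] at this
      omega)
  obtain ⟨B, hxp, -, -, -⟩ := hT.exists_pure_perp h4 j hv
  obtain ⟨x', hx'⟩ : ∃ x', x' = pe j B := ⟨_, rfl⟩
  rw [← hx'] at hxp
  have hx'G := hT.pure_GT hxp
  obtain ⟨x, hx⟩ : ∃ x, x = emb i x' := ⟨_, rfl⟩
  have hxN : x ∈ N := hx ▸ hemb _ (hx' ▸ TensorPow.pe_mem _ _) hx'G
  have hxPure : Pure h j.1 x := by
    obtain ⟨B', z, w, hB'i, hz, hz0, hwz, hww, hB', e⟩ := hxp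
    exact ⟨B', z, w, hB'i, hz, hz0, hwz, hww, hB', by rw [hx, e, emb_pe]⟩
  have hxres : Res i u x x' := hx ▸ res_emb x'
  have hle0 : Wr F (Rst i) β ⊓ GT c h ≤ G0 := fun A hA =>
    (hG0 A).2 ⟨hA.2, emb i A, hemb A hA.1 hA.2, res_emb A⟩
  have hG0W : ∀ A ∈ G0, A ∈ Wr F (Rst i) β := by
    by_cases h1 : Fintype.card (Rst i) = 1
    · exact fun A _ => one_of_subsingleton (i := j) (fun l => (Fintype.card_le_one_iff.1 h1.le) l j) A
    have h2R : 2 ≤ Fintype.card (Rst i) := by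
      have : 0 < Fintype.card (Rst i) := Fintype.card_pos_iff.2 ⟨j⟩
      omega
    refine hM.ih i h2R G0 (fun A hA => ((hG0 A).1 hA).1) hle0 fun hall => ?_
    obtain ⟨T, hTG, hTW, hTc⟩ := hT.exists_long4 h4 h2R hxp
    obtain ⟨-, g0, hg0, hg0T⟩ := (hG0 T).1 (hall hTG)
    have hkr : Res i u (g0 * x * g0⁻¹ * x⁻¹) 1 := by
      have := ((hg0T.mul hxres).mul hg0T.inv).mul hxres.inv
      rwa [hTc, mul_inv_cancel_right, mul_inv_cancel] at this
    have hkW := hker _ (mul_mem (mul_mem (mul_mem hg0 hxN) (inv_mem hg0)) (inv_mem hxN)) hkr.fx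
    have h2 : g0 * x * g0⁻¹ ∈ Wr F κ β := by
      have := mul_mem hkW (hM.pure_mem h4 hxPure).2
      rwa [inv_mul_cancel_right] at this
    exact hTW (res_of_wr ⟨j⟩ hu0 (hM.fus_pure h4 hxPure (hNM hg0) h2) hg0T)
  intro g hg
  obtain ⟨A, hAi, hA⟩ := hres g hg
  obtain ⟨Q, hQ⟩ : ∃ Q, Q = A * x' * A⁻¹ := ⟨_, rfl⟩
  have hQG : Q ∈ GT (κ := Rst i) c h := hQ ▸ hT.conj_mem hAi hx'G
  have hQW := hG0W Q ((hG0 Q).2 ⟨hQG, g * x * g⁻¹, mul_mem (mul_mem hg hxN) (inv_mem hg),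
    hQ ▸ (hA.mul hxres).mul hA.inv⟩)
  have hr : Res i u (g * x * g⁻¹ * (emb i Q)⁻¹) 1 := by
    have := ((hA.mul hxres).mul hA.inv).mul (res_emb (i := i) (v := u) Q).inv
    rwa [← hQ, mul_inv_cancel] at this
  have h1 := hker _ (mul_mem (mul_mem (mul_mem hg hxN) (inv_mem hg)) (inv_mem (hemb Q hQW hQG))) hr.fx
  have h2 := mul_mem h1 (emb_mem_Wr hQW)
  rw [inv_mul_cancel_right] at h2
  exact hM.fus_pure h4 hxPure (hNM hg) h2

end Px

end Cfsg.Agent.Classical.TensorPowOrth
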