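import Cfsg.Agent.Lib.Classical.TensorPowOrth.FourBase

/-!
Factors of dimension four of minus type: reflections, similitudes with scalar square, Siegel elements at one factor,
and traces and signs at the factors.
-/

set_option autoImplicit false
set_option linter.unusedSectionVars false
set_option linter.unusedSimpArgs false
set_option linter.style.haveILetI false

open scoped Kronecker

namespace Cfsg.Agent.Classical.TensorPowOrth

open Matrix Module MaxTv TensorMax TensorPow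
open Cfsg.Agent.Classical.TensorOrth (Sym NdOn iso TSP IsSieg)

variable {F : Type*} [Field F] [Fintype F] {κ β : Type} [Fintype κ] [DecidableEq κ] [Fintype β] [DecidableEq β]
  {c : F} {h : (β → F) → (β → F) → F}

local notation "X" => (κ → β)
local notation "Mn" => Matrix (κ → β) (κ → β) F
local notation "Mb" => Matrix β β F
local notation "W" => (β → F)

/-- The reflection at `v`. -/
noncomputable def rf (hT : TData c h) (v : β → F) : GL β F :=
  letI : Decidable (h v v ≠ 0) := _root_.Classical.propDecidable _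
  if hv : h v v ≠ 0 then (hT.exists_hrefl hv).choose else 1

/-- A Siegel element of a non-degenerate direction at the factor `l`. -/
def Pure (h : (β → F) → (β → F) → F) (l : κ) (x : GL (κ → β) F) : Prop :=
  ∃ (B : GL β F) (z w : β → F), B ∈ TensorOrth.iso h ∧ h z z = 0 ∧ z ≠ 0 ∧ h w z = 0 ∧ h w w ≠ 0 ∧
    IsSieg h B z w ∧ x = pe l B

theorem pe_neg (i : κ) (B : GL β F) : pe i (-B) = -pe i B := Units.ext (by
  rw [Units.val_neg, ← et_val, ← et_val, Units.val_neg, ← neg_one_smul F (B : Mb), et_smul, neg_one_smul])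

theorem trace_wgl1 (gs : κ → GL β F) : (wgl (1 : Equiv.Perm κ) gs : Mn).trace = ∏ l, (gs l : Mb).trace := by
  rw [wgl_val]
  simp only [Matrix.trace, Matrix.diag, Fintype.prod_sum]
  refine Finset.sum_congr rfl fun x _ => ?_
  simp [wm]

theorem trace_pe (i : κ) (B : GL β F) :
    (pe i B : Mn).trace = (B : Mb).trace * ((Fintype.card β : ℕ) : F) ^ (Fintype.card κ - 1) := by
  show (wgl (1 : Equiv.Perm κ) (Function.update 1 i B) : Mn).trace = _
  rw [trace_wgl1, ← Finset.mul_prod_erase _ _ (Finset.mem_univ i), Function.update_self,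
    Finset.prod_congr rfl fun l hl => by
      rw [Function.update_of_ne (Finset.ne_of_mem_erase hl), Pi.one_apply, Units.val_one, Matrix.trace_one],
    Finset.prod_const, Finset.card_erase_of_mem (Finset.mem_univ i), Finset.card_univ]

theorem pe_mul_pe {i m : κ} (him : i ≠ m) (A B : GL β F) :
    pe i A * pe m B = wgl 1 (Function.update (Function.update (1 : κ → GL β F) i A) m B) := by
  show wgl 1 _ * wgl 1 _ = _
  rw [wgl_mul, mul_one]
  congr 1
  funext l
  by_cases e : l = i <;> by_cases e' : l = m <;> simp_all [Function.update_apply]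

theorem trace_pe2 {i m : κ} (him : i ≠ m) (A B : GL β F) :
    (pe i A * pe m B : GL X F).val.trace =
      (A : Mb).trace * (B : Mb).trace * ((Fintype.card β : ℕ) : F) ^ (Fintype.card κ - 2) := by
  have hrest : ∀ l ∈ (Finset.univ.erase m).erase i,
      (Function.update (Function.update (1 : κ → GL β F) i A) m B l : Mb).trace = (Fintype.card β : F) := fun l hl => by
    simp only [Finset.mem_erase, Finset.mem_univ, and_true] at hl
    rw [Function.update_of_ne hl.2, Function.update_of_ne hl.1, Pi.one_apply, Units.val_one, Matrix.trace_one]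
  rw [pe_mul_pe him, trace_wgl1, ← Finset.mul_prod_erase _ _ (Finset.mem_univ m),
    ← Finset.mul_prod_erase _ _ (Finset.mem_erase.2 ⟨him, Finset.mem_univ i⟩), Function.update_self,
    Function.update_of_ne him, Function.update_self, Finset.prod_congr rfl hrest,
    Finset.prod_const, Finset.card_erase_of_mem (Finset.mem_erase.2 ⟨him, Finset.mem_univ i⟩),
    Finset.card_erase_of_mem (Finset.mem_univ m), Finset.card_univ, Nat.sub_sub]
  ring

theorem trace_conj (g k : GL X F) : ((g * k * g⁻¹ : GL X F) : Mn).trace = (k : Mn).trace := by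
  rw [Units.val_mul, Units.val_mul, Matrix.trace_units_conj]

variable (hT : TData c h)
include hT

theorem TData.rf_apply {v : W} (hv : h v v ≠ 0) (x : W) :
    (rf hT v : Mb) *ᵥ x = x - (2 * h x v / h v v) • v := by
  rw [rf, dif_pos hv]
  exact (hT.exists_hrefl hv).choose_spec.2 x

theorem TData.rf_iso (v : W) : rf hT v ∈ TensorOrth.iso h := by
  by_cases hv : h v v ≠ 0
  · rw [rf, dif_pos hv]; exact (hT.exists_hrefl hv).choose_spec.1
  · rw [rf, dif_neg hv]; exact one_mem _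

theorem TData.rf_self {v : W} (hv : h v v ≠ 0) : (rf hT v : Mb) *ᵥ v = -v := by
  rw [hT.rf_apply hv, mul_div_assoc, div_self hv, mul_one, two_smul, sub_add_eq_sub_sub, sub_self, zero_sub]

theorem TData.rf_perp {v x : W} (hv : h v v ≠ 0) (hx : h x v = 0) : (rf hT v : Mb) *ᵥ x = x := by
  rw [hT.rf_apply hv, hx, mul_zero, zero_div, zero_smul, sub_zero]

theorem TData.rf_sq {v : W} (hv : h v v ≠ 0) : rf hT v * rf hT v = 1 := by
  refine Units.ext (Matrix.ext_iff_mulVec.2 fun x => ?_)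
  rw [Units.val_mul, ← Matrix.mulVec_mulVec, hT.rf_apply hv x, Matrix.mulVec_sub, Matrix.mulVec_smul,
    hT.rf_self hv, hT.rf_apply hv x, Units.val_one, Matrix.one_mulVec, smul_neg, sub_neg_eq_add, sub_add_cancel]

theorem TData.rf_conj (h4 : Fintype.card β = 4) {μ : F} {B : GL β F} (hB : Sim h μ B) {v : W} (hv : h v v ≠ 0) :
    B * rf hT v * B⁻¹ = rf hT ((B : Mb) *ᵥ v) := by
  have hμ := hT.sim_ne h4 hB
  have hBv : h ((B : Mb) *ᵥ v) ((B : Mb) *ᵥ v) ≠ 0 := by rw [hB]; exact mul_ne_zero hμ hv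
  refine Units.ext (Matrix.ext_iff_mulVec.2 fun x => ?_)
  obtain ⟨y, rfl⟩ : ∃ y, (B : Mb) *ᵥ y = x := ⟨_, mulVec_inv_cancel B x⟩
  rw [Units.val_mul, Units.val_mul, ← Matrix.mulVec_mulVec, ← Matrix.mulVec_mulVec, inv_mulVec_cancel,
    hT.rf_apply hv, hT.rf_apply hBv, Matrix.mulVec_sub, Matrix.mulVec_smul, hB, hB]
  congr 2
  rw [mul_left_comm, mul_div_mul_left _ _ hμ]

theorem TData.rf_smul {v : W} (hv : h v v ≠ 0) {r : F} (hr : r ≠ 0) : rf hT (r • v) = rf hT v := by
  have hrv : h (r • v) (r • v) ≠ 0 := by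
    rw [hT.hh.smul_left, hT.hh.smul_right]; exact mul_ne_zero hr (mul_ne_zero hr hv)
  refine Units.ext (Matrix.ext_iff_mulVec.2 fun x => ?_)
  rw [hT.rf_apply hrv, hT.rf_apply hv, smul_smul, hT.hh.smul_left, hT.hh.smul_right, hT.hh.smul_right]
  congr 2
  field_simp

theorem TData.rf_inj {v u : W} (hv : h v v ≠ 0) (hu : h u u ≠ 0) (e : rf hT v = rf hT u) :
    ∃ r : F, r ≠ 0 ∧ u = r • v := by
  have h1 := hT.rf_self hu
  rw [← e, hT.rf_apply hv] at h1
  refine ⟨(2 : F)⁻¹ * (2 * h u v / h v v), fun e0 => hu ?_, ?_⟩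
  · have h2 : (2 * h u v / h v v) = 0 := (mul_eq_zero.1 e0).resolve_left (inv_ne_zero hT.two)
    rw [h2, zero_smul, sub_zero] at h1
    rw [show u = 0 from by
      have : (2 : F) • u = 0 := by rw [two_smul]; nth_rw 1 [h1]; rw [neg_add_cancel]
      exact (smul_eq_zero.1 this).resolve_left hT.two, hT.hh.zero_left]
  · rw [← smul_smul, show (2 * h u v / h v v) • v = (2 : F) • u by
      rw [two_smul]
      calc (2 * h u v / h v v) • v = u - (u - (2 * h u v / h v v) • v) := by abel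
        _ = u + u := by rw [h1]; abel, inv_smul_smul₀ hT.two]

theorem TData.rf_comm {v u : W} (hv : h v v ≠ 0) (hu : h u u ≠ 0) (hvu : h v u = 0) :
    rf hT v * rf hT u = rf hT u * rf hT v := by
  refine Units.ext (Matrix.ext_iff_mulVec.2 fun x => ?_)
  rw [Units.val_mul, Units.val_mul, ← Matrix.mulVec_mulVec, ← Matrix.mulVec_mulVec, hT.rf_apply hu x,
    hT.rf_apply hv x, Matrix.mulVec_sub, Matrix.mulVec_sub, Matrix.mulVec_smul, Matrix.mulVec_smul,
    hT.rf_perp hv (show h u v = 0 by rw [hT.hh.symm, hvu]), hT.rf_perp hu hvu, hT.rf_apply hu x, hT.rf_apply hv x]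
  abel

/-- An element commuting with a reflection keeps its vector. -/
theorem TData.eig_of_comm_rf {v : W} (hv : h v v ≠ 0) {B : GL β F} (hc : B * rf hT v = rf hT v * B) :
    ∃ r : F, r ≠ 0 ∧ (B : Mb) *ᵥ v = r • v := by
  have h1 := congrArg (fun D : GL β F => (D : Mb) *ᵥ v) hc
  simp only [Units.val_mul, ← Matrix.mulVec_mulVec, hT.rf_self hv, Matrix.mulVec_neg] at h1
  rw [hT.rf_apply hv] at h1
  have h2 : (2 : F) • ((B : Mb) *ᵥ v) = (2 * h ((B : Mb) *ᵥ v) v / h v v) • v := by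
    rw [two_smul]
    calc _ = (B : Mb) *ᵥ v - (-((B : Mb) *ᵥ v)) := by abel
      _ = _ := by rw [h1]; abel
  have h3 : (B : Mb) *ᵥ v = ((2 : F)⁻¹ * (2 * h ((B : Mb) *ᵥ v) v / h v v)) • v := by
    rw [← smul_smul, ← h2, inv_smul_smul₀ hT.two]
  refine ⟨_, fun e => gl_mulVec_ne_zero B (fun e0 : v = 0 => hv (by rw [e0, hT.hh.zero_left])) ?_, h3⟩
  rw [h3, e, zero_smul]

theorem TData.comm_rf_of_eig (h4 : Fintype.card β = 4) {μ : F} {B : GL β F} (hB : Sim h μ B) {v : W}
    (hv : h v v ≠ 0) {r : F} (hr : r ≠ 0) (hBv : (B : Mb) *ᵥ v = r • v) : B * rf hT v = rf hT v * B := by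
  have h1 := hT.rf_conj h4 hB hv
  rw [hBv, hT.rf_smul hv hr] at h1
  exact mul_inv_eq_iff_eq_mul.1 h1

/-- An element commuting with a product of two reflections keeps their plane. -/
theorem TData.mem_of_comm_pl {v u : W} (hv : h v v ≠ 0) (hu : h u u ≠ 0) (hvu : h v u = 0) {B : GL β F}
    (hc : B * (rf hT v * rf hT u) = rf hT v * rf hT u * B) :
    ∃ a b : F, (B : Mb) *ᵥ v = a • v + b • u := by
  have h1 := congrArg (fun D : GL β F => (D : Mb) *ᵥ v) hc
  simp only [Units.val_mul, ← Matrix.mulVec_mulVec, hT.rf_perp hu hvu, hT.rf_self hv, Matrix.mulVec_neg] at h1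
  rw [hT.rf_apply hu, Matrix.mulVec_sub, Matrix.mulVec_smul, hT.rf_perp hv (show h u v = 0 by rw [hT.hh.symm, hvu]),
    hT.rf_apply hv] at h1
  refine ⟨(2 : F)⁻¹ * (2 * h ((B : Mb) *ᵥ v) v / h v v), (2 : F)⁻¹ * (2 * h ((B : Mb) *ᵥ v) u / h u u), ?_⟩
  rw [← smul_smul, ← smul_smul, ← smul_add, eq_inv_smul_iff₀ hT.two, two_smul]
  calc _ = (B : Mb) *ᵥ v - (-((B : Mb) *ᵥ v)) := by abel
    _ = _ := by rw [h1]; abel

theorem Dg.rf {e : Fin 4 → β → F} (he : F4 h e) (a : Fin 4) : Dg e {a} (rf hT (e a)) := fun b => by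
  by_cases hab : b = a
  · subst hab; rw [hT.rf_self (he.ne b), sgS, if_pos (Finset.mem_singleton_self b), neg_one_smul]
  · rw [hT.rf_perp (he.ne a) (he.orth b a hab), sgS, if_neg (by simpa using hab), one_smul]

theorem TData.dg_pl {e : Fin 4 → β → F} (he : F4 h e) {a b : Fin 4} (hab : a ≠ b) :
    Dg e {a, b} (TensorPowOrth.rf hT (e a) * TensorPowOrth.rf hT (e b)) := by
  have := (Dg.rf hT he a).mul (Dg.rf hT he b)
  rwa [show symmDiff ({a} : Finset (Fin 4)) {b} = {a, b} by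
    ext x; simp [Finset.mem_symmDiff]; constructor
    · rintro (⟨rfl, -⟩ | ⟨rfl, -⟩) <;> simp
    · rintro (rfl | rfl) <;> simp [hab, Ne.symm hab]] at this

theorem TData.four_ne : (4 : F) ≠ 0 := by
  rw [show (4 : F) = 2 * 2 by norm_num]
  exact mul_ne_zero hT.two hT.two

theorem TData.trace_rf (h4 : Fintype.card β = 4) {v : W} (hv : h v v ≠ 0) : (rf hT v : Mb).trace = 2 := by
  obtain ⟨e, he, rfl⟩ := hT.frame1 h4 hv
  rw [Dg.trace hT he h4 (Dg.rf hT he 0)]
  simp [Fin.sum_univ_four, sgS]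
  norm_num

theorem TData.trace_pl (h4 : Fintype.card β = 4) {v u : W} (hv : h v v ≠ 0) (hu : h u u ≠ 0) (hvu : h v u = 0) :
    (rf hT v * rf hT u : GL β F).val.trace = 0 := by
  obtain ⟨e, he, rfl, rfl⟩ := hT.frame2 h4 hv hu hvu
  rw [Dg.trace hT he h4 (hT.dg_pl he (show (0 : Fin 4) ≠ 1 by decide))]
  simp [Fin.sum_univ_four, sgS]

theorem TData.rf_nonscalar (h4 : Fintype.card β = 4) {v : W} (hv : h v v ≠ 0) (r : F) :
    (rf hT v : Mb) ≠ r • 1 := fun e => by
  obtain ⟨f, hf, rfl⟩ := hT.frame1 h4 hv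
  have h1 := hT.rf_self hv
  have h2 := hT.rf_perp hv (hf.orth 1 0 (by decide))
  rw [e, Matrix.smul_mulVec, Matrix.one_mulVec] at h1 h2
  have e1 : r = 1 := smul_left_injective F (fun e0 : f 1 = 0 => hf.ne 1 (by rw [e0, hT.hh.zero_left]))
    (show r • f 1 = (1 : F) • f 1 by rw [one_smul]; exact h2)
  have e2 : r = -1 := smul_left_injective F (fun e0 : f 0 = 0 => hv (by rw [e0, hT.hh.zero_left]))
    (show r • f 0 = (-1 : F) • f 0 by rw [neg_one_smul]; exact h1)
  exact hT.two (by linear_combination e1.symm.trans e2)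

theorem TData.pl_nonscalar (h4 : Fintype.card β = 4) {v u : W} (hv : h v v ≠ 0) (hu : h u u ≠ 0) (hvu : h v u = 0)
    (r : F) : (rf hT v * rf hT u : GL β F).val ≠ r • 1 := fun e => by
  have h0 := hT.trace_pl h4 hv hu hvu
  rw [e, Matrix.trace_smul, Matrix.trace_one, h4, smul_eq_mul, mul_eq_zero] at h0
  rcases h0 with h0 | h0
  · haveI : Nontrivial β := Fintype.one_lt_card_iff_nontrivial.1 (by omega)
    exact Units.ne_zero _ (by rw [e, h0, zero_smul])
  · exact hT.four_ne (by simpa using h0)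

/-- There is no anti-isometric involution. -/
theorem TData.no_anti (h4 : Fintype.card β = 4) {J : GL β F} (hJJ : J * J = 1) (hJ : Sim h (-1) J) : False := by
  have hs := hT.hh
  obtain ⟨x, -, hx⟩ := hs.exists_aniso hT.two hs.ndOn_top (Submodule.exists_mem_ne_zero_of_ne_bot fun e' => by
      have := congrArg (fun U : Submodule F W => finrank F U) e'
      simp only [finrank_top, Module.finrank_pi, finrank_bot] at this
      omega)
  have hJJ' : ∀ y, (J : Mb) *ᵥ ((J : Mb) *ᵥ y) = y := fun y => by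
    rw [Matrix.mulVec_mulVec, ← Units.val_mul, hJJ, Units.val_one, Matrix.one_mulVec]
  have hanti : ∀ a b, h ((J : Mb) *ᵥ a) b = -h a ((J : Mb) *ᵥ b) := fun a b => by
    conv_lhs => rw [← hJJ' b, hJ, neg_one_mul]
  have hperp : ∀ a, h a ((J : Mb) *ᵥ a) = 0 := fun a => by
    have := hanti a a
    rw [hs.symm] at this
    exact (mul_eq_zero.1 (show (2 : F) * h a ((J : Mb) *ᵥ a) = 0 by linear_combination this)).resolve_left hT.two
  obtain ⟨Jx, hJx⟩ : ∃ Jx, Jx = (J : Mb) *ᵥ x := ⟨_, rfl⟩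
  have hxx' : h Jx Jx = -h x x := by rw [hJx, hJ, neg_one_mul]
  obtain ⟨U, hU, hd, hmem⟩ := hT.exists_perpN h4 2 ![x, Jx]
    (fun a b hab => by
      fin_cases a <;> fin_cases b <;>
        first | exact absurd rfl hab | (simp [hJx, hperp]; done) | (simp [hJx, hs.symm ((J : Mb) *ᵥ x) x, hperp]))
    (fun a => by fin_cases a <;> simp [hxx', hx])
  obtain ⟨y, hy, hyy⟩ := hs.exists_aniso hT.two hU (Submodule.exists_mem_ne_zero_of_ne_bot fun e' => by
    rw [e', finrank_bot] at hd; omega)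
  have hyx : h y x = 0 := (hmem y).1 hy 0
  have hyJx : h y Jx = 0 := (hmem y).1 hy 1
  obtain ⟨Jy, hJy⟩ : ∃ Jy, Jy = (J : Mb) *ᵥ y := ⟨_, rfl⟩
  have e1 : h x Jy = 0 := by
    rw [hJx, hs.symm, hanti] at hyJx
    rw [hJy]
    exact neg_eq_zero.1 hyJx
  have e2 : h Jx Jy = 0 := by rw [hJx, hJy, hJ, hs.symm x y, hyx, mul_zero]
  have hyy' : h Jy Jy = -h y y := by rw [hJy, hJ, neg_one_mul]
  have e3 : h x Jx = 0 := hJx ▸ hperp x
  have e4 : h y Jy = 0 := hJy ▸ hperp y
  refine hT.four h4 (x + Jx) (y + Jy) ⟨?_, ?_, ?_, fun s t hst => ?_⟩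
  · simp only [hs.add_left, hs.add_right, hxx', hs.symm Jx x, e3]; ring
  · simp only [hs.add_left, hs.add_right, hyy', hs.symm Jy y, e4]; ring
  · simp only [hs.add_left, hs.add_right, hs.symm x y, hyx, e1, hs.symm Jx y, hyJx, e2]; ring
  · have k1 := congrArg (fun v => h v x) hst
    have k2 := congrArg (fun v => h v y) hst
    simp only [hs.add_left, hs.smul_left, hs.zero_left, hyx, hs.symm Jx x, e3, hs.symm Jy x, e1, hs.symm x y,
      hs.symm Jx y, hyJx, hs.symm Jy y, e4, mul_zero, add_zero, zero_add, mul_eq_zero] at k1 k2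
    exact ⟨k1.resolve_right hx, k2.resolve_right hyy⟩

/-- A similitude with scalar square: a multiple of a diagonal involution, or without eigenvectors. -/
theorem TData.sim_cases (h4 : Fintype.card β = 4) {μ l : F} {B : GL β F} (hB : Sim h μ B)
    (hBB : (B : Mb) * (B : Mb) = l • 1) :
    (∃ (r : F) (e : Fin 4 → W) (S : Finset (Fin 4)) (D : GL β F), r ≠ 0 ∧ F4 h e ∧ Dg e S D ∧
      (B : Mb) = r • (D : Mb)) ∨
      ((B : Mb).trace = 0 ∧ ¬ IsSquare l ∧ ∀ (r : F) (x : W), x ≠ 0 → (B : Mb) *ᵥ x ≠ r • x) := by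
  classical
  have hs := hT.hh
  have hBB' : ∀ x, (B : Mb) *ᵥ ((B : Mb) *ᵥ x) = l • x := fun x => by
    rw [Matrix.mulVec_mulVec, hBB, Matrix.smul_mulVec, Matrix.one_mulVec]
  have hμ := hT.sim_ne h4 hB
  obtain ⟨v, -, hv⟩ := hs.exists_aniso hT.two hs.ndOn_top (Submodule.exists_mem_ne_zero_of_ne_bot fun e' => by
      have := congrArg (fun U : Submodule F W => finrank F U) e'
      simp only [finrank_top, Module.finrank_pi, finrank_bot] at this
      omega)
  have hv0 : v ≠ 0 := fun e0 => hv (by rw [e0, hs.zero_left])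
  have hll : μ * μ = l * l := by
    have h1 := hB ((B : Mb) *ᵥ v) ((B : Mb) *ᵥ v)
    rw [hBB', hB, hs.smul_left, hs.smul_right] at h1
    exact mul_right_cancel₀ hv (by linear_combination -h1)
  by_cases hsq : IsSquare l
  · left
    obtain ⟨r, hr⟩ := hsq
    have hl0 : l ≠ 0 := fun e => hμ (mul_self_eq_zero.1 (by rw [hll, e, zero_mul]))
    have hr0 : r ≠ 0 := fun e => hl0 (by rw [hr, e, zero_mul])
    obtain ⟨J, hJ⟩ : ∃ J, J = scal r⁻¹ (inv_ne_zero hr0) B := ⟨_, rfl⟩
    have hJJ : J * J = 1 := Units.ext (by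
      rw [Units.val_mul, hJ, scal_val, Units.val_one, Matrix.smul_mul, Matrix.mul_smul, smul_smul, hBB, smul_smul, hr]
      rw [show r⁻¹ * r⁻¹ * (r * r) = 1 by field_simp, one_smul])
    have hJs : Sim h (μ * (r⁻¹ * r⁻¹)) J := fun x y => by
      rw [hJ, scal_val, Matrix.smul_mulVec, Matrix.smul_mulVec, hs.smul_left, hs.smul_right, hB]; ring
    have hν : μ * (r⁻¹ * r⁻¹) = 1 ∨ μ * (r⁻¹ * r⁻¹) = -1 := by
      refine mul_self_eq_one_iff.1 ?_
      rw [show μ * (r⁻¹ * r⁻¹) * (μ * (r⁻¹ * r⁻¹)) = μ * μ * (r⁻¹ * r⁻¹) * (r⁻¹ * r⁻¹) by ring, hll, hr]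
      field_simp
    rcases hν with hν | hν
    swap
    · exact (hT.no_anti h4 hJJ (hν ▸ hJs)).elim
    have hJi : J ∈ TensorOrth.iso h := fun x y => by rw [hJs, hν, one_mul]
    obtain ⟨e, S, he, -, hS⟩ := hT.invol_dg h4 hJi hJJ (n := 0) (by omega) Fin.elim0 (fun a => a.elim0)
      (fun a => a.elim0) (fun a => a.elim0)
    refine ⟨r, e, S, J, hr0, he, hS, ?_⟩
    rw [hJ, scal_val, smul_smul, mul_inv_cancel₀ hr0, one_smul]
  right
  have hno : ∀ (r : F) (x : W), x ≠ 0 → (B : Mb) *ᵥ x ≠ r • x := fun r x hx e => hsq ⟨r, by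
    have h1 := hBB' x
    rw [e, Matrix.mulVec_smul, e, smul_smul] at h1
    exact (smul_left_injective F hx h1).symm⟩
  refine ⟨?_, hsq, hno⟩
  have hadj : ∀ x y, l * h ((B : Mb) *ᵥ x) y = μ * h x ((B : Mb) *ᵥ y) := fun x y => by
    rw [← hB x, hBB', hs.smul_right]
  have key : ∀ x, h x x ≠ 0 → ∃ x', x' = (B : Mb) *ᵥ x - (h ((B : Mb) *ᵥ x) x / h x x) • x ∧ h x' x = 0 ∧
      h x' x' ≠ 0 ∧ h ((B : Mb) *ᵥ x) x / h x x + h ((B : Mb) *ᵥ x') x' / h x' x' = 0 := by
    intro x hx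
    obtain ⟨r, hr⟩ : ∃ r, r = h ((B : Mb) *ᵥ x) x / h x x := ⟨_, rfl⟩
    have hb : h ((B : Mb) *ᵥ x) x = r * h x x := by rw [hr, div_mul_cancel₀ _ hx]
    have hb' : h x ((B : Mb) *ᵥ x) = r * h x x := by rw [hs.symm, hb]
    have hval : h ((B : Mb) *ᵥ x - r • x) ((B : Mb) *ᵥ x - r • x) = h x x * (μ - r * r) := by
      simp only [hs.sub_left, hs.sub_right, hs.smul_left, hs.smul_right, hb, hb', hB x x]; ring
    have hne : h x x * (μ - r * r) ≠ 0 := by
      refine mul_ne_zero hx fun e => ?_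
      have h1 := hadj x x
      rw [hb, hb'] at h1
      rcases eq_or_ne r 0 with h0 | h0
      · exact hμ (by rw [h0] at e; linear_combination e)
      · exact hsq ⟨r, mul_right_cancel₀ (mul_ne_zero h0 hx) (by linear_combination h1 + r * h x x * e)⟩
    refine ⟨_, rfl, ?_, ?_, ?_⟩
    · rw [← hr, hs.sub_left, hs.smul_left, hb, sub_self]
    · rw [← hr, hval]; exact hne
    · rw [← hr]
      obtain ⟨v', hv'⟩ : ∃ v', v' = h ((B : Mb) *ᵥ x - r • x) ((B : Mb) *ᵥ x - r • x) := ⟨_, rfl⟩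
      rw [← hv']
      have hv'0 : v' ≠ 0 := by rw [hv', hval]; exact hne
      field_simp
      rw [hv', hval]
      simp only [Matrix.mulVec_sub, Matrix.mulVec_smul, hBB', hs.sub_left, hs.sub_right, hs.smul_left, hs.smul_right,
        hb, hb', hB x x]
      ring
  obtain ⟨v', hv'def, hv'v, hv'v', hsum⟩ := key v hv
  obtain ⟨U, hU, hd, hmem⟩ := hT.exists_perpN h4 2 ![v, v']
    (fun a b hab => by
      fin_cases a <;> fin_cases b <;>
        first | exact absurd rfl hab | simpa using hv'v | simpa [hs.symm v v'] using hv'v)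
    (fun a => by fin_cases a <;> simpa)
  obtain ⟨y, hy, hyy⟩ := hs.exists_aniso hT.two hU (Submodule.exists_mem_ne_zero_of_ne_bot fun e' => by
    rw [e', finrank_bot] at hd; omega)
  have hyv : h y v = 0 := (hmem y).1 hy 0
  have hyv' : h y v' = 0 := (hmem y).1 hy 1
  obtain ⟨y', hy'def, hy'y, hy'y', hsum'⟩ := key y hyy
  have hyBv : h y ((B : Mb) *ᵥ v) = 0 := by
    rw [hv'def, hs.sub_right, hs.smul_right, hyv, mul_zero, sub_zero] at hyv'
    exact hyv'
  have hl0 : l ≠ 0 := fun e => hsq ⟨0, by rw [e, mul_zero]⟩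
  have hByv : h ((B : Mb) *ᵥ y) v = 0 := mul_left_cancel₀ hl0 (by rw [hadj, hyBv, mul_zero, mul_zero])
  have hy'v : h y' v = 0 := by rw [hy'def, hs.sub_left, hs.smul_left, hByv, hyv, mul_zero, sub_zero]
  have hy'v' : h y' v' = 0 := by
    rw [hy'def, hv'def, hs.sub_left, hs.sub_right, hs.sub_right, hs.smul_left, hs.smul_right, hs.smul_right, hB, hyv,
      hByv, hyBv, hs.smul_left, hyv]
    ring
  have hF : F4 h ![v, v', y, y'] := by
    refine ⟨fun a b hab => ?_, fun a => ?_⟩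
    · fin_cases a <;> fin_cases b <;> first
        | exact absurd rfl hab
        | (simp only [Matrix.cons_val_zero, Matrix.cons_val_one, Matrix.cons_val_two, Matrix.cons_val_three,
            Matrix.tail_cons, Matrix.head_cons]
           first | assumption | (rw [hs.symm]; assumption))
        | (simp; first | assumption | (rw [hs.symm]; assumption))
    · fin_cases a <;> simpa
  rw [hF.trace_eq hT h4, Fin.sum_univ_four]
  simp only [Matrix.cons_val_zero, Matrix.cons_val_one, Matrix.cons_val]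
  rw [hsum, zero_add, hsum']

/-- The vector of a Siegel map in dimension four is anisotropic. -/
theorem TData.sieg_ne (h4 : Fintype.card β = 4) {z w : W} (hz : h z z = 0) (hz0 : z ≠ 0) (hwz : h w z = 0)
    (hw : ∀ r : F, w ≠ r • z) : h w w ≠ 0 := fun e => hT.four h4 z w
  ⟨hz, e, by rw [hT.hh.symm, hwz], fun s t hst => by
    have ht : t = 0 := by
      by_contra ht
      refine hw (-(t⁻¹ * s)) ?_
      have h1 : t • w = -(s • z) := eq_neg_of_add_eq_zero_right hst
      rw [neg_smul, ← smul_smul, ← smul_neg, ← h1, inv_smul_smul₀ ht]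
    refine ⟨?_, ht⟩
    rw [ht, zero_smul, add_zero] at hst
    exact (smul_eq_zero.1 hst).resolve_right hz0⟩

/-- The square of the displacement of a Siegel map. -/
theorem TData.sieg_sq {B : GL β F} {z w : W} (hz : h z z = 0) (hwz : h w z = 0) (hB : IsSieg h B z w) (x : W) :
    ((B : Mb) - 1) *ᵥ (((B : Mb) - 1) *ᵥ x) = (-(h w w * h x z)) • z := by
  have hN : ∀ x, ((B : Mb) - 1) *ᵥ x = h x z • w - h x w • z - (h w w / 2 * h x z) • z := fun x => by
    rw [Matrix.sub_mulVec, Matrix.one_mulVec, hB]; abel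
  simp only [hN, hT.hh.sub_left, hT.hh.smul_left, hz, hwz, hT.hh.symm z w, mul_zero, sub_zero]
  match_scalars <;> ring

theorem TData.pure_GT {l : κ} {x : GL X F} (hx : Pure h l x) : x ∈ GT (κ := κ) c h := by
  obtain ⟨B, z, w, -, hz, -, hwz, -, hB, rfl⟩ := hx
  exact hT.pe_sieg hB hz hwz

/-- A hyperbolic pair and an orthogonal pair. -/
theorem TData.exists_mid (h4 : Fintype.card β = 4) : ∃ z u w₁ w₂ : W, h z z = 0 ∧ z ≠ 0 ∧ h u u = 0 ∧ h u z = 1 ∧
    h w₁ z = 0 ∧ h w₁ u = 0 ∧ h w₂ z = 0 ∧ h w₂ u = 0 ∧ h w₁ w₂ = 0 ∧ h w₁ w₁ ≠ 0 ∧ h w₂ w₂ ≠ 0 := by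
  have hs := hT.hh
  obtain ⟨z, u, hz, hu, huz⟩ := hs.exists_hyp hT.two (by omega)
  have hz0 : z ≠ 0 := fun e => by rw [e, hs.zero_right] at huz; exact zero_ne_one huz
  obtain ⟨w₁, hw₁, h11⟩ := hs.exists_aniso hT.two (hs.ndOn_perp2 hu hz huz) (Submodule.exists_mem_ne_zero_of_ne_bot
    fun e => by have := hs.finrank_perp2 u z; rw [e, finrank_bot] at *; omega)
  have hw₁u : h w₁ u = 0 := hw₁.1
  have hw₁z : h w₁ z = 0 := hw₁.2
  obtain ⟨U, hU, hd, hmem⟩ := hT.exists_perpN h4 3 ![z + u, z - u, w₁]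
    (fun a b hab => by
      fin_cases a <;> fin_cases b <;> first
        | exact absurd rfl hab
        | (simp [hs.add_left, hs.add_right, hs.sub_left, hs.sub_right, hz, hu, huz, hs.symm z u, hw₁u, hw₁z,
            hs.symm z w₁, hs.symm u w₁]))
    (fun a => by
      have h22 : (1 : F) + 1 ≠ 0 := by rw [one_add_one_eq_two]; exact hT.two
      fin_cases a <;> simp [hs.add_left, hs.add_right, hs.sub_left, hs.sub_right, hz, hu, huz, hs.symm z u, h11,
        h22, hT.two]
      exact fun e => hT.two (by linear_combination -e))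
  obtain ⟨w₂, hw₂, h22⟩ := hs.exists_aniso hT.two hU (Submodule.exists_mem_ne_zero_of_ne_bot fun e' => by
    rw [e', finrank_bot] at hd; omega)
  have k0 : h w₂ z + h w₂ u = 0 := by rw [← hs.add_right]; exact (hmem w₂).1 hw₂ 0
  have k1 : h w₂ z - h w₂ u = 0 := by rw [← hs.sub_right]; exact (hmem w₂).1 hw₂ 1
  have k2 : h w₂ w₁ = 0 := (hmem w₂).1 hw₂ 2
  refine ⟨z, u, w₁, w₂, hz, hz0, hu, huz, hw₁z, hw₁u, ?_, ?_, by rw [hs.symm, k2], h11, h22⟩
  · exact mul_left_cancel₀ hT.two (by linear_combination k0 + k1)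
  · exact mul_left_cancel₀ hT.two (by linear_combination k0 - k1)

/-- A Siegel element at a factor fixing a given vector. -/
theorem TData.exists_pure_perp (h4 : Fintype.card β = 4) (l : κ) {v : W} (hv : h v v ≠ 0) :
    ∃ B : GL β F, Pure (κ := κ) h l (pe l B) ∧ B ∈ TensorOrth.iso h ∧ (B : Mb) *ᵥ v = v ∧
      B * rf hT v = rf hT v * B := by
  have hs := hT.hh
  obtain ⟨U, hU, hd, hmem⟩ := hT.exists_perpN h4 1 ![v] (fun a b hab => absurd (Subsingleton.elim a b) hab)
    (fun a => by fin_cases a; exact hv)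
  obtain ⟨b, hb, d, hd', hbb, hdd, hdb⟩ := hs.exists_pair_in hT.two hU (by omega)
  have hbv : h b v = 0 := (hmem b).1 hb 0
  have hdv : h d v = 0 := (hmem d).1 hd' 0
  obtain ⟨U', hU', hd2, hmem'⟩ := hT.exists_perpN h4 3 ![v, b + d, b - d]
    (fun a a' hab => by
      fin_cases a <;> fin_cases a' <;> first
        | exact absurd rfl hab
        | (simp [hs.add_left, hs.add_right, hs.sub_left, hs.sub_right, hbb, hdd, hdb, hs.symm b d, hbv, hdv,
            hs.symm v b, hs.symm v d]))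
    (fun a => by
      have h22 : (1 : F) + 1 ≠ 0 := by rw [one_add_one_eq_two]; exact hT.two
      fin_cases a <;> simp [hs.add_left, hs.add_right, hs.sub_left, hs.sub_right, hbb, hdd, hdb, hs.symm b d, hv,
        h22, hT.two]
      exact fun e => hT.two (by linear_combination -e))
  obtain ⟨w, hw, hww⟩ := hs.exists_aniso hT.two hU' (Submodule.exists_mem_ne_zero_of_ne_bot fun e' => by
    rw [e', finrank_bot] at hd2; omega)
  have hwv : h w v = 0 := (hmem' w).1 hw 0
  have k0 : h w b + h w d = 0 := by rw [← hs.add_right]; exact (hmem' w).1 hw 1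
  have k1 : h w b - h w d = 0 := by rw [← hs.sub_right]; exact (hmem' w).1 hw 2
  have hwb : h w b = 0 := mul_left_cancel₀ hT.two (by linear_combination k0 + k1)
  have hb0 : b ≠ 0 := fun e => by rw [e, hs.zero_right] at hdb; exact zero_ne_one hdb
  obtain ⟨B, hB, hBs⟩ := hs.exists_sieg hT.two hbb hwb
  have hBv : (B : Mb) *ᵥ v = v := hs.IsSieg_fix hBs (by rw [hs.symm, hbv]) (by rw [hs.symm, hwv])
  exact ⟨B, ⟨B, b, w, hB, hbb, hb0, hwb, hww, hBs, rfl⟩, hB, hBv,
    hT.comm_rf_of_eig h4 (sim_one_of_iso hB) hv one_ne_zero (by rw [one_smul, hBv])⟩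

/-- The signs of a diagonal involution at a factor. -/
theorem TData.sgn_dg (h4 : Fintype.card β = 4) (hκ : 2 ≤ Fintype.card κ) (i : κ) {e : Fin 4 → W} (he : F4 h e)
    (S : Finset (Fin 4)) : ∃ B : GL β F, Dg e S B ∧
      sgn (hT.sym (κ := κ)) hT.two (pe i B) = (1, zeta h κ ^ S.card) := by
  induction S using Finset.induction_on with
  | empty =>
    refine ⟨1, Dg.one e, ?_⟩
    have h1 := sgn_sq (hT.sym (κ := κ)) hT.two (1 : GL X F)
    rw [← sgn_mul (hT.sym (κ := κ)) hT.two (one_mem _) (one_mem _), one_mul] at h1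
    rw [map_one, h1, Finset.card_empty, pow_zero]
    rfl
  | insert a S ha ih =>
    obtain ⟨B, hB, hsg⟩ := ih
    refine ⟨TensorPowOrth.rf hT (e a) * B, ?_, ?_⟩
    · have := (Dg.rf hT he a).mul hB
      rwa [show symmDiff ({a} : Finset (Fin 4)) S = insert a S by
        ext x; by_cases hx : x = a <;> simp [Finset.mem_symmDiff, hx, ha]] at this
    · rw [map_mul, sgn_mul (hT.sym (κ := κ)) hT.two (hT.pe_iso i (hT.rf_iso _))
        (hT.pe_iso i (Dg.iso hT he h4 hB)), hsg,
        hT.sgn_pe_refl_even ⟨2, by omega⟩ hκ i (he.ne a) (hT.rf_apply (he.ne a)), Finset.card_insert_of_notMem ha,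
        pow_succ']
      simp [Prod.ext_iff]

end Cfsg.Agent.Classical.TensorPowOrth
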