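import Cfsg.Agent.Lib.Classical.TensorPowOrth.FourTwoInv

/-!
Factors of dimension four: the tensors fixed by a plane, and the centraliser of a plane over fields with at least five
elements.
-/

set_option autoImplicit false
set_option linter.unusedSectionVars false
set_option linter.unusedSimpArgs false
set_option linter.style.haveILetI false

open scoped Kronecker

namespace Cfsg.Agent.Classical.TensorPowOrth

open Matrix Module MaxTv TensorMax TensorPow
open Cfsg.Agent.Classical.TensorOrth (Sym NdOn iso TSP IsSieg)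

variable {F : Type*} [Field F] [Fintype F] {κ β : Type} [Fintype κ] [DecidableEq κ] [Fintype β] [DecidableEq β]
  {c : F} {h : (β → F) → (β → F) → F}

local notation "X" => (κ → β)
local notation "V" => ((κ → β) → F)
local notation "Mn" => Matrix (κ → β) (κ → β) F
local notation "Mb" => Matrix β β F
local notation "W" => (β → F)

variable (hT : TData c h)
include hT

theorem TData.isSquare_mul_ns {a b : F} (ha : ¬ IsSquare a) (hb : ¬ IsSquare b) : IsSquare (a * b) := by
  classical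
  have ha0 : a ≠ 0 := fun e => ha ⟨0, by rw [e, mul_zero]⟩
  have hb0 : b ≠ 0 := fun e => hb ⟨0, by rw [e, mul_zero]⟩
  rw [← quadraticChar_one_iff_isSquare (mul_ne_zero ha0 hb0), map_mul,
    quadraticChar_neg_one_iff_not_isSquare.2 ha, quadraticChar_neg_one_iff_not_isSquare.2 hb]
  norm_num

/-- The tensors fixed by a diagonal involution negating two places lie in the sum of the lines of the other two. -/
theorem TData.fixed_split (h4 : Fintype.card β = 4) (i : κ) {e : Fin 4 → W} (he : F4 h e) {t : V}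
    (ht : (pe i (rf hT (e 0) * rf hT (e 1)) : Mn) *ᵥ t = t) :
    ∃ a ∈ line i (e 2), ∃ b ∈ line i (e 3), t = a + b := by
  obtain ⟨P, hP⟩ : ∃ P, P = rf hT (e 0) * rf hT (e 1) := ⟨_, rfl⟩
  rw [← hP] at ht
  obtain ⟨N, hN⟩ : ∃ N : Fin 4 → Mb, ∀ j, N j = (h (e j) (e j))⁻¹ • rk hT.hh (e j) (e j) :=
    ⟨fun j => (h (e j) (e j))⁻¹ • rk hT.hh (e j) (e j), fun _ => rfl⟩
  have hsum : (1 : Mb) + (P : Mb) = (2 : F) • (N 2) + (2 : F) • (N 3) := he.ext_mat hT h4 fun j => by
    rw [hN, hN, Matrix.add_mulVec, Matrix.add_mulVec, Matrix.one_mulVec, hP,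
      hT.dg_pl he (show (0 : Fin 4) ≠ 1 by decide) j, smul_smul, smul_smul, Matrix.smul_mulVec, Matrix.smul_mulVec,
      rk_mulVec, rk_mulVec]
    have hd : ∀ j : Fin 4, j = 0 ∨ j = 1 ∨ j = 2 ∨ j = 3 := by decide
    rcases hd j with rfl | rfl | rfl | rfl
    all_goals
      simp [sgS, he.orth 0 2 (by decide), he.orth 0 3 (by decide), he.orth 1 2 (by decide), he.orth 1 3 (by decide),
        he.orth 2 3 (by decide), he.orth 3 2 (by decide)]
    all_goals
      have := he.ne 2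
      have := he.ne 3
      match_scalars <;> field_simp <;> ring
  have h2 : (2 : F) • t = (2 : F) • ((et i (N 2) : Mn) *ᵥ t) + (2 : F) • ((et i (N 3) : Mn) *ᵥ t) := by
    have h1 := congrArg (fun A : Mb => (et i A : Mn) *ᵥ t) hsum
    simp only [et_add, et_smul, et_one, et_val, Matrix.add_mulVec, Matrix.smul_mulVec, Matrix.one_mulVec, ht] at h1
    rw [two_smul]
    exact h1
  have hline : ∀ j, (et i (N j) : Mn) *ᵥ t ∈ line i (e j) := fun j =>
    et_mem_line i (fun y => ⟨(h (e j) (e j))⁻¹ * h y (e j), by rw [hN, Matrix.smul_mulVec, rk_mulVec, smul_smul]⟩) t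
  exact ⟨_, hline 2, _, hline 3, smul_right_injective V hT.two (show (2 : F) • t = (2 : F) • (_ + _) by
    rw [smul_add]; exact h2)⟩

namespace Px

omit hT
variable {M : Subgroup (GL (κ → β) F)} (hM : Px c h M) (h4 : Fintype.card β = 4)
include hM h4

/-- Members commuting with a plane keep the elements fixing its fixed tensors. -/
theorem plane_fixes {i : κ} {e : Fin 4 → W} (he : F4 h e) {g k : GL X F}
    (hg : g * pe i (rf hM.data (e 0) * rf hM.data (e 1)) = pe i (rf hM.data (e 0) * rf hM.data (e 1)) * g)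
    (h2 : k ∈ Fx F i (e 2)) (h3 : k ∈ Fx F i (e 3)) {j : Fin 4} (hj : j = 2 ∨ j = 3) :
    g⁻¹ * k * g ∈ Fx F i (e j) := fun t ht => by
  have hT := hM.data
  have hPt : ((rf hT (e 0) * rf hT (e 1) : GL β F) : Mb) *ᵥ e j = e j := by
    rw [hT.dg_pl he (show (0 : Fin 4) ≠ 1 by decide) j, sgS, if_neg, one_smul]
    rcases hj with rfl | rfl <;> decide
  have hfix : (pe i (rf hT (e 0) * rf hT (e 1)) : Mn) *ᵥ ((g : Mn) *ᵥ t) = (g : Mn) *ᵥ t := by
    rw [Matrix.mulVec_mulVec, ← Units.val_mul, ← hg, Units.val_mul, ← Matrix.mulVec_mulVec,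
      fixed_of_mem_line hPt ht]
  obtain ⟨a, ha, b, hb, hab⟩ := hT.fixed_split h4 i he hfix
  rw [Units.val_mul, Units.val_mul, ← Matrix.mulVec_mulVec, ← Matrix.mulVec_mulVec, hab, Matrix.mulVec_add,
    h2 a ha, h3 b hb, ← hab, inv_mulVec_cancel]

/-- The centraliser of a hyperbolic plane, over at least five elements. -/
theorem cent_hyp (hq : 5 ≤ Fintype.card F) {i : κ} {e : Fin 4 → W} (he : F4 h e)
    (hsq : IsSquare (-(h (e 0) (e 0) * h (e 1) (e 1)))) :
    Cen M (pe i (rf hM.data (e 0) * rf hM.data (e 1))) := by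
  classical
  intro g hg hgs
  have hT := hM.data
  have hs := hT.hh
  haveI := hT.nontriv h4
  obtain ⟨r, hr⟩ := hsq
  obtain ⟨r', hr'⟩ : ∃ r', r' = r / h (e 0) (e 0) := ⟨_, rfl⟩
  have h0 := he.ne 0
  have h1 := he.ne 1
  have hrr : r' * r' * h (e 0) (e 0) + h (e 1) (e 1) = 0 := by
    rw [hr']
    field_simp
    linear_combination -hr
  obtain ⟨z, hz⟩ : ∃ z, z = r' • e 0 + e 1 := ⟨_, rfl⟩
  obtain ⟨u, hu⟩ : ∃ u, u = (2 * h (e 1) (e 1))⁻¹ • ((-r') • e 0 + e 1) := ⟨_, rfl⟩
  have h01 : h (e 0) (e 1) = 0 := he.orth 0 1 (by decide)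
  have h10 : h (e 1) (e 0) = 0 := he.orth 1 0 (by decide)
  have hzz : h z z = 0 := by
    simp only [hz, hs.add_left, hs.add_right, hs.smul_left, hs.smul_right, h01, h10]; linear_combination hrr
  have huu : h u u = 0 := by
    simp only [hu, hs.add_left, hs.add_right, hs.smul_left, hs.smul_right, h01, h10]
    linear_combination (2 * h (e 1) (e 1))⁻¹ * (2 * h (e 1) (e 1))⁻¹ * hrr
  have huz : h u z = 1 := by
    simp only [hu, hz, hs.add_left, hs.add_right, hs.smul_left, hs.smul_right, h01, h10]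
    have := hT.two
    field_simp
    linear_combination -hrr
  have hz0 : z ≠ 0 := fun e' => by rw [e', hs.zero_right] at huz; exact zero_ne_one huz
  have hperp : ∀ j : Fin 4, (j = 2 ∨ j = 3) → h (e j) z = 0 ∧ h (e j) u = 0 := fun j hj => by
    have e0 : h (e j) (e 0) = 0 := he.orth _ _ (by rcases hj with rfl | rfl <;> decide)
    have e1 : h (e j) (e 1) = 0 := he.orth _ _ (by rcases hj with rfl | rfl <;> decide)
    constructor <;> simp [hz, hu, hs.add_right, hs.smul_right, hs.neg_right, e0, e1]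
  obtain ⟨a, ha⟩ : ∃ a : F, a ∉ ({0, 1, -1} : Finset F) := Finset.exists_mem_notMem_of_card_lt_card
    (s := ({0, 1, -1} : Finset F)) (t := (Finset.univ : Finset F))
    (lt_of_le_of_lt Finset.card_le_three (by rw [Finset.card_univ]; omega)) |>.imp fun _ hx => hx.2
  simp only [Finset.mem_insert, Finset.mem_singleton, not_or] at ha
  obtain ⟨ha0, ha1, ha2⟩ := ha
  obtain ⟨B, hB, hBz, -, hBfix, hBG, -⟩ := hT.exists_torus (κ := κ) i hzz huu huz ha0
  have hρM : pe i B ∈ M := hM.pe_mem (hBG (Or.inl ⟨⟨2, by omega⟩, hM.ht⟩))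
  have hρfx : ∀ j : Fin 4, (j = 2 ∨ j = 3) → pe i B ∈ Fx F i (e j) := fun j hj t ht =>
    fixed_of_mem_line (hBfix _ (hperp j hj).1 (hperp j hj).2) ht
  obtain ⟨y, hy⟩ : ∃ y, y = g * pe i B * g⁻¹ := ⟨_, rfl⟩
  have hgi : g⁻¹ * pe i (rf hT (e 0) * rf hT (e 1)) = pe i (rf hT (e 0) * rf hT (e 1)) * g⁻¹ :=
    (Commute.inv_left (show Commute g _ from hgs)).eq
  have hyfx : ∀ j : Fin 4, (j = 2 ∨ j = 3) → y ∈ Fx F i (e j) := fun j hj => by
    have := hM.plane_fixes h4 he hgi (hρfx 2 (Or.inl rfl)) (hρfx 3 (Or.inr rfl)) hj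
    rwa [inv_inv, ← hy] at this
  have hyM : y ∈ M := hy ▸ mul_mem (mul_mem hg hρM) (inv_mem hg)
  have hyW := hM.fx_two h4 (he.ne 2) hyM (hyfx 2 (Or.inl rfl))
  obtain ⟨B', hB', hB'2, hyB⟩ := hT.fx_Wr (fun e' : e 2 = 0 => he.ne 2 (by rw [e', hs.zero_left])) hyW
    (hM.iso_mem hyM) (hyfx 2 (Or.inl rfl))
  have hB'3 : (B' : Mb) *ᵥ e 3 = e 3 := by
    by_contra hne
    obtain ⟨d, hd⟩ : ∃ d, d = (B' : Mb) *ᵥ e 3 - e 3 := ⟨_, rfl⟩
    obtain ⟨j⟩ : Nonempty β := Fintype.card_pos_iff.1 (by omega)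
    obtain ⟨l, hl⟩ := nonempty_rst hM.ht i
    have h5 := hyfx 3 (Or.inr rfl) _ (ptens_mem_line (i := i) (v := e 3) (fun _ => Pi.single j 1))
    rw [hyB, pe_mulVec, Function.update_self, Function.update_idem] at h5
    have h6 := congrArg (fun t => t - ptens (Function.update (fun _ : κ => (Pi.single j 1 : W)) i (e 3))) h5
    simp only [sub_self] at h6
    have h7 : ptens (Function.update (fun _ : κ => (Pi.single j 1 : W)) i d) = 0 := by
      rw [← h6]
      funext x
      rw [Pi.sub_apply, ptens_update, ptens_update, ptens_update, hd, Pi.sub_apply, sub_mul]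
    refine ptens_ne_zero (fun l => ?_) h7
    by_cases e' : l = i
    · rw [e', Function.update_self, hd]; exact sub_ne_zero.2 hne
    · rw [Function.update_of_ne e']; simp
  -- the eigenvectors
  have haa : a * a ≠ 1 := fun e' => (mul_self_eq_one_iff.1 e').elim ha1 ha2
  have hker : ∀ x, (B' : Mb) *ᵥ x = a • x → h x (e 2) = 0 ∧ h x (e 3) = 0 := fun x hx => by
    have key : ∀ w, (B' : Mb) *ᵥ w = w → h x w = 0 := fun w hw => by
      have h5 := hB' x w
      rw [hx, hw, hs.smul_left] at h5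
      exact (mul_eq_zero.1 (show (a - 1) * h x w = 0 by linear_combination h5)).resolve_left (sub_ne_zero.2 ha1)
    exact ⟨key _ hB'2, key _ hB'3⟩
  have hpair : ∀ x x', (B' : Mb) *ᵥ x = a • x → (B' : Mb) *ᵥ x' = a • x' → h x x' = 0 := fun x x' hx hx' => by
    have h5 := hB' x x'
    rw [hx, hx', hs.smul_left, hs.smul_right] at h5
    exact (mul_eq_zero.1 (show (a * a - 1) * h x x' = 0 by linear_combination h5)).resolve_left (sub_ne_zero.2 haa)
  obtain ⟨z', hz'0, hz'⟩ : ∃ z' : W, z' ≠ 0 ∧ ∀ x, (B' : Mb) *ᵥ x = a • x → ∃ t : F, x = t • z' := by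
    by_cases hex : ∃ x, x ≠ 0 ∧ (B' : Mb) *ᵥ x = a • x
    · obtain ⟨x₀, hx₀, hBx₀⟩ := hex
      refine ⟨x₀, hx₀, fun x hx => ?_⟩
      have hco : ∀ x, (B' : Mb) *ᵥ x = a • x →
          x = (h (e 0) x / h (e 0) (e 0)) • e 0 + (h (e 1) x / h (e 1) (e 1)) • e 1 := fun x hx => by
        conv_lhs => rw [he.expand hT h4 x]
        rw [Fin.sum_univ_four, hs.symm (e 2), (hker x hx).1, hs.symm (e 3), (hker x hx).2]
        simp
      obtain ⟨α, γ, hx'⟩ : ∃ α γ : F, x = α • e 0 + γ • e 1 := ⟨_, _, hco x hx⟩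
      obtain ⟨α₀, γ₀, hx₀'⟩ : ∃ α γ : F, x₀ = α • e 0 + γ • e 1 := ⟨_, _, hco x₀ hBx₀⟩
      have k1 : α * α₀ * h (e 0) (e 0) + γ * γ₀ * h (e 1) (e 1) = 0 := by
        have h5 := hpair x x₀ hx hBx₀
        rw [hx', hx₀'] at h5
        simp only [hs.add_left, hs.add_right, hs.smul_left, hs.smul_right, h01, h10] at h5
        linear_combination h5
      have k2 : α₀ * α₀ * h (e 0) (e 0) + γ₀ * γ₀ * h (e 1) (e 1) = 0 := by
        have h5 := hpair x₀ x₀ hBx₀ hBx₀
        rw [hx₀'] at h5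
        simp only [hs.add_left, hs.add_right, hs.smul_left, hs.smul_right, h01, h10] at h5
        linear_combination h5
      have hγ₀ : γ₀ ≠ 0 := fun e' => by
        rw [e'] at k2 hx₀'
        simp only [mul_zero, zero_mul, add_zero, mul_eq_zero, or_self, h0, or_false] at k2
        exact hx₀ (by rw [hx₀', k2]; simp)
      have hα₀ : α₀ ≠ 0 := fun e' => by
        rw [e'] at k2
        simp only [mul_zero, zero_mul, zero_add, mul_eq_zero, or_self, h1, or_false] at k2
        exact hγ₀ k2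
      refine ⟨γ / γ₀, ?_⟩
      have hα : γ / γ₀ * α₀ = α := by
        field_simp
        refine mul_left_cancel₀ (mul_ne_zero hα₀ h0) ?_
        linear_combination γ * k2 - γ₀ * k1
      rw [hx', hx₀', smul_add, smul_smul, smul_smul, hα, div_mul_cancel₀ _ hγ₀]
    · push Not at hex
      exact ⟨z, hz0, fun x hx => ⟨0, by rw [zero_smul]; by_contra h5; exact hex x h5 hx⟩⟩
  refine hM.line_mem_Wr h4 hg hzz hz0 hz'0 (i := i) (m := i) fun t ht => ?_
  refine mem_line_of_fixed (B := TensorPow.scal a⁻¹ (inv_ne_zero ha0) B') hz'0 (fun x hx => hz' x ?_) ?_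
  · rw [TensorPow.scal_val, Matrix.smul_mulVec] at hx
    conv_rhs => rw [← hx, smul_smul, mul_inv_cancel₀ ha0, one_smul]
  · have h5 : (pe i B : Mn) *ᵥ t = a • t := by
      have h6 := fixed_of_mem_line (B := TensorPow.scal a⁻¹ (inv_ne_zero ha0) B)
        (by rw [TensorPow.scal_val, Matrix.smul_mulVec, hBz, smul_smul, inv_mul_cancel₀ ha0, one_smul]) ht
      rw [← et_val, TensorPow.scal_val, et_smul, et_val, Matrix.smul_mulVec] at h6
      conv_rhs => rw [← h6, smul_smul, mul_inv_cancel₀ ha0, one_smul]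
    rw [← et_val, TensorPow.scal_val, et_smul, et_val, Matrix.smul_mulVec, ← hyB, hy, Units.val_mul, Units.val_mul,
      ← Matrix.mulVec_mulVec, ← Matrix.mulVec_mulVec, inv_mulVec_cancel, h5, Matrix.mulVec_smul, smul_smul,
      inv_mul_cancel₀ ha0, one_smul]

/-- The centralisers of planes, over at least five elements. -/
theorem cent_plane5 (hq : 5 ≤ Fintype.card F) {i : κ} {P : GL β F} (hP : Pl hM.data P) : Cen M (pe i P) := by
  have hT := hM.data
  obtain ⟨e, he, hD, hPe⟩ := hT.pl_dg h4 hP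
  by_cases hsq : IsSquare (-(h (e 0) (e 0) * h (e 1) (e 1)))
  · exact hPe ▸ hM.cent_hyp h4 hq he hsq
  have hsq' : IsSquare (-(h (e 2) (e 2) * h (e 3) (e 3))) := by
    by_contra hn
    refine he.not_sq hT h4 ?_
    have := hT.isSquare_mul_ns hsq hn
    rwa [neg_mul_neg, show h (e 0) (e 0) * h (e 1) (e 1) * (h (e 2) (e 2) * h (e 3) (e 3)) =
      h (e 0) (e 0) * h (e 1) (e 1) * h (e 2) (e 2) * h (e 3) (e 3) by ring] at this
  obtain ⟨π, hπ⟩ : ∃ π : Equiv.Perm (Fin 4), π = Equiv.swap 0 2 * Equiv.swap 1 3 := ⟨_, rfl⟩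
  have p0 : π 0 = 2 := by rw [hπ]; decide
  have p1 : π 1 = 3 := by rw [hπ]; decide
  have h6 := hM.cent_hyp h4 hq (i := i) (he.perm π) (by simpa [p0, p1] using hsq')
  have heq : rf hT (e 2) * rf hT (e 3) = -P := by
    refine Dg.unique hT he h4 (hT.dg_pl he (show (2 : Fin 4) ≠ 3 by decide)) ?_
    have h7 := hD.neg
    rwa [show ({0, 1} : Finset (Fin 4))ᶜ = {2, 3} by decide] at h7
  intro g hg hgc
  refine h6 g hg ?_
  simp only [Function.comp_apply, p0, p1]
  rw [heq, pe_neg, mul_neg, neg_mul, hgc]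

end Px

end Cfsg.Agent.Classical.TensorPowOrth
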