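import Cfsg.Agent.Lib.Classical.TensorPowOrth.FourThreeBase

/-!
Dimension four: a unipotent isometry commuting with a Siegel map moves some anisotropic vector to an orthogonal one
and fixes an anisotropic vector orthogonal to both.
-/

set_option autoImplicit false
set_option linter.unusedSectionVars false
set_option linter.unusedSimpArgs false
set_option linter.style.haveILetI false

namespace Cfsg.Agent.Classical.TensorPowOrth

open Matrix Module MaxTv TensorMax TensorPow
open Cfsg.Agent.Classical.TensorOrth (Sym NdOn iso TSP IsSieg)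

variable {F : Type*} [Field F] [Fintype F] {β : Type} [Fintype β] [DecidableEq β]
  {c : F} {h : (β → F) → (β → F) → F}

local notation "Mb" => Matrix β β F
local notation "W" => (β → F)

/-- A unipotent isometry commuting with a Siegel map. -/
theorem TData.unip_plane (hT : TData c h) (h4 : Fintype.card β = 4) (hq : Fintype.card F = 3) {B : GL β F}
    (hB : B ∈ TensorOrth.iso h) {n : ℕ} (hBn : B ^ 3 ^ n = 1) (hB1 : B ≠ 1) {S : GL β F} {z w : W}
    (hz : h z z = 0) (hz0 : z ≠ 0) (hwz : h w z = 0) (hww : h w w ≠ 0) (hS : IsSieg h S z w)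
    (hBS : B * S = S * B) :
    ∃ e f : W, h e e ≠ 0 ∧ h f f ≠ 0 ∧ h ((B : Mb) *ᵥ e) e = 0 ∧ h e f = 0 ∧ (B : Mb) *ᵥ f = f := by
  classical
  have hs := hT.hh
  have h2 := hT.two
  obtain ⟨u, huu, huz⟩ := hs.exists_partner h2 hz hz0
  obtain ⟨N, hN⟩ : ∃ N, N = (B : Mb) - 1 := ⟨_, rfl⟩
  have hNx : ∀ x, N *ᵥ x = (B : Mb) *ᵥ x - x := fun x => by rw [hN, Matrix.sub_mulVec, Matrix.one_mulVec]
  have hBx : ∀ x, (B : Mb) *ᵥ x = x + N *ᵥ x := fun x => by rw [hNx, add_sub_cancel]
  -- the singular vector is fixed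
  have hBz : (B : Mb) *ᵥ z = z := by
    have key : ∀ x, ((S : Mb) - 1) *ᵥ ((B : Mb) *ᵥ x) = (B : Mb) *ᵥ (((S : Mb) - 1) *ᵥ x) := fun x => by
      rw [Matrix.mulVec_mulVec, Matrix.mulVec_mulVec, sub_mul, mul_sub, ← Units.val_mul, ← Units.val_mul, hBS,
        one_mul, mul_one]
    have h5 : ((S : Mb) - 1) *ᵥ (((S : Mb) - 1) *ᵥ ((B : Mb) *ᵥ u)) =
        (B : Mb) *ᵥ (((S : Mb) - 1) *ᵥ (((S : Mb) - 1) *ᵥ u)) := by rw [key, key]
    rw [hT.sieg_sq hz hwz hS, hT.sieg_sq hz hwz hS, huz, mul_one, Matrix.mulVec_smul] at h5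
    obtain ⟨r, hr⟩ : ∃ r : F, (B : Mb) *ᵥ z = r • z := by
      refine ⟨(-h w w)⁻¹ * (-(h w w * h ((B : Mb) *ᵥ u) z)), ?_⟩
      rw [← smul_smul, h5, inv_smul_smul₀ (neg_ne_zero.2 hww)]
    have hr0 : r ≠ 0 := fun e0 => hz0 (by
      rw [e0, zero_smul] at hr
      exact gl_mulVec_injective B (hr.trans (Matrix.mulVec_zero _).symm))
    have hpow : ∀ k : ℕ, ((B ^ k : GL β F) : Mb) *ᵥ z = r ^ k • z := by
      intro k
      induction k with
      | zero => simp
      | succ k ih => rw [pow_succ, Units.val_mul, ← Matrix.mulVec_mulVec, hr, Matrix.mulVec_smul, ih, smul_smul,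
          pow_succ, mul_comm]
    have h6 := hpow (3 ^ n)
    rw [hBn, Units.val_one, Matrix.one_mulVec] at h6
    have h7 : r ^ 3 ^ n = 1 := (smul_left_injective F hz0 (by simpa using h6)).symm
    rcases three_pm hq hr0 with rfl | rfl
    · rw [hr, one_smul]
    · rw [Odd.neg_one_pow ((by decide : Odd 3).pow)] at h7
      exact absurd (show (2 : F) = 0 by linear_combination -h7) h2
  have hNz : N *ᵥ z = 0 := by rw [hNx, hBz, sub_self]
  have hperp : ∀ x, h (N *ᵥ x) z = 0 := fun x => by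
    rw [hNx, hs.sub_left]
    nth_rw 1 [← hBz]
    rw [hB, sub_self]
  have hsing : ∀ x, h x z = 0 → h x x = 0 → ∃ r : F, x = r • z := fun x hx hxx => by
    by_contra hne
    push Not at hne
    exact hT.sieg_ne h4 hz hz0 hx hne hxx
  -- the displacement on the orthogonal space
  have hnil : N ^ 3 ^ n = 0 := by
    haveI : Fact (Nat.Prime 3) := ⟨Nat.prime_three⟩
    haveI : CharP F 3 :=
      ringChar.of_eq (CharP.ringChar_of_prime_eq_zero Nat.prime_three (by exact_mod_cast three_zero hq))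
    haveI : Nonempty β := Fintype.card_pos_iff.1 (by omega)
    rw [hN, sub_pow_char_pow_of_commute 3 n (Commute.one_right _), ← Units.val_pow_eq_pow_val, hBn, Units.val_one,
      one_pow, sub_self]
  have hline : ∀ x, h x z = 0 → ∃ r : F, N *ᵥ x = r • z := by
    have key : ∀ j : ℕ, ∀ x, h x z = 0 → (∃ r : F, (N ^ j) *ᵥ (N *ᵥ x) = r • z) → ∃ r : F, N *ᵥ x = r • z := by
      intro j
      induction j with
      | zero => intro x _ hx; simpa using hx
      | succ j ih =>
        intro x hx hr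
        rw [pow_succ, ← Matrix.mulVec_mulVec] at hr
        obtain ⟨r, hr'⟩ := ih _ (hperp x) hr
        refine hsing _ (hperp x) ?_
        have h5 := hB x (N *ᵥ x)
        rw [hBx x, hBx (N *ᵥ x), hr'] at h5
        simp only [hs.add_left, hs.add_right, hs.smul_right, hx, hperp x, mul_zero, add_zero] at h5
        linear_combination h5
    intro x hx
    exact key (3 ^ n) x hx ⟨0, by rw [hnil, Matrix.zero_mulVec, zero_smul]⟩
  -- the orthogonal pair
  have hpp : h (u + z) (u + z) = 2 := by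
    simp only [hs.add_left, hs.add_right, huu, hz, huz, hs.symm z u]; ring
  have hqq : h (u - z) (u - z) = -2 := by
    simp only [hs.sub_left, hs.sub_right, huu, hz, huz, hs.symm z u]; ring
  obtain ⟨e, he, e0, e1⟩ := hT.frame2 h4 (v := u + z) (u := u - z) (by rw [hpp]; exact h2)
    (by rw [hqq]; exact neg_ne_zero.2 h2)
    (by simp only [hs.add_left, hs.sub_right, huu, hz, huz, hs.symm z u]; ring)
  have hej : ∀ j : Fin 4, (j = 2 ∨ j = 3) → h (e j) z = 0 ∧ h (e j) u = 0 := fun j hj => by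
    have k0 : h (e j) u + h (e j) z = 0 := by
      rw [← hs.add_right, ← e0]; exact he.orth j 0 (by rcases hj with rfl | rfl <;> decide)
    have k1 : h (e j) u - h (e j) z = 0 := by
      rw [← hs.sub_right, ← e1]; exact he.orth j 1 (by rcases hj with rfl | rfl <;> decide)
    exact ⟨mul_left_cancel₀ h2 (by linear_combination k0 - k1), mul_left_cancel₀ h2 (by linear_combination k0 + k1)⟩
  obtain ⟨a, ha⟩ := hline _ (hej 2 (Or.inl rfl)).1
  obtain ⟨b, hb⟩ := hline _ (hej 3 (Or.inr rfl)).1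
  obtain ⟨f, hfz, hfu, hff, hBf⟩ : ∃ f, h f z = 0 ∧ h f u = 0 ∧ h f f ≠ 0 ∧ (B : Mb) *ᵥ f = f := by
    by_cases ha0 : a = 0
    · exact ⟨e 2, (hej 2 (Or.inl rfl)).1, (hej 2 (Or.inl rfl)).2, he.ne 2,
        by rw [hBx, ha, ha0, zero_smul, add_zero]⟩
    · have hfz : h (b • e 2 - a • e 3) z = 0 := by
        rw [hs.sub_left, hs.smul_left, hs.smul_left, (hej 2 (Or.inl rfl)).1, (hej 3 (Or.inr rfl)).1]; ring
      have hfu : h (b • e 2 - a • e 3) u = 0 := by
        rw [hs.sub_left, hs.smul_left, hs.smul_left, (hej 2 (Or.inl rfl)).2, (hej 3 (Or.inr rfl)).2]; ring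
      refine ⟨_, hfz, hfu, fun hff => ?_, ?_⟩
      · obtain ⟨r, hr⟩ := hsing _ hfz hff
        have hr0 : r = 0 := by
          have h5 := congrArg (fun x => h x u) hr
          simp only [hfu, hs.smul_left, hs.symm z u, huz, mul_one] at h5
          exact h5.symm
        have h5 := congrArg (fun x => h x (e 3)) hr
        simp only [hr0, zero_smul, hs.zero_left, hs.sub_left, hs.smul_left, he.orth 2 3 (by decide), mul_zero,
          zero_sub, neg_eq_zero, mul_eq_zero] at h5
        exact ha0 (h5.resolve_right (he.ne 3))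
      · rw [hBx, Matrix.mulVec_sub, Matrix.mulVec_smul, Matrix.mulVec_smul, ha, hb, smul_smul, smul_smul,
          mul_comm, sub_self, add_zero]
  -- the moved vector
  have hiso := hB u u
  rw [hBx u] at hiso
  simp only [hs.add_left, hs.add_right, huu, hs.symm u (N *ᵥ u), zero_add, add_zero] at hiso
  obtain ⟨ω, hω⟩ : ∃ ω, ω = h (N *ᵥ u) (N *ᵥ u) := ⟨_, rfl⟩
  rw [← hω] at hiso
  have hω0 : ω ≠ 0 := fun e' => hB1 (by
    obtain ⟨r, hr⟩ := hsing _ (hperp u) (hω ▸ e')
    have hr0 : r = 0 := by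
      simp only [hr, hs.smul_left, hs.symm z u, huz, mul_one, e', add_zero] at hiso
      exact mul_left_cancel₀ h2 (by linear_combination hiso)
    rw [hr0, zero_smul] at hr
    have hBu : (B : Mb) *ᵥ u = u := by rw [hBx, hr, add_zero]
    have hfix : ∀ j : Fin 4, (j = 2 ∨ j = 3) → (B : Mb) *ᵥ e j = e j := fun j hj => by
      obtain ⟨r', hr'⟩ := hline _ (hej j hj).1
      have h5 := hB (e j) u
      rw [hBx (e j), hr', hBu, hs.add_left, hs.smul_left, hs.symm z u, huz, mul_one] at h5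
      rw [hBx, hr', show r' = 0 by linear_combination h5, zero_smul, add_zero]
    refine Units.ext (he.ext_mat hT h4 fun j => ?_)
    rw [Units.val_one, Matrix.one_mulVec]
    have hd : ∀ j : Fin 4, j = 0 ∨ j = 1 ∨ j = 2 ∨ j = 3 := by decide
    rcases hd j with rfl | rfl | rfl | rfl
    · rw [e0, Matrix.mulVec_add, hBu, hBz]
    · rw [e1, Matrix.mulVec_sub, hBu, hBz]
    · exact hfix 2 (Or.inl rfl)
    · exact hfix 3 (Or.inr rfl))
  obtain ⟨v, hv⟩ : ∃ v, v = u + (ω / 2 / 2) • z := ⟨_, rfl⟩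
  refine ⟨v, f, ?_, hff, ?_, ?_, hBf⟩
  · have h5 : h v v = ω / 2 := by
      rw [hv]
      simp only [hs.add_left, hs.add_right, hs.smul_left, hs.smul_right, huu, hz, huz, hs.symm z u]
      field_simp
      ring
    rw [h5]
    exact div_ne_zero hω0 h2
  · rw [hBx, hv, Matrix.mulVec_add, Matrix.mulVec_smul, hNz, smul_zero, add_zero]
    simp only [hs.add_left, hs.add_right, hs.smul_left, hs.smul_right, huu, hz, huz, hs.symm z u, hperp u]
    field_simp
    linear_combination 8 * hiso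
  · rw [hv, hs.add_left, hs.smul_left, hs.symm u f, hfu, hs.symm z f, hfz, mul_zero, add_zero]

end Cfsg.Agent.Classical.TensorPowOrth
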