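import Cfsg.Agent.Lib.Classical.TensorPowOrth.FourThreeFus
import Cfsg.Agent.Lib.Classical.TensorPowOrth.FourThreeUnip
import Cfsg.Agent.Lib.Invol.ZStar

/-!
Two factors of dimension four over three elements: the centralisers of planes stabilise the decomposition.
-/

set_option autoImplicit false
set_option linter.unusedSectionVars false
set_option linter.unusedSimpArgs false
set_option linter.style.haveILetI false

open scoped Kronecker

namespace Cfsg.Agent.Classical.TensorPowOrth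

open Matrix Module MaxTv TensorMax TensorPow
open Cfsg.Agent.Classical.TensorOrth (Sym NdOn iso TSP IsSieg)

variable {F : Type*} [Field F] [Fintype F] {κ β : Type} [Fintype κ] [DecidableEq κ] [Fintype β] [DecidableEq β]
  {c : F} {h : (β → F) → (β → F) → F}

local notation "X" => (κ → β)
local notation "V" => ((κ → β) → F)
local notation "Mn" => Matrix (κ → β) (κ → β) F
local notation "Mb" => Matrix β β F
local notation "W" => (β → F)

/-- A matrix of square minus one has determinant one over three elements. -/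
theorem det_of_sq_neg {B : Mb} (hq : Fintype.card F = 3) (h4 : Fintype.card β = 4) (hB : B * B = -1) :
    B.det = 1 := by
  have h3 := three_zero hq
  have h1 : (1 + B) * (1 + B) = (2 : F) • B := by
    rw [add_mul, mul_add, mul_add, one_mul, one_mul, mul_one, hB, two_smul]; abel
  have h2 := congrArg Matrix.det h1
  rw [Matrix.det_mul, Matrix.det_smul, h4, show (2 : F) ^ 4 = 1 by linear_combination 5 * h3, one_mul] at h2
  have h5 := congrArg Matrix.det hB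
  rw [Matrix.det_mul, Matrix.det_neg, Matrix.det_one, h4] at h5
  have hd : (1 + B).det ≠ 0 := fun e => by
    rw [e, mul_zero] at h2
    rw [← h2] at h5
    norm_num at h5
  rw [← h2, three_sq hq hd]

variable (hT : TData c h)
include hT

/-- The parts of an element normalising the rotation. -/
theorem TData.part_rot [Nontrivial β] {i m : κ} (ht : Two i m) {A B P Q : GL β F}
    (hyR : pe i A * pe m B * pe i P * (pe i A * pe m B)⁻¹ = pe i Q) : A * P * A⁻¹ = Q := by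
  refine pe_injective i ?_
  rw [← hyR, map_mul, map_mul, map_inv, _root_.mul_inv_rev, mul_assoc (pe i A) (pe m B), ← pe_comm ht.ne P B]
  group

omit hT
namespace Px

variable {M : Subgroup (GL (κ → β) F)} (hM : Px c h M) (h4 : Fintype.card β = 4) {e : Fin 4 → β → F} {R : GL β F}
  (ax : Axis h e R) {i m : κ} (ht : Two i m) (hRG : pe (κ := κ) i R ∈ GT (κ := κ) c h)
include hM h4 ax ht hRG

/-- A member conjugating the mixed plane into the stabiliser, of trivial determinant. -/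
theorem t_conj {K : Type*} [Field K] [Algebra F K] {I : K} (hI : I * I = -1) {g : GL X F} (hg : g ∈ M)
    (hgs : g * pe i (rf hM.data (e 2) * rf hM.data (e 3)) = pe i (rf hM.data (e 2) * rf hM.data (e 3)) * g)
    (hyW : g * pe i (rf hM.data (e 2) * rf hM.data (e 0)) * g⁻¹ ∈ Wr F κ β)
    (hz : zdet (h := h) I i e (g * pe i (rf hM.data (e 2) * rf hM.data (e 0)) * g⁻¹ *
      pe i (rf hM.data (e 2) * rf hM.data (e 0))) = 1) :
    g ∈ Wr F κ β := by
  classical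
  have hT := hM.data
  have hs := hT.hh
  haveI := hT.nontriv h4
  have he := ax.frame
  have hq := ax.card
  obtain ⟨P, hPdef⟩ : ∃ P, P = rf hT (e 2) * rf hT (e 3) := ⟨_, rfl⟩
  obtain ⟨T0, hT0⟩ : ∃ T0, T0 = rf hT (e 2) * rf hT (e 0) := ⟨_, rfl⟩
  have hP : Pl hT P := hPdef ▸ ax.pl hT h4
  have hT0p : Pl hT T0 := ⟨e 2, e 0, he.ne 2, he.ne 0, he.orth 2 0 (by decide), hT0⟩
  have hT0D : Dg e {2, 0} T0 := hT0 ▸ hT.dg_pl he (by decide)
  obtain ⟨y, hye⟩ : ∃ y, y = g * pe i T0 * g⁻¹ := ⟨_, rfl⟩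
  rw [← hT0, ← hye] at hyW hz
  rw [← hPdef] at hgs
  have htM : pe i T0 ∈ M := hT0 ▸ (hM.pl_mem h4 i (he.ne 2) (he.ne 0) (he.orth 2 0 (by decide))).1
  have hyM : y ∈ M := hye ▸ mul_mem (mul_mem hg htM) (inv_mem hg)
  have hyy : y * y = 1 := hye ▸ conjSq' g (by rw [← map_mul, (hT.pl_iso h4 hT0p).2.1, map_one])
  have hTP : T0 * P = P * T0 := by
    have hDP : Dg e {2, 3} P := hPdef ▸ hT.dg_pl he (by decide)
    exact Dg.unique hT he h4 (hT0D.mul hDP) (by rw [symmDiff_comm]; exact hDP.mul hT0D)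
  have hys : y * pe i P = pe i P * y := by
    rw [hye]
    have h1 : Commute g (pe i P) := hgs
    have h2 : Commute (pe i T0) (pe (κ := κ) i P) := (show Commute T0 P from hTP).map (pe i)
    exact ((h1.mul_left h2).mul_left h1.inv_left).eq
  have hyR : y * pe i R * y⁻¹ = pe i R⁻¹ := by
    rw [hye]
    refine hM.rot_anti h4 ax ht hRG hg (hPdef ▸ hgs) ?_
    rw [← map_inv (pe (F := F) (κ := κ) (β := β) i) T0, ← map_mul, ← map_mul,
      inv_eq_of_mul_eq_one_right (hT.pl_iso h4 hT0p).2.1, hT0, ax.anti_t hT h4]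
  obtain ⟨A', B', hye', hA', hB', hAA', hBB'⟩ := hT.invol_split h4 ht hyW (hM.le hyM) hyy fun A B μ ν hA hB e' => by
    have hAP : A * P = P * A := hT.part_pl1 h4 ht.ne hA hP (B := B) (by rw [← e']; exact hys)
    have hAR : A * R * A⁻¹ = R⁻¹ := hT.part_rot ht (by rw [← e']; exact hyR)
    obtain ⟨⟨r, hr, er⟩, -⟩ := pe2_unique ht.ne (A := A * A) (B := B * B) (A' := 1) (B' := 1)
      (by rw [← pe2_mul ht.ne, ← e', hyy, map_one, map_one, one_mul])
    rw [Units.val_one, Units.val_mul] at er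
    have hAA : (A : Mb) * (A : Mb) = r⁻¹ • 1 := by rw [er, smul_smul, inv_mul_cancel₀ hr, one_smul]
    rcases hT.sim_cases h4 hA hAA with ⟨r₀, e', S, D, hr₀, he', hD, hAD⟩ | ⟨-, hnsq, -⟩
    · exact ⟨r₀ * sgS S 0, e' 0, fun e0 => he'.ne 0 (by rw [e0, hs.zero_left]), Or.inl (by
        rw [hAD, Matrix.smul_mulVec, hD 0, smul_smul])⟩
    exfalso
    have hr1 : r⁻¹ = -1 := (three_pm hq (inv_ne_zero hr)).resolve_left fun e0 => hnsq ⟨1, by rw [e0, one_mul]⟩
    rw [hr1, neg_one_smul] at hAA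
    have hAAu : A * A = -1 := Units.ext (by rw [Units.val_mul, Units.val_neg, Units.val_one, hAA])
    have hBBu : B * B = -1 := by
      have h5 : pe i (A * A) * pe (κ := κ) m (B * B) = 1 := by rw [← pe2_mul ht.ne, ← e', hyy]
      rw [hAAu, pe_neg, map_one, neg_mul, one_mul, neg_eq_iff_eq_neg] at h5
      exact pe_injective m (h5.trans (by rw [pe_neg, map_one]))
    obtain ⟨α, γ, hαγ⟩ := ax.span hT h4 (ax.keep hT h4 (hPdef ▸ hAP) (Or.inl rfl)).1
      (ax.keep hT h4 (hPdef ▸ hAP) (Or.inl rfl)).2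
    have hRi : ((R⁻¹ : GL β F) : Mb) *ᵥ e 2 = -e 3 ∧ ((R⁻¹ : GL β F) : Mb) *ᵥ e 3 = e 2 := by
      constructor
      · conv_lhs => rw [show e 2 = (R : Mb) *ᵥ (-e 3) by rw [Matrix.mulVec_neg, ax.r3, neg_neg]]
        rw [inv_mulVec_cancel]
      · conv_lhs => rw [← ax.r2]
        rw [inv_mulVec_cancel]
    have hA3 : (A : Mb) *ᵥ e 3 = γ • e 2 + (-α) • e 3 := by
      rw [← ax.r2, Matrix.mulVec_mulVec, ← Units.val_mul, show A * R = R⁻¹ * A by rw [← hAR, inv_mul_cancel_right],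
        Units.val_mul, ← Matrix.mulVec_mulVec, hαγ, Matrix.mulVec_add, Matrix.mulVec_smul, Matrix.mulVec_smul,
        hRi.1, hRi.2, ax.r2]
      match_scalars <;> ring
    have hαγ1 : α * α + γ * γ = -1 := by
      have h5 : ((A * A : GL β F) : Mb) *ᵥ e 2 = (α * α + γ * γ) • e 2 := by
        rw [Units.val_mul, ← Matrix.mulVec_mulVec, hαγ, Matrix.mulVec_add, Matrix.mulVec_smul, Matrix.mulVec_smul,
          hαγ, hA3]
        match_scalars <;> ring
      rw [hAAu, Units.val_neg, Units.val_one, Matrix.neg_mulVec, Matrix.one_mulVec, ← neg_one_smul F (e 2)] at h5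
      exact (smul_left_injective F (fun e0 => he.ne 2 (by rw [e0, hs.zero_left])) h5).symm
    obtain ⟨hα, hγ⟩ : α ≠ 0 ∧ γ ≠ 0 := by
      constructor <;> intro e0 <;> rw [e0, mul_zero] at hαγ1
      · rcases three_cases hq γ with rfl | rfl | rfl <;>
          first
            | exact one_ne_zero (α := F) (by linear_combination hαγ1)
            | exact hT.two (by linear_combination hαγ1)
      · rcases three_cases hq α with rfl | rfl | rfl <;>
          first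
            | exact one_ne_zero (α := F) (by linear_combination hαγ1)
            | exact hT.two (by linear_combination hαγ1)
    have hyt : y * pe i T0 = pe i (A * T0) * pe m B := by
      rw [e', mul_assoc, ← pe_comm ht.ne T0 B, ← mul_assoc, ← map_mul]
    have hAT : ((A * T0 : GL β F) : Mb) *ᵥ e 2 = (-α) • e 2 + (-γ) • e 3 := by
      rw [Units.val_mul, ← Matrix.mulVec_mulVec, hT0D 2, sgS, if_pos (by decide), neg_one_smul, Matrix.mulVec_neg,
        hαγ]
      match_scalars <;> ring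
    have hB2 : (B : Mb) * (B : Mb) = -1 := by rw [← Units.val_mul, hBBu, Units.val_neg, Units.val_one]
    rw [hyt, ax.zdet_pe hT h4 ht hI hAT, det_of_sq_neg hq h4 hB2, map_one, mul_one, map_neg, map_neg] at hz
    obtain ⟨a, ha, haa⟩ : ∃ a, a = algebraMap F K α ∧ a * a = 1 :=
      ⟨_, rfl, by rw [← map_mul, three_sq hq hα, map_one]⟩
    obtain ⟨b, hb, hbb⟩ : ∃ b, b = algebraMap F K γ ∧ b * b = 1 :=
      ⟨_, rfl, by rw [← map_mul, three_sq hq hγ, map_one]⟩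
    rw [← ha, ← hb] at hz
    have h30 : (3 : K) = 0 := by
      have h5 := congrArg (algebraMap F K) (three_zero hq)
      rwa [map_ofNat, map_zero] at h5
    have hsq : (-a + I * -b) ^ 2 = 2 * a * b * I := by linear_combination haa - hbb + b * b * hI
    have h44 : (-a + I * -b) ^ 4 = -4 := by
      rw [show (-a + I * -b) ^ 4 = ((-a + I * -b) ^ 2) ^ 2 by ring, hsq]
      linear_combination 4 * b * b * I * I * haa + 4 * I * I * hbb + 4 * hI
    rw [h44] at hz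
    exact one_ne_zero (α := K) (by linear_combination hz + 2 * h30)
  have hA'P : A' * P = P * A' := hT.part_pl1 h4 ht.ne (sim_one_of_iso hA') hP (B := B') (by rw [← hye']; exact hys)
  rcases hT.kind_zero h4 ht hA' hB' hAA' hBB' (hye' ▸ hM.le hyM) (by
      rw [← hye', hye, trace_conj, trace_pe, (hT.pl_iso h4 hT0p).2.2.2.1, zero_mul]) with
    ⟨hAP, hBP⟩ | ⟨P₁, -, e1, -⟩ | ⟨P₁, -, e1, -⟩
  · have hAR : A' * R * A'⁻¹ = R⁻¹ := hT.part_rot ht (by rw [← hye']; exact hyR)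
    obtain ⟨f, R', axf, -, hf⟩ := hT.exists_axis h4 ht.card.symm.le hq m hBP
    have hyT : g * pe i (rf hT (e 2) * rf hT (e 0)) * g⁻¹ = pe i A' * pe m B' := by rw [← hT0, ← hye, hye']
    rcases hf with hf | hf
    · refine hM.no_D3 h4 ax ht hRG hg (hPdef ▸ hgs) (T := -A') ?_ ?_ ?_ axf ?_
      · rw [neg_mul_neg, hAA']
      · rw [← hPdef, neg_mul, mul_neg, hA'P]
      · rw [inv_neg, neg_mul, neg_mul_neg, hAR]
      · rw [hyT, hf, pe_neg, pe_neg, neg_mul_neg]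
    · exact hM.no_D3 h4 ax ht hRG hg (hPdef ▸ hgs) (T := A') hAA' (hPdef ▸ hA'P) hAR axf (by rw [hyT, hf])
  · exact hM.fus3 h4 ax ht hRG hg (hPdef ▸ hgs) (U := P₁) (by rw [← hT0, ← hye, hye', e1])
  · refine absurd ?_ (ax.rot_ne hT h4)
    refine pe_injective i ?_
    rw [← hyR, hye', e1, ← pe_comm ht.ne R P₁, mul_inv_cancel_right]

/-- Members of three-power order commuting with a pure element and keeping the plane act at the other factor. -/
theorem slot_of_odd {g : GL X F} (hg : g ∈ M) (hgW : g ∈ Wr F κ β)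
    (hgs : g * pe i (rf hM.data (e 2) * rf hM.data (e 3)) = pe i (rf hM.data (e 2) * rf hM.data (e 3)) * g)
    {n : ℕ} (hn : g ^ 3 ^ n = 1) : ∃ B : GL β F, B ∈ TensorOrth.iso h ∧ B ^ 3 ^ n = 1 ∧ g = pe m B := by
  classical
  have hT := hM.data
  have hs := hT.hh
  haveI := hT.nontriv h4
  have he := ax.frame
  have hq := ax.card
  have hP := ax.pl hT h4
  have hgR : g * pe i R = pe i R * g := by
    rcases hM.rot_kind h4 ax ht hRG hg hgs with e' | e'
    · exact mul_inv_eq_iff_eq_mul.1 e'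
    · have h2 : Commute (g * g) (pe i R) := by
        refine mul_inv_eq_iff_eq_mul.1 ?_
        rw [show g * g * pe i R * (g * g)⁻¹ = g * (g * pe i R * g⁻¹) * g⁻¹ by group, e', map_inv,
          show g * (pe i R)⁻¹ * g⁻¹ = (g * pe i R * g⁻¹)⁻¹ by group, e', map_inv, inv_inv]
      obtain ⟨k, hk⟩ : Odd (3 ^ n) := (by decide : Odd 3).pow
      have hge : g = (g * g) ^ (k + 1) := by
        rw [← pow_two, ← pow_mul, show 2 * (k + 1) = 3 ^ n + 1 by omega, pow_succ, hn, one_mul]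
      rw [hge]
      exact (h2.pow_left _).eq
  obtain ⟨σ, gs, hge, hσi, -⟩ := slot_fix hgW (hT.pl_iso h4 hP).2.2.1 hgs
  have hσ1 : σ = 1 := (ht.perm σ).resolve_right fun h5 => ht.ne (hσi.symm.trans h5.1)
  subst hσ1
  rw [ht.wgl_eq] at hge
  obtain ⟨A, hA⟩ : ∃ A, A = gs i := ⟨_, rfl⟩
  obtain ⟨B, hB⟩ : ∃ B, B = gs m := ⟨_, rfl⟩
  rw [← hA, ← hB] at hge
  obtain ⟨μ, hμ⟩ := hT.slot_simil (σ := (1 : Equiv.Perm κ)) (gs := gs)
    (by rw [ht.wgl_eq, ← hA, ← hB, ← hge]; exact hM.iso_mem hg) i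
  rw [← hA] at hμ
  have hAP := hT.part_pl1 h4 ht.ne hμ hP (B := B) (by rw [← hge]; exact hgs)
  have hAR : A * R = R * A := by
    have h5 : A * R * A⁻¹ = R := hT.part_rot ht (by rw [← hge, hgR, mul_inv_cancel_right])
    exact mul_inv_eq_iff_eq_mul.1 h5
  have hμ0 := hT.sim_ne h4 hμ
  have hA8 : A ^ 8 = 1 := by
    obtain ⟨α, γ, hαγ⟩ := ax.span hT h4 (ax.keep hT h4 hAP (Or.inl rfl)).1 (ax.keep hT h4 hAP (Or.inl rfl)).2
    have step : ∀ {C : GL β F} {p q : F}, C * R = R * C → (C : Mb) *ᵥ e 2 = p • e 2 + q • e 3 →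
        ((C * C : GL β F) : Mb) *ᵥ e 2 = (p * p - q * q) • e 2 + (2 * p * q) • e 3 := by
      intro C p q hC hC2
      have hC3 : (C : Mb) *ᵥ e 3 = p • e 3 + (-q) • e 2 := by
        rw [← ax.r2, Matrix.mulVec_mulVec, ← Units.val_mul, hC, Units.val_mul, ← Matrix.mulVec_mulVec, hC2,
          Matrix.mulVec_add, Matrix.mulVec_smul, Matrix.mulVec_smul, ax.r2, ax.r3]
        match_scalars <;> ring
      rw [Units.val_mul, ← Matrix.mulVec_mulVec, hC2, Matrix.mulVec_add, Matrix.mulVec_smul, Matrix.mulVec_smul,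
        hC2, hC3]
      match_scalars <;> ring
    have hc2 : (A * A) * R = R * (A * A) := by rw [mul_assoc, hAR, ← mul_assoc, hAR, mul_assoc]
    have hc4 : (A * A * (A * A)) * R = R * (A * A * (A * A)) := by rw [mul_assoc, hc2, ← mul_assoc, hc2, mul_assoc]
    have h8 := step hc4 (step hc2 (step hAR hαγ))
    have hne : α ≠ 0 ∨ γ ≠ 0 := by
      by_contra hno
      push Not at hno
      refine he.ne 2 ?_
      have h5 := hμ (e 2) (e 2)
      rw [hαγ, hno.1, hno.2, zero_smul, zero_smul, add_zero, hs.zero_left] at h5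
      exact (mul_eq_zero.1 h5.symm).resolve_left hμ0
    have h8' : ((A ^ 8 : GL β F) : Mb) *ᵥ e 2 = e 2 := by
      rw [show A ^ 8 = A * A * (A * A) * (A * A * (A * A)) by simp only [pow_succ, pow_zero, one_mul, mul_assoc], h8]
      have h3 := three_zero hq
      rcases three_cases hq α with rfl | rfl | rfl <;> rcases three_cases hq γ with rfl | rfl | rfl <;>
        first
          | (exact (hne.elim (fun e0 => e0 rfl) fun e0 => e0 rfl).elim)
          | (match_scalars <;> first | ring1 | linear_combination 5 * h3)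
    have hc8 : A ^ 8 * R = R * A ^ 8 := ((show Commute A R from hAR).pow_left 8).eq
    have h8'' : ((A ^ 8 : GL β F) : Mb) *ᵥ e 3 = e 3 := by
      rw [← ax.r2, Matrix.mulVec_mulVec, ← Units.val_mul, hc8, Units.val_mul, ← Matrix.mulVec_mulVec, h8', ax.r2]
    -- the orthogonal plane
    have hkeep : ∀ j : Fin 4, (j = 0 ∨ j = 1) → ∀ l : Fin 4, (l = 2 ∨ l = 3) → h (e l) ((A : Mb) *ᵥ e j) = 0 := by
      intro j hj l hl
      have hD := hT.dg_pl he (show (2 : Fin 4) ≠ 3 by decide)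
      have h1 : ((rf hT (e 2) * rf hT (e 3) : GL β F) : Mb) *ᵥ ((A : Mb) *ᵥ e j) = (A : Mb) *ᵥ e j := by
        rw [Matrix.mulVec_mulVec, ← Units.val_mul, ← hAP, Units.val_mul, ← Matrix.mulVec_mulVec, hD j, sgS,
          if_neg (by rcases hj with rfl | rfl <;> decide), one_smul]
      have h2 := (hT.pl_iso h4 hP).1 (e l) ((A : Mb) *ᵥ e j)
      rw [h1, hD l, sgS, if_pos (by rcases hl with rfl | rfl <;> decide), neg_one_smul, hs.neg_left] at h2
      exact (mul_eq_zero.1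
        (show (2 : F) * h (e l) ((A : Mb) *ᵥ e j) = 0 by linear_combination -h2)).resolve_left hT.two
    have hmu : ((A : Mb) *ᵥ e 0 = e 0 ∨ (A : Mb) *ᵥ e 0 = -e 0 ∨ (A : Mb) *ᵥ e 0 = e 1 ∨ (A : Mb) *ᵥ e 0 = -e 1) ∧
        ((A : Mb) *ᵥ e 1 = e 0 ∨ (A : Mb) *ᵥ e 1 = -e 0 ∨ (A : Mb) *ᵥ e 1 = e 1 ∨ (A : Mb) *ᵥ e 1 = -e 1) := by
      have key : ∀ j : Fin 4, (j = 0 ∨ j = 1) → (A : Mb) *ᵥ e j = e 0 ∨ (A : Mb) *ᵥ e j = -e 0 ∨
          (A : Mb) *ᵥ e j = e 1 ∨ (A : Mb) *ᵥ e j = -e 1 := fun j hj => by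
        have h5 : h ((A : Mb) *ᵥ e j) ((A : Mb) *ᵥ e j) = μ * h (e j) (e j) := hμ _ _
        have h6 : μ * h (e j) (e j) = h (e 0) (e 0) ∨ μ * h (e j) (e j) = h (e 1) (e 1) := by
          rcases three_pm hq (mul_ne_zero hμ0 (he.ne j)) with e1 | e1 <;>
            rcases three_pm hq (he.ne 0) with e2 | e2 <;> rw [ax.hyp, e1, e2] <;> simp
        rcases h6 with h6 | h6
        · rcases ax.hyp_diag hT h4 (hkeep j hj 2 (Or.inl rfl)) (hkeep j hj 3 (Or.inr rfl)) (h5.trans h6) with e' | e'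
          · exact Or.inl e'
          · exact Or.inr (Or.inl e')
        · rcases ax.hyp_diag' hT h4 (hkeep j hj 2 (Or.inl rfl)) (hkeep j hj 3 (Or.inr rfl)) (h5.trans h6) with e' | e'
          · exact Or.inr (Or.inr (Or.inl e'))
          · exact Or.inr (Or.inr (Or.inr e'))
      exact ⟨key 0 (Or.inl rfl), key 1 (Or.inr rfl)⟩
    have hne01 : ∀ {r : F}, (A : Mb) *ᵥ e 0 = r • (A : Mb) *ᵥ e 1 → False := fun {r} h5 => he.ne 0 (by
      rw [← Matrix.mulVec_smul] at h5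
      have h6 := congrArg (fun x => h x (e 0)) (gl_mulVec_injective A h5)
      simpa [hs.smul_left, he.orth 1 0 (by decide)] using h6)
    refine Units.ext (he.ext_mat hT h4 fun j => ?_)
    rw [Units.val_one, Matrix.one_mulVec]
    have hd : ∀ j : Fin 4, j = 0 ∨ j = 1 ∨ j = 2 ∨ j = 3 := by decide
    rcases hd j with rfl | rfl | rfl | rfl
    rotate_left 2
    · exact h8'
    · exact h8''
    all_goals
      rw [show A ^ 8 = A * A * (A * A) * (A * A * (A * A)) by simp only [pow_succ, pow_zero, one_mul, mul_assoc]]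
      simp only [Units.val_mul, ← Matrix.mulVec_mulVec]
      rcases hmu.1 with e0 | e0 | e0 | e0 <;> rcases hmu.2 with e1 | e1 | e1 | e1 <;>
        first
          | (simp only [e0, e1, Matrix.mulVec_neg, neg_neg]; done)
          | (refine (hne01 (r := 1) ?_).elim; simp [e0, e1]; done)
          | (refine (hne01 (r := -1) ?_).elim; simp [e0, e1]; done)
  have hg8 : g ^ 8 = pe m (B ^ 8) := by
    have hc : Commute (pe (κ := κ) i A) (pe m B) := pe_comm ht.ne A B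
    rw [hge, hc.mul_pow, ← map_pow, ← map_pow, hA8, map_one, one_mul]
  obtain ⟨k, hk⟩ := exists_pow_eq_self_of_coprime (x := g) (n := 8) (by
    refine Nat.Coprime.coprime_dvd_right (orderOf_dvd_of_pow_eq_one hn) ?_
    exact Nat.Coprime.pow_right _ (by norm_num))
  rw [hg8, ← map_pow] at hk
  refine ⟨(B ^ 8) ^ k, hT.pe_iso_rev m (hk.symm ▸ hM.iso_mem hg), pe_injective m ?_, hk.symm⟩
  rw [map_pow, hk, hn, map_one]

set_option maxHeartbeats 1000000 in
/-- The centraliser of an anisotropic plane. -/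
theorem cent_aniso : Cen M (pe i (rf hM.data (e 2) * rf hM.data (e 3))) := by
  classical
  have hT := hM.data
  have hs := hT.hh
  haveI := hT.nontriv h4
  have he := ax.frame
  have hq := ax.card
  obtain ⟨I, hI⟩ := IsAlgClosed.exists_eq_mul_self (-1 : AlgebraicClosure F)
  have hI' : I * I = -1 := hI.symm
  obtain ⟨P, hPdef⟩ : ∃ P, P = rf hT (e 2) * rf hT (e 3) := ⟨_, rfl⟩
  obtain ⟨T0, hT0⟩ : ∃ T0, T0 = rf hT (e 2) * rf hT (e 0) := ⟨_, rfl⟩
  rw [← hPdef]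
  have hP : Pl hT P := hPdef ▸ ax.pl hT h4
  have hT0p : Pl hT T0 := ⟨e 2, e 0, he.ne 2, he.ne 0, he.orth 2 0 (by decide), hT0⟩
  have hRR : R * R = P := hPdef ▸ ax.sq_rot hT h4
  have hTR : T0 * R * T0 = R⁻¹ := hT0 ▸ ax.anti_t hT h4
  have hT02 : T0 * T0 = 1 := (hT.pl_iso h4 hT0p).2.1
  have hTP : T0 * P = P * T0 := by
    have hDT : Dg e {2, 0} T0 := hT0 ▸ hT.dg_pl he (by decide)
    have hDP : Dg e {2, 3} P := hPdef ▸ hT.dg_pl he (by decide)
    exact Dg.unique hT he h4 (hDT.mul hDP) (by rw [symmDiff_comm]; exact hDP.mul hDT)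
  obtain ⟨t, htdef⟩ : ∃ t, t = pe (κ := κ) i T0 := ⟨_, rfl⟩
  obtain ⟨ρ, hρ⟩ : ∃ ρ, ρ = pe (κ := κ) i R := ⟨_, rfl⟩
  have htt : t * t = 1 := by rw [htdef, ← map_mul, hT02, map_one]
  have hti : t⁻¹ = t := inv_eq_of_mul_eq_one_right htt
  have hρP : ρ * pe i P = pe i P * ρ := by rw [hρ, ← hRR, ← map_mul, ← map_mul, mul_assoc]
  have htP : t * pe i P = pe i P * t := by rw [htdef, ← map_mul, ← map_mul, hTP]
  have hneg1 : pe (κ := κ) i (-1 : GL β F) = -1 := by rw [pe_neg, map_one]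
  have hnM : (-1 : GL X F) ∈ M := by
    rw [← hneg1]
    exact hM.pe_mem (hneg1 ▸ hT.neg_one_GT h4 hM.ht i)
  obtain ⟨C, hC⟩ : ∃ C : Subgroup (GL X F), C = M ⊓ Subgroup.centralizer {pe i P} := ⟨_, rfl⟩
  have hCm : ∀ k, k ∈ C ↔ k ∈ M ∧ k * pe i P = pe i P * k := fun k => by
    rw [hC, Subgroup.mem_inf, Subgroup.mem_centralizer_singleton_iff]
  have htC : t ∈ C := (hCm t).2
    ⟨htdef ▸ hT0 ▸ (hM.pl_mem h4 i (he.ne 2) (he.ne 0) (he.orth 2 0 (by decide))).1, htP⟩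
  have hρC : ρ ∈ C := (hCm ρ).2 ⟨hρ ▸ hM.pe_mem hRG, hρP⟩
  have hnC : (-1 : GL X F) ∈ C := (hCm _).2 ⟨hnM, by simp⟩
  have hxC : ∀ {x : GL X F}, Pure h m x → x ∈ C ∧ x * ρ = ρ * x := fun {x} hx => by
    obtain ⟨B, -, -, -, -, -, -, -, -, rfl⟩ := id hx
    exact ⟨(hCm _).2 ⟨(hM.pure_mem h4 hx).1, pe_comm ht.ne.symm B P⟩, hρ ▸ pe_comm ht.ne.symm B R⟩
  have hρconj : ∀ g ∈ C, g * ρ * g⁻¹ = ρ ∨ g * ρ * g⁻¹ = ρ⁻¹ := fun g hg => by
    rw [hρ, ← map_inv]
    exact hM.rot_kind h4 ax ht hRG ((hCm g).1 hg).1 (hPdef ▸ ((hCm g).1 hg).2)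
  have hkeep : ∀ g ∈ C, ∀ z, z * ρ = ρ * z → g * z * g⁻¹ * ρ = ρ * (g * z * g⁻¹) := fun g hg z hz => by
    rw [hρ] at hz ⊢
    exact hM.rot_comm h4 ax ht hRG ((hCm g).1 hg).1 (hPdef ▸ ((hCm g).1 hg).2) hz
  -- the kernel
  obtain ⟨SK, hSK⟩ : ∃ SK : Set (GL X F), SK = {ρ, -1} := ⟨_, rfl⟩
  obtain ⟨K, hK⟩ : ∃ K : Subgroup (GL X F), K = Subgroup.closure SK := ⟨_, rfl⟩
  -- the conjugates of pure elements, with the kernel
  obtain ⟨SL, hSL⟩ : ∃ SL : Set (GL X F), SL = SK ∪ {k | ∃ g ∈ C, ∃ x, Pure h m x ∧ k = g * x * g⁻¹} := ⟨_, rfl⟩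
  obtain ⟨L, hL⟩ : ∃ L : Subgroup (GL X F), L = Subgroup.closure SL := ⟨_, rfl⟩
  have hK_L : K ≤ L := by
    rw [hK, hL]; exact Subgroup.closure_mono (hSL ▸ Set.subset_union_left)
  have hρK : ρ ∈ K := hK ▸ Subgroup.subset_closure (by rw [hSK]; simp)
  have hnK : (-1 : GL X F) ∈ K := hK ▸ Subgroup.subset_closure (by rw [hSK]; simp)
  have hLprop : ∀ k ∈ L, k ∈ C ∧ k * ρ = ρ * k ∧ zdet (h := h) I i e k = 1 := by
    intro k hk
    rw [hL] at hk
    induction hk using Subgroup.closure_induction with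
    | mem k hk =>
      rw [hSL, hSK] at hk
      rcases hk with (rfl | rfl) | ⟨g, hg, x, hx, rfl⟩
      · refine ⟨hρC, rfl, ?_⟩
        rw [hρ, ← mul_one (pe i R), ← map_one (pe (F := F) (κ := κ) (β := β) m),
          ax.zdet_pe hT h4 ht hI' (α := 0) (γ := 1) (by rw [ax.r2]; simp)]
        rw [map_zero, map_one, zero_add, mul_one, Units.val_one, Matrix.det_one, map_one, mul_one,
          show I ^ 4 = (I * I) * (I * I) by ring, hI']
        ring
      · refine ⟨hnC, by simp, ?_⟩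
        rw [← hneg1, ← mul_one (pe i (-1 : GL β F)), ← map_one (pe (F := F) (κ := κ) (β := β) m),
          ax.zdet_pe hT h4 ht hI' (α := -1) (γ := 0) (by simp [Matrix.neg_mulVec])]
        rw [map_neg, map_zero, map_one, mul_zero, add_zero, Units.val_one, Matrix.det_one, map_one, mul_one]
        ring
      · obtain ⟨hxc, hxR⟩ := hxC hx
        have hkC := mul_mem (mul_mem hg hxc) (inv_mem hg)
        refine ⟨hkC, hkeep g hg x hxR, ?_⟩
        haveI : Fact (Nat.Prime 3) := ⟨Nat.prime_three⟩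
        haveI : CharP F 3 :=
          ringChar.of_eq (CharP.ringChar_of_prime_eq_zero Nat.prime_three (by exact_mod_cast three_zero hq))
        refine ax.zdet_cube hT h4 ht hI' (hPdef ▸ ((hCm _).1 hkC).2) (hρ ▸ hkeep g hg x hxR) ?_
        have h5 : x ^ 3 = 1 := hT.pure_pow (p := 3) hx
        rw [pow_succ, pow_two] at h5
        rw [show g * x * g⁻¹ * (g * x * g⁻¹) * (g * x * g⁻¹) = g * (x * x * x) * g⁻¹ by group, h5]
        group
    | one => exact ⟨one_mem _, by rw [one_mul, mul_one], ax.zdet_one hT h4 ht hI'⟩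
    | mul a b _ _ ha hb =>
      refine ⟨mul_mem ha.1 hb.1, by rw [mul_assoc, hb.2.1, ← mul_assoc, ha.2.1, mul_assoc], ?_⟩
      rw [ax.zdet_mul hT h4 ht hI' (hPdef ▸ ((hCm a).1 ha.1).2) (hPdef ▸ ((hCm b).1 hb.1).2) (hρ ▸ ha.2.1),
        ha.2.2, hb.2.2, mul_one]
    | inv a _ ha =>
      refine ⟨inv_mem ha.1, (Commute.inv_left (show Commute a ρ from ha.2.1)).eq, ?_⟩
      have h5 := ax.zdet_mul hT h4 ht hI' (g := a) (g' := a⁻¹) (hPdef ▸ ((hCm a).1 ha.1).2)
        (hPdef ▸ ((hCm _).1 (inv_mem ha.1)).2) (hρ ▸ ha.2.1)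
      rw [mul_inv_cancel, ax.zdet_one hT h4 ht hI', ha.2.2, one_mul] at h5
      exact h5.symm
  have hKnorm : ∀ g ∈ C, ∀ k ∈ K, g * k * g⁻¹ ∈ K := by
    intro g hg k hk
    rw [hK] at hk
    induction hk using Subgroup.closure_induction with
    | mem k hk =>
      rw [hSK] at hk
      rcases hk with rfl | rfl
      · rcases hρconj g hg with e' | e' <;> rw [e']
        · exact hρK
        · exact inv_mem hρK
      · rw [mul_neg, mul_one, neg_mul, mul_inv_cancel]; exact hnK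
    | one => rw [mul_one, mul_inv_cancel]; exact one_mem _
    | mul a b _ _ ha hb => rw [show g * (a * b) * g⁻¹ = g * a * g⁻¹ * (g * b * g⁻¹) by group]; exact mul_mem ha hb
    | inv a _ ha => rw [show g * a⁻¹ * g⁻¹ = (g * a * g⁻¹)⁻¹ by group]; exact inv_mem ha
  have hLnorm : ∀ g ∈ C, ∀ k ∈ L, g * k * g⁻¹ ∈ L := by
    intro g hg k hk
    rw [hL] at hk
    induction hk using Subgroup.closure_induction with
    | mem k hk =>
      rw [hSL] at hk
      rcases hk with hk | ⟨g', hg', x, hx, rfl⟩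
      · exact hK_L (hKnorm g hg k (hK ▸ Subgroup.subset_closure hk))
      · rw [hL]
        exact Subgroup.subset_closure (hSL ▸ Or.inr ⟨g * g', mul_mem hg hg', x, hx, by group⟩)
    | one => rw [mul_one, mul_inv_cancel]; exact one_mem _
    | mul a b _ _ ha hb => rw [show g * (a * b) * g⁻¹ = g * a * g⁻¹ * (g * b * g⁻¹) by group]; exact mul_mem ha hb
    | inv a _ ha => rw [show g * a⁻¹ * g⁻¹ = (g * a * g⁻¹)⁻¹ by group]; exact inv_mem ha
  -- the group in which the mixed plane is isolated modulo the kernel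
  obtain ⟨S1, hS1⟩ : ∃ S1 : Set (GL X F),
      S1 = (L : Set (GL X F)) ∪ {k | k = t ∨ ∃ B : GL β F, pe m B ∈ GT (κ := κ) c h ∧ k = pe m B} := ⟨_, rfl⟩
  obtain ⟨C1, hC1⟩ : ∃ C1 : Subgroup (GL X F), C1 = Subgroup.closure S1 := ⟨_, rfl⟩
  have hC1prop : ∀ g ∈ C1, g ∈ C ∧ g * t * g⁻¹ * t ∈ L := by
    intro g hg
    rw [hC1] at hg
    induction hg using Subgroup.closure_induction with
    | mem g hg =>
      rw [hS1] at hg
      rcases hg with hg | rfl | ⟨B, hB, rfl⟩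
      · refine ⟨(hLprop g hg).1, ?_⟩
        rw [show g * t * g⁻¹ * t = g * (t * g⁻¹ * t) by group, ← hti]
        nth_rw 2 [hti]
        have h5 := hLnorm t htC _ (inv_mem hg)
        rw [hti] at h5 ⊢
        exact mul_mem hg h5
      · exact ⟨htC, by rw [mul_inv_cancel_right, htt]; exact one_mem _⟩
      · refine ⟨(hCm _).2 ⟨hM.pe_mem hB, pe_comm ht.ne.symm B P⟩, ?_⟩
        rw [htdef, pe_comm ht.ne.symm B T0, mul_inv_cancel_right, ← map_mul, hT02, map_one]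
        exact one_mem _
    | one => exact ⟨one_mem _, by rw [one_mul, inv_one, mul_one, htt]; exact one_mem _⟩
    | mul a b _ _ ha hb =>
      refine ⟨mul_mem ha.1 hb.1, ?_⟩
      rw [show a * b * t * (a * b)⁻¹ * t = a * (b * t * b⁻¹ * t) * a⁻¹ * (a * t * a⁻¹ * t) by
        simp only [_root_.mul_inv_rev, mul_assoc, inv_mul_cancel_left]
        rw [← mul_assoc t t, htt, one_mul]]
      exact mul_mem (hLnorm a ha.1 _ hb.2) ha.2
    | inv a _ ha =>
      refine ⟨inv_mem ha.1, ?_⟩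
      have h5 := hLnorm _ (inv_mem ha.1) _ (inv_mem ha.2)
      rw [show a⁻¹ * (a * t * a⁻¹ * t)⁻¹ * a⁻¹⁻¹ = a⁻¹ * t⁻¹ * a * t⁻¹ by group, hti] at h5
      rwa [inv_inv]
  have hLC1 : L ≤ C1 := fun k hk => hC1 ▸ Subgroup.subset_closure (hS1 ▸ Or.inl hk)
  have htC1 : t ∈ C1 := hC1 ▸ Subgroup.subset_closure (hS1 ▸ Or.inr (Or.inl rfl))
  have hBC1 : ∀ {B : GL β F}, pe m B ∈ GT (κ := κ) c h → pe m B ∈ C1 := fun {B} hB =>
    hC1 ▸ Subgroup.subset_closure (hS1 ▸ Or.inr (Or.inr ⟨B, hB, rfl⟩))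
  have hC1M : ∀ g ∈ C1, g ∈ M := fun g hg => ((hCm g).1 (hC1prop g hg).1).1
  have hC1s : ∀ g ∈ C1, g * pe i (rf hT (e 2) * rf hT (e 3)) = pe i (rf hT (e 2) * rf hT (e 3)) * g :=
    fun g hg => hPdef ▸ ((hCm g).1 (hC1prop g hg).1).2
  have hconjW : ∀ g ∈ C1, g * t * g⁻¹ ∈ Wr F κ β → g ∈ Wr F κ β := fun g hg hy => by
    refine hM.t_conj h4 ax ht hRG hI' (hC1M g hg) (hC1s g hg) (hT0 ▸ htdef ▸ hy) ?_
    rw [← hT0, ← htdef]
    exact (hLprop _ (hC1prop g hg).2).2.2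
  have hKpe : ∀ k ∈ K, ∃ A, k = pe (κ := κ) i A := by
    intro k hk
    rw [hK] at hk
    induction hk using Subgroup.closure_induction with
    | mem k hk =>
      rw [hSK] at hk
      rcases hk with rfl | rfl
      · exact ⟨R, hρ⟩
      · exact ⟨-1, hneg1.symm⟩
    | one => exact ⟨1, (map_one _).symm⟩
    | mul a b _ _ ha hb =>
      obtain ⟨A, rfl⟩ := ha
      obtain ⟨B, rfl⟩ := hb
      exact ⟨A * B, (map_mul _ _ _).symm⟩
    | inv a _ ha =>
      obtain ⟨A, rfl⟩ := ha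
      exact ⟨A⁻¹, (map_inv _ _).symm⟩
  have htK : t ∉ K := fun h5 => by
    have h6 := (hLprop t (hK_L h5)).2.1
    rw [htdef, hρ, ← map_mul, ← map_mul] at h6
    refine ax.rot_ne hT h4 ?_
    rw [← hTR, pe_injective i h6, mul_assoc, hT02, mul_one]
  -- the quotient
  obtain ⟨N, hN⟩ : ∃ N : Subgroup C1, N = K.subgroupOf C1 := ⟨_, rfl⟩
  have hNm : ∀ k : C1, k ∈ N ↔ (k : GL X F) ∈ K := fun k => by rw [hN, Subgroup.mem_subgroupOf]
  haveI : N.Normal := ⟨fun k hk g => (hNm _).2 (hKnorm g (hC1prop g g.2).1 k ((hNm k).1 hk))⟩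
  obtain ⟨t1, ht1⟩ : ∃ t1 : C1, t1 = ⟨t, htC1⟩ := ⟨_, rfl⟩
  have ht1v : (t1 : GL X F) = t := by rw [ht1]
  have hiso : Cfsg.IsIsolatedInvolution (QuotientGroup.mk (s := N) t1) := by
    refine ⟨orderOf_eq_prime ?_ ?_, fun q => ?_⟩
    · rw [pow_two, ← QuotientGroup.mk_mul, QuotientGroup.eq_one_iff, hNm, Subgroup.coe_mul, ht1v, htt]
      exact one_mem _
    · rw [Ne, QuotientGroup.eq_one_iff, hNm, ht1v]
      exact htK
    obtain ⟨g, rfl⟩ := QuotientGroup.mk_surjective q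
    intro hc
    have h5 : (g : GL X F) ∈ C1 := g.2
    rw [← QuotientGroup.mk_inv, ← QuotientGroup.mk_mul, ← QuotientGroup.mk_mul] at hc ⊢
    rw [Commute, SemiconjBy, ← QuotientGroup.mk_mul, ← QuotientGroup.mk_mul, QuotientGroup.eq, hNm] at hc
    rw [QuotientGroup.eq, hNm]
    simp only [Subgroup.coe_mul, Subgroup.coe_inv, ht1v] at hc ⊢
    obtain ⟨y, hy⟩ : ∃ y, y = (g : GL X F) * t * (g : GL X F)⁻¹ := ⟨_, rfl⟩
    rw [← hy] at hc ⊢
    have hyy : y * y = 1 := hy ▸ conjSq' _ htt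
    have hyi : y⁻¹ = y := inv_eq_of_mul_eq_one_right hyy
    have hyC1 : y ∈ C1 := hy ▸ mul_mem (mul_mem h5 htC1) (inv_mem h5)
    rw [_root_.mul_inv_rev, hyi, hti] at hc
    obtain ⟨A, hA⟩ := hKpe _ hc
    have hyW : y ∈ Wr F κ β := by
      refine hM.fus3 h4 ax ht hRG (hC1M y hyC1) (hC1s y hyC1) (U := A * T0) ?_
      rw [← hT0, map_mul, ← htdef, ← hA, hyi]
      simp only [mul_assoc, htt, mul_one]
    have hgW : (g : GL X F) ∈ Wr F κ β := hconjW _ h5 (hy ▸ hyW)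
    obtain ⟨σ, gs, hge, hσi, hcomm⟩ := slot_fix hgW (hT.pl_iso h4 hP).2.2.1 ((hCm _).1 (hC1prop _ h5).1).2
    obtain ⟨U, hU⟩ : ∃ U, U = gs i * T0 * (gs i)⁻¹ := ⟨_, rfl⟩
    have hσi' : σ⁻¹ i = i := Equiv.Perm.inv_eq_iff_eq.2 hσi.symm
    have hyU : y = pe i U := by
      rw [hy, hge, htdef, conj_pe, hσi', hU]
    have hyR : y * ρ * y⁻¹ = ρ⁻¹ := by
      rw [hy, hρ, ← map_inv]
      refine hM.rot_anti h4 ax ht hRG (hC1M _ h5) (hC1s _ h5) ?_
      rw [htdef, ← map_inv (pe (F := F) (κ := κ) (β := β) i) T0, ← map_mul, ← map_mul,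
        inv_eq_of_mul_eq_one_right hT02, hTR]
    rw [hyU, hρ, ← map_inv, ← map_mul, ← map_mul, ← map_inv] at hyR
    have hUR : U * R * U⁻¹ = R⁻¹ := pe_injective i hyR
    have hUiso : U ∈ TensorOrth.iso h := hT.pe_iso_rev i (hyU ▸ hM.iso_mem (hC1M y hyC1))
    have hUP : U * P = P * U := by
      refine pe_injective i ?_
      rw [map_mul, map_mul, ← hyU]
      exact hPdef ▸ hC1s y hyC1
    have hTU : T0 * U * R = R * (T0 * U) := by
      have h6 : U * R = R⁻¹ * U := by rw [← hUR, inv_mul_cancel_right]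
      rw [mul_assoc, h6, ← hTR, ← mul_assoc, ← mul_assoc, ← mul_assoc, hT02, one_mul, mul_assoc]
    have hmem : t * y ∈ K := by
      have hG : pe (κ := κ) i (T0 * U) ∈ GT (κ := κ) c h := by
        rw [map_mul, ← hyU, ← htdef]
        exact mul_mem (hM.le (hC1M t htC1)) (hM.le (hC1M y hyC1))
      obtain ⟨n, hn⟩ := ax.stab hT h4 ht (mul_mem (hT.pl_iso h4 hT0p).1 hUiso) hG hRG (by
        rw [← hPdef, mul_assoc, hUP, ← mul_assoc, hTP, mul_assoc]) hTU
      rw [htdef, hyU, ← map_mul]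
      rcases hn with hn | hn <;> rw [hn]
      · rw [map_pow, ← hρ]; exact pow_mem hρK n
      · rw [pe_neg, map_pow, ← hρ, ← neg_one_mul]; exact mul_mem hnK (pow_mem hρK n)
    have h7 := inv_mem hmem
    rw [_root_.mul_inv_rev, hyi, hti] at h7
    rw [hyi]
    exact h7
  obtain ⟨N1, hN1, hodd, hcom⟩ := ZStar.exists_odd_normal hiso
  haveI := hN1
  obtain ⟨K1, hK1⟩ : ∃ K1 : Subgroup (GL X F), K1 = (N1.comap (QuotientGroup.mk' N)).map C1.subtype := ⟨_, rfl⟩
  have hK1m : ∀ {k : GL X F}, k ∈ K1 → ∃ hk : k ∈ C1, QuotientGroup.mk' N ⟨k, hk⟩ ∈ N1 := fun {k} hk => by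
    rw [hK1] at hk
    obtain ⟨k', hk', rfl⟩ := hk
    exact ⟨k'.2, hk'⟩
  have hK1W : K1 ≤ Wr F κ β := by
    refine hM.le_of_coprime h4 (fun k hk => hC1M k (hK1m hk).1) m (fun B hB k hk => ?_) ?_
    · obtain ⟨hk1, hk2⟩ := hK1m hk
      obtain ⟨b, hb⟩ : ∃ b : C1, (b : GL X F) = pe m B := ⟨⟨pe m B, hBC1 hB⟩, rfl⟩
      obtain ⟨k', hk'⟩ : ∃ k' : C1, k' = ⟨k, hk1⟩ := ⟨_, rfl⟩
      rw [← hk'] at hk2
      rw [hK1]
      refine Subgroup.mem_map.2 ⟨b * k' * b⁻¹, Subgroup.mem_comap.2 ?_, ?_⟩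
      · rw [map_mul, map_mul, map_inv]
        exact hN1.conj_mem _ hk2 _
      · rw [Subgroup.subtype_apply, Subgroup.coe_mul, Subgroup.coe_mul, Subgroup.coe_inv, hb, hk']
    · intro p _ hp g hg hgW x hx hgx n hn
      haveI : Fact (Nat.Prime 3) := ⟨Nat.prime_three⟩
      haveI : CharP F 3 :=
        ringChar.of_eq (CharP.ringChar_of_prime_eq_zero Nat.prime_three (by exact_mod_cast three_zero hq))
      obtain rfl : p = 3 := CharP.eq F hp inferInstance
      obtain ⟨hg1, hg2⟩ := hK1m hg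
      obtain ⟨B, hB, hBn, rfl⟩ := hM.slot_of_odd h4 ax ht hRG (hC1M g hg1) hgW (hC1s g hg1) hn
      obtain ⟨S, z, w, -, hz, hz0, hwz, hww, hS, rfl⟩ := hx
      rw [← map_mul, ← map_mul] at hgx
      by_contra hne
      obtain ⟨v, f, hv, hf, hBv, hvf, hBf⟩ := hT.unip_plane h4 hq hB hBn (fun e' => hne (by rw [e', map_one])) hz hz0
        hwz hww hS (pe_injective m hgx)
      obtain ⟨Q, hQ⟩ : ∃ Q, Q = rf hT v * rf hT f := ⟨_, rfl⟩
      have hQG : pe (κ := κ) m Q ∈ GT (κ := κ) c h := hQ ▸ hT.pl_GT h4 hM.ht m hv hf hvf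
      obtain ⟨P', hP'⟩ : ∃ P', P' = rf hT ((B : Mb) *ᵥ v) * rf hT v := ⟨_, rfl⟩
      have hBv0 : h ((B : Mb) *ᵥ v) ((B : Mb) *ᵥ v) ≠ 0 := by rw [hB]; exact hv
      have hP'p : Pl hT P' := ⟨_, _, hBv0, hv, hBv, hP'⟩
      have hBQ : B * Q * B⁻¹ * Q⁻¹ = P' := by
        rw [hQ, show B * (rf hT v * rf hT f) * B⁻¹ = B * rf hT v * B⁻¹ * (B * rf hT f * B⁻¹) by group,
          hT.rf_conj h4 (sim_one_of_iso hB) hv, hT.rf_conj h4 (sim_one_of_iso hB) hf, hBf, _root_.mul_inv_rev,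
          inv_eq_of_mul_eq_one_right (hT.rf_sq hf), inv_eq_of_mul_eq_one_right (hT.rf_sq hv), hP']
        rw [mul_assoc, ← mul_assoc (rf hT f) (rf hT f), hT.rf_sq hf, one_mul]
      obtain ⟨k1, hk1⟩ : ∃ k1 : C1, k1 = ⟨pe m B, hg1⟩ * ⟨pe m Q, hBC1 hQG⟩ * ⟨pe m B, hg1⟩⁻¹ *
          ⟨pe m Q, hBC1 hQG⟩⁻¹ := ⟨_, rfl⟩
      have hk1v : (k1 : GL X F) = pe m P' := by
        rw [hk1]
        simp only [Subgroup.coe_mul, Subgroup.coe_inv]
        rw [← map_inv, ← map_inv, ← map_mul, ← map_mul, ← map_mul, hBQ]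
      have hk1N : QuotientGroup.mk' N k1 ∈ N1 := by
        rw [hk1, show (⟨pe m B, hg1⟩ : C1) * ⟨pe m Q, hBC1 hQG⟩ * ⟨pe m B, hg1⟩⁻¹ * ⟨pe m Q, hBC1 hQG⟩⁻¹ =
          ⟨pe m B, hg1⟩ * (⟨pe m Q, hBC1 hQG⟩ * ⟨pe m B, hg1⟩⁻¹ * ⟨pe m Q, hBC1 hQG⟩⁻¹) by group, map_mul]
        refine mul_mem hg2 ?_
        rw [map_mul, map_mul, map_inv, map_inv]
        exact hN1.conj_mem _ (inv_mem hg2) _
      have hk12 : QuotientGroup.mk' N k1 * QuotientGroup.mk' N k1 = 1 := by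
        rw [← map_mul, show k1 * k1 = 1 from Subtype.ext (by
          rw [Subgroup.coe_mul, Subgroup.coe_one, hk1v, ← map_mul, (hT.pl_iso h4 hP'p).2.1, map_one]), map_one]
      have hk1K : k1 ∈ N := by
        rw [← QuotientGroup.eq_one_iff]
        obtain ⟨u, hu⟩ : ∃ u : N1, u = ⟨_, hk1N⟩ := ⟨_, rfl⟩
        have hu2 : u ^ 2 = 1 := by
          rw [pow_two, hu]; exact Subtype.ext hk12
        have hu1 : orderOf u ∣ 1 := by
          have h6 := Nat.dvd_gcd (orderOf_dvd_of_pow_eq_one hu2) (orderOf_dvd_natCard u)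
          rwa [Nat.Coprime.gcd_eq_one (Nat.coprime_two_left.2 hodd)] at h6
        have h7 : u = 1 := orderOf_eq_one_iff.1 (Nat.dvd_one.1 hu1)
        rw [hu] at h7
        exact congrArg Subtype.val h7
      obtain ⟨A, hA⟩ := hKpe _ ((hNm k1).1 hk1K)
      rw [hk1v] at hA
      exact ht.ne.symm (pe_eq (hT.pl_iso h4 hP'p).2.2.1 hA).1
  have hC1W : C1 ≤ Wr F κ β := fun g hg => by
    refine hconjW g hg ?_
    have h5 := hcom (QuotientGroup.mk (s := N) ⟨g, hg⟩)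
    have h6 : t * g * t⁻¹ * g⁻¹ ∈ K1 := by
      rw [hK1]
      obtain ⟨g', hg'⟩ : ∃ g' : C1, g' = ⟨g, hg⟩ := ⟨_, rfl⟩
      rw [← hg'] at h5
      refine Subgroup.mem_map.2 ⟨t1 * g' * t1⁻¹ * g'⁻¹, Subgroup.mem_comap.2 ?_, ?_⟩
      · rw [map_mul, map_mul, map_mul, map_inv, map_inv]
        exact h5
      · rw [Subgroup.subtype_apply, Subgroup.coe_mul, Subgroup.coe_mul, Subgroup.coe_mul, Subgroup.coe_inv,
          Subgroup.coe_inv, ht1v, hg']
    have htW : t ∈ Wr F κ β := htdef ▸ TensorPow.pe_mem _ _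
    have h7 := mul_mem (inv_mem (hK1W h6)) htW
    rwa [show (t * g * t⁻¹ * g⁻¹)⁻¹ * t = g * t * g⁻¹ by group] at h7
  intro g hg hgc
  have hgC : g ∈ C := (hCm g).2 ⟨hg, hgc⟩
  obtain ⟨B, hB, -, -, -⟩ := hT.exists_pure_perp h4 m (he.ne 2)
  exact hM.fus_pure h4 hB hg (hC1W (hLC1 (hL ▸ Subgroup.subset_closure (hSL ▸ Or.inr ⟨g, hgC, _, hB, rfl⟩))))

omit ax ht hRG in
/-- Over three elements. -/
theorem cent_plane3 (hq : Fintype.card F = 3) (h2κ : Fintype.card κ = 2) (l : κ) {P : GL β F}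
    (hP : Pl hM.data P) : Cen M (pe l P) := by
  have hT := hM.data
  obtain ⟨f, R', axf, hR'G, hf⟩ := hT.exists_axis h4 hM.ht hq l hP
  obtain ⟨l', hl⟩ := exists_two h2κ l
  intro g hg hgc
  refine hM.cent_aniso h4 axf hl hR'G g hg ?_
  rcases hf with rfl | rfl
  · exact hgc
  · rwa [pe_neg, mul_neg, neg_mul, neg_inj] at hgc

end Px

end Cfsg.Agent.Classical.TensorPowOrth
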