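import Cfsg.Agent.Lib.Classical.TensorPowOrth.FourTwoCent

/-!
Two factors of dimension four, the centralisers of planes stabilising the decomposition: the centralisers of products
of reflections and of planes at both factors, and the maximality.
-/

set_option autoImplicit false
set_option linter.unusedSectionVars false
set_option linter.unusedSimpArgs false
set_option linter.style.haveILetI false

open scoped Kronecker

namespace Cfsg.Agent.Classical.TensorPowOrth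

open Matrix Module MaxTv TensorMax TensorPow
open Cfsg.Agent.Classical.TensorOrth (Sym NdOn iso TSP IsSieg)

variable {F : Type*} [Field F] [Fintype F] {κ β : Type} [Fintype κ] [DecidableEq κ] [Fintype β] [DecidableEq β]
  {c : F} {h : (β → F) → (β → F) → F}

local notation "X" => (κ → β)
local notation "V" => ((κ → β) → F)
local notation "Mn" => Matrix (κ → β) (κ → β) F
local notation "Mb" => Matrix β β F
local notation "W" => (β → F)

theorem plane_add_one : ∀ S : Finset (Fin 4), S.card = 2 → ∀ j : Fin 4,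
    ∃ a : Fin 4, symmDiff S {j} = {a} ∨ symmDiff S {j} = ({a} : Finset (Fin 4))ᶜ := by decide

theorem conj_slot [Nontrivial β] {k : GL X F} (hk : k ∈ Wr F κ β) {i l : κ} {P P' : GL β F}
    (hns : ∀ r : F, (P' : Mb) ≠ r • 1) (e : k * pe i P * k⁻¹ = pe l P') :
    ∃ σ gs, k = wgl σ gs ∧ σ⁻¹ i = l ∧ P' = gs l * P * (gs l)⁻¹ := by
  obtain ⟨σ, gs, rfl⟩ := hk
  rw [conj_pe] at e
  obtain ⟨h1, h2⟩ := pe_eq hns e.symm
  exact ⟨σ, gs, rfl, h1.symm, by rw [h2, ← h1]⟩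

variable (hT : TData c h)
include hT

/-- Commuting reflections are equal or at orthogonal vectors. -/
theorem TData.rf_pair (h4 : Fintype.card β = 4) {v p : W} (hv : h v v ≠ 0) (hp : h p p ≠ 0)
    (hc : rf hT p * rf hT v = rf hT v * rf hT p) : rf hT v * rf hT p = 1 ∨ Pl hT (rf hT v * rf hT p) := by
  by_cases hvp : h v p = 0
  · exact Or.inr ⟨v, p, hv, hp, hvp, rfl⟩
  left
  obtain ⟨r, -, hr⟩ := hT.eig_of_comm_rf hv hc
  rw [hT.rf_apply hp] at hr
  have hco : (2 * h v p / h p p) ≠ 0 := div_ne_zero (mul_ne_zero hT.two hvp) hp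
  have hpv : p = ((2 * h v p / h p p)⁻¹ * (1 - r)) • v := by
    rw [← smul_smul, sub_smul, one_smul, ← hr, sub_sub_cancel, inv_smul_smul₀ hco]
  rw [hpv, hT.rf_smul hv (fun e' => hp (by rw [hpv, e', zero_smul, hT.hh.zero_left])), hT.rf_sq hv]

/-- A reflection diagonal in a frame is a reflection of the frame. -/
theorem TData.rf_frame (h4 : Fintype.card β = 4) {e : Fin 4 → W} (he : F4 h e) {p : W} (hp : h p p ≠ 0)
    (hd : ∀ j, ∃ r : F, (rf hT p : Mb) *ᵥ e j = r • e j) : ∃ j, rf hT p = rf hT (e j) := by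
  have hs := hT.hh
  obtain ⟨j, hj⟩ : ∃ j, h (e j) p ≠ 0 := by
    by_contra hno
    push Not at hno
    refine hp ?_
    nth_rw 1 [he.expand hT h4 p]
    simp [hno, hs.zero_left]
  obtain ⟨r, hr⟩ := hd j
  rw [hT.rf_apply hp] at hr
  have hco : (2 * h (e j) p / h p p) ≠ 0 := div_ne_zero (mul_ne_zero hT.two hj) hp
  have hpe : p = ((2 * h (e j) p / h p p)⁻¹ * (1 - r)) • e j := by
    rw [← smul_smul, sub_smul, one_smul, ← hr, sub_sub_cancel, inv_smul_smul₀ hco]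
  exact ⟨j, by rw [hpe, hT.rf_smul (he.ne j) (fun e' => hp (by rw [hpe, e', zero_smul, hs.zero_left]))]⟩

omit hT
namespace Px

variable {M : Subgroup (GL (κ → β) F)} (hM : Px c h M) (h4 : Fintype.card β = 4)
  (hCp : ∀ (l : κ) (P : GL β F), Pl hM.data P → Cen M (pe l P))
include hM h4 hCp

/-- The centraliser of a product of reflections and a product of planes. -/
theorem cent_AD {i m : κ} (ht : Two i m) {v v₂ u : W} (hv : h v v ≠ 0) (hv₂ : h v₂ v₂ ≠ 0) (hvv : h v v₂ = 0)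
    (hu : h u u ≠ 0) {U : GL β F} (hU : Pl hM.data U) {g : GL X F} (hg : g ∈ M)
    (hgA : g * (pe i (rf hM.data v) * pe m (rf hM.data u)) = pe i (rf hM.data v) * pe m (rf hM.data u) * g)
    (hgz : g * (pe i (rf hM.data v * rf hM.data v₂) * pe m U) = pe i (rf hM.data v * rf hM.data v₂) * pe m U * g) :
    g ∈ Wr F κ β := by
  classical
  have hT := hM.data
  have hs := hT.hh
  haveI := hT.nontriv h4
  obtain ⟨ν, hν⟩ : ∃ ν : F, ¬ IsSquare ν := FiniteField.exists_nonsquare fun e2 => hT.two (by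
    haveI := ringChar.of_eq e2; exact CharTwo.two_eq_zero)
  have hν0 : ν ≠ 0 := fun e => hν ⟨0, by rw [e, mul_zero]⟩
  obtain ⟨e, he, rfl, rfl⟩ := hT.frame2 h4 hv hv₂ hvv
  obtain ⟨U', hU', hd, hmem⟩ := hT.exists_perpN h4 2 ![e 0, e 1]
    (fun p q hpq => by
      fin_cases p <;> fin_cases q <;>
        first | exact absurd rfl hpq | simpa using he.orth 0 1 (by decide) | simpa using he.orth 1 0 (by decide))
    (fun p => by fin_cases p <;> simp [he.ne])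
  obtain ⟨a, ha, haν⟩ := hT.exists_val hU' (by omega) (mul_ne_zero hν0 (he.ne 3))
  have ha0 : h a (e 0) = 0 := (hmem a).1 ha 0
  have ha1 : h a (e 1) = 0 := (hmem a).1 ha 1
  have haa : h a a ≠ 0 := by rw [haν]; exact mul_ne_zero hν0 (he.ne 3)
  obtain ⟨A, hA⟩ : ∃ A, A = pe (κ := κ) i (rf hT (e 0)) * pe m (rf hT u) := ⟨_, rfl⟩
  obtain ⟨T, hTe⟩ : ∃ T, T = rf hT (e 0) * rf hT (e 1) := ⟨_, rfl⟩
  obtain ⟨P, hPe⟩ : ∃ P, P = rf hT (e 0) * rf hT (e 2) := ⟨_, rfl⟩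
  obtain ⟨R, hRe⟩ : ∃ R, R = rf hT (e 1) * rf hT a := ⟨_, rfl⟩
  obtain ⟨z, hz⟩ : ∃ z, z = pe (κ := κ) i T * pe m U := ⟨_, rfl⟩
  rw [← hA] at hgA
  rw [← hTe, ← hz] at hgz
  obtain ⟨C, hC⟩ : ∃ C : Subgroup (GL X F), C = M ⊓ Subgroup.centralizer {A} ⊓ Subgroup.centralizer {z} := ⟨_, rfl⟩
  have hmem' : ∀ k, k ∈ C ↔ k ∈ M ∧ k * A = A * k ∧ k * z = z * k := fun k => by
    rw [hC, Subgroup.mem_inf, Subgroup.mem_inf, Subgroup.mem_centralizer_singleton_iff,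
      Subgroup.mem_centralizer_singleton_iff]
    tauto
  have hDT := hT.dg_pl he (show (0 : Fin 4) ≠ 1 by decide)
  have hDP := hT.dg_pl he (show (0 : Fin 4) ≠ 2 by decide)
  rw [← hTe] at hDT
  rw [← hPe] at hDP
  have hTp : Pl hT T := hT.dg_pl' h4 he (by decide) hDT
  have hPp : Pl hT P := hT.dg_pl' h4 he (by decide) hDP
  have hRp : Pl hT R := ⟨e 1, a, he.ne 1, haa, by rw [hs.symm, ha1], hRe⟩
  have hPT : T * P = P * T := Dg.unique hT he h4 (hDT.mul hDP) (by rw [symmDiff_comm]; exact hDP.mul hDT)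
  have hPT1 : P ≠ T := fun e' => hT.two (by
    have h5 := hDP 1
    rw [e', hDT 1, sgS, sgS, if_pos (by decide), if_neg (by decide)] at h5
    have := smul_left_injective F (fun e0 => he.ne 1 (by rw [e0, hs.zero_left])) h5
    linear_combination -this)
  have hPT2 : P ≠ -T := fun e' => hT.two (by
    have h5 := hDP 0
    rw [e', hDT.neg 0, sgS, sgS, if_neg (by decide), if_pos (by decide)] at h5
    have := smul_left_injective F (fun e0 => he.ne 0 (by rw [e0, hs.zero_left])) h5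
    linear_combination this)
  have hRrf : R * rf hT (e 0) = rf hT (e 0) * R := by
    rw [hRe, mul_assoc, hT.rf_comm haa (he.ne 0) ha0, ← mul_assoc,
      hT.rf_comm (he.ne 1) (he.ne 0) (he.orth 1 0 (by decide)), mul_assoc]
  have hRT : R * T = T * R := by
    rw [hTe, ← mul_assoc, hRrf, mul_assoc, mul_assoc, hRe, mul_assoc, hT.rf_comm haa (he.ne 1) ha1, ← mul_assoc]
  have hcomm : ∀ {S : GL β F}, S * rf hT (e 0) = rf hT (e 0) * S → S * T = T * S → pe i S ∈ M → pe i S ∈ C :=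
    fun {S} e1 e2 hS => by
      refine (hmem' _).2 ⟨hS, ?_, ?_⟩
      · rw [hA, ← mul_assoc, ← map_mul, e1, map_mul, mul_assoc, pe_comm ht.ne S (rf hT u), mul_assoc]
      · rw [hz, ← mul_assoc, ← map_mul, e2, map_mul, mul_assoc, pe_comm ht.ne S U, mul_assoc]
  have hPrf : P * rf hT (e 0) = rf hT (e 0) * P :=
    Dg.unique hT he h4 (hDP.mul (Dg.rf hT he 0)) (by rw [symmDiff_comm]; exact (Dg.rf hT he 0).mul hDP)
  have hMp : ∀ {l : κ} {S : GL β F}, Pl hT S → pe l S ∈ M := fun {l S} hS => by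
    obtain ⟨x, y, hx, hy, hxy, rfl⟩ := hS
    exact (hM.pl_mem h4 l hx hy hxy).1
  have htC : pe i P ∈ C := hcomm hPrf hPT.symm (hMp hPp)
  have hrC : pe i R ∈ C := hcomm hRrf hRT (hMp hRp)
  have hgC : g ∈ C := (hmem' g).2 ⟨hg, hgA, hgz⟩
  obtain ⟨b, hb⟩ : ∃ b, b = g * pe i R * g⁻¹ := ⟨_, rfl⟩
  have hbC : b ∈ C := hb ▸ mul_mem (mul_mem hgC hrC) (inv_mem hgC)
  have htt : pe (κ := κ) i P * pe i P = 1 := by rw [← map_mul, (hT.pl_iso h4 hPp).2.1, map_one]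
  have hbb : b * b = 1 := hb ▸ conjSq' g (by rw [← map_mul, (hT.pl_iso h4 hRp).2.1, map_one])
  -- a member keeping the factor `i` keeps the vector `e 0` up to a scalar
  have hslot : ∀ k ∈ C, k ∈ Wr F κ β → ∀ {S S' : GL β F}, (∀ r : F, (S' : Mb) ≠ r • 1) →
      k * pe i S * k⁻¹ = pe i S' → ∃ (K : GL β F) (μ : F), Sim h μ K ∧ S' = K * S * K⁻¹ ∧
        K * rf hT (e 0) = rf hT (e 0) * K ∧ K * T = T * K := by
    intro k hk hkW S S' hns e'
    obtain ⟨σ, gs, rfl, hσ, hS'⟩ := conj_slot hkW hns e'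
    have hσ1 : σ = 1 := (ht.perm σ).resolve_right fun h5 => ht.ne (by
      have := congrArg σ hσ
      rw [perm_apply_inv, h5.1] at this
      exact this)
    subst hσ1
    obtain ⟨hkM, hkA, hkz⟩ := (hmem' _).1 hk
    obtain ⟨μ, hμ⟩ := hT.slot_simil (hM.iso_mem hkM) i
    rw [ht.wgl_eq] at hkA hkz
    exact ⟨gs i, μ, hμ, hS', hT.part_rf h4 ht.ne (he.ne 0) (B := gs m) (Q := rf hT u) (hA ▸ hkA),
      hT.part_pl h4 ht.ne hμ hTp (B := gs m) (Q := U) (hz ▸ hkz)⟩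
  obtain ⟨w, hwC, hw1, hwt, hwb, hcase⟩ := dih_split htt hbb htC hbC fun k hk ek => by
    have hk' : g⁻¹ * k ∈ C := mul_mem (inv_mem hgC) hk
    have e5 : g⁻¹ * k * pe i P * (g⁻¹ * k)⁻¹ = pe i R := by
      rw [show g⁻¹ * k * pe i P * (g⁻¹ * k)⁻¹ = g⁻¹ * (k * pe i P * k⁻¹) * g by group, ek, hb]
      group
    obtain ⟨K, μ, -, hR', hK0, -⟩ := hslot _ hk' (hM.fus_pl h4 hCp ((hmem' _).1 hk').1 hPp e5)
      (hT.pl_iso h4 hRp).2.2.1 e5
    obtain ⟨r, hr, hKv⟩ := hT.eig_of_comm_rf (he.ne 0) hK0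
    have h5 : (R : Mb) *ᵥ ((K : Mb) *ᵥ e 0) = -((K : Mb) *ᵥ e 0) := by
      rw [Matrix.mulVec_mulVec, ← Units.val_mul, hR', inv_mul_cancel_right, Units.val_mul, ← Matrix.mulVec_mulVec,
        hDP 0, sgS, if_pos (by decide), neg_one_smul, Matrix.mulVec_neg]
    rw [hKv, Matrix.mulVec_smul, hRe, Units.val_mul, ← Matrix.mulVec_mulVec,
      hT.rf_perp haa (show h (e 0) a = 0 by rw [hs.symm, ha0]), hT.rf_perp (he.ne 1) (he.orth 0 1 (by decide)),
      eq_neg_iff_add_eq_zero, ← two_smul F, smul_smul, smul_eq_zero] at h5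
    exact he.ne 0 (by rw [h5.resolve_left (mul_ne_zero hT.two hr), hs.zero_left])
  obtain ⟨hwM, hwA, hwz⟩ := (hmem' w).1 hwC
  obtain ⟨htM, htA, htz⟩ := (hmem' _).1 htC
  obtain ⟨hbM, hbA, hbz⟩ := (hmem' b).1 hbC
  have hwW : w ∈ Wr F κ β := hCp i P hPp w hwM hwt
  have hyy : pe i P * w * (pe i P * w) = 1 := by
    rcases hcase with ⟨k, -, e', -⟩ | ⟨k, -, e', -⟩
    · rw [← e']; exact conjSq' k htt
    · rw [← e']; exact conjSq' k hbb
  obtain ⟨A₁, B₁, hye, hA₁, hB₁, hAA, hBB⟩ := hT.split_rf h4 ht (mul_mem (TensorPow.pe_mem _ _) hwW)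
    (hM.le (mul_mem htM hwM)) hyy (he.ne 0) (Q := rf hT u) (hA ▸ comm_mul2 htA hwA)
  have hbW : b ∈ Wr F κ β := by
    obtain ⟨k', hk', R₀, hR₀, e3, hcase'⟩ : ∃ k' ∈ C, ∃ R₀, Pl hT R₀ ∧ k' * pe i R₀ * k'⁻¹ = pe i P * w ∧
        (R₀ = P ∨ R₀ = R) := by
      rcases hcase with ⟨k, hk, e1, -⟩ | ⟨k, hk, e1, -⟩
      · exact ⟨k, hk, P, hPp, e1, Or.inl rfl⟩
      · exact ⟨k * g, mul_mem hk hgC, R, hRp, by rw [← e1, hb]; group, Or.inr rfl⟩
    obtain ⟨hkW, hkind⟩ := hM.single_back h4 hCp ht (i₀ := i) hR₀ ((hmem' k').1 hk').1 hA₁ hB₁ hAA hBB (hye ▸ e3)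
    have hwe : ∀ {l : κ} {S : GL β F}, pe i P * w = pe l S → w = pe i P * pe l S := fun {l S} e' => by
      rw [← e', ← mul_assoc, htt, one_mul]
    rcases hkind with ⟨T', hT'p, e', -⟩ | ⟨U₂, hU₂, e', -⟩ <;> rw [← hye] at e'
    · have hcT : P * T' = T' * P := by
        have h5 : pe (κ := κ) i P * pe i T' = pe i T' * pe i P := by
          rw [← e', mul_assoc (pe i P) w, hwt]
        rw [← map_mul, ← map_mul] at h5
        exact pe_injective i h5
      by_cases h1 : T' = P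
      · refine absurd ?_ hw1
        rw [hwe e', h1, htt]
      by_cases h2 : T' = -P
      · exfalso
        obtain ⟨K, μ, hμ, hK, hK0, hKT⟩ := hslot k' hk' hkW (hT.pl_iso h4 hT'p).2.2.1 (e3.trans e')
        obtain ⟨r₀, hr₀, hKv⟩ := hT.eig_of_comm_rf (he.ne 0) hK0
        rcases hcase' with rfl | rfl
        · have h5 : (T' : Mb) *ᵥ ((K : Mb) *ᵥ e 0) = -((K : Mb) *ᵥ e 0) := by
            rw [Matrix.mulVec_mulVec, ← Units.val_mul, hK, inv_mul_cancel_right, Units.val_mul, ← Matrix.mulVec_mulVec,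
              hDP 0, sgS, if_pos (by decide), neg_one_smul, Matrix.mulVec_neg]
          rw [hKv, Matrix.mulVec_smul, h2, hDP.neg 0, sgS, if_neg (by decide), one_smul, eq_neg_iff_add_eq_zero,
            ← two_smul F, smul_smul, smul_eq_zero] at h5
          exact he.ne 0 (by rw [h5.resolve_left (mul_ne_zero hT.two hr₀), hs.zero_left])
        · have hK1 : K * rf hT (e 1) = rf hT (e 1) * K := by
            have h5 : rf hT (e 1) = rf hT (e 0) * T := by rw [hTe, ← mul_assoc, hT.rf_sq (he.ne 0), one_mul]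
            rw [h5, ← mul_assoc, hK0, mul_assoc, hKT, ← mul_assoc]
          obtain ⟨r₁, hr₁, hKv1⟩ := hT.eig_of_comm_rf (he.ne 1) hK1
          have hneg : T' = rf hT (e 1) * rf hT (e 3) := by
            refine Dg.unique hT he h4 (h2 ▸ hDP.neg) ?_
            have h5 := hT.dg_pl he (show (1 : Fin 4) ≠ 3 by decide)
            rwa [show ({1, 3} : Finset (Fin 4)) = ({0, 2} : Finset (Fin 4))ᶜ by decide] at h5
          rw [hneg, hRe, show K * (rf hT (e 1) * rf hT a) * K⁻¹ = K * rf hT (e 1) * K⁻¹ * (K * rf hT a * K⁻¹) by group,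
            hK1, mul_inv_cancel_right, hT.rf_conj h4 hμ haa, mul_left_cancel_iff] at hK
          have hKa : h ((K : Mb) *ᵥ a) ((K : Mb) *ᵥ a) ≠ 0 := by rw [hμ]; exact mul_ne_zero (hT.sim_ne h4 hμ) haa
          obtain ⟨r, hr, hre⟩ := hT.rf_inj (he.ne 3) hKa hK
          have k1 := hμ a a
          rw [hre, hs.smul_left, hs.smul_right, haν] at k1
          have k2 := hμ (e 0) (e 0)
          rw [hKv, hs.smul_left, hs.smul_right] at k2
          have k3 : μ = r₀ * r₀ := (mul_right_cancel₀ (he.ne 0) (by linear_combination k2)).symm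
          refine hν ⟨r / r₀, ?_⟩
          field_simp
          refine mul_right_cancel₀ (he.ne 3) ?_
          rw [k3] at k1
          linear_combination -k1
      obtain ⟨-, -, -, -, -, -, -, hPl⟩ := hT.pair_frame h4 hPp hT'p hcT h1 h2
      refine hCp i _ hPl b hbM ?_
      rw [map_mul, ← hwe e', hwb]
    · exact hM.cent3 h4 hCp ht hTp hPp hU hU₂ hPT hPT1 hPT2 hbM (hz ▸ hbz) (by rw [← hwe e', hwb])
  obtain ⟨A₂, B₂, hbe, hA₂, hB₂, hAA₂, hBB₂⟩ := hT.split_rf h4 ht hbW (hM.le hbM) hbb (he.ne 0) (Q := rf hT u)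
    (hA ▸ hbA)
  exact (hM.single_back h4 hCp ht (i₀ := i) hRp hg hA₂ hB₂ hAA₂ hBB₂ (by rw [← hbe, hb])).1

/-- The centraliser of a product of two reflections. -/
theorem cent_A {i m : κ} (ht : Two i m) {v u : W} (hv : h v v ≠ 0) (hu : h u u ≠ 0) :
    Cen M (pe i (rf hM.data v) * pe m (rf hM.data u)) := by
  classical
  intro g hg hgA
  have hT := hM.data
  have hs := hT.hh
  haveI := hT.nontriv h4
  obtain ⟨U', hU', hd, hmem⟩ := hT.exists_perpN h4 1 ![v] (fun a b hab => absurd (Subsingleton.elim a b) hab)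
    (fun a => by fin_cases a; exact hv)
  obtain ⟨a, ha, hav⟩ := hT.exists_val hU' (by omega) hv
  have ha0 : h v a = 0 := by rw [hs.symm]; exact (hmem a).1 ha 0
  obtain ⟨e, he, rfl, rfl⟩ := hT.frame2 h4 hv (show h a a ≠ 0 by rw [hav]; exact hv) ha0
  obtain ⟨A, hA⟩ : ∃ A, A = pe (κ := κ) i (rf hT (e 0)) * pe m (rf hT u) := ⟨_, rfl⟩
  rw [← hA] at hgA
  obtain ⟨C, hC⟩ : ∃ C : Subgroup (GL X F), C = M ⊓ Subgroup.centralizer {A} := ⟨_, rfl⟩
  have hmem' : ∀ k, k ∈ C ↔ k ∈ M ∧ k * A = A * k := fun k => by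
    rw [hC, Subgroup.mem_inf, Subgroup.mem_centralizer_singleton_iff]
  obtain ⟨T, hTe⟩ : ∃ T, T = rf hT (e 0) * rf hT (e 2) := ⟨_, rfl⟩
  obtain ⟨R, hRe⟩ : ∃ R, R = rf hT (e 0) * rf hT (e 3) := ⟨_, rfl⟩
  have hDT := hT.dg_pl he (show (0 : Fin 4) ≠ 2 by decide)
  have hDR := hT.dg_pl he (show (0 : Fin 4) ≠ 3 by decide)
  rw [← hTe] at hDT
  rw [← hRe] at hDR
  have hTp : Pl hT T := hT.dg_pl' h4 he (by decide) hDT
  have hRp : Pl hT R := hT.dg_pl' h4 he (by decide) hDR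
  have hcomm : ∀ {S : Finset (Fin 4)} {P : GL β F}, Dg e S P → Pl hT P → pe i P ∈ C := fun {S P} hS hP => by
    obtain ⟨x, y, hx, hy, hxy, rfl⟩ := id hP
    refine (hmem' _).2 ⟨(hM.pl_mem h4 i hx hy hxy).1, ?_⟩
    rw [hA, ← mul_assoc, ← map_mul,
      Dg.unique hT he h4 (hS.mul (Dg.rf hT he 0)) (by rw [symmDiff_comm]; exact (Dg.rf hT he 0).mul hS), map_mul,
      mul_assoc, pe_comm ht.ne _ (rf hT u), mul_assoc]
  have htC := hcomm hDT hTp
  have hrC := hcomm hDR hRp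
  have hgC : g ∈ C := (hmem' g).2 ⟨hg, hgA⟩
  obtain ⟨b, hb⟩ : ∃ b, b = g * pe i R * g⁻¹ := ⟨_, rfl⟩
  have hbC : b ∈ C := hb ▸ mul_mem (mul_mem hgC hrC) (inv_mem hgC)
  have htt : pe (κ := κ) i T * pe i T = 1 := by rw [← map_mul, (hT.pl_iso h4 hTp).2.1, map_one]
  have hbb : b * b = 1 := hb ▸ conjSq' g (by rw [← map_mul, (hT.pl_iso h4 hRp).2.1, map_one])
  have hslot : ∀ k ∈ C, k ∈ Wr F κ β → ∀ {S S' : GL β F}, (∀ r : F, (S' : Mb) ≠ r • 1) →
      k * pe i S * k⁻¹ = pe i S' → ∃ (K : GL β F) (μ : F), Sim h μ K ∧ S' = K * S * K⁻¹ ∧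
        K * rf hT (e 0) = rf hT (e 0) * K := by
    intro k hk hkW S S' hns e'
    obtain ⟨σ, gs, rfl, hσ, hS'⟩ := conj_slot hkW hns e'
    have hσ1 : σ = 1 := (ht.perm σ).resolve_right fun h5 => ht.ne (by
      have := congrArg σ hσ
      rw [perm_apply_inv, h5.1] at this
      exact this)
    subst hσ1
    obtain ⟨hkM, hkA⟩ := (hmem' _).1 hk
    obtain ⟨μ, hμ⟩ := hT.slot_simil (hM.iso_mem hkM) i
    rw [ht.wgl_eq] at hkA
    exact ⟨gs i, μ, hμ, hS', hT.part_rf h4 ht.ne (he.ne 0) (B := gs m) (Q := rf hT u) (hA ▸ hkA)⟩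
  obtain ⟨w, hwC, hw1, hwt, hwb, hcase⟩ := dih_split htt hbb htC hbC fun k hk ek => by
    have hk' : g⁻¹ * k ∈ C := mul_mem (inv_mem hgC) hk
    have e5 : g⁻¹ * k * pe i T * (g⁻¹ * k)⁻¹ = pe i R := by
      rw [show g⁻¹ * k * pe i T * (g⁻¹ * k)⁻¹ = g⁻¹ * (k * pe i T * k⁻¹) * g by group, ek, hb]
      group
    obtain ⟨K, μ, hμ, hK, hK0⟩ := hslot _ hk' (hM.fus_pl h4 hCp ((hmem' _).1 hk').1 hTp e5)
      (hT.pl_iso h4 hRp).2.2.1 e5
    obtain ⟨r₀, hr₀, hKv⟩ := hT.eig_of_comm_rf (he.ne 0) hK0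
    rw [hRe, hTe, show K * (rf hT (e 0) * rf hT (e 2)) * K⁻¹ = K * rf hT (e 0) * K⁻¹ * (K * rf hT (e 2) * K⁻¹) by group,
      hK0, mul_inv_cancel_right, hT.rf_conj h4 hμ (he.ne 2), mul_left_cancel_iff] at hK
    obtain ⟨r, hr, hre⟩ := hT.rf_inj (he.ne 3) (by rw [hμ]; exact mul_ne_zero (hT.sim_ne h4 hμ) (he.ne 2)) hK
    have k1 := hμ (e 2) (e 2)
    rw [hre, hs.smul_left, hs.smul_right] at k1
    have k2 := hμ (e 0) (e 0)
    rw [hKv, hs.smul_left, hs.smul_right] at k2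
    have k3 : μ = r₀ * r₀ := (mul_right_cancel₀ (he.ne 0) (by linear_combination k2)).symm
    refine he.not_sq hT h4 ⟨h (e 0) (e 0) * r * h (e 3) (e 3) / r₀, ?_⟩
    rw [k3] at k1
    field_simp
    linear_combination (h (e 2) (e 2) * h (e 3) (e 3) * r₀ * r₀) * hav -
      (h (e 0) (e 0) * h (e 3) (e 3)) * k1
  obtain ⟨hwM, hwA⟩ := (hmem' w).1 hwC
  obtain ⟨htM, htA⟩ := (hmem' _).1 htC
  obtain ⟨hbM, hbA⟩ := (hmem' b).1 hbC
  have hwW : w ∈ Wr F κ β := hCp i T hTp w hwM hwt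
  have hyy : pe i T * w * (pe i T * w) = 1 := by
    rcases hcase with ⟨k, -, e', -⟩ | ⟨k, -, e', -⟩
    · rw [← e']; exact conjSq' k htt
    · rw [← e']; exact conjSq' k hbb
  obtain ⟨A₁, B₁, hye, hA₁, hB₁, hAA, hBB⟩ := hT.split_rf h4 ht (mul_mem (TensorPow.pe_mem _ _) hwW)
    (hM.le (mul_mem htM hwM)) hyy (he.ne 0) (Q := rf hT u) (hA ▸ comm_mul2 htA hwA)
  have hbW : b ∈ Wr F κ β := by
    obtain ⟨k', hk', R₀, hR₀, e3, hR0v⟩ : ∃ k' ∈ C, ∃ R₀, Pl hT R₀ ∧ k' * pe i R₀ * k'⁻¹ = pe i T * w ∧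
        (R₀ : Mb) *ᵥ e 0 = -e 0 := by
      rcases hcase with ⟨k, hk, e1, -⟩ | ⟨k, hk, e1, -⟩
      · exact ⟨k, hk, T, hTp, e1, by rw [hDT 0, sgS, if_pos (by decide), neg_one_smul]⟩
      · exact ⟨k * g, mul_mem hk hgC, R, hRp, by rw [← e1, hb]; group,
          by rw [hDR 0, sgS, if_pos (by decide), neg_one_smul]⟩
    obtain ⟨hkW, hkind⟩ := hM.single_back h4 hCp ht (i₀ := i) hR₀ ((hmem' k').1 hk').1 hA₁ hB₁ hAA hBB (hye ▸ e3)
    have hwe : ∀ {l : κ} {S : GL β F}, pe i T * w = pe l S → w = pe i T * pe l S := fun {l S} e' => by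
      rw [← e', ← mul_assoc, htt, one_mul]
    rcases hkind with ⟨T', hT'p, e', -⟩ | ⟨U₂, hU₂, e', -⟩ <;> rw [← hye] at e'
    · have hcT : T * T' = T' * T := by
        have h5 : pe (κ := κ) i T * pe i T' = pe i T' * pe i T := by
          rw [← e', mul_assoc (pe i T) w, hwt]
        rw [← map_mul, ← map_mul] at h5
        exact pe_injective i h5
      by_cases h1 : T' = T
      · refine absurd ?_ hw1
        rw [hwe e', h1, htt]
      by_cases h2 : T' = -T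
      · exfalso
        obtain ⟨K, μ, hμ, hK, hK0⟩ := hslot k' hk' hkW (hT.pl_iso h4 hT'p).2.2.1 (e3.trans e')
        obtain ⟨r₀, hr₀, hKv⟩ := hT.eig_of_comm_rf (he.ne 0) hK0
        have h5 : (T' : Mb) *ᵥ ((K : Mb) *ᵥ e 0) = -((K : Mb) *ᵥ e 0) := by
          rw [Matrix.mulVec_mulVec, ← Units.val_mul, hK, inv_mul_cancel_right, Units.val_mul, ← Matrix.mulVec_mulVec,
            hR0v, Matrix.mulVec_neg]
        rw [hKv, Matrix.mulVec_smul, h2, hDT.neg 0, sgS, if_neg (by decide), one_smul, eq_neg_iff_add_eq_zero,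
          ← two_smul F, smul_smul, smul_eq_zero] at h5
        exact he.ne 0 (by rw [h5.resolve_left (mul_ne_zero hT.two hr₀), hs.zero_left])
      obtain ⟨-, -, -, -, -, -, -, hPl⟩ := hT.pair_frame h4 hTp hT'p hcT h1 h2
      refine hCp i _ hPl b hbM ?_
      rw [map_mul, ← hwe e', hwb]
    · exact hM.cent_AD h4 hCp ht (he.ne 0) (he.ne 2) (he.orth 0 2 (by decide)) hu hU₂ hbM (hA ▸ hbA)
        (by rw [← hTe, ← hwe e', hwb])
  obtain ⟨A₂, B₂, hbe, hA₂, hB₂, hAA₂, hBB₂⟩ := hT.split_rf h4 ht hbW (hM.le hbM) hbb (he.ne 0) (Q := rf hT u)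
    (hA ▸ hbA)
  exact (hM.single_back h4 hCp ht (i₀ := i) hRp hg hA₂ hB₂ hAA₂ hBB₂ (by rw [← hbe, hb])).1

/-- A member conjugating a product of two reflections into the stabiliser. -/
theorem fus_A {i m : κ} (ht : Two i m) {v u : W} (hv : h v v ≠ 0) (hu : h u u ≠ 0) {k : GL X F} (hk : k ∈ M)
    (hy : k * (pe i (rf hM.data v) * pe m (rf hM.data u)) * k⁻¹ ∈ Wr F κ β) :
    k ∈ Wr F κ β ∧ ∃ p q, h p p ≠ 0 ∧ h q q ≠ 0 ∧
      k * (pe i (rf hM.data v) * pe m (rf hM.data u)) * k⁻¹ = pe i (rf hM.data p) * pe m (rf hM.data q) := by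
  have hT := hM.data
  obtain ⟨hAG, hAA, hAt⟩ := hT.AA_facts h4 ht hv hu
  obtain ⟨A, hA⟩ : ∃ A, A = pe (κ := κ) i (rf hT v) * pe m (rf hT u) := ⟨_, rfl⟩
  rw [← hA] at hy hAG hAA hAt
  have hAM : A ∈ M := hM.mem ⟨hA ▸ mul_mem (TensorPow.pe_mem _ _) (TensorPow.pe_mem _ _), hAG⟩
  have hyM : k * A * k⁻¹ ∈ M := mul_mem (mul_mem hk hAM) (inv_mem hk)
  have hyy : k * A * k⁻¹ * (k * A * k⁻¹) = 1 := conjSq' k hAA
  have htr : ((k * A * k⁻¹ : GL X F) : Mn).trace = 4 := by rw [trace_conj, hAt]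
  obtain ⟨A', B', hye, hA', hB', hAA', hBB'⟩ := hT.eig_of_trace h4 ht hy (hM.le hyM) hyy
    (by rw [htr]; exact hT.four_ne)
  obtain ⟨hn1, hn2⟩ := hT.AA_ne h4 ht (v := v) (u := u) hv
  rw [← hA] at hn1 hn2 ⊢
  obtain ⟨p, q, hp, hq, e, -, -⟩ := hT.kind_four h4 ht hA' hB' hAA' hBB' (hye ▸ hM.le hyM) (by rw [← hye]; exact htr)
    (fun h1 => hn1 (by rw [show A = k⁻¹ * (k * A * k⁻¹) * k by group, hye, h1]; group))
    (fun h1 => hn2 (by
      rw [show A = k⁻¹ * (k * A * k⁻¹) * k by group, hye, h1, mul_neg, neg_mul, mul_one, inv_mul_cancel]))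
  refine ⟨?_, p, q, hp, hq, hye.trans e⟩
  have e2 : k * A * k⁻¹ = wgl 1 (Function.update (Function.update (1 : κ → GL β F) i A') m B') := by
    rw [hye, pe_mul_pe ht.ne]
  exact hM.fus_good h4 (hA ▸ hM.cent_A h4 hCp ht hv hu) hAM hAA (by rw [hAt]; exact hT.four_ne) hk e2
    (show (1 : Equiv.Perm κ) i = i from rfl)

/-- The centraliser of a product of planes at both factors. -/
theorem cent_DD {i m : κ} (ht : Two i m) {P Q : GL β F} (hP : Pl hM.data P) (hQ : Pl hM.data Q) :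
    Cen M (pe i P * pe m Q) := by
  classical
  intro g hg hgD
  have hT := hM.data
  have hs := hT.hh
  haveI := hT.nontriv h4
  obtain ⟨e, he, hDP, -⟩ := hT.pl_dg h4 hP
  obtain ⟨f, hf, hDQ, -⟩ := hT.pl_dg h4 hQ
  obtain ⟨D, hD⟩ : ∃ D, D = pe (κ := κ) i P * pe m Q := ⟨_, rfl⟩
  rw [← hD] at hgD
  obtain ⟨C, hC⟩ : ∃ C : Subgroup (GL X F), C = M ⊓ Subgroup.centralizer {D} := ⟨_, rfl⟩
  have hmem : ∀ k, k ∈ C ↔ k ∈ M ∧ k * D = D * k := fun k => by
    rw [hC, Subgroup.mem_inf, Subgroup.mem_centralizer_singleton_iff]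
  obtain ⟨T, hTe⟩ : ∃ T, T = rf hT (e 0) * rf hT (e 2) := ⟨_, rfl⟩
  have hDT := hT.dg_pl he (show (0 : Fin 4) ≠ 2 by decide)
  rw [← hTe] at hDT
  have hTp : Pl hT T := hT.dg_pl' h4 he (by decide) hDT
  have hPT : P * T = T * P := Dg.unique hT he h4 (hDP.mul hDT) (by rw [symmDiff_comm]; exact hDT.mul hDP)
  have hPT1 : T ≠ P := fun e' => hT.two (by
    have h5 := hDT 1
    rw [e', hDP 1, sgS, sgS, if_pos (by decide), if_neg (by decide)] at h5
    have := smul_left_injective F (fun e0 => he.ne 1 (by rw [e0, hs.zero_left])) h5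
    linear_combination -this)
  have hPT2 : T ≠ -P := fun e' => hT.two (by
    have h5 := hDT 0
    rw [e', hDP.neg 0, sgS, sgS, if_neg (by decide), if_pos (by decide)] at h5
    have := smul_left_injective F (fun e0 => he.ne 0 (by rw [e0, hs.zero_left])) h5
    linear_combination this)
  obtain ⟨hA0G, hA0A, hA0t⟩ := hT.AA_facts h4 ht (he.ne 0) (hf.ne 0)
  obtain ⟨A0, hA0⟩ : ∃ A0, A0 = pe (κ := κ) i (rf hT (e 0)) * pe m (rf hT (f 0)) := ⟨_, rfl⟩
  rw [← hA0] at hA0G hA0A hA0t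
  have htM : pe i T ∈ M := by
    rw [hTe]; exact (hM.pl_mem h4 i (he.ne 0) (he.ne 2) (he.orth 0 2 (by decide))).1
  have htC : pe i T ∈ C := (hmem _).2 ⟨htM, by
    rw [hD, ← mul_assoc, ← map_mul, ← hPT, map_mul, mul_assoc, pe_comm ht.ne T Q, mul_assoc]⟩
  have hA0C : A0 ∈ C := (hmem _).2
    ⟨hM.mem ⟨hA0 ▸ mul_mem (TensorPow.pe_mem _ _) (TensorPow.pe_mem _ _), hA0G⟩, by
      rw [hA0, hD, pe2_mul ht.ne, pe2_mul ht.ne,
        Dg.unique hT he h4 ((Dg.rf hT he 0).mul hDP) (by rw [symmDiff_comm]; exact hDP.mul (Dg.rf hT he 0)),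
        Dg.unique hT hf h4 ((Dg.rf hT hf 0).mul hDQ) (by rw [symmDiff_comm]; exact hDQ.mul (Dg.rf hT hf 0))]⟩
  have hgC : g ∈ C := (hmem g).2 ⟨hg, hgD⟩
  obtain ⟨b, hb⟩ : ∃ b, b = g * A0 * g⁻¹ := ⟨_, rfl⟩
  have hbC : b ∈ C := hb ▸ mul_mem (mul_mem hgC hA0C) (inv_mem hgC)
  have htt : pe (κ := κ) i T * pe i T = 1 := by rw [← map_mul, (hT.pl_iso h4 hTp).2.1, map_one]
  have hbb : b * b = 1 := hb ▸ conjSq' g hA0A
  obtain ⟨w, hwC, hw1, hwt, hwb, hcase⟩ := dih_split htt hbb htC hbC fun k _ ek => by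
    have h5 := congrArg (fun z : GL X F => (z : Mn).trace) ek
    rw [trace_conj, hb, trace_conj, hA0t, trace_pe, (hT.pl_iso h4 hTp).2.2.2.1, zero_mul] at h5
    exact hT.four_ne h5.symm
  obtain ⟨hwM, hwD⟩ := (hmem w).1 hwC
  obtain ⟨-, htD⟩ := (hmem _).1 htC
  obtain ⟨hbM, hbD⟩ := (hmem b).1 hbC
  have hwW : w ∈ Wr F κ β := hCp i T hTp w hwM hwt
  have hyy : pe i T * w * (pe i T * w) = 1 := by
    rcases hcase with ⟨k, -, e', -⟩ | ⟨k, -, e', -⟩
    · rw [← e']; exact conjSq' k htt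
    · rw [← e']; exact conjSq' k hbb
  have hyt : pe i T * w * pe i T = pe i T * (pe i T * w) := by rw [mul_assoc, hwt]
  obtain ⟨A₁, B₁, hye, hA₁, hB₁, hAA, hBB⟩ := hT.split_pl h4 ht (mul_mem (TensorPow.pe_mem _ _) hwW)
    (hM.le (mul_mem htM hwM)) hyy hP hTp hPT hPT1 hPT2 (Q := Q) (U := 1) (hD ▸ comm_mul2 htD hwD)
    (by rw [map_one, mul_one, hyt])
  have hwe : ∀ {z : GL X F}, pe i T * w = z → w = pe i T * z := fun {z} e' => by
    rw [← e', ← mul_assoc, htt, one_mul]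
  have hbW : b ∈ Wr F κ β := by
    rcases hcase with ⟨k, hk, e1, -⟩ | ⟨k, hk, e1, -⟩
    · obtain ⟨hkW, hkind⟩ := hM.single_back h4 hCp ht (i₀ := i) hTp ((hmem k).1 hk).1 hA₁ hB₁ hAA hBB (hye ▸ e1)
      rcases hkind with ⟨T', hT'p, e', -⟩ | ⟨U₂, hU₂, e', -⟩ <;> rw [← hye] at e'
      · have hcT : T * T' = T' * T := by
          have h5 : pe (κ := κ) i T * pe i T' = pe i T' * pe i T := by rw [← e', mul_assoc (pe i T) w, hwt]
          rw [← map_mul, ← map_mul] at h5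
          exact pe_injective i h5
        by_cases h1 : T' = T
        · refine absurd ?_ hw1
          rw [hwe e', h1, htt]
        by_cases h2 : T' = -T
        · exfalso
          obtain ⟨σ, gs, rfl, hσ, hK⟩ := conj_slot hkW (hT.pl_iso h4 hT'p).2.2.1 (e1.trans e')
          obtain ⟨μ, hμ⟩ := hT.slot_simil (hM.iso_mem ((hmem _).1 hk).1) i
          refine hT.pl_sign h4 he hμ (by decide) hDT ?_
          rw [← neg_mul, ← h2, hK, inv_mul_cancel_right]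
        obtain ⟨-, -, -, -, -, -, -, hPl⟩ := hT.pair_frame h4 hTp hT'p hcT h1 h2
        refine hCp i _ hPl b hbM ?_
        rw [map_mul, ← hwe e', hwb]
      · exact hM.cent3 h4 hCp ht hP hTp hQ hU₂ hPT hPT1 hPT2 hbM (hD ▸ hbD) (by rw [← hwe e', hwb])
    · have htr : ((pe i T * w : GL X F) : Mn).trace = 4 := by rw [← e1, trace_conj, hb, trace_conj, hA0t]
      have hkgA : k * g * A0 * (k * g)⁻¹ = pe i T * w := by rw [← e1, hb]; group
      obtain ⟨hn1, hn2⟩ := hT.AA_ne h4 ht (v := e 0) (u := f 0) (he.ne 0)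
      rw [← hA0] at hn1 hn2
      obtain ⟨p, q, hp, hq, e', hAp, -⟩ := hT.kind_four h4 ht hA₁ hB₁ hAA hBB (hye ▸ hM.le (mul_mem htM hwM))
        (by rw [← hye]; exact htr)
        (fun h1 => hn1 (by
          rw [show A0 = (k * g)⁻¹ * (k * g * A0 * (k * g)⁻¹) * (k * g) by group, hkgA, hye, h1]; group))
        (fun h1 => hn2 (by
          rw [show A0 = (k * g)⁻¹ * (k * g * A0 * (k * g)⁻¹) * (k * g) by group, hkgA, hye, h1, mul_neg, neg_mul,
            mul_one, inv_mul_cancel]))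
      have hy' : pe i T * w = pe i (rf hT p) * pe m (rf hT q) := hye.trans e'
      have hpT : rf hT p * T = T * rf hT p := by
        refine hT.part_pl1 h4 ht.ne (sim_one_of_iso (hT.rf_iso p)) hTp (B := rf hT q) ?_
        rw [← hy', hyt]
      have hpP : rf hT p * P = P * rf hT p := by
        refine hT.part_pl h4 ht.ne (sim_one_of_iso (hT.rf_iso p)) hP (B := rf hT q) (Q := Q) ?_
        rw [← hy', ← hD]
        exact comm_mul2 htD hwD
      obtain ⟨j, hj⟩ := hT.rf_frame h4 he hp (hT.diag_of_comm h4 he (by decide) hDP hDT hpP hpT)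
      have hD' : Dg e (symmDiff {0, 2} {j}) (T * rf hT p) := hj ▸ hDT.mul (Dg.rf hT he j)
      have hw' : w = pe i (T * rf hT p) * pe m (rf hT q) := by rw [hwe hy', ← mul_assoc, ← map_mul]
      obtain ⟨a, ha | ha⟩ := plane_add_one {0, 2} (by decide) j <;> rw [ha] at hD'
      · rw [Dg.unique hT he h4 hD' (Dg.rf hT he a)] at hw'
        exact hM.cent_A h4 hCp ht (he.ne a) hq b hbM (by rw [← hw', hwb])
      · rw [Dg.unique hT he h4 hD' (Dg.rf hT he a).neg, pe_neg, neg_mul] at hw'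
        refine hM.cent_A h4 hCp ht (he.ne a) hq b hbM ?_
        rw [hw', mul_neg, neg_mul, neg_inj] at hwb
        exact hwb.symm
  exact (hM.fus_A h4 hCp ht (he.ne 0) (hf.ne 0) hg (by rw [← hA0, ← hb]; exact hbW)).1

/-- A member moves a plane into the stabiliser, or is inside it. -/
theorem plane_or2 {g : GL X F} (hg : g ∈ M) {i : κ} (h2κ : Fintype.card κ = 2) {v u : W} (hv : h v v ≠ 0)
    (hu : h u u ≠ 0) (hvu : h v u = 0) :
    g ∈ Wr F κ β ∨ g⁻¹ * pe i (rf hM.data v * rf hM.data u) * g ∈ Wr F κ β := by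
  classical
  have hT := hM.data
  haveI := hT.nontriv h4
  obtain ⟨m, ht⟩ := exists_two h2κ i
  obtain ⟨P, hP⟩ : ∃ P, P = rf hT v * rf hT u := ⟨_, rfl⟩
  have hPp : Pl hT P := ⟨v, u, hv, hu, hvu, hP⟩
  rw [← hP]
  obtain ⟨hAG, hAA, hAt⟩ := hT.AA_facts h4 ht hv hu
  obtain ⟨A, hA⟩ : ∃ A, A = pe (κ := κ) i (rf hT v) * pe m (rf hT u) := ⟨_, rfl⟩
  rw [← hA] at hAG hAA hAt
  have hAM : A ∈ M := hM.mem ⟨hA ▸ mul_mem (TensorPow.pe_mem _ _) (TensorPow.pe_mem _ _), hAG⟩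
  obtain ⟨b, hb⟩ : ∃ b, b = g * A * g⁻¹ := ⟨_, rfl⟩
  have hsM : pe i P ∈ M := hP ▸ (hM.pl_mem h4 i hv hu hvu).1
  have hbM : b ∈ M := hb ▸ mul_mem (mul_mem hg hAM) (inv_mem hg)
  have hss : pe (κ := κ) i P * pe i P = 1 := by rw [← map_mul, (hT.pl_iso h4 hPp).2.1, map_one]
  have hbb : b * b = 1 := hb ▸ conjSq' g hAA
  obtain ⟨w, hwM, hw1, hws, hwb, hcase⟩ := dih_split hss hbb hsM hbM fun k _ ek => by
    have h5 := congrArg (fun z : GL X F => (z : Mn).trace) ek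
    rw [trace_conj, hb, trace_conj, hAt, trace_pe, (hT.pl_iso h4 hPp).2.2.2.1, zero_mul] at h5
    exact hT.four_ne h5.symm
  have hwW : w ∈ Wr F κ β := hCp i P hPp w hwM hws
  rcases hcase with ⟨k, hk, -, e2⟩ | ⟨k, hk, e1, -⟩
  · obtain ⟨w', hw'⟩ : ∃ w', w' = g⁻¹ * w * g := ⟨_, rfl⟩
    have hw'M : w' ∈ M := hw' ▸ mul_mem (mul_mem (inv_mem hg) hwM) hg
    have hw'A : w' * A = A * w' := hw' ▸ comm_conj (hb ▸ hwb.symm)
    have hw'W : w' ∈ Wr F κ β := hM.cent_A h4 hCp ht hv hu w' hw'M (hA ▸ hw'A)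
    have hk'M : g⁻¹ * k * g ∈ M := mul_mem (mul_mem (inv_mem hg) hk) hg
    have e3 : g⁻¹ * k * g * A * (g⁻¹ * k * g)⁻¹ = A * w' := by
      rw [hw', show g⁻¹ * k * g * A * (g⁻¹ * k * g)⁻¹ = g⁻¹ * (k * (g * A * g⁻¹) * k⁻¹) * g by group, ← hb, e2, hb]
      group
    obtain ⟨-, p, q, hp, hq, e4⟩ := hM.fus_A h4 hCp ht hv hu hk'M
      (by rw [← hA, e3]; exact mul_mem (hA ▸ mul_mem (TensorPow.pe_mem _ _) (TensorPow.pe_mem _ _)) hw'W)
    rw [← hA, e3] at e4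
    have hc : pe i (rf hT p) * pe m (rf hT q) * A = A * (pe i (rf hT p) * pe m (rf hT q)) := by
      rw [← e4, mul_assoc, hw'A]
    rw [hA] at hc
    have h1 := hT.part_rf h4 ht.ne hv (A := rf hT p) (B := rf hT q) (Q := rf hT u) hc
    have h2 := hT.part_rf_right h4 ht.ne hu (A := rf hT p) (B := rf hT q) (P := rf hT v) hc
    have hw'' : w' = pe i (rf hT v * rf hT p) * pe m (rf hT u * rf hT q) := by
      rw [← pe2_mul ht.ne, ← hA, ← e4, ← mul_assoc, hAA, one_mul]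
    refine Or.inr ?_
    have hcs : g⁻¹ * pe i P * g * w' = w' * (g⁻¹ * pe i P * g) := by
      rw [hw', show g⁻¹ * pe i P * g * (g⁻¹ * w * g) = g⁻¹ * (pe i P * w) * g by group, ← hws]
      group
    have hsM' : g⁻¹ * pe i P * g ∈ M := mul_mem (mul_mem (inv_mem hg) hsM) hg
    have hw'1 : w' ≠ 1 := fun e => hw1 (by
      rw [show w = g * (g⁻¹ * w * g) * g⁻¹ by group, ← hw', e]; group)
    rw [hw''] at hcs
    rcases hT.rf_pair h4 hv hp h1 with e5 | h5 <;> rcases hT.rf_pair h4 hu hq h2 with e6 | h6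
    · refine absurd ?_ hw'1
      rw [hw'', e5, e6, map_one, map_one, one_mul]
    · rw [e5, map_one, one_mul] at hcs
      exact hCp m _ h6 _ hsM' hcs
    · rw [e6, map_one, mul_one] at hcs
      exact hCp i _ h5 _ hsM' hcs
    · exact hM.cent_DD h4 hCp ht h5 h6 _ hsM' hcs
  · left
    have hkgA : k * g * A * (k * g)⁻¹ = pe i P * w := by rw [← e1, hb]; group
    obtain ⟨-, p, q, hp, hq, e'⟩ := hM.fus_A h4 hCp ht hv hu (mul_mem hk hg)
      (by rw [← hA, hkgA]; exact mul_mem (TensorPow.pe_mem _ _) hwW)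
    rw [← hA, hkgA] at e'
    have hpP : rf hT p * P = P * rf hT p := by
      refine hT.part_pl1 h4 ht.ne (sim_one_of_iso (hT.rf_iso p)) hPp (B := rf hT q) ?_
      rw [← e', mul_assoc, hws]
    obtain ⟨f, S, S', hf, -, hS, hS'⟩ := hT.frame_two h4 (hT.pl_iso h4 hPp).1 (hT.pl_iso h4 hPp).2.1 (hT.rf_iso p)
      (hT.rf_sq hp) hpP.symm (n := 0) (by omega) Fin.elim0 (fun a => a.elim0) (fun a => a.elim0) (fun a => a.elim0)
      (fun a => a.elim0)
    obtain ⟨j, hj⟩ := hT.rf_frame h4 hf hp fun j => ⟨_, hS' j⟩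
    have hD' : Dg f (symmDiff S {j}) (P * rf hT p) := hj ▸ hS.mul (Dg.rf hT hf j)
    have hw' : w = pe i (P * rf hT p) * pe m (rf hT q) := by
      rw [map_mul, mul_assoc, ← e', ← mul_assoc, hss, one_mul]
    have hbW : b ∈ Wr F κ β := by
      obtain ⟨a, ha | ha⟩ := plane_add_one S (hT.card_two h4 hf hS (hT.pl_iso h4 hPp).2.2.2.1) j <;> rw [ha] at hD'
      · rw [Dg.unique hT hf h4 hD' (Dg.rf hT hf a)] at hw'
        exact hM.cent_A h4 hCp ht (hf.ne a) hq b hbM (by rw [← hw', hwb])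
      · rw [Dg.unique hT hf h4 hD' (Dg.rf hT hf a).neg, pe_neg, neg_mul] at hw'
        refine hM.cent_A h4 hCp ht (hf.ne a) hq b hbM ?_
        rw [hw', mul_neg, neg_mul, neg_inj] at hwb
        exact hwb.symm
    exact (hM.fus_A h4 hCp ht hv hu hg (by rw [← hA, ← hb]; exact hbW)).1

/-- Two factors of dimension four, given the centralisers of the planes. -/
theorem le_Wr_two (h2κ : Fintype.card κ = 2) : M ≤ Wr F κ β := by
  classical
  intro g hg
  have hT := hM.data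
  have hs := hT.hh
  obtain ⟨i⟩ : Nonempty κ := Fintype.card_pos_iff.1 (by omega)
  obtain ⟨z, u, w₁, w₂, hz, hz0, hu, huz, h1z, h1u, h2z, h2u, h12, h11, h22⟩ := hT.exists_mid h4
  obtain ⟨B, hB, hBs⟩ := hs.exists_sieg hT.two hz h1z
  have hBw₁ : h ((B : Mb) *ᵥ w₁) ((B : Mb) *ᵥ w₁) ≠ 0 := by rw [hB]; exact h11
  have hBw₂ : h ((B : Mb) *ᵥ w₂) ((B : Mb) *ᵥ w₂) ≠ 0 := by rw [hB]; exact h22
  have hB12 : h ((B : Mb) *ᵥ w₁) ((B : Mb) *ᵥ w₂) = 0 := by rw [hB]; exact h12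
  rcases hM.plane_or2 h4 hCp hg (i := i) h2κ h11 h22 h12 with h | hx₁
  · exact h
  rcases hM.plane_or2 h4 hCp hg (i := i) h2κ hBw₁ hBw₂ hB12 with h | hx₂
  · exact h
  obtain ⟨σP, hσP⟩ : ∃ σP, σP = rf hT w₁ * rf hT w₂ := ⟨_, rfl⟩
  obtain ⟨B', hB', hB's⟩ := hs.exists_sieg hT.two hz (w := -w₁) (by rw [hs.neg_left, h1z, neg_zero])
  have hB'inv : B' = B⁻¹ := by
    refine eq_inv_of_mul_eq_one_left (hs.sieg_mul hT.two hB's hBs ?_ hz (by rw [hs.neg_left, h1z, neg_zero]) h1z)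
    intro x
    rw [neg_add_cancel, Units.val_one, Matrix.one_mulVec]
    simp [hs.zero_left, hs.zero_right]
  obtain ⟨B2, hB2, hB2s⟩ := hs.exists_sieg hT.two hz (w := -w₁ + -w₁)
    (by rw [hs.add_left, hs.neg_left, h1z, neg_zero, add_zero])
  have hB'B' : B' * B' = B2 := hs.sieg_mul hT.two hB's hB's hB2s hz (by rw [hs.neg_left, h1z, neg_zero])
    (by rw [hs.neg_left, h1z, neg_zero])
  have hconj : σP * B * σP = B' := by
    refine Units.ext (Matrix.ext_iff_mulVec.2 fun x => ?_)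
    have hσz : (σP : Mb) *ᵥ z = z := by
      rw [hσP, Units.val_mul, ← Matrix.mulVec_mulVec, hT.rf_perp h22 (by rw [hs.symm, h2z]),
        hT.rf_perp h11 (by rw [hs.symm, h1z])]
    have hσw : (σP : Mb) *ᵥ w₁ = -w₁ := by
      rw [hσP, Units.val_mul, ← Matrix.mulVec_mulVec, hT.rf_perp h22 h12, hT.rf_self h11]
    have hσi : σP ∈ TensorOrth.iso h := hσP ▸ mul_mem (hT.rf_iso w₁) (hT.rf_iso w₂)
    have hσσ : (σP : Mb) * (σP : Mb) = 1 := by
      rw [← Units.val_mul, hσP, mul_assoc, ← mul_assoc (rf hT w₂), hT.rf_comm h22 h11 (by rw [hs.symm, h12]),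
        mul_assoc (rf hT w₁), hT.rf_sq h22, mul_one, hT.rf_sq h11, Units.val_one]
    have h1 : h ((σP : Mb) *ᵥ x) z = h x z := by
      conv_lhs => rw [← hσz]
      rw [hσi]
    have h2 : h ((σP : Mb) *ᵥ x) w₁ = -h x w₁ := by
      have h5 := hσi x w₁
      rw [hσw, hs.neg_right] at h5
      linear_combination -h5
    rw [Units.val_mul, Units.val_mul, ← Matrix.mulVec_mulVec, ← Matrix.mulVec_mulVec, hBs, h1, h2, hB's,
      Matrix.mulVec_sub, Matrix.mulVec_sub, Matrix.mulVec_add, Matrix.mulVec_smul, Matrix.mulVec_smul,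
      Matrix.mulVec_smul, hσz, hσw, Matrix.mulVec_mulVec, hσσ, Matrix.one_mulVec, hs.neg_left, hs.neg_right,
      hs.neg_right]
    match_scalars <;> ring
  have hs2 : rf hT ((B : Mb) *ᵥ w₁) * rf hT ((B : Mb) *ᵥ w₂) = B * σP * B⁻¹ := by
    rw [hσP, ← hT.rf_conj h4 (sim_one_of_iso hB) h11, ← hT.rf_conj h4 (sim_one_of_iso hB) h22]
    group
  have hσσ' : σP * σP = 1 := by
    rw [hσP, mul_assoc, ← mul_assoc (rf hT w₂), hT.rf_comm h22 h11 (by rw [hs.symm, h12]),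
      mul_assoc (rf hT w₁), hT.rf_sq h22, mul_one, hT.rf_sq h11]
  have hpure : Pure h i (pe i B2) := by
    refine ⟨B2, z, -w₁ + -w₁, hB2, hz, hz0, by rw [hs.add_left, hs.neg_left, h1z, neg_zero, add_zero], ?_, hB2s, rfl⟩
    simp only [hs.add_left, hs.add_right, hs.neg_left, hs.neg_right, neg_neg]
    rw [← two_mul, ← two_mul]
    exact mul_ne_zero hT.two (mul_ne_zero hT.two h11)
  have heq : g⁻¹ * pe i B2 * g⁻¹⁻¹ =
      g⁻¹ * pe i σP * g * (g⁻¹ * pe i (rf hT ((B : Mb) *ᵥ w₁) * rf hT ((B : Mb) *ᵥ w₂)) * g) := by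
    rw [hs2, ← hB'B', inv_inv]
    conv_lhs => arg 1; arg 2; rw [show B' * B' = σP * B * σP * B⁻¹ by rw [hconj, hB'inv]]
    simp only [map_mul, map_inv]
    group
  have := hM.fus_pure h4 hpure (inv_mem hg) (by rw [heq, hσP]; exact mul_mem hx₁ hx₂)
  simpa using (Wr F κ β).inv_mem this

end Px

end Cfsg.Agent.Classical.TensorPowOrth
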