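import Cfsg.Agent.Lib.Classical.TensorPowOrth.FourBig
import Cfsg.Agent.Lib.Classical.TensorPowOrth.FourTwoMain
import Cfsg.Agent.Lib.Classical.TensorPowOrth.FourPlane
import Cfsg.Agent.Lib.Classical.TensorPowOrth.FourThreePlane

/-!
Factors of dimension four without totally singular planes: the overgroup stabilises the decomposition.
-/

set_option autoImplicit false
set_option linter.unusedSectionVars false
set_option linter.style.haveILetI false

namespace Cfsg.Agent.Classical.TensorPowOrth

open Matrix Module MaxTv TensorMax TensorPow

variable {F : Type*} [Field F] [Fintype F] {κ β : Type} [Fintype κ] [DecidableEq κ] [Fintype β] [DecidableEq β]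
  {c : F} {h : (β → F) → (β → F) → F} {M : Subgroup (GL (κ → β) F)}

/-- For factors of dimension four the overgroup stabilises the decomposition. -/
theorem Px.le_Wr_four (hM : Px c h M) (h4 : Fintype.card β = 4) : M ≤ Wr F κ β := by
  rcases Nat.lt_or_ge (Fintype.card κ) 3 with h3 | h3
  · have h2κ : Fintype.card κ = 2 := le_antisymm (by omega) hM.ht
    refine hM.le_Wr_two h4 (fun i P hP => ?_) h2κ
    rcases eq_or_ne (Fintype.card F) 3 with hq | hq
    · exact hM.cent_plane3 h4 hq h2κ i hP
    · refine hM.cent_plane5 h4 ?_ hP
      have hodd := FiniteField.odd_card_of_char_ne_two (F := F) fun hc => hM.data.two (by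
        simpa [hc] using CharP.cast_eq_zero F (ringChar F))
      have := Fintype.one_lt_card (α := F)
      omega
  · exact hM.le_Wr_big h4 h3

end Cfsg.Agent.Classical.TensorPowOrth
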