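import Cfsg.Agent.Lib.Classical.TensorPowOrth.FourInv

/-!
Factors of dimension four: members sending a line of tensors to a line, centralisers and fusion of Siegel elements at
one factor, and groups fixing the tensors of an anisotropic vector.
-/

set_option autoImplicit false
set_option linter.unusedSectionVars false
set_option linter.unusedSimpArgs false
set_option linter.style.haveILetI false

open scoped Kronecker

namespace Cfsg.Agent.Classical.TensorPowOrth

open Matrix Module MaxTv TensorMax TensorPow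
open Cfsg.Agent.Classical.TensorOrth (Sym NdOn iso TSP IsSieg ext_pure ext_kron)

variable {F : Type*} [Field F] [Fintype F] {κ β : Type} [Fintype κ] [DecidableEq κ] [Fintype β] [DecidableEq β]
  {c : F} {h : (β → F) → (β → F) → F}

local notation "X" => (κ → β)
local notation "V" => ((κ → β) → F)
local notation "Mn" => Matrix (κ → β) (κ → β) F
local notation "Mb" => Matrix β β F
local notation "W" => (β → F)

theorem pe_sub_one (i : κ) (U : GL β F) : (pe i U : Mn) - 1 = et i ((U : Mb) - 1) := by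
  rw [← et_val]
  conv_rhs => rw [sub_eq_add_neg, ← neg_one_smul F (1 : Mb), et_add, et_smul, et_one, neg_one_smul]
  rw [sub_eq_add_neg]

/-- A matrix at a factor with values in a line maps all tensors into that line. -/
theorem et_mem_line (i : κ) {N : Mb} {z : W} (hN : ∀ y, ∃ r : F, N *ᵥ y = r • z) (t : V) :
    et i N *ᵥ t ∈ line i z := by
  rw [← (Pi.basisFun F (κ → β)).sum_repr t, Matrix.mulVec_sum]
  refine Submodule.sum_mem _ fun a _ => ?_
  rw [Matrix.mulVec_smul, Pi.basisFun_apply, ← ptens_single, et, wm_ptens]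
  refine Submodule.smul_mem _ _ ?_
  obtain ⟨r, hr⟩ := hN (Pi.single (a i) 1)
  have e : ptens (fun l => Function.update (1 : κ → Mb) i N l *ᵥ (Pi.single (a l) 1 : W)) =
      r • ptens (Function.update (fun l => (Pi.single (a l) 1 : W)) i z) := by
    funext b
    rw [Pi.smul_apply, ptens_update, smul_eq_mul, ← mul_assoc, ptens,
      ← Finset.mul_prod_erase _ _ (Finset.mem_univ i), Function.update_self, hr, Pi.smul_apply, smul_eq_mul]
    congr 1
    exact Finset.prod_congr rfl fun l hl => by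
      rw [Function.update_of_ne (Finset.ne_of_mem_erase hl), Pi.one_apply, Matrix.one_mulVec]
  rw [e]
  exact Submodule.smul_mem _ _ (ptens_mem_line _)

variable (hT : TData c h)
include hT

/-- The parts of an isometry of the stabiliser are similitudes. -/
theorem TData.slot_simil {σ : Equiv.Perm κ} {gs : κ → GL β F} (hg : wgl σ gs ∈ TensorOrth.iso (tf c h)) (l : κ) :
    ∃ μ : F, Sim h μ (gs l) := by
  classical
  obtain ⟨v, -, hv⟩ := hT.hh.exists_aniso hT.two hT.hh.ndOn_top (Submodule.exists_mem_ne_zero_of_ne_bot fun e' => by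
      have := congrArg (fun U : Submodule F W => finrank F U) e'
      simp only [finrank_top, Module.finrank_pi, finrank_bot] at this
      have := hT.three
      omega)
  have key : ∀ x y, h ((gs l : Mb) *ᵥ x) ((gs l : Mb) *ᵥ y) *
      ∏ j ∈ Finset.univ.erase l, h ((gs j : Mb) *ᵥ v) ((gs j : Mb) *ᵥ v) =
      h x y * ∏ j ∈ Finset.univ.erase l, h v v := fun x y => by
    have h1 := hg (ptens (Function.update (fun _ => v) (σ l) x)) (ptens (Function.update (fun _ => v) (σ l) y))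
    rw [wgl_mulVec, wgl_mulVec, hT.tf_ptens, hT.tf_ptens] at h1
    have h2 := mul_left_cancel₀ hT.hc h1
    rw [← Finset.mul_prod_erase _ _ (Finset.mem_univ l), ← Finset.mul_prod_erase _ _ (Finset.mem_univ (σ l)),
      Function.update_self, Function.update_self,
      Finset.prod_congr rfl (s₁ := Finset.univ.erase l) (fun j hj => by
        rw [Function.update_of_ne (fun e => Finset.ne_of_mem_erase hj (σ.injective e)),
          Function.update_of_ne (fun e => Finset.ne_of_mem_erase hj (σ.injective e))]),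
      Finset.prod_congr rfl (s₁ := Finset.univ.erase (σ l)) (fun j hj => by
        rw [Function.update_of_ne (Finset.ne_of_mem_erase hj), Function.update_of_ne (Finset.ne_of_mem_erase hj)])] at h2
    rw [h2, Finset.prod_const, Finset.prod_const, Finset.card_erase_of_mem (Finset.mem_univ _),
      Finset.card_erase_of_mem (Finset.mem_univ _)]
  obtain ⟨P, hP⟩ : ∃ P, P = ∏ j ∈ Finset.univ.erase l, h ((gs j : Mb) *ᵥ v) ((gs j : Mb) *ᵥ v) := ⟨_, rfl⟩
  have hP0 : P ≠ 0 := fun e => by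
    have := key v v
    rw [← hP, e, mul_zero, Finset.prod_const] at this
    exact mul_ne_zero hv (pow_ne_zero _ hv) this.symm
  refine ⟨(∏ j ∈ Finset.univ.erase l, h v v) / P, fun x y => ?_⟩
  have := key x y
  rw [← hP] at this
  field_simp
  linear_combination this

theorem TData.trace_dg (h4 : Fintype.card β = 4) {e : Fin 4 → W} (he : F4 h e) {S : Finset (Fin 4)} {D : GL β F}
    (hD : Dg e S D) : (D : Mb).trace = 4 - 2 * (S.card : F) := by
  rw [Dg.trace hT he h4 hD, Finset.sum_congr rfl (g := fun a : Fin 4 => 1 - 2 * if a ∈ S then (1 : F) else 0)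
    fun a _ => by rw [sgS]; split_ifs <;> ring, Finset.sum_sub_distrib, ← Finset.mul_sum, Finset.sum_boole,
    Finset.sum_const, Finset.card_univ, Fintype.card_fin, nsmul_one, Finset.filter_univ_mem]
  norm_num

/-- An element outside the stabiliser commuting with a Siegel element at a factor. -/
theorem TData.exists_long4 (h4 : Fintype.card β = 4) (hκ : 2 ≤ Fintype.card κ) {j : κ} {x : GL X F}
    (hx : Pure h j x) : ∃ T ∈ GT (κ := κ) c h, T ∉ Wr F κ β ∧ T * x = x * T := by
  classical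
  obtain ⟨B, z, w, hBi, hz, hz0, hwz, hww, hB, rfl⟩ := hx
  haveI : Nontrivial β := Fintype.one_lt_card_iff_nontrivial.1 (by omega)
  haveI : Nonempty κ := ⟨j⟩
  have hs := hT.hh
  have hS := hT.sym (κ := κ)
  obtain ⟨e, he⟩ := hT.frame0 h4
  have h01 : (0 : Fin 4) ≠ 1 := by decide
  obtain ⟨k, hk⟩ : ∃ k, k ≠ j := by
    haveI : Nontrivial κ := Fintype.one_lt_card_iff_nontrivial.1 (by omega)
    exact exists_ne j
  obtain ⟨u, -, huz⟩ := hs.exists_partner hT.two hz hz0
  obtain ⟨a, ha⟩ : ∃ a : κ → W, a = fun l => if l = j then z else e 0 := ⟨_, rfl⟩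
  obtain ⟨a', ha'⟩ : ∃ a' : κ → W, a' = fun l => if l = j then z else if l = k then e 1 else e 0 := ⟨_, rfl⟩
  obtain ⟨p₁, hp₁⟩ : ∃ p, p = ptens a := ⟨_, rfl⟩
  obtain ⟨p₂, hp₂⟩ : ∃ p, p = ptens a' := ⟨_, rfl⟩
  have hzero : ∀ x y : κ → W, x j = z → y j = z → tf c h (ptens x) (ptens y) = 0 := fun x y hx hy => by
    rw [hT.tf_ptens, Finset.prod_eq_zero (Finset.mem_univ j) (by rw [hx, hy, hz]), mul_zero]
  have h11 : tf c h p₁ p₁ = 0 := hp₁ ▸ hzero a a (by rw [ha]; simp) (by rw [ha]; simp)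
  have h21 : tf c h p₂ p₁ = 0 := hp₁ ▸ hp₂ ▸ hzero a' a (by rw [ha']; simp) (by rw [ha]; simp)
  have h22 : tf c h p₂ p₂ = 0 := hp₂ ▸ hzero a' a' (by rw [ha']; simp) (by rw [ha']; simp)
  obtain ⟨T, hT', hTx⟩ := hS.exists_sieg hT.two h11 h21
  have hTf : ∀ t, (T : Mn) *ᵥ t = t + tf c h t p₁ • p₂ - tf c h t p₂ • p₁ := fun t => by
    rw [hTx, h22, zero_div, zero_mul, zero_smul, sub_zero]
  refine ⟨T, hT.cube_mem hT' fun x => hS.sieg_cube hT.two hTx h11 h21 x, fun hTW => ?_, ?_⟩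
  · have hsq : ((T : Mn) - 1) * ((T : Mn) - 1) = 0 := Matrix.ext_iff_mulVec.2 fun t => by
      simp only [← Matrix.mulVec_mulVec, Matrix.sub_mulVec, Matrix.one_mulVec, hTf, Matrix.zero_mulVec,
        hS.sub_left, hS.add_left, hS.smul_left, h11, h21, h22, hS.symm p₁ p₂, mul_zero, add_zero, sub_zero,
        sub_self]
      simp
    obtain ⟨m, D, hD⟩ := quad_mem_Wr hT.two hT.three hTW hsq
    have hDD : ((D : Mb) - 1) * ((D : Mb) - 1) = 0 := by
      have h1 : et m (((D : Mb) - 1) * ((D : Mb) - 1)) = (0 : Mn) := by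
        rw [← et_mul, ← pe_sub_one, ← hD, hsq]
      have h2 := congrArg Matrix.rank h1
      rw [rank_et, Matrix.rank_zero, mul_eq_zero] at h2
      exact (rank_zero_iff _).1 (h2.resolve_left (pow_ne_zero _ (by omega)))
    have hD1 : D = 1 := Units.ext (sub_eq_zero.1 (by
      by_contra h0
      have hDi := hT.pe_iso_rev m (hD ▸ hT')
      exact (hT.nilp_simil (N := (D : Mb) - 1) (p := 2) (by rw [pow_two, hDD]) h0 (ν := 1)
        (fun x y => by rw [add_sub_cancel, hDi, one_mul])).2 h4 hDD))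
    rw [hD1, map_one] at hD
    obtain ⟨y, hy⟩ : ∃ y : κ → W, y = fun l => if l = j then u else if l = k then e 1 else e 0 := ⟨_, rfl⟩
    obtain ⟨q, hq⟩ : ∃ q : κ → W, q = fun l => if l = j then u else e 0 := ⟨_, rfl⟩
    have hy1 : tf c h p₁ (ptens y) = 0 := by
      rw [hp₁, hT.tf_ptens, Finset.prod_eq_zero (Finset.mem_univ k) (by rw [ha, hy]; simp [hk, he.orth 0 1 h01]),
        mul_zero]
    have hy2 : tf c h p₂ (ptens y) ≠ 0 := by
      rw [hp₂, hT.tf_ptens]
      refine mul_ne_zero hT.hc (Finset.prod_ne_zero_iff.2 fun l _ => ?_)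
      rw [ha', hy]
      by_cases e1 : l = j
      · simp [e1, hs.symm z u, huz]
      · by_cases e2 : l = k <;> simp [e1, e2, hk, he.ne]
    have hq1 : tf c h (ptens q) p₁ ≠ 0 := by
      rw [hp₁, hT.tf_ptens]
      refine mul_ne_zero hT.hc (Finset.prod_ne_zero_iff.2 fun l _ => ?_)
      rw [ha, hq]
      by_cases e1 : l = j
      · simp [e1, huz]
      · simp [e1, he.ne]
    have h5 := hTf (ptens q)
    rw [hD, Units.val_one, Matrix.one_mulVec, add_sub_assoc, left_eq_add, sub_eq_zero] at h5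
    have h6 := congrArg (tf c h · (ptens y)) h5
    simp only [hS.smul_left, hy1, mul_zero, mul_eq_zero] at h6
    exact h6.elim hq1 hy2
  · have hBz : (B : Mb) *ᵥ z = z := hs.IsSieg_fix hB hz (by rw [hs.symm]; exact hwz)
    have hxp : ∀ x : κ → W, x j = z → (pe j B : Mn) *ᵥ ptens x = ptens x := fun x hx => by
      rw [pe_mulVec, hx, hBz, ← hx, Function.update_eq_self]
    have hx1 : (pe j B : Mn) *ᵥ p₁ = p₁ := hp₁ ▸ hxp a (by rw [ha]; simp)
    have hx2 : (pe j B : Mn) *ᵥ p₂ = p₂ := hp₂ ▸ hxp a' (by rw [ha']; simp)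
    have hBI := hT.pe_iso (κ := κ) j hBi
    refine Units.ext (Matrix.ext_iff_mulVec.2 fun t => ?_)
    have e1 : tf c h ((pe j B : Mn) *ᵥ t) p₁ = tf c h t p₁ := by conv_lhs => rw [← hx1]; rw [hBI]
    have e2 : tf c h ((pe j B : Mn) *ᵥ t) p₂ = tf c h t p₂ := by conv_lhs => rw [← hx2]; rw [hBI]
    rw [Units.val_mul, Units.val_mul, ← Matrix.mulVec_mulVec, ← Matrix.mulVec_mulVec, hTf, hTf, e1, e2,
      Matrix.mulVec_sub, Matrix.mulVec_add, Matrix.mulVec_smul, Matrix.mulVec_smul, hx1, hx2]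

/-- An involution of the stabiliser of non-zero trace commutes with a Siegel element at each fixed factor. -/
theorem TData.exists_pure_comm (h4 : Fintype.card β = 4) {σ : Equiv.Perm κ} {gs : κ → GL β F}
    (hy : wgl σ gs ∈ TensorOrth.iso (tf c h)) (hyy : wgl σ gs * wgl σ gs = 1) (htr : (wgl σ gs : Mn).trace ≠ 0)
    {l : κ} (hl : σ l = l) : ∃ x : GL X F, Pure h l x ∧ wgl σ gs * x = x * wgl σ gs := by
  classical
  obtain ⟨μ, hμ⟩ := hT.slot_simil hy l
  obtain ⟨r, -, hr⟩ := (comp_of_wgl gs hl).invol (by omega) hyy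
  have htrB : (gs l : Mb).trace ≠ 0 := fun e => htr (by
    have h1 : (sp l (wgl σ gs) : Matrix ((Rst l → β) × β) ((Rst l → β) × β) F).trace = (wgl σ gs : Mn).trace := by
      rw [sp_val]
      simp only [Matrix.trace, Matrix.diag, Matrix.reindex_apply, Matrix.submatrix_apply]
      exact Fintype.sum_equiv (spE l).symm _ _ fun _ => rfl
    rw [← h1, sp_wgl σ hl, k2_val, Matrix.trace_kronecker, e, mul_zero])
  rcases hT.sim_cases h4 hμ hr with ⟨s, e, S, D, hs0, he, hD, hBD⟩ | ⟨h0, -⟩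
  swap
  · exact absurd h0 htrB
  have hcard : S.card ≠ 2 := fun e2 => htrB (by
    rw [hBD, Matrix.trace_smul, hT.trace_dg h4 he hD, e2]
    norm_num)
  obtain ⟨a, ha⟩ := (by decide : ∀ S : Finset (Fin 4), S.card ≠ 2 →
    ∃ a, ∀ b d, b ≠ a → d ≠ a → (b ∈ S ↔ d ∈ S)) S hcard
  obtain ⟨P, hP, hPi, hPa, -⟩ := hT.exists_pure_perp h4 l (he.ne a)
  refine ⟨pe l P, hP, (comp_of_wgl gs hl).comm_pe (Units.ext ?_)⟩
  obtain ⟨b, hb⟩ := exists_ne a
  have hDeq : (D : Mb) = (sgS S b : F) • (1 : Mb) +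
      ((sgS S a - sgS S b) / h (e a) (e a)) • rk hT.hh (e a) (e a) := he.ext_mat hT h4 fun d => by
    rw [hD d, Matrix.add_mulVec, Matrix.smul_mulVec, Matrix.smul_mulVec, Matrix.one_mulVec, rk_mulVec]
    by_cases hd : d = a
    · subst hd
      rw [smul_smul, div_mul_cancel₀ _ (he.ne d), ← add_smul, add_sub_cancel]
    · rw [he.orth d a hd, zero_smul, smul_zero, add_zero]
      congr 1
      by_cases h1 : d ∈ S
      · simp [sgS, h1, (ha d b hd hb).1 h1]
      · simp [sgS, h1, (not_congr (ha d b hd hb)).1 h1]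
  have hrk : (P : Mb) * rk hT.hh (e a) (e a) = rk hT.hh (e a) (e a) * (P : Mb) := by
    have h1 := rk_conj hT.hh hPi (e a) (e a)
    rw [hPa] at h1
    conv_rhs => rw [← h1]
    rw [mul_assoc, ← Units.val_mul, inv_mul_cancel, Units.val_one, mul_one]
  rw [Units.val_mul, Units.val_mul, hBD, hDeq]
  simp only [Matrix.smul_mul, Matrix.mul_smul, add_mul, mul_add, smul_add, one_mul, mul_one, hrk]

namespace Px

variable {M : Subgroup (GL (κ → β) F)} (hM : Px c h M) (h4 : Fintype.card β = 4)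
include hM h4

omit hT in
/-- A member sending the line of a singular vector at a factor to a line at it stabilises the decomposition. -/
theorem line_same {g : GL X F} (hg : g ∈ M) {i : κ} {z v : W} (hz : h z z = 0) (hz0 : z ≠ 0)
    (hline : ∀ t ∈ line i z, (g : Mn) *ᵥ t ∈ line i v) : g ∈ Wr F κ β := by
  refine hM.kron_mem hg ((hM.sl' i).line_kron (hM.noRoot i) (hM.scal i) (hM.kmem i) (mem_Mi.2 hg) (v := v) hz hz0 fun r => ?_)
  obtain ⟨r', hr'⟩ := mem_line_iff.1 (hline _ (mem_line_iff.2 ⟨r, LinearEquiv.apply_symm_apply _ _⟩))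
  rw [← sp_mulVec, LinearEquiv.apply_symm_apply] at hr'
  exact ⟨r', hr'⟩

omit hT in
/-- A member sending the line of a singular vector to a line stabilises the decomposition. -/
theorem line_mem_Wr {g : GL X F} (hg : g ∈ M) {i m : κ} {z v : W} (hz : h z z = 0) (hz0 : z ≠ 0) (hv0 : v ≠ 0)
    (hline : ∀ t ∈ line i z, (g : Mn) *ᵥ t ∈ line m v) : g ∈ Wr F κ β := by
  classical
  have hT := hM.data
  rcases eq_or_ne m i with rfl | hmi
  · exact hM.line_same h4 hg hz hz0 hline
  by_cases ht : 3 ≤ Fintype.card κ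
  · obtain ⟨σ, gs, -, hπ, hσ⟩ := hM.exists_mov ⟨2, by omega⟩ ht i m hmi
    have h1 : wgl σ gs * g ∈ Wr F κ β := hM.line_same h4 (v := (gs i : Mb) *ᵥ v) (mul_mem hπ hg) hz hz0 fun t ht' => by
      rw [Units.val_mul, ← Matrix.mulVec_mulVec, ← wgl_line σ gs i hv0, hσ]
      exact ⟨_, hline t ht', Matrix.toLin'_apply _ _⟩
    have := mul_mem ((Wr F κ β).inv_mem (wgl_mem σ gs)) h1
    rwa [inv_mul_cancel_left] at this
  have h2κ : Fintype.card κ = 2 := by have := hM.ht; omega
  have hcr := card_rst_one i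
  obtain ⟨j, hj⟩ := Fintype.card_eq_one_iff.1 (show Fintype.card (Rst i) = 1 by omega)
  obtain ⟨τ, hτ⟩ : ∃ τ, τ = wgl (Equiv.swap i m) fun _ => (1 : GL β F) := ⟨_, rfl⟩
  have hτi : τ ∈ TensorOrth.iso (tf (κ := κ) c h) := hτ ▸ hT.wgl_iso _ fun _ => one_mem _
  have hτW : τ ∈ Wr F κ β := hτ ▸ wgl_mem _ _
  have hP := hM.conjW hτi hτW
  obtain ⟨M', hM'⟩ : ∃ M', M' = M.map (MulAut.conj τ).toMonoidHom := ⟨_, rfl⟩
  rw [← hM'] at hP
  have hO := hM.sl' i
  have hline' : ∀ r, ∃ r', (sp i (τ * g) : Matrix ((Rst i → β) × β) ((Rst i → β) × β) F) *ᵥ tmul r z = tmul r' v := by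
    intro r
    have h1 : ((τ * g : GL X F) : Mn) *ᵥ (spV i).symm (tmul r z) ∈ line i v := by
      rw [Units.val_mul, ← Matrix.mulVec_mulVec]
      have h2 := wgl_line (F := F) (Equiv.swap i m) (fun _ => (1 : GL β F)) i hv0
      rw [Equiv.swap_apply_left, Units.val_one, Matrix.one_mulVec] at h2
      rw [← h2, hτ]
      exact ⟨_, hline _ (mem_line_iff.2 ⟨r, LinearEquiv.apply_symm_apply _ _⟩), Matrix.toLin'_apply _ _⟩
    obtain ⟨r', hr'⟩ := mem_line_iff.1 h1
    rw [← sp_mulVec, LinearEquiv.apply_symm_apply] at hr'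
    exact ⟨r', hr'⟩
  have hk : IsKron (sp i (τ * g)) := by
    refine hO.line_kron' (hM.noRoot i) (hM.scal i) (hM.kmem i) (hP.sl' i)
      ((hT.sp_iso i).2 (mul_mem hτi (hM.iso_mem hg))) ?_ ?_ hz hz0 hline'
    · rintro _ ⟨y, hy, rfl⟩
      refine ⟨(τ * g)⁻¹ * y * (τ * g), ?_, by simp⟩
      rw [hM'] at hy
      obtain ⟨y₀, hy₀, rfl⟩ := hy
      simpa [mul_assoc] using mul_mem (mul_mem (inv_mem hg) hy₀) hg
    · rintro k r w hkk - ⟨r₀, hr₀, rfl⟩ hw hw0 hR e
      obtain ⟨k₀, rfl⟩ := (sp (F := F) (β := β) i).surjective k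
      simp only [MulEquiv.coe_toMonoidHom] at e hR ⊢
      rw [← map_mul, (sp (F := F) (β := β) i).injective.eq_iff] at e
      have hx0 : τ⁻¹ * k₀ = g * r₀⁻¹ := by
        rw [eq_mul_inv_iff_mul_eq, mul_assoc, e, inv_mul_cancel_left]
      have hxG : τ⁻¹ * k₀ ∈ GT c h := hx0 ▸ mul_mem (hM.le hg) (inv_mem hr₀)
      have hxW : τ⁻¹ * k₀ ∈ Wr F κ β := by
        obtain ⟨A, B₀, hAB⟩ := isKron_iff.1 hkk
        exact mul_mem (inv_mem hτW) (mem_Wr_of_sp hAB (one_of_subsingleton hj A))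
      have hrM : r₀ ∈ M := by
        have h1 := mul_mem (inv_mem (hM.mem ⟨hxW, hxG⟩)) hg
        rwa [hx0, _root_.mul_inv_rev, inv_inv, inv_mul_cancel_right] at h1
      rw [← e, map_mul]
      exact IsKron.mul hkk (hO.rad_eich (hM.noRoot i) (hM.scal i) hR (mem_Mi.2 hrM) hw hw0).1
  obtain ⟨A, B₁, hAB⟩ := isKron_iff.1 hk
  have h1 := mem_Wr_of_sp hAB (one_of_subsingleton hj A)
  have := mul_mem (inv_mem hτW) h1
  rwa [inv_mul_cancel_left] at this

omit hT in
/-- A member intertwining squares of displacements stabilises the decomposition. -/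
theorem intertwine {g : GL X F} (hg : g ∈ M) {l m : κ} {B : GL β F} {z w a : W} (hz : h z z = 0) (hz0 : z ≠ 0)
    (hwz : h w z = 0) (hww : h w w ≠ 0) (hB : IsSieg h B z w) (ha : a ≠ 0) {N' : Mb}
    (hN' : ∀ y, ∃ r : F, N' *ᵥ y = r • a)
    (hgN : (g : Mn) * et l (((B : Mb) - 1) * ((B : Mb) - 1)) = et m N' * (g : Mn)) : g ∈ Wr F κ β := by
  have hT := hM.data
  obtain ⟨u, -, huz⟩ := hT.hh.exists_partner hT.two hz hz0
  refine hM.line_mem_Wr h4 hg (i := l) (m := m) hz hz0 ha fun t ht => ?_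
  have hle : line l z ≤ (line m a).comap (Matrix.toLin' (g : Mn)) := line_le_of fun xs hxs => by
    show Matrix.toLin' (g : Mn) (ptens xs) ∈ line m a
    rw [Matrix.toLin'_apply]
    have h1 : et l (((B : Mb) - 1) * ((B : Mb) - 1)) *ᵥ ptens (Function.update xs l u) =
        (-(h w w)) • ptens xs := by
      rw [et, wm_ptens]
      funext b
      rw [Pi.smul_apply, smul_eq_mul, ptens, ptens, ← Finset.mul_prod_erase _ _ (Finset.mem_univ l),
        ← Finset.mul_prod_erase _ _ (Finset.mem_univ l), Function.update_self, Function.update_self,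
        ← Matrix.mulVec_mulVec, hT.sieg_sq hz hwz hB, huz, mul_one, Pi.smul_apply, smul_eq_mul, hxs, ← mul_assoc]
      congr 1
      exact Finset.prod_congr rfl fun j hj => by
        rw [Function.update_of_ne (Finset.ne_of_mem_erase hj), Function.update_of_ne (Finset.ne_of_mem_erase hj),
          Pi.one_apply, Matrix.one_mulVec]
    have h2 : (g : Mn) *ᵥ ((-(h w w)) • ptens xs) ∈ line m a := by
      rw [← h1, Matrix.mulVec_mulVec, hgN, ← Matrix.mulVec_mulVec]
      exact et_mem_line m hN' _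
    rw [Matrix.mulVec_smul] at h2
    have h3 := Submodule.smul_mem _ (-(h w w))⁻¹ h2
    rwa [inv_smul_smul₀ (neg_ne_zero.2 hww)] at h3
  simpa [Matrix.toLin'_apply] using hle ht

omit hT in
/-- The centraliser of a Siegel element at a factor stabilises the decomposition. -/
theorem cent_pure {l : κ} {x g : GL X F} (hx : Pure h l x) (hg : g ∈ M) (hc : g * x = x * g) : g ∈ Wr F κ β := by
  obtain ⟨B, z, w, -, hz, hz0, hwz, hww, hB, rfl⟩ := hx
  refine hM.intertwine h4 hg (l := l) (m := l) (N' := ((B : Mb) - 1) * ((B : Mb) - 1)) hz hz0 hwz hww hB hz0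
    (fun y => ⟨_, by rw [← Matrix.mulVec_mulVec, hM.data.sieg_sq hz hwz hB]⟩) ?_
  have h1 : (g : Mn) * ((pe l B : Mn) - 1) = ((pe l B : Mn) - 1) * (g : Mn) := by
    rw [mul_sub, sub_mul, mul_one, one_mul, ← Units.val_mul, hc, Units.val_mul]
  rw [← et_mul, ← pe_sub_one, ← mul_assoc, h1, mul_assoc, h1, mul_assoc]

omit hT in
/-- A member conjugating a Siegel element at a factor into the stabiliser is in the stabiliser. -/
theorem fus_pure {l : κ} {x g : GL X F} (hx : Pure h l x) (hg : g ∈ M) (hgx : g * x * g⁻¹ ∈ Wr F κ β) :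
    g ∈ Wr F κ β := by
  classical
  have hT := hM.data
  have hxG := hT.pure_GT hx
  obtain ⟨B, z, w, hBi, hz, hz0, hwz, hww, hB, rfl⟩ := hx
  haveI : Nonempty κ := ⟨l⟩
  obtain ⟨N, hN⟩ : ∃ N, N = (B : Mb) - 1 := ⟨_, rfl⟩
  have hN2 : ∀ y, (N * N) *ᵥ y = (-(h w w * h y z)) • z := fun y => by
    rw [hN, ← Matrix.mulVec_mulVec, hT.sieg_sq hz hwz hB]
  have hN3 : N * N * N = 0 := Matrix.ext_iff_mulVec.2 fun y => by
    rw [hN, ← Matrix.mulVec_mulVec, ← Matrix.mulVec_mulVec, hT.hh.sieg_cube hT.two hB hz hwz, Matrix.zero_mulVec]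
  have hr2 : (N * N).rank ≤ 1 := by
    rw [Matrix.rank]
    refine (Submodule.finrank_mono (t := F ∙ z) ?_).trans (finrank_span_singleton hz0).le
    rintro _ ⟨y, rfl⟩
    rw [Matrix.mulVecLin_apply, hN2]
    exact Submodule.smul_mem _ _ (Submodule.mem_span_singleton_self z)
  have hr1 : N.rank ≤ 2 := by
    rw [Matrix.rank]
    refine (Submodule.finrank_mono (t := Submodule.span F (Set.range ![w, z])) ?_).trans
      ((finrank_range_le_card _).trans (by simp))
    rintro _ ⟨y, rfl⟩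
    have hw' : w ∈ Submodule.span F (Set.range ![w, z]) := Submodule.subset_span ⟨0, rfl⟩
    have hz' : z ∈ Submodule.span F (Set.range ![w, z]) := Submodule.subset_span ⟨1, rfl⟩
    rw [Matrix.mulVecLin_apply, hN, Matrix.sub_mulVec, Matrix.one_mulVec, hB,
      show y + h y z • w - h y w • z - (h w w / 2 * h y z) • z - y =
        h y z • w - h y w • z - (h w w / 2 * h y z) • z by abel]
    exact Submodule.sub_mem _ (Submodule.sub_mem _ (Submodule.smul_mem _ _ hw') (Submodule.smul_mem _ _ hz'))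
      (Submodule.smul_mem _ _ hz')
  have hyi : g * pe l B * g⁻¹ ∈ TensorOrth.iso (tf c h) :=
    mul_mem (mul_mem (hM.iso_mem hg) (hT.gt_le_iso hxG)) (inv_mem (hM.iso_mem hg))
  have e1 : ((g * pe l B * g⁻¹ : GL X F) : Mn) - 1 = (g : Mn) * et l N * ((g⁻¹ : GL X F) : Mn) := by
    rw [conj_sub_one, pe_sub_one, hN]
  obtain ⟨m, B', hB'⟩ := hT.single_slot (by omega) hgx hyi
    (by rw [e1, conj_sq, et_mul, conj_sq, et_mul, hN3, ← zero_smul F (1 : Mb), et_smul, zero_smul, mul_zero,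
      zero_mul])
    (by rw [e1, conj_sq, et_mul, rank_conj, rank_et]
        exact (Nat.mul_le_mul le_rfl hr2).trans (by rw [mul_one]))
    (by rw [e1, rank_conj, rank_et, mul_comm 2]
        exact Nat.mul_le_mul le_rfl hr1)
  obtain ⟨N', hN'⟩ : ∃ N', N' = (B' : Mb) - 1 := ⟨_, rfl⟩
  have e2 : et m (N' * N') = (g : Mn) * et l (N * N) * ((g⁻¹ : GL X F) : Mn) := by
    rw [← et_mul, ← et_mul, ← conj_sq, ← e1, hN', ← pe_sub_one, hB']
  have hr2' : (N' * N').rank = 1 := by
    have h1 := congrArg Matrix.rank e2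
    rw [rank_conj, rank_et, rank_et] at h1
    rw [Nat.eq_of_mul_eq_mul_left (pow_pos (by omega) _) h1]
    refine le_antisymm hr2 (Nat.one_le_iff_ne_zero.2 fun e0 => ?_)
    obtain ⟨u, -, huz⟩ := hT.hh.exists_partner hT.two hz hz0
    have := hN2 u
    rw [(rank_zero_iff _).1 e0, Matrix.zero_mulVec, huz, mul_one] at this
    exact (smul_eq_zero.1 this.symm).elim (neg_ne_zero.2 hww) hz0
  obtain ⟨a, φ, ha, -, hX⟩ := eq_vmv_of_rank_one hr2'
  refine hM.intertwine h4 hg (l := l) (m := m) (N' := N' * N') hz hz0 hwz hww hB ha (fun y => ⟨φ ⬝ᵥ y, ?_⟩) ?_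
  · rw [hX, Matrix.vecMulVec_mulVec]
    funext b
    simp [mul_comm]
  · rw [← hN, e2, mul_assoc, ← Units.val_mul, inv_mul_cancel, Units.val_one, mul_one]

omit hT in
/-- A conjugate of an element with centraliser in the stabiliser, commuting with a Siegel element at a factor. -/
theorem fus4 {a g x : GL X F} {l : κ} (ha : Cen M a) (hg : g ∈ M) (hx : Pure h l x)
    (hc : g * a * g⁻¹ * x = x * (g * a * g⁻¹)) : g ∈ Wr F κ β := by
  have hxM : x ∈ M := by
    obtain ⟨B, z, w, hBi, hz, hz0, hwz, hww, hB, rfl⟩ := hx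
    exact hM.pe_mem (hM.data.pe_sieg hB hz hwz)
  have h1 : g⁻¹ * x * g ∈ Wr F κ β := ha _ (mul_mem (mul_mem (inv_mem hg) hxM) hg) (comm_conj hc)
  have := hM.fus_pure h4 hx (inv_mem hg) (by rwa [inv_inv])
  simpa using (Wr F κ β).inv_mem this

omit hT in
/-- A conjugate of an element with centraliser in the stabiliser, an involution of non-zero trace fixing a factor. -/
theorem fus_good {a g : GL X F} (ha : Cen M a) (haM : a ∈ M) (haa : a * a = 1) (htr : (a : Mn).trace ≠ 0)
    (hg : g ∈ M) {σ : Equiv.Perm κ} {gs : κ → GL β F} (hy : g * a * g⁻¹ = wgl σ gs) {l : κ} (hl : σ l = l) :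
    g ∈ Wr F κ β := by
  have hT := hM.data
  obtain ⟨x, hx, hc⟩ := hT.exists_pure_comm h4 (σ := σ) (gs := gs) (l := l)
    (hy ▸ mul_mem (mul_mem (hM.iso_mem hg) (hM.iso_mem haM)) (inv_mem (hM.iso_mem hg)))
    (hy ▸ conj_invol haa) (hy ▸ (trace_conj g a).trans_ne htr) hl
  exact hM.fus4 h4 ha hg hx (hy ▸ hc)

end Px

end Cfsg.Agent.Classical.TensorPowOrth
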