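import Cfsg.Agent.Lib.Classical.TensorPowOrth.FourGrp

/-!
Factors of dimension four: reflections at the factors, their conjugates and the lines they negate.
-/

set_option autoImplicit false
set_option linter.unusedSectionVars false
set_option linter.unusedSimpArgs false
set_option linter.style.haveILetI false

open scoped Kronecker

namespace Cfsg.Agent.Classical.TensorPowOrth

open Matrix Module MaxTv TensorMax TensorPow
open Cfsg.Agent.Classical.TensorOrth (Sym NdOn iso TSP IsSieg ext_pure ext_kron)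

variable {F : Type*} [Field F] [Fintype F] {κ β : Type} [Fintype κ] [DecidableEq κ] [Fintype β] [DecidableEq β]
  {c : F} {h : (β → F) → (β → F) → F}

local notation "X" => (κ → β)
local notation "V" => ((κ → β) → F)
local notation "Mn" => Matrix (κ → β) (κ → β) F
local notation "Mb" => Matrix β β F
local notation "W" => (β → F)

/-- An element of the stabiliser commuting with a non-scalar element at a factor fixes that factor. -/
theorem slot_fix [Nontrivial β] {g : GL X F} (hg : g ∈ Wr F κ β) {i : κ} {U : GL β F}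
    (hU : ∀ r : F, (U : Mb) ≠ r • 1) (hc : g * pe i U = pe i U * g) :
    ∃ σ gs, g = wgl σ gs ∧ σ i = i ∧ gs i * U = U * gs i := by
  obtain ⟨σ, gs, rfl⟩ := hg
  exact ⟨σ, gs, rfl, comm_pe hU hc⟩

/-- Two presentations of an element at two factors. -/
theorem wgl2_slot [Nontrivial β] {i m i' m' : κ} (him : i ≠ m) (him' : i' ≠ m') {A B A' B' : GL β F}
    (hA : ∀ r : F, (A : Mb) ≠ r • 1) (e : pe i A * pe m B = pe i' A' * pe m' B') :
    (i = i' ∧ ∃ r : F, (A' : Mb) = r • (A : Mb)) ∨ (i = m' ∧ ∃ r : F, (B' : Mb) = r • (A : Mb)) := by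
  rw [pe_mul_pe him, pe_mul_pe him'] at e
  obtain ⟨r, hr, e'⟩ := (wgl_unique e).2 i
  rw [Function.update_of_ne him, Function.update_self] at e'
  by_cases h1 : i = m'
  · rw [h1, Function.update_self] at e'
    exact Or.inr ⟨h1, r, e'⟩
  rw [Function.update_of_ne h1] at e'
  by_cases h2 : i = i'
  · rw [h2, Function.update_self] at e'
    exact Or.inl ⟨h2, r, e'⟩
  rw [Function.update_of_ne h2, Pi.one_apply, Units.val_one] at e'
  exact absurd (by rw [e', smul_smul, inv_mul_cancel₀ hr, one_smul] : (A : Mb) = r⁻¹ • 1) (hA _)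

theorem emb_pe_comm {i : κ} (A : GL (Rst i → β) F) (B : GL β F) : emb i A * pe i B = pe i B * emb i A :=
  (sp i).injective (by rw [map_mul, map_mul, sp_emb, sp_pe, k2_mul, k2_mul, one_mul, mul_one, one_mul, mul_one])

variable (hT : TData c h)
include hT

theorem TData.nontriv (h4 : Fintype.card β = 4) : Nontrivial β := Fintype.one_lt_card_iff_nontrivial.1 (by omega)

theorem TData.card_pow_ne (h4 : Fintype.card β = 4) (n : ℕ) : ((Fintype.card β : ℕ) : F) ^ n ≠ 0 :=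
  pow_ne_zero _ (by rw [h4]; exact_mod_cast hT.four_ne)

theorem TData.trace_pe_inj (h4 : Fintype.card β = 4) {i j : κ} {A B : GL β F}
    (e : (pe (κ := κ) i A : Mn).trace = (pe j B : Mn).trace) : (A : Mb).trace = (B : Mb).trace := by
  rw [trace_pe, trace_pe] at e
  exact mul_right_cancel₀ (hT.card_pow_ne h4 _) e

theorem TData.trace_pe_rf_ne (h4 : Fintype.card β = 4) (i : κ) {v : W} (hv : h v v ≠ 0) :
    (pe (κ := κ) i (rf hT v) : Mn).trace ≠ 0 := by
  rw [trace_pe, hT.trace_rf h4 hv]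
  exact mul_ne_zero hT.two (hT.card_pow_ne h4 _)

theorem TData.pe_rf_sq (i : κ) {v : W} (hv : h v v ≠ 0) :
    pe (κ := κ) i (rf hT v) * pe i (rf hT v) = 1 := by
  rw [← map_mul, hT.rf_sq hv, map_one]

theorem TData.pe_rf_inj (h4 : Fintype.card β = 4) {i j : κ} {v u : W} (hv : h v v ≠ 0) (hu : h u u ≠ 0)
    (e : pe (κ := κ) i (rf hT v) = pe j (rf hT u)) : i = j ∧ ∃ r : F, r ≠ 0 ∧ u = r • v := by
  haveI := hT.nontriv h4
  obtain ⟨h1, h2⟩ := pe_eq (hT.rf_nonscalar h4 hv) e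
  exact ⟨h1, hT.rf_inj hv hu h2⟩

/-- The conjugate of a reflection at a factor under an isometry of the stabiliser. -/
theorem TData.conj_rf (h4 : Fintype.card β = 4) {σ : Equiv.Perm κ} {gs : κ → GL β F}
    (hg : wgl σ gs ∈ TensorOrth.iso (tf c h)) (i : κ) {v : W} (hv : h v v ≠ 0) :
    h ((gs (σ⁻¹ i) : Mb) *ᵥ v) ((gs (σ⁻¹ i) : Mb) *ᵥ v) ≠ 0 ∧
      wgl σ gs * pe i (rf hT v) * (wgl σ gs)⁻¹ = pe (σ⁻¹ i) (rf hT ((gs (σ⁻¹ i) : Mb) *ᵥ v)) := by
  obtain ⟨μ, hμ⟩ := hT.slot_simil hg (σ⁻¹ i)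
  exact ⟨by rw [hμ]; exact mul_ne_zero (hT.sim_ne h4 hμ) hv, by rw [conj_pe, hT.rf_conj h4 hμ hv]⟩

/-- The lines negated by a reflection at a factor. -/
theorem TData.mem_line_neg {i : κ} {v : W} (hv : h v v ≠ 0) {t : V}
    (ht : (pe (κ := κ) i (rf hT v) : Mn) *ᵥ t = -t) : t ∈ line i v := by
  refine mem_line_of_fixed (B := -rf hT v) (fun e => hv (by rw [e, hT.hh.zero_left])) (fun x hx => ?_) ?_
  · rw [Units.val_neg, Matrix.neg_mulVec, hT.rf_apply hv, neg_sub] at hx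
    refine ⟨(2 : F)⁻¹ * (2 * h x v / h v v), ?_⟩
    rw [← smul_smul, eq_inv_smul_iff₀ hT.two, two_smul]
    nth_rw 1 [← hx]
    abel
  · rw [pe_neg, Units.val_neg, Matrix.neg_mulVec, ht, neg_neg]

theorem TData.neg_of_mem_line {i : κ} {v : W} (hv : h v v ≠ 0) {t : V} (ht : t ∈ line i v) :
    (pe (κ := κ) i (rf hT v) : Mn) *ᵥ t = -t := by
  have h1 := fixed_of_mem_line (B := -rf hT v)
    (by rw [Units.val_neg, Matrix.neg_mulVec, hT.rf_self hv, neg_neg]) ht
  rw [pe_neg, Units.val_neg, Matrix.neg_mulVec] at h1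
  rw [← neg_neg ((pe i (rf hT v) : Mn) *ᵥ t), h1]

theorem TData.line_of_comm {i : κ} {v : W} (hv : h v v ≠ 0) {g : GL X F}
    (hc : g * pe i (rf hT v) = pe i (rf hT v) * g) {t : V} (ht : t ∈ line i v) : (g : Mn) *ᵥ t ∈ line i v := by
  refine hT.mem_line_neg hv ?_
  rw [Matrix.mulVec_mulVec, ← Units.val_mul, ← hc, Units.val_mul, ← Matrix.mulVec_mulVec, hT.neg_of_mem_line hv ht,
    Matrix.mulVec_neg]

/-- An isometry fixing the tensors with an anisotropic vector commutes with its reflection. -/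
theorem TData.fx_comm {i : κ} {v : W} (hv : h v v ≠ 0) {g : GL X F} (hg : g ∈ TensorOrth.iso (tf c h))
    (hfx : g ∈ Fx F i v) : g * pe i (rf hT v) = pe i (rf hT v) * g := by
  have hS := hT.sym (κ := κ)
  obtain ⟨a, ha⟩ : ∃ a, a = pe (κ := κ) i (rf hT v) := ⟨_, rfl⟩
  rw [← ha]
  have haa : ∀ t, (a : Mn) *ᵥ ((a : Mn) *ᵥ t) = t := fun t => by
    rw [Matrix.mulVec_mulVec, ← Units.val_mul, ha, hT.pe_rf_sq i hv, Units.val_one, Matrix.one_mulVec]
  have hai : a ∈ TensorOrth.iso (tf c h) := ha ▸ hT.pe_iso i (hT.rf_iso v)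
  have hneg : ∀ l ∈ line i v, (a : Mn) *ᵥ l = -l := fun l hl => ha ▸ hT.neg_of_mem_line hv hl
  refine Units.ext (Matrix.ext_iff_mulVec.2 fun t => ?_)
  rw [Units.val_mul, Units.val_mul, ← Matrix.mulVec_mulVec, ← Matrix.mulVec_mulVec]
  obtain ⟨p, hp⟩ : ∃ p, p = t - (a : Mn) *ᵥ t := ⟨_, rfl⟩
  obtain ⟨q, hq⟩ : ∃ q, q = t + (a : Mn) *ᵥ t := ⟨_, rfl⟩
  have hpl : p ∈ line i v := hT.mem_line_neg hv (by rw [← ha, hp, Matrix.mulVec_sub, haa, neg_sub])
  have hgq : (a : Mn) *ᵥ ((g : Mn) *ᵥ q) = (g : Mn) *ᵥ q := by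
    obtain ⟨s, hs⟩ : ∃ s, s = (g : Mn) *ᵥ q - (a : Mn) *ᵥ ((g : Mn) *ᵥ q) := ⟨_, rfl⟩
    have hsl : s ∈ line i v := hT.mem_line_neg hv (by rw [← ha, hs, Matrix.mulVec_sub, haa, neg_sub])
    have hperp : ∀ l ∈ line i v, tf c h ((g : Mn) *ᵥ q) l = 0 := fun l hl => by
      have h2 : tf c h ((g : Mn) *ᵥ q) l = tf c h q l := by
        nth_rw 1 [← hfx l hl]
        exact hg q l
      have h3 := hai q l
      rw [show (a : Mn) *ᵥ q = q by rw [hq, Matrix.mulVec_add, haa, add_comm], hneg l hl, hS.neg_right] at h3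
      rw [h2]
      exact (mul_eq_zero.1 (show (2 : F) * tf c h q l = 0 by linear_combination -h3)).resolve_left hT.two
    have hs0 : ∀ l ∈ line i v, tf c h s l = 0 := fun l hl => by
      have h2 := hai ((g : Mn) *ᵥ q) l
      rw [hneg l hl, hS.neg_right, hperp l hl, neg_eq_zero] at h2
      rw [hs, hS.sub_left, hperp l hl, h2, sub_zero]
    obtain ⟨r, hr⟩ := mem_line_iff.1 hsl
    have hr0 : r = 0 := (hT.sym (κ := Rst i)).eq_zero r fun x => by
      have h2 := hs0 _ (mem_line_iff.2 ⟨x, LinearEquiv.apply_symm_apply _ (tmul x v)⟩)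
      have h3 := hT.tfs_tmul i r x v v
      rw [tfs, ← hr, LinearEquiv.symm_apply_apply, h2] at h3
      rw [(hT.sym (κ := Rst i)).symm]
      exact (mul_eq_zero.1 h3.symm).resolve_right hv
    rw [hr0, tmul_zero_left, LinearEquiv.map_eq_zero_iff, hs, sub_eq_zero] at hr
    exact hr.symm
  have e1 : (2 : F) • t = q + p := by rw [hp, hq, two_smul]; abel
  have e2 : (2 : F) • ((a : Mn) *ᵥ t) = q - p := by rw [hp, hq, two_smul]; abel
  refine smul_right_injective V hT.two ?_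
  simp only [← Matrix.mulVec_smul, e1, e2, Matrix.mulVec_add, Matrix.mulVec_sub, hgq, hfx p hpl, hneg p hpl]
  abel

/-- A vector of the plane of a product of two reflections and its partner in it. -/
theorem TData.pl_eq (h4 : Fintype.card β = 4) {v u w : W} (hv : h v v ≠ 0) (hu : h u u ≠ 0) (hvu : h v u = 0)
    {a b : F} (hw : w = a • v + b • u) (hww : h w w ≠ 0) :
    ∃ w', h w' w' ≠ 0 ∧ h w' w = 0 ∧ rf hT v * rf hT u = rf hT w' * rf hT w := by
  have hs := hT.hh
  obtain ⟨e, he, rfl, rfl⟩ := hT.frame2 h4 hv hu hvu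
  obtain ⟨w', hw'⟩ : ∃ w', w' = (-(b * h (e 1) (e 1))) • e 0 + (a * h (e 0) (e 0)) • e 1 := ⟨_, rfl⟩
  have hD : h w w = a * a * h (e 0) (e 0) + b * b * h (e 1) (e 1) := by
    simp only [hw, hs.add_left, hs.add_right, hs.smul_left, hs.smul_right, hvu, hs.symm (e 1) (e 0)]; ring
  have hD' : h w' w' = h (e 0) (e 0) * h (e 1) (e 1) * h w w := by
    rw [hD]
    simp only [hw', hs.add_left, hs.add_right, hs.smul_left, hs.smul_right, hvu, hs.symm (e 1) (e 0)]; ring
  have hw'0 : h w' w' ≠ 0 := by rw [hD']; exact mul_ne_zero (mul_ne_zero hv hu) hww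
  have hw'w : h w' w = 0 := by
    simp only [hw, hw', hs.add_left, hs.add_right, hs.smul_left, hs.smul_right, hvu, hs.symm (e 1) (e 0)]; ring
  refine ⟨w', hw'0, hw'w, Units.ext (he.ext_mat hT h4 fun j => ?_)⟩
  rw [hT.dg_pl he (show (0 : Fin 4) ≠ 1 by decide) j, Units.val_mul, ← Matrix.mulVec_mulVec, hT.rf_apply hww (e j),
    Matrix.mulVec_sub, Matrix.mulVec_smul, hT.rf_perp hw'0 (show h w w' = 0 by rw [hs.symm, hw'w]),
    hT.rf_apply hw'0]
  by_cases h0 : j = 0
  · subst h0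
    rw [sgS, if_pos (by decide), hD']
    obtain ⟨D, hDD⟩ : ∃ D, D = h w w := ⟨_, rfl⟩
    rw [← hDD] at hD hww ⊢
    simp only [hw, hw', hs.add_right, hs.smul_right, hvu, mul_zero, add_zero]
    match_scalars <;> field_simp <;> grind
  by_cases h1 : j = 1
  · subst h1
    rw [sgS, if_pos (by decide), hD']
    obtain ⟨D, hDD⟩ : ∃ D, D = h w w := ⟨_, rfl⟩
    rw [← hDD] at hD hww ⊢
    simp only [hw, hw', hs.add_right, hs.smul_right, hs.symm (e 1) (e 0), hvu, mul_zero, add_zero, zero_add]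
    match_scalars <;> field_simp <;> grind
  rw [sgS, if_neg (by simp [h0, h1])]
  simp only [hw, hw', hs.add_right, hs.smul_right, he.orth j 0 h0, he.orth j 1 h1, mul_zero, add_zero, zero_div,
    zero_smul, sub_zero, one_smul]

end Cfsg.Agent.Classical.TensorPowOrth
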