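import Cfsg.Agent.Lib.Classical.TensorPowOrth.FourTwoBase

/-!
Two factors of dimension four: involutions in the derived group keep the factors, and their parts.
-/

set_option autoImplicit false
set_option linter.unusedSectionVars false
set_option linter.unusedSimpArgs false
set_option linter.style.haveILetI false

open scoped Kronecker

namespace Cfsg.Agent.Classical.TensorPowOrth

open Matrix Module MaxTv TensorMax TensorPow
open Cfsg.Agent.Classical.TensorOrth (Sym NdOn iso TSP IsSieg)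

variable {F : Type*} [Field F] [Fintype F] {κ β : Type} [Fintype κ] [DecidableEq κ] [Fintype β] [DecidableEq β]
  {c : F} {h : (β → F) → (β → F) → F}

local notation "X" => (κ → β)
local notation "V" => ((κ → β) → F)
local notation "Mn" => Matrix (κ → β) (κ → β) F
local notation "Mb" => Matrix β β F
local notation "W" => (β → F)

/-- Two factors. -/
structure Two (i m : κ) : Prop where
  ne : i ≠ m
  all : ∀ l, l = i ∨ l = m

theorem exists_two (h2κ : Fintype.card κ = 2) (i : κ) : ∃ m, Two i m := by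
  obtain ⟨m, hm⟩ := Fintype.exists_ne_of_one_lt_card (show 1 < Fintype.card κ by omega) i
  refine ⟨m, hm.symm, fun l => ?_⟩
  by_contra hl
  push Not at hl
  have := Finset.card_le_univ ({i, m, l} : Finset κ)
  rw [Finset.card_insert_of_notMem (by simp [hm.symm, hl.1.symm]), Finset.card_pair hl.2.symm] at this
  omega

theorem Two.symm {i m : κ} (ht : Two i m) : Two m i := ⟨ht.ne.symm, fun l => (ht.all l).symm⟩

theorem Two.card {i m : κ} (ht : Two i m) : Fintype.card κ = 2 := by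
  rw [← Finset.card_univ, show (Finset.univ : Finset κ) = {i, m} by ext l; simpa using ht.all l,
    Finset.card_pair ht.ne]

theorem Two.prod {i m : κ} (ht : Two i m) {R : Type*} [CommMonoid R] (f : κ → R) : ∏ l, f l = f i * f m := by
  rw [show (Finset.univ : Finset κ) = {i, m} by ext l; simpa using ht.all l, Finset.prod_pair ht.ne]

theorem Two.wgl_eq {i m : κ} (ht : Two i m) (gs : κ → GL β F) : wgl 1 gs = pe i (gs i) * pe m (gs m) := by
  rw [pe_mul_pe ht.ne]
  congr 1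
  funext l
  rcases ht.all l with rfl | rfl
  · rw [Function.update_of_ne ht.ne, Function.update_self]
  · rw [Function.update_self]

variable (hT : TData c h)
include hT

theorem TData.neg_one_GT (h4 : Fintype.card β = 4) (hκ : 2 ≤ Fintype.card κ) (i : κ) :
    (-1 : GL X F) ∈ GT (κ := κ) c h := by
  obtain ⟨e, he⟩ := hT.frame0 h4
  have := hT.dg_GT h4 hκ i he (S := (∅ : Finset (Fin 4))ᶜ) (by decide) (Dg.one e).neg
  rwa [pe_neg, map_one] at this

/-- An involution of the derived group at two factors keeps them. -/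
theorem TData.invol_fix (h4 : Fintype.card β = 4) {i m : κ} (ht : Two i m) {σ : Equiv.Perm κ} {gs : κ → GL β F}
    (hy : wgl σ gs ∈ GT (κ := κ) c h) (hyy : wgl σ gs * wgl σ gs = 1) : σ = 1 := by
  classical
  by_contra hσ
  haveI := hT.nontriv h4
  have hs := hT.hh
  have hσi : σ i = m := by
    rcases ht.all (σ i) with e | e
    · refine absurd (Equiv.ext fun l => ?_) hσ
      rcases ht.all l with rfl | rfl
      · exact e
      · exact (ht.all _).resolve_left fun e' => ht.ne (σ.injective (e.trans e'.symm))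
    · exact e
  have hσm : σ m = i := (ht.all _).resolve_right fun e' => ht.ne (σ.injective (hσi.trans e'.symm))
  obtain ⟨e, he⟩ := hT.frame0 h4
  obtain ⟨μ, hμ⟩ := hT.slot_simil (hT.gt_le_iso hy) m
  obtain ⟨φ, hφ⟩ : ∃ φ, φ = gs m := ⟨_, rfl⟩
  rw [← hφ] at hμ
  obtain ⟨Q, hQ⟩ : ∃ Q : Fin 4 → Fin 4 → V, Q = fun a b => ptens (Function.update (fun _ => (φ : Mb) *ᵥ e b) i (e a)) :=
    ⟨_, rfl⟩
  have hQtf : ∀ a b a' b', tf c h (Q a b) (Q a' b') = c * μ * (h (e a) (e a') * h (e b) (e b')) := fun a b a' b' => by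
    simp only [hQ]
    rw [hT.tf_ptens, ht.prod, Function.update_self, Function.update_self, Function.update_of_ne ht.ne.symm,
      Function.update_of_ne ht.ne.symm, hμ]
    ring
  have hQ0 : ∀ a b, Q a b ≠ 0 := fun a b e0 => by
    have h1 := hQtf a b a b
    rw [e0, (hT.sym (κ := κ)).zero_left] at h1
    exact mul_ne_zero (mul_ne_zero hT.hc (hT.sim_ne h4 hμ)) (mul_ne_zero (he.ne a) (he.ne b)) h1.symm
  -- the product of the parts
  obtain ⟨r, hr, hsw⟩ : ∃ r : F, r * r = 1 ∧ ∀ a b, (wgl σ gs : Mn) *ᵥ Q a b = r • Q b a := by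
    have h1 := hyy
    rw [wgl_mul] at h1
    obtain ⟨r, hr⟩ := (wgl_eq_one h1).2 i
    rw [hσi, ← hφ, Units.val_mul] at hr
    have hkey : ∀ a b, (wgl σ gs : Mn) *ᵥ Q a b = r • Q b a := fun a b => by
      simp only [hQ]
      rw [wgl_mulVec, show (fun l => (gs l : Mb) *ᵥ Function.update (fun _ => (φ : Mb) *ᵥ e b) i (e a) (σ l)) =
        Function.update (fun _ => (φ : Mb) *ᵥ e a) i (r • e b) by
          funext l
          rcases ht.all l with rfl | rfl
          · rw [Function.update_self, hσi, Function.update_of_ne ht.ne.symm, Matrix.mulVec_mulVec, hr,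
              Matrix.smul_mulVec, Matrix.one_mulVec]
          · rw [Function.update_of_ne ht.ne.symm, hσm, Function.update_self, hφ]]
      funext x
      rw [Pi.smul_apply, ptens_update, ptens_update, Pi.smul_apply, smul_eq_mul, smul_eq_mul, mul_assoc]
    refine ⟨r, ?_, hkey⟩
    have h2 := congrArg (fun g : GL X F => (g : Mn) *ᵥ Q 0 0) hyy
    simp only [Units.val_mul, ← Matrix.mulVec_mulVec, hkey, Matrix.mulVec_smul, smul_smul, Units.val_one,
      Matrix.one_mulVec] at h2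
    exact smul_left_injective F (hQ0 0 0) (by simpa using h2)
  obtain ⟨u, huG, hu⟩ : ∃ u ∈ GT (κ := κ) c h, ∀ a b, (u : Mn) *ᵥ Q a b = Q b a := by
    rcases mul_self_eq_one_iff.1 hr with e' | e'
    · exact ⟨_, hy, fun a b => by rw [hsw, e', one_smul]⟩
    · exact ⟨_, mul_mem (hT.neg_one_GT h4 (ht.card.symm.le) i) hy, fun a b => by
        rw [Units.val_mul, Units.val_neg, Units.val_one, ← Matrix.mulVec_mulVec, hsw, e', Matrix.neg_mulVec,
          Matrix.one_mulVec, neg_one_smul, neg_neg]⟩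
  obtain ⟨A, hA⟩ : ∃ A : Fin 6 → Fin 4, A = ![0, 0, 0, 1, 1, 2] := ⟨_, rfl⟩
  obtain ⟨B, hB⟩ : ∃ B : Fin 6 → Fin 4, B = ![1, 2, 3, 2, 3, 3] := ⟨_, rfl⟩
  have hAB : ∀ z, A z ≠ B z := by rw [hA, hB]; decide
  have hinj : ∀ z z', z ≠ z' → ¬ (A z = A z' ∧ B z = B z') ∧ ¬ (A z = B z' ∧ B z = A z') := by rw [hA, hB]; decide
  obtain ⟨p, hp⟩ : ∃ p : Fin 6 → V, p = fun z => Q (A z) (B z) - Q (B z) (A z) := ⟨_, rfl⟩
  have hpQ : ∀ z a b, tf c h (p z) (Q a b) = c * μ * (h (e (A z)) (e a) * h (e (B z)) (e b)) -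
      c * μ * (h (e (B z)) (e a) * h (e (A z)) (e b)) := fun z a b => by
    simp only [hp]
    rw [(hT.sym (κ := κ)).sub_left, hQtf, hQtf]
  have h0 : ∀ a a' b b' : Fin 4, ¬ (a = a' ∧ b = b') → h (e a) (e a') * h (e b) (e b') = 0 := fun a a' b b' hne => by
    by_cases h1 : a = a'
    · rw [he.orth b b' fun e' => hne ⟨h1, e'⟩, mul_zero]
    · rw [he.orth a a' h1, zero_mul]
  have hpp : ∀ z, tf c h (p z) (p z) = 2 * (c * μ * (h (e (A z)) (e (A z)) * h (e (B z)) (e (B z)))) := fun z => by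
    nth_rw 2 [hp]
    rw [(hT.sym (κ := κ)).sub_right, hpQ, hpQ, he.orth _ _ (hAB z), he.orth _ _ (hAB z).symm]
    ring
  have hppne : ∀ z, tf c h (p z) (p z) ≠ 0 := fun z => by
    rw [hpp]
    exact mul_ne_zero hT.two (mul_ne_zero (mul_ne_zero hT.hc (hT.sim_ne h4 hμ)) (mul_ne_zero (he.ne _) (he.ne _)))
  have horth : ∀ z z', z ≠ z' → tf c h (p z) (p z') = 0 := fun z z' hzz => by
    nth_rw 2 [hp]
    rw [(hT.sym (κ := κ)).sub_right, hpQ, hpQ, h0 _ _ _ _ (hinj z z' hzz).1,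
      h0 _ _ _ _ (fun e' => (hinj z z' hzz).2 ⟨e'.2 ▸ rfl, e'.1 ▸ rfl⟩ : ¬ (B z = A z' ∧ A z = B z')),
      h0 _ _ _ _ (hinj z z' hzz).2,
      h0 _ _ _ _ (fun e' => (hinj z z' hzz).1 ⟨e'.2 ▸ rfl, e'.1 ▸ rfl⟩ : ¬ (B z = B z' ∧ A z = A z'))]
    ring
  obtain ⟨L', hL'⟩ : ∃ L' : V →ₗ[F] V, L' = LinearMap.id -
      ∑ z, ((2 / tf c h (p z) (p z)) • (hT.sym (κ := κ)).lin (p z)).smulRight (p z) := ⟨_, rfl⟩
  have hL'x : ∀ x, L' x = x - ∑ z, (2 * tf c h (p z) x / tf c h (p z) (p z)) • p z := fun x => by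
    simp only [hL', LinearMap.sub_apply, LinearMap.id_apply, LinearMap.coe_sum, Finset.sum_apply,
      LinearMap.smulRight_apply, LinearMap.smul_apply, (hT.sym (κ := κ)).lin_apply, smul_eq_mul,
      (hT.sym (κ := κ)).symm x, div_mul_eq_mul_div]
  have hform : ∀ a b, Q b a = Q a b - ∑ z, (2 * tf c h (p z) (Q a b) / tf c h (p z) (p z)) • p z := fun a b => by
    by_cases hab : a = b
    · subst hab
      rw [Finset.sum_eq_zero fun z _ => by rw [hpQ, h0 _ _ _ _ (fun e' => hAB z (e'.1.trans e'.2.symm)),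
        h0 _ _ _ _ (fun e' => hAB z (e'.2.trans e'.1.symm))]; simp, sub_zero]
    obtain ⟨z, hz⟩ : ∃ z, (A z = a ∧ B z = b) ∨ (A z = b ∧ B z = a) :=
      (show ∀ a b : Fin 4, a ≠ b → ∃ z, (A z = a ∧ B z = b) ∨ (A z = b ∧ B z = a) by rw [hA, hB]; decide) a b hab
    rw [Finset.sum_eq_single z (fun z' _ hzz => by
      rcases hz with ⟨rfl, rfl⟩ | ⟨rfl, rfl⟩
      · rw [hpQ, h0 _ _ _ _ (hinj z' z hzz).1, h0 _ _ _ _ (fun e' => (hinj z' z hzz).2 ⟨e'.2, e'.1⟩)]
        simp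
      · rw [hpQ, h0 _ _ _ _ (hinj z' z hzz).2, h0 _ _ _ _ (fun e' => (hinj z' z hzz).1 ⟨e'.2, e'.1⟩)]
        simp) (fun h' => absurd (Finset.mem_univ z) h')]
    have hne := hppne z
    rw [hpp] at hne
    rw [hpQ, hpp]
    rcases hz with ⟨rfl, rfl⟩ | ⟨rfl, rfl⟩ <;>
      rw [he.orth _ _ (hAB z), he.orth _ _ (hAB z).symm, hp] <;>
      · match_scalars <;> field_simp [hT.two, hT.hc, hT.sim_ne h4 hμ, he.ne] <;> ring
  have hux : ∀ x, (u : Mn) *ᵥ x = x - ∑ z, (2 * tf c h (p z) x / tf c h (p z) (p z)) • p z := by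
    intro x
    obtain ⟨t, rfl⟩ : ∃ t, (pe m φ : Mn) *ᵥ t = x := ⟨_, mulVec_inv_cancel (pe m φ) x⟩
    have h5 := LinearMap.congr_fun (hT.ext_frame (he.toOrth hT h4)
      (L := (Matrix.toLin' (u : Mn)).comp (Matrix.toLin' (pe m φ : Mn)))
      (L' := L'.comp (Matrix.toLin' (pe m φ : Mn))) fun y => ?_) t
    · simpa only [LinearMap.comp_apply, Matrix.toLin'_apply, hL'x] using h5
    simp only [LinearMap.comp_apply, Matrix.toLin'_apply, hL'x, pe_mulVec, Function.comp_apply]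
    obtain ⟨ι, hι⟩ : ∃ ι, ι = Fintype.equivFinOfCardEq h4 := ⟨_, rfl⟩
    rw [← hι, show Function.update (fun l => e (ι (y l))) m ((φ : Mb) *ᵥ e (ι (y m))) =
      Function.update (fun _ => (φ : Mb) *ᵥ e (ι (y m))) i (e (ι (y i))) by
        funext l
        rcases ht.all l with rfl | rfl
        · rw [Function.update_self, Function.update_of_ne ht.ne]
        · rw [Function.update_self, Function.update_of_ne ht.ne.symm]]
    have h6 := hu (ι (y i)) (ι (y m))
    have h7 := hform (ι (y i)) (ι (y m))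
    simp only [hQ] at h6 h7
    rw [h6, h7]
  obtain ⟨-, hsg⟩ := sgn_refl_prod (hT.sym (κ := κ)) hT.two (g := u) p hppne horth hux
  rw [(hT.mem_GT.1 huG).2] at hsg
  have h8 : (1 : ℤˣ) = ∏ z, OrthAut.sqSign (tf c h (p z) (p z) / 2) := congrArg Prod.snd hsg
  rw [← sqSign_prod _ _ (fun z _ => div_ne_zero (hppne z) hT.two), OrthAut.sqSign_of_not] at h8
  · exact absurd h8 (by decide)
  rintro ⟨s, hs'⟩
  obtain ⟨D, hD⟩ : ∃ D, D = h (e 0) (e 0) * h (e 1) (e 1) * h (e 2) (e 2) * h (e 3) (e 3) := ⟨_, rfl⟩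
  have hD0 : D ≠ 0 := hD ▸ mul_ne_zero (mul_ne_zero (mul_ne_zero (he.ne 0) (he.ne 1)) (he.ne 2)) (he.ne 3)
  have hprod : ∏ z, tf c h (p z) (p z) / 2 = (c * μ) ^ 6 * D ^ 3 := by
    simp only [hpp, mul_div_cancel_left₀ _ hT.two, hA, hB, Fin.prod_univ_six]
    simp [hD]
    ring
  refine he.not_sq hT h4 ⟨s / ((c * μ) ^ 3 * D), ?_⟩
  rw [← hD]
  have := hT.hc
  have := hT.sim_ne h4 hμ
  rw [hprod] at hs'
  field_simp
  linear_combination hs'

/-- An involution of the stabiliser in the derived group. -/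
theorem TData.invol_two (h4 : Fintype.card β = 4) {i m : κ} (ht : Two i m) {y : GL X F} (hy : y ∈ Wr F κ β)
    (hyG : y ∈ GT (κ := κ) c h) (hyy : y * y = 1) :
    ∃ A B : GL β F, y = pe i A * pe m B ∧ ∃ μ ν r s : F, Sim h μ A ∧ Sim h ν B ∧
      (A : Mb) * (A : Mb) = r • 1 ∧ (B : Mb) * (B : Mb) = s • 1 ∧ r * s = 1 := by
  obtain ⟨σ, gs, rfl⟩ := hy
  haveI := hT.nontriv h4
  obtain rfl := hT.invol_fix h4 ht hyG hyy
  obtain ⟨μ, hμ⟩ := hT.slot_simil (hT.gt_le_iso hyG) i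
  obtain ⟨ν, hν⟩ := hT.slot_simil (hT.gt_le_iso hyG) m
  obtain ⟨r, -, hr⟩ := (comp_of_wgl gs (show (1 : Equiv.Perm κ) i = i from rfl)).invol (by omega) hyy
  obtain ⟨s, -, hs'⟩ := (comp_of_wgl gs (show (1 : Equiv.Perm κ) m = m from rfl)).invol (by omega) hyy
  refine ⟨gs i, gs m, ht.wgl_eq gs, μ, ν, r, s, hμ, hν, hr, hs', ?_⟩
  obtain ⟨v, -, hv⟩ := hT.hh.exists_aniso hT.two hT.hh.ndOn_top (Submodule.exists_mem_ne_zero_of_ne_bot fun e' => by
    have := congrArg (fun U : Submodule F W => finrank F U) e'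
    simp only [finrank_top, Module.finrank_pi, finrank_bot] at this
    omega)
  have h1 := congrArg (fun g : GL X F => (g : Mn) *ᵥ ptens (fun _ : κ => v)) hyy
  simp only [Units.val_mul, ← Matrix.mulVec_mulVec, wgl_mulVec, Equiv.Perm.coe_one, id_eq, Units.val_one,
    Matrix.one_mulVec] at h1
  simp only [Matrix.mulVec_mulVec] at h1
  have h2 := congrArg (tf c h · (ptens fun _ : κ => v)) h1
  simp only [hT.tf_ptens, ht.prod, hr, hs', Matrix.smul_mulVec, Matrix.one_mulVec, hT.hh.smul_left] at h2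
  exact mul_right_cancel₀ (mul_ne_zero hT.hc (mul_ne_zero hv hv)) (by linear_combination h2)

end Cfsg.Agent.Classical.TensorPowOrth
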