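import Cfsg.Agent.Lib.Classical.TensorPowOrth.FourTwoFus

/-!
Two factors of dimension four over three elements: tensors of two vectors, an anisotropic plane with its rotation of
order four, and the isometries commuting with them.
-/

set_option autoImplicit false
set_option linter.unusedSectionVars false
set_option linter.unusedSimpArgs false
set_option linter.style.haveILetI false

open scoped Kronecker

namespace Cfsg.Agent.Classical.TensorPowOrth

open Matrix Module MaxTv TensorMax TensorPow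
open Cfsg.Agent.Classical.TensorOrth (Sym NdOn iso TSP IsSieg)

variable {F : Type*} [Field F] [Fintype F] {κ β : Type} [Fintype κ] [DecidableEq κ] [Fintype β] [DecidableEq β]
  {c : F} {h : (β → F) → (β → F) → F}

local notation "X" => (κ → β)
local notation "V" => ((κ → β) → F)
local notation "Mn" => Matrix (κ → β) (κ → β) F
local notation "Mb" => Matrix β β F
local notation "W" => (β → F)

/-- The tensor of two vectors. -/
def tp2 (i : κ) (a r : β → F) : (κ → β) → F := ptens (Function.update (fun _ => r) i a)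

theorem tp2_mem (i : κ) (a r : W) : tp2 (κ := κ) i a r ∈ line i a := ptens_mem_line _

section Tensors

variable {i m : κ} (ht : Two i m)
include ht

theorem Two.tp2_apply (a r : W) (p : X) : tp2 i a r p = a (p i) * r (p m) := by
  rw [tp2, ptens, ht.prod, Function.update_self, Function.update_of_ne ht.ne.symm]

theorem Two.pe_left (A : GL β F) (a r : W) : (pe i A : Mn) *ᵥ tp2 i a r = tp2 i ((A : Mb) *ᵥ a) r := by
  rw [tp2, pe_mulVec, Function.update_self, Function.update_idem]
  rfl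

theorem Two.pe_right (B : GL β F) (a r : W) : (pe m B : Mn) *ᵥ tp2 i a r = tp2 i a ((B : Mb) *ᵥ r) := by
  rw [tp2, pe_mulVec, Function.update_of_ne ht.ne.symm]
  refine congrArg ptens (funext fun l => ?_)
  rcases ht.all l with rfl | rfl
  · rw [Function.update_of_ne ht.ne, Function.update_self, Function.update_self]
  · rw [Function.update_self, Function.update_of_ne ht.ne.symm]

theorem Two.tp2_add_left (a b r : W) : tp2 i (a + b) r = tp2 i a r + tp2 i b r :=
  funext fun p => by simp only [Pi.add_apply, ht.tp2_apply, add_mul]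

theorem Two.tp2_add_right (a r s : W) : tp2 i a (r + s) = tp2 i a r + tp2 i a s :=
  funext fun p => by simp only [Pi.add_apply, ht.tp2_apply, mul_add]

theorem Two.tp2_smul_left (x : F) (a r : W) : tp2 i (x • a) r = x • tp2 i a r :=
  funext fun p => by simp only [Pi.smul_apply, smul_eq_mul, ht.tp2_apply, mul_assoc]

theorem Two.tp2_smul_right (x : F) (a r : W) : tp2 i a (x • r) = x • tp2 i a r :=
  funext fun p => by simp only [Pi.smul_apply, smul_eq_mul, ht.tp2_apply, mul_left_comm]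

theorem Two.tp2_neg_left (a r : W) : tp2 i (-a) r = -tp2 i a r :=
  funext fun p => by simp only [Pi.neg_apply, ht.tp2_apply, neg_mul]

theorem Two.tp2_neg_right (a r : W) : tp2 i a (-r) = -tp2 i a r :=
  funext fun p => by simp only [Pi.neg_apply, ht.tp2_apply, mul_neg]

theorem Two.tp2_sub_right (a r s : W) : tp2 i a (r - s) = tp2 i a r - tp2 i a s :=
  funext fun p => by simp only [Pi.sub_apply, ht.tp2_apply, mul_sub]

theorem Two.tp2_zero_right (a : W) : tp2 i a (0 : W) = 0 :=
  funext fun p => by simp only [Pi.zero_apply, ht.tp2_apply, mul_zero]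

/-- The tensors of a line are products. -/
theorem Two.mem_line {a : W} {t : V} (ht' : t ∈ line i a) : ∃ r : W, t = tp2 i a r := by
  obtain ⟨x, hx⟩ := mem_line_iff.1 ht'
  refine ⟨fun b => x fun _ => b, funext fun p => ?_⟩
  have h1 := congrFun hx (spE i p)
  rw [spV_apply, Equiv.symm_apply_apply] at h1
  have h2 : (fun j : Rst i => p j.1) = fun _ => p m := funext fun j => by
    rcases ht.all j.1 with e | e
    · exact absurd e j.2
    · rw [e]
  rw [h1, ht.tp2_apply]
  show x _ * a (p i) = a (p i) * x _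
  rw [spE_apply, h2, mul_comm]

theorem Two.tp2_left_inj {a b r : W} (hr : r ≠ 0) (e : tp2 i a r = tp2 i b r) : a = b := by
  classical
  obtain ⟨j, hj⟩ := Function.ne_iff.1 hr
  funext p
  have h1 := congrFun e (Function.update (fun _ => j) i p)
  rw [ht.tp2_apply, ht.tp2_apply, Function.update_self, Function.update_of_ne ht.ne.symm] at h1
  exact mul_right_cancel₀ hj h1

theorem Two.tp2_right_inj {a r s : W} (ha : a ≠ 0) (e : tp2 i a r = tp2 i a s) : r = s := by
  classical
  obtain ⟨j, hj⟩ := Function.ne_iff.1 ha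
  funext p
  have h1 := congrFun e (Function.update (fun _ => p) i j)
  rw [ht.tp2_apply, ht.tp2_apply, Function.update_self, Function.update_of_ne ht.ne.symm] at h1
  exact mul_left_cancel₀ hj h1

variable (hT : TData c h)
include hT

theorem Two.tf_tp2 (a a' r r' : W) : tf c h (tp2 i a r) (tp2 i a' r') = c * (h a a' * h r r') := by
  rw [tp2, tp2, hT.tf_ptens, ht.prod, Function.update_self, Function.update_self, Function.update_of_ne ht.ne.symm,
    Function.update_of_ne ht.ne.symm]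

/-- Two orthogonal lines are independent. -/
theorem Two.tp2_pair {a a' r r' : W} (ha : h a a ≠ 0) (ha' : h a' a = 0) (e : tp2 i a r + tp2 i a' r' = 0) :
    r = 0 := by
  refine hT.hh.eq_zero r fun x => ?_
  have h1 := congrArg (fun q => tf c h q (tp2 i a x)) e
  simp only [(hT.sym (κ := κ)).add_left, (hT.sym (κ := κ)).zero_left, ht.tf_tp2 hT, ha', zero_mul, mul_zero,
    add_zero] at h1
  rw [hT.hh.symm]
  exact ((mul_eq_zero.1 h1).resolve_left hT.hc |> mul_eq_zero.1).resolve_left ha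

end Tensors

/-- The field with three elements. -/
theorem three_pm (hq : Fintype.card F = 3) {x : F} (hx : x ≠ 0) : x = 1 ∨ x = -1 := by
  have h1 := FiniteField.pow_card_sub_one_eq_one x hx
  rw [hq] at h1
  exact mul_self_eq_one_iff.1 (by rw [← pow_two]; exact h1)

theorem three_zero (hq : Fintype.card F = 3) : (3 : F) = 0 := by
  have h1 := Nat.cast_card_eq_zero F
  rw [hq] at h1
  exact_mod_cast h1

theorem three_sq (hq : Fintype.card F = 3) {x : F} (hx : x ≠ 0) : x * x = 1 := by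
  rcases three_pm hq hx with rfl | rfl <;> ring

theorem three_cases (hq : Fintype.card F = 3) (x : F) : x = 0 ∨ x = 1 ∨ x = -1 :=
  (eq_or_ne x 0).imp_right (three_pm hq)

/-- A frame with an anisotropic plane and its rotation. -/
structure Axis (h : (β → F) → (β → F) → F) (e : Fin 4 → β → F) (R : GL β F) : Prop where
  card : Fintype.card F = 3
  frame : F4 h e
  val : h (e 2) (e 2) = h (e 3) (e 3)
  hyp : h (e 1) (e 1) = -h (e 0) (e 0)
  isom : R ∈ TensorOrth.iso h
  r0 : (R : Matrix β β F) *ᵥ e 0 = e 0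
  r1 : (R : Matrix β β F) *ᵥ e 1 = e 1
  r2 : (R : Matrix β β F) *ᵥ e 2 = e 3
  r3 : (R : Matrix β β F) *ᵥ e 3 = -e 2

variable (hT : TData c h)
include hT

/-- Planes over three elements. -/
theorem TData.exists_axis (h4 : Fintype.card β = 4) (hκ : 2 ≤ Fintype.card κ) (hq : Fintype.card F = 3) (i : κ)
    {P : GL β F} (hP : Pl hT P) : ∃ e R, Axis h e R ∧ pe (κ := κ) i R ∈ GT (κ := κ) c h ∧
      (P = rf hT (e 2) * rf hT (e 3) ∨ P = -(rf hT (e 2) * rf hT (e 3))) := by
  have hs := hT.hh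
  have h3 := three_zero hq
  obtain ⟨e, he, hD, -⟩ := hT.pl_dg h4 hP
  obtain ⟨f, hf, hfv, hfh, hPf⟩ : ∃ f : Fin 4 → W, F4 h f ∧ h (f 2) (f 2) = h (f 3) (f 3) ∧
      h (f 1) (f 1) = -h (f 0) (f 0) ∧ (P = rf hT (f 2) * rf hT (f 3) ∨ P = -(rf hT (f 2) * rf hT (f 3))) := by
    have hD23 : Dg e {2, 3} (-P) := by
      have h7 := hD.neg
      rwa [show ({0, 1} : Finset (Fin 4))ᶜ = {2, 3} by decide] at h7
    have hns : ∀ {a b : F}, a ≠ 0 → b ≠ 0 → a ≠ b → b = -a := fun ha hb hab => by
      rcases three_pm hq ha with rfl | rfl <;> rcases three_pm hq hb with rfl | rfl <;>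
        first | exact absurd rfl hab | ring
    have hprod := he.not_sq hT h4
    by_cases h01 : h (e 0) (e 0) = h (e 1) (e 1)
    · obtain ⟨π, hπ⟩ : ∃ π : Equiv.Perm (Fin 4), π = Equiv.swap 0 2 * Equiv.swap 1 3 := ⟨_, rfl⟩
      have p0 : π 0 = 2 := by rw [hπ]; decide
      have p1 : π 1 = 3 := by rw [hπ]; decide
      have p2 : π 2 = 0 := by rw [hπ]; decide
      have p3 : π 3 = 1 := by rw [hπ]; decide
      refine ⟨e ∘ π, he.perm π, by simp [p2, p3, h01], ?_, Or.inl ?_⟩
      · simp only [Function.comp_apply, p0, p1]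
        refine hns (he.ne 2) (he.ne 3) fun h23 => hprod ⟨h (e 0) (e 0) * h (e 2) (e 2), ?_⟩
        rw [← h01, ← h23]; ring
      · simp only [Function.comp_apply, p2, p3]
        exact Dg.unique hT he h4 hD (hT.dg_pl he (by decide))
    · refine ⟨e, he, ?_, hns (he.ne 0) (he.ne 1) h01, Or.inr ?_⟩
      · by_contra h23
        have e1 := hns (he.ne 0) (he.ne 1) h01
        have e3 := hns (he.ne 2) (he.ne 3) h23
        exact hprod ⟨h (e 0) (e 0) * h (e 2) (e 2), by rw [e1, e3]; ring⟩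
      · rw [Dg.unique hT he h4 (hT.dg_pl he (show (2 : Fin 4) ≠ 3 by decide)) hD23, neg_neg]
  obtain ⟨w, hw⟩ : ∃ w, w = f 2 + f 3 := ⟨_, rfl⟩
  have o23 : h (f 2) (f 3) = 0 := hf.orth 2 3 (by decide)
  have o32 : h (f 3) (f 2) = 0 := hf.orth 3 2 (by decide)
  have hww : h w w = 2 * h (f 2) (f 2) := by
    simp only [hw, hs.add_left, hs.add_right, o23, o32, ← hfv]; ring
  have hw0 : h w w ≠ 0 := by rw [hww]; exact mul_ne_zero hT.two (hf.ne 2)
  obtain ⟨R, hR⟩ : ∃ R, R = rf hT w * rf hT (f 2) := ⟨_, rfl⟩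
  have h2 := hT.two
  have hne := hf.ne 2
  refine ⟨f, R, ⟨hq, hf, hfv, hfh, hR ▸ mul_mem (hT.rf_iso _) (hT.rf_iso _), ?_, ?_, ?_, ?_⟩, ?_, hPf⟩
  all_goals try rw [hR, Units.val_mul, ← Matrix.mulVec_mulVec]
  · rw [hT.rf_perp (hf.ne 2) (hf.orth 0 2 (by decide)),
      hT.rf_perp hw0 (by rw [hw, hs.add_right, hf.orth 0 2 (by decide), hf.orth 0 3 (by decide), add_zero])]
  · rw [hT.rf_perp (hf.ne 2) (hf.orth 1 2 (by decide)),
      hT.rf_perp hw0 (by rw [hw, hs.add_right, hf.orth 1 2 (by decide), hf.orth 1 3 (by decide), add_zero])]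
  · rw [hT.rf_self (hf.ne 2), hT.rf_apply hw0, hww, hw, hs.add_right, hs.neg_left, hs.neg_left, o23]
    match_scalars <;> field_simp <;> ring
  · rw [hT.rf_perp (hf.ne 2) o32, hT.rf_apply hw0, hww, hw, hs.add_right, o32, ← hfv]
    match_scalars <;> field_simp <;> ring
  · rw [hR]; exact hT.pair_mem i hw0 (hf.ne 2) (Or.inl ⟨⟨2, by omega⟩, hκ⟩) (hT.rf_iso _) (hT.rf_iso _)
      (hT.rf_apply hw0) (hT.rf_apply (hf.ne 2))

section Isometries

variable (h4 : Fintype.card β = 4) {e : Fin 4 → β → F} {R : GL β F} (ax : Axis h e R)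
include h4 ax

theorem Axis.sq_rot : R * R = rf hT (e 2) * rf hT (e 3) := by
  refine Units.ext (ax.frame.ext_mat hT h4 fun j => ?_)
  rw [hT.dg_pl ax.frame (show (2 : Fin 4) ≠ 3 by decide) j, Units.val_mul, ← Matrix.mulVec_mulVec]
  have hd : ∀ j : Fin 4, j = 0 ∨ j = 1 ∨ j = 2 ∨ j = 3 := by decide
  rcases hd j with rfl | rfl | rfl | rfl <;> simp [sgS, ax.r0, ax.r1, ax.r2, ax.r3, Matrix.mulVec_neg]

theorem Axis.four_rot : R ^ 4 = 1 := by
  have hP : Pl hT (rf hT (e 2) * rf hT (e 3)) :=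
    ⟨e 2, e 3, ax.frame.ne 2, ax.frame.ne 3, ax.frame.orth 2 3 (by decide), rfl⟩
  rw [pow_succ, pow_succ, pow_two, mul_assoc (R * R), ax.sq_rot hT h4, (hT.pl_iso h4 hP).2.1]

/-- The coordinates in the plane. -/
theorem Axis.span {x : W} (h0 : h (e 0) x = 0) (h1 : h (e 1) x = 0) : ∃ α γ : F, x = α • e 2 + γ • e 3 :=
  ⟨h (e 2) x / h (e 2) (e 2), h (e 3) x / h (e 3) (e 3), by
    conv_lhs => rw [ax.frame.expand hT h4 x]
    rw [Fin.sum_univ_four, h0, h1]; simp⟩

/-- The coordinates in the orthogonal plane. -/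
theorem Axis.span' {x : W} (h2 : h (e 2) x = 0) (h3 : h (e 3) x = 0) : ∃ α γ : F, x = α • e 0 + γ • e 1 :=
  ⟨h (e 0) x / h (e 0) (e 0), h (e 1) x / h (e 1) (e 1), by
    conv_lhs => rw [ax.frame.expand hT h4 x]
    rw [Fin.sum_univ_four, h2, h3]; simp⟩

theorem Axis.form (α γ : F) : h (α • e 2 + γ • e 3) (α • e 2 + γ • e 3) = (α * α + γ * γ) * h (e 2) (e 2) := by
  have hs := hT.hh
  simp only [hs.add_left, hs.add_right, hs.smul_left, hs.smul_right, ax.frame.orth 2 3 (by decide),
    ax.frame.orth 3 2 (by decide), ← ax.val]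
  ring

theorem Axis.form' (α γ : F) : h (α • e 0 + γ • e 1) (α • e 0 + γ • e 1) = (α * α - γ * γ) * h (e 0) (e 0) := by
  have hs := hT.hh
  simp only [hs.add_left, hs.add_right, hs.smul_left, hs.smul_right, ax.frame.orth 0 1 (by decide),
    ax.frame.orth 1 0 (by decide), ax.hyp]
  ring

/-- The plane is anisotropic. -/
theorem Axis.aniso {x : W} (h0 : h (e 0) x = 0) (h1 : h (e 1) x = 0) (hx : x ≠ 0) : h x x ≠ 0 := by
  obtain ⟨α, γ, rfl⟩ := ax.span hT h4 h0 h1
  rw [ax.form hT h4]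
  refine mul_ne_zero (fun e0 => hx ?_) (ax.frame.ne 2)
  rcases three_cases ax.card α with rfl | rfl | rfl <;> rcases three_cases ax.card γ with rfl | rfl | rfl <;>
    first
      | (simp; done)
      | (exfalso; exact one_ne_zero (α := F) (by linear_combination e0))
      | (exfalso; exact hT.two (by linear_combination e0))

/-- Isometries of the orthogonal plane are diagonal. -/
theorem Axis.hyp_diag {x : W} (h2 : h (e 2) x = 0) (h3 : h (e 3) x = 0) (hx : h x x = h (e 0) (e 0)) :
    x = e 0 ∨ x = -e 0 := by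
  obtain ⟨α, γ, rfl⟩ := ax.span' hT h4 h2 h3
  rw [ax.form' hT h4] at hx
  have h5 : α * α - γ * γ = 1 := mul_right_cancel₀ (ax.frame.ne 0) (by rw [hx, one_mul])
  rcases three_cases ax.card α with rfl | rfl | rfl <;> rcases three_cases ax.card γ with rfl | rfl | rfl <;>
    first
      | (left; simp; done)
      | (right; simp; done)
      | (exfalso; exact one_ne_zero (α := F) (by linear_combination h5))
      | (exfalso; exact one_ne_zero (α := F) (by linear_combination -h5))
      | (exfalso; exact hT.two (by linear_combination h5))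
      | (exfalso; exact hT.two (by linear_combination -h5))

theorem Axis.hyp_diag' {x : W} (h2 : h (e 2) x = 0) (h3 : h (e 3) x = 0) (hx : h x x = h (e 1) (e 1)) :
    x = e 1 ∨ x = -e 1 := by
  obtain ⟨α, γ, rfl⟩ := ax.span' hT h4 h2 h3
  rw [ax.form' hT h4, ax.hyp] at hx
  have h5 : α * α - γ * γ = -1 := mul_right_cancel₀ (ax.frame.ne 0) (by rw [hx, neg_one_mul])
  rcases three_cases ax.card α with rfl | rfl | rfl <;> rcases three_cases ax.card γ with rfl | rfl | rfl <;>
    first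
      | (left; simp; done)
      | (right; simp; done)
      | (exfalso; exact one_ne_zero (α := F) (by linear_combination h5))
      | (exfalso; exact one_ne_zero (α := F) (by linear_combination -h5))
      | (exfalso; exact hT.two (by linear_combination h5))
      | (exfalso; exact hT.two (by linear_combination -h5))

theorem Axis.pow_fix (n : ℕ) : ((R ^ n : GL β F) : Mb) *ᵥ e 0 = e 0 ∧ ((R ^ n : GL β F) : Mb) *ᵥ e 1 = e 1 := by
  induction n with
  | zero => rw [pow_zero, Units.val_one, Matrix.one_mulVec, Matrix.one_mulVec]; exact ⟨rfl, rfl⟩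
  | succ n ih =>
    rw [pow_succ, Units.val_mul, ← Matrix.mulVec_mulVec, ← Matrix.mulVec_mulVec, ax.r0, ax.r1]
    exact ih

/-- Isometries fixing the orthogonal plane are rotations up to a reflection. -/
theorem Axis.fix_plane {B : GL β F} (hB : B ∈ TensorOrth.iso h) (h0 : (B : Mb) *ᵥ e 0 = e 0)
    (h1 : (B : Mb) *ᵥ e 1 = e 1) : ∃ n : ℕ, B = R ^ n ∨ B = R ^ n * rf hT (e 3) := by
  have hs := hT.hh
  have hperp : ∀ {B : GL β F}, B ∈ TensorOrth.iso h → (B : Mb) *ᵥ e 0 = e 0 → (B : Mb) *ᵥ e 1 = e 1 →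
      ∀ j : Fin 4, (j = 2 ∨ j = 3) → h (e 0) ((B : Mb) *ᵥ e j) = 0 ∧ h (e 1) ((B : Mb) *ᵥ e j) = 0 := by
    intro B hB h0 h1 j hj
    constructor
    · conv_lhs => rw [← h0]
      rw [hB]; exact ax.frame.orth 0 j (by rcases hj with rfl | rfl <;> decide)
    · conv_lhs => rw [← h1]
      rw [hB]; exact ax.frame.orth 1 j (by rcases hj with rfl | rfl <;> decide)
  obtain ⟨α, γ, hαγ⟩ := ax.span hT h4 (hperp hB h0 h1 2 (Or.inl rfl)).1 (hperp hB h0 h1 2 (Or.inl rfl)).2
  have h5 : α * α + γ * γ = 1 := by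
    have h6 := hB (e 2) (e 2)
    rw [hαγ, ax.form hT h4] at h6
    exact mul_right_cancel₀ (ax.frame.ne 2) (by rw [h6, one_mul])
  obtain ⟨n, hn⟩ : ∃ n : ℕ, (B : Mb) *ᵥ e 2 = ((R ^ n : GL β F) : Mb) *ᵥ e 2 := by
    rcases three_cases ax.card α with rfl | rfl | rfl <;> rcases three_cases ax.card γ with rfl | rfl | rfl
    all_goals first
      | (exfalso; exact one_ne_zero (α := F) (by linear_combination h5))
      | (exfalso; exact one_ne_zero (α := F) (by linear_combination -h5))
      | (exfalso; exact hT.two (by linear_combination h5))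
      | skip
    · exact ⟨1, by rw [hαγ, pow_one, ax.r2]; simp⟩
    · exact ⟨3, by rw [hαγ, pow_succ, pow_two]; simp [← Matrix.mulVec_mulVec, ax.r2, ax.r3, Matrix.mulVec_neg]⟩
    · exact ⟨0, by rw [hαγ, pow_zero]; simp⟩
    · exact ⟨2, by rw [hαγ, pow_two]; simp [← Matrix.mulVec_mulVec, ax.r2, ax.r3]⟩
  obtain ⟨B', hB'⟩ : ∃ B', B' = (R ^ n)⁻¹ * B := ⟨_, rfl⟩
  have hB'i : B' ∈ TensorOrth.iso h := hB' ▸ mul_mem (inv_mem (pow_mem ax.isom n)) hB
  have hfix : ∀ j : Fin 4, (j = 0 ∨ j = 1 ∨ j = 2) → (B' : Mb) *ᵥ e j = e j := fun j hj => by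
    have h6 : (B : Mb) *ᵥ e j = ((R ^ n : GL β F) : Mb) *ᵥ e j := by
      rcases hj with rfl | rfl | rfl
      · rw [h0, (ax.pow_fix hT h4 n).1]
      · rw [h1, (ax.pow_fix hT h4 n).2]
      · exact hn
    rw [hB', Units.val_mul, ← Matrix.mulVec_mulVec, h6, Matrix.mulVec_mulVec, ← Units.val_mul, inv_mul_cancel,
      Units.val_one, Matrix.one_mulVec]
  obtain ⟨α', γ', h7⟩ := ax.span hT h4 (hperp hB'i (hfix 0 (Or.inl rfl)) (hfix 1 (Or.inr (Or.inl rfl))) 3 (Or.inr rfl)).1
    (hperp hB'i (hfix 0 (Or.inl rfl)) (hfix 1 (Or.inr (Or.inl rfl))) 3 (Or.inr rfl)).2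
  have hα' : α' = 0 := by
    have h6 := hB'i (e 2) (e 3)
    rw [hfix 2 (Or.inr (Or.inr rfl)), h7, hs.add_right, hs.smul_right, hs.smul_right,
      ax.frame.orth 2 3 (by decide), mul_zero, add_zero] at h6
    exact (mul_eq_zero.1 h6).resolve_right (ax.frame.ne 2)
  rw [hα', zero_smul, zero_add] at h7
  have hγ' : γ' * γ' = 1 := by
    have h6 := hB'i (e 3) (e 3)
    rw [h7, hs.smul_left, hs.smul_right] at h6
    exact mul_right_cancel₀ (ax.frame.ne 3) (by rw [one_mul, mul_assoc, h6])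
  have hd : ∀ j : Fin 4, (j = 0 ∨ j = 1 ∨ j = 2) ∨ j = 3 := by decide
  refine ⟨n, ?_⟩
  have hBe : B = R ^ n * B' := by rw [hB', mul_inv_cancel_left]
  rcases mul_self_eq_one_iff.1 hγ' with rfl | rfl
  · left
    rw [hBe, Dg.unique hT ax.frame h4 (S := ∅) (A := B') (fun j => ?_) (Dg.one e), mul_one]
    rcases hd j with hj | rfl
    · rw [hfix j hj]; simp [sgS]
    · rw [h7]; simp [sgS]
  · right
    rw [hBe, Dg.unique hT ax.frame h4 (S := {3}) (A := B') (fun j => ?_) (Dg.rf hT ax.frame 3)]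
    rcases hd j with hj | rfl
    · rw [hfix j hj]; rcases hj with rfl | rfl | rfl <;> simp [sgS]
    · rw [h7]; simp [sgS]

end Isometries

end Cfsg.Agent.Classical.TensorPowOrth
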