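import Cfsg.Agent.Lib.Classical.TensorPowOrth.FourThreeBase

/-!
Two factors of dimension four over three elements: the determinant of an element commuting with the rotation of an
anisotropic plane, on the tensors of that plane as a space over nine elements.
-/

set_option autoImplicit false
set_option linter.unusedSectionVars false
set_option linter.unusedSimpArgs false
set_option linter.style.haveILetI false

open scoped Kronecker

namespace Cfsg.Agent.Classical.TensorPowOrth

open Matrix Module MaxTv TensorMax TensorPow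
open Cfsg.Agent.Classical.TensorOrth (Sym NdOn iso TSP IsSieg)

variable {F : Type*} [Field F] [Fintype F] {κ β : Type} [Fintype κ] [DecidableEq κ] [Fintype β] [DecidableEq β]
  {c : F} {h : (β → F) → (β → F) → F}

local notation "X" => (κ → β)
local notation "V" => ((κ → β) → F)
local notation "Mn" => Matrix (κ → β) (κ → β) F
local notation "Mb" => Matrix β β F
local notation "W" => (β → F)

/-- The coefficient of `v` at the factor `i`. -/
def prt (h : (β → F) → (β → F) → F) (i : κ) (v : β → F) : ((κ → β) → F) →ₗ[F] (β → F) where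
  toFun q b := ∑ a, ((h v v)⁻¹ * (gram h *ᵥ v) a) * q (Function.update (fun _ => b) i a)
  map_add' q q' := funext fun b => by simp [mul_add, Finset.sum_add_distrib]
  map_smul' x q := funext fun b => by simp [Finset.mul_sum, mul_left_comm]

/-- The part of `g` from the tensors of `v` to those of `u`. -/
def reM (h : (β → F) → (β → F) → F) (i : κ) (v u : β → F) (g : GL (κ → β) F) : Matrix β β F :=
  Matrix.of fun k j => prt h i u ((g : Matrix (κ → β) (κ → β) F) *ᵥ tp2 i v (Pi.single j 1)) k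

variable (hT : TData c h)
include hT

theorem TData.prt_tp2 {i m : κ} (ht : Two i m) (v u r : W) :
    prt h i v (tp2 i u r) = (h u v / h v v) • r := by
  funext b
  show ∑ a, ((h v v)⁻¹ * (gram h *ᵥ v) a) * tp2 i u r (Function.update (fun _ => b) i a) = _
  simp only [ht.tp2_apply, Function.update_self, Function.update_of_ne ht.ne.symm, Pi.smul_apply, smul_eq_mul]
  rw [← apply_gram hT.hh u v, dotProduct, div_eq_mul_inv, Finset.sum_mul, Finset.sum_mul]
  exact Finset.sum_congr rfl fun a _ => by ring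

theorem TData.reM_mulVec {i m : κ} (ht : Two i m) (v u : W) (g : GL X F) (r : W) :
    reM h i v u g *ᵥ r = prt h i u ((g : Mn) *ᵥ tp2 i v r) := by
  let T : W →ₗ[F] V :=
    { toFun := fun r => tp2 i v r
      map_add' := ht.tp2_add_right v
      map_smul' := fun x r => ht.tp2_smul_right x v r }
  have h1 : Matrix.toLin' (reM h i v u g) = (prt h i u).comp ((Matrix.toLin' (g : Mn)).comp T) :=
    (Pi.basisFun F β).ext fun j => by
      rw [Pi.basisFun_apply, Matrix.toLin'_apply, Matrix.mulVec_single_one]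
      rfl
  have h2 := LinearMap.congr_fun h1 r
  rwa [Matrix.toLin'_apply] at h2

section Det

variable (h4 : Fintype.card β = 4) {e : Fin 4 → β → F} {R : GL β F} (ax : Axis h e R) {i m : κ} (ht : Two i m)
include h4 ax ht

/-- Members commuting with the plane keep its tensors. -/
theorem Axis.img {g : GL X F}
    (hs' : g * pe i (rf hT (e 2) * rf hT (e 3)) = pe i (rf hT (e 2) * rf hT (e 3)) * g) (r : W) :
    (g : Mn) *ᵥ tp2 i (e 2) r = tp2 i (e 2) (reM h i (e 2) (e 2) g *ᵥ r) + tp2 i (e 3) (reM h i (e 2) (e 3) g *ᵥ r) := by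
  have he := ax.frame
  have hneg : rf hT (e 0) * rf hT (e 1) = -(rf hT (e 2) * rf hT (e 3)) := by
    refine Dg.unique hT he h4 (hT.dg_pl he (show (0 : Fin 4) ≠ 1 by decide)) ?_
    have h7 := (hT.dg_pl he (show (2 : Fin 4) ≠ 3 by decide)).neg
    rwa [show ({2, 3} : Finset (Fin 4))ᶜ = {0, 1} by decide] at h7
  have hfix : (pe i (rf hT (e 0) * rf hT (e 1)) : Mn) *ᵥ ((g : Mn) *ᵥ tp2 i (e 2) r) = (g : Mn) *ᵥ tp2 i (e 2) r := by
    rw [hneg, pe_neg, Units.val_neg, Matrix.neg_mulVec, Matrix.mulVec_mulVec, ← Units.val_mul, ← hs',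
      Units.val_mul, ← Matrix.mulVec_mulVec, ht.pe_left, hT.dg_pl he (show (2 : Fin 4) ≠ 3 by decide) 2, sgS,
      if_pos (by decide), neg_one_smul, ht.tp2_neg_left, Matrix.mulVec_neg, neg_neg]
  obtain ⟨a, ha, b, hb, hab⟩ := hT.fixed_split h4 i he hfix
  obtain ⟨r1, rfl⟩ := ht.mem_line ha
  obtain ⟨r2, rfl⟩ := ht.mem_line hb
  rw [hT.reM_mulVec ht, hT.reM_mulVec ht, hab, map_add, map_add, hT.prt_tp2 ht, hT.prt_tp2 ht, hT.prt_tp2 ht,
    hT.prt_tp2 ht, he.orth 3 2 (by decide), he.orth 2 3 (by decide), div_self (he.ne 2), div_self (he.ne 3)]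
  simp

/-- The coefficients. -/
theorem Axis.coeff {g : GL X F} {A B : Mb}
    (hg : ∀ r, (g : Mn) *ᵥ tp2 i (e 2) r = tp2 i (e 2) (A *ᵥ r) + tp2 i (e 3) (B *ᵥ r)) :
    reM h i (e 2) (e 2) g = A ∧ reM h i (e 2) (e 3) g = B := by
  have he := ax.frame
  constructor <;> refine Matrix.ext_iff_mulVec.2 fun r => ?_ <;>
    rw [hT.reM_mulVec ht, hg, map_add, hT.prt_tp2 ht, hT.prt_tp2 ht] <;>
    simp [he.orth 3 2 (by decide), he.orth 2 3 (by decide), he.ne 2, he.ne 3]

/-- The product. -/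
theorem Axis.coeff_mul {g g' : GL X F}
    (hgs : g * pe i (rf hT (e 2) * rf hT (e 3)) = pe i (rf hT (e 2) * rf hT (e 3)) * g)
    (hg's : g' * pe i (rf hT (e 2) * rf hT (e 3)) = pe i (rf hT (e 2) * rf hT (e 3)) * g')
    (hgR : g * pe i R = pe i R * g) :
    reM h i (e 2) (e 2) (g * g') = reM h i (e 2) (e 2) g * reM h i (e 2) (e 2) g' -
        reM h i (e 2) (e 3) g * reM h i (e 2) (e 3) g' ∧
      reM h i (e 2) (e 3) (g * g') = reM h i (e 2) (e 3) g * reM h i (e 2) (e 2) g' +
        reM h i (e 2) (e 2) g * reM h i (e 2) (e 3) g' := by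
  have hgR' : ∀ q : V, (g : Mn) *ᵥ ((pe i R : Mn) *ᵥ q) = (pe i R : Mn) *ᵥ ((g : Mn) *ᵥ q) := fun q => by
    rw [Matrix.mulVec_mulVec, ← Units.val_mul, hgR, Units.val_mul, ← Matrix.mulVec_mulVec]
  refine ax.coeff hT h4 ht fun r => ?_
  rw [Units.val_mul, ← Matrix.mulVec_mulVec, ax.img hT h4 ht hg's r, Matrix.mulVec_add, ax.img hT h4 ht hgs,
    show tp2 i (e 3) (reM h i (e 2) (e 3) g' *ᵥ r) = (pe i R : Mn) *ᵥ tp2 i (e 2) (reM h i (e 2) (e 3) g' *ᵥ r) by
      rw [ht.pe_left, ax.r2],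
    hgR', ax.img hT h4 ht hgs,
    Matrix.mulVec_add, ht.pe_left, ht.pe_left, ax.r2, ax.r3, ht.tp2_neg_left]
  simp only [← Matrix.mulVec_mulVec, Matrix.sub_mulVec, Matrix.add_mulVec, ht.tp2_sub_right, ht.tp2_add_right]
  abel

variable {K : Type*} [Field K] [Algebra F K] {I : K} (hI : I * I = -1)

omit h4 ax ht in
/-- The determinant. -/
noncomputable def zdet (I : K) (i : κ) (e : Fin 4 → β → F) (g : GL (κ → β) F) : K :=
  ((reM h i (e 2) (e 2) g).map (algebraMap F K) + I • (reM h i (e 2) (e 3) g).map (algebraMap F K)).det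

include hI

theorem Axis.zdet_mul {g g' : GL X F}
    (hgs : g * pe i (rf hT (e 2) * rf hT (e 3)) = pe i (rf hT (e 2) * rf hT (e 3)) * g)
    (hg's : g' * pe i (rf hT (e 2) * rf hT (e 3)) = pe i (rf hT (e 2) * rf hT (e 3)) * g')
    (hgR : g * pe i R = pe i R * g) :
    zdet (h := h) I i e (g * g') = zdet (h := h) I i e g * zdet (h := h) I i e g' := by
  obtain ⟨e1, e2⟩ := ax.coeff_mul hT h4 ht hgs hg's hgR
  rw [zdet, zdet, zdet, ← Matrix.det_mul, e1, e2]
  congr 1
  rw [Matrix.map_sub _ (map_sub _), Matrix.map_add _ (map_add _), Matrix.map_mul, Matrix.map_mul, Matrix.map_mul,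
    Matrix.map_mul]
  simp only [add_mul, mul_add, Matrix.smul_mul, Matrix.mul_smul, smul_smul, smul_add, hI, neg_one_smul]
  abel

theorem Axis.zdet_pe {A B : GL β F} {α γ : F} (hA : (A : Mb) *ᵥ e 2 = α • e 2 + γ • e 3) :
    zdet (h := h) I i e (pe i A * pe m B) =
      (algebraMap F K α + I * algebraMap F K γ) ^ 4 * algebraMap F K (B : Mb).det := by
  obtain ⟨e1, e2⟩ := ax.coeff hT h4 ht (g := pe i A * pe m B) (A := α • (B : Mb)) (B := γ • (B : Mb)) fun r => by
    rw [Units.val_mul, ← Matrix.mulVec_mulVec, ht.pe_right, ht.pe_left, hA, ht.tp2_add_left, ht.tp2_smul_left,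
      ht.tp2_smul_left, Matrix.smul_mulVec, Matrix.smul_mulVec, ht.tp2_smul_right, ht.tp2_smul_right]
  have hm : ∀ x : F, (x • (B : Mb)).map (algebraMap F K) = algebraMap F K x • (B : Mb).map (algebraMap F K) :=
    fun x => Matrix.ext fun p q => by simp
  rw [zdet, e1, e2, hm, hm, smul_smul, ← add_smul,
    Matrix.det_smul, h4, RingHom.map_det, RingHom.mapMatrix_apply]

theorem Axis.zdet_one : zdet (h := h) I i e (1 : GL X F) = 1 := by
  have h1 := ax.zdet_pe hT h4 ht hI (A := 1) (B := 1) (α := 1) (γ := 0) (by simp)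
  simpa using h1

/-- Elements of order three have determinant one. -/
theorem Axis.zdet_cube {g : GL X F}
    (hgs : g * pe i (rf hT (e 2) * rf hT (e 3)) = pe i (rf hT (e 2) * rf hT (e 3)) * g)
    (hgR : g * pe i R = pe i R * g) (hg3 : g * g * g = 1) : zdet (h := h) I i e g = 1 := by
  have h2 : (g * g) * pe i (rf hT (e 2) * rf hT (e 3)) = pe i (rf hT (e 2) * rf hT (e 3)) * (g * g) := by
    rw [mul_assoc, hgs, ← mul_assoc, hgs, mul_assoc]
  have h2R : (g * g) * pe i R = pe i R * (g * g) := by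
    rw [mul_assoc, hgR, ← mul_assoc, hgR, mul_assoc]
  obtain ⟨d, hd⟩ : ∃ d, d = zdet (h := h) I i e g := ⟨_, rfl⟩
  have h3 : d * d * d = 1 := by
    rw [hd, ← ax.zdet_mul hT h4 ht hI hgs hgs hgR, ← ax.zdet_mul hT h4 ht hI h2 hgs h2R, hg3,
      ax.zdet_one hT h4 ht hI]
  have h30 : (3 : K) = 0 := by
    have h5 := congrArg (algebraMap F K) (three_zero ax.card)
    rwa [map_ofNat, map_zero] at h5
  rw [← hd]
  exact sub_eq_zero.1 ((pow_eq_zero_iff (n := 3) (by norm_num)).1 (by linear_combination h3 + (d - d * d) * h30))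

end Det

end Cfsg.Agent.Classical.TensorPowOrth
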