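import Cfsg.Agent.Lib.Classical.TensorPowOrth.FourTwoFus

/-!
Two factors of dimension four, the centralisers of planes stabilising the decomposition: the centralisers of products
of planes at both factors and of products of two reflections.
-/

set_option autoImplicit false
set_option linter.unusedSectionVars false
set_option linter.unusedSimpArgs false
set_option linter.style.haveILetI false

open scoped Kronecker

namespace Cfsg.Agent.Classical.TensorPowOrth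

open Matrix Module MaxTv TensorMax TensorPow
open Cfsg.Agent.Classical.TensorOrth (Sym NdOn iso TSP IsSieg)

variable {F : Type*} [Field F] [Fintype F] {κ β : Type} [Fintype κ] [DecidableEq κ] [Fintype β] [DecidableEq β]
  {c : F} {h : (β → F) → (β → F) → F}

local notation "X" => (κ → β)
local notation "V" => ((κ → β) → F)
local notation "Mn" => Matrix (κ → β) (κ → β) F
local notation "Mb" => Matrix β β F
local notation "W" => (β → F)

theorem pe_comm_cancel [Nonempty β] {i m : κ} (him : i ≠ m) {T P Q : GL β F}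
    (hc : pe i T * (pe i P * pe m Q) = pe i P * pe m Q * pe i T) : T * P = P * T := by
  rw [← mul_assoc, ← map_mul, mul_assoc, ← pe_comm him T Q, ← mul_assoc, ← map_mul] at hc
  exact pe_injective i (mul_right_cancel hc)

theorem comm_mul2 {G : Type*} [Group G] {a b x : G} (ha : a * x = x * a) (hb : b * x = x * b) :
    a * b * x = x * (a * b) := (Commute.mul_left (show Commute a x from ha) hb).eq

theorem conjSq' {G : Type*} [Group G] (k : G) {x : G} (hx : x * x = 1) : k * x * k⁻¹ * (k * x * k⁻¹) = 1 := by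
  rw [show k * x * k⁻¹ * (k * x * k⁻¹) = k * (x * x) * k⁻¹ by group, hx]; group

set_option synthInstance.maxSize 2000 in
set_option synthInstance.maxHeartbeats 400000 in
theorem sep_card : ∀ S T : Finset (Fin 4), S.card = 2 → T.card = 2 →
    (∀ j l : Fin 4, j ≠ l → ¬ ((j ∈ S ↔ l ∈ S) ∧ (j ∈ T ↔ l ∈ T))) → (symmDiff S T).card = 2 := by decide

variable (hT : TData c h)
include hT

theorem TData.pm_of_smul (h4 : Fintype.card β = 4) {A B : GL β F} (hA : A * A = 1) (hB : B * B = 1) {r : F}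
    (e : (B : Mb) = r • (A : Mb)) : B = A ∨ B = -A := by
  haveI := hT.nontriv h4
  have h1 : (r * r) • (1 : Mb) = (1 : F) • 1 := by
    conv_rhs => rw [one_smul, ← Units.val_one (α := Mb), ← hB, Units.val_mul, e, Matrix.smul_mul, Matrix.mul_smul,
      smul_smul, ← Units.val_mul, hA, Units.val_one]
  rcases mul_self_eq_one_iff.1 (smul_left_injective F (one_ne_zero (α := Mb)) h1) with rfl | rfl
  · exact Or.inl (Units.ext (by rw [e, one_smul]))
  · exact Or.inr (Units.ext (by rw [e, neg_one_smul, Units.val_neg]))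

/-- The parts of an element commuting with a plane at a factor. -/
theorem TData.slot_pl (h4 : Fintype.card β = 4) {i m : κ} (ht : Two i m) {w : GL X F} (hw : w ∈ Wr F κ β)
    (hwi : w ∈ TensorOrth.iso (tf c h)) {P : GL β F} (hP : Pl hT P) (hc : w * pe i P = pe i P * w) :
    ∃ A B μ ν, Sim h μ A ∧ Sim h ν B ∧ w = pe i A * pe m B := by
  haveI := hT.nontriv h4
  obtain ⟨σ, gs, rfl, hσ, -⟩ := slot_fix hw (hT.pl_iso h4 hP).2.2.1 hc
  obtain rfl : σ = 1 := (ht.perm σ).resolve_right fun h5 => ht.ne (hσ.symm.trans h5.1)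
  obtain ⟨μ, hμ⟩ := hT.slot_simil hwi i
  obtain ⟨ν, hν⟩ := hT.slot_simil hwi m
  exact ⟨gs i, gs m, μ, ν, hμ, hν, ht.wgl_eq gs⟩

theorem TData.card_two (h4 : Fintype.card β = 4) {e : Fin 4 → W} (he : F4 h e) {S : Finset (Fin 4)} {U : GL β F}
    (hS : Dg e S U) (htr : (U : Mb).trace = 0) : S.card = 2 := by
  rw [hT.trace_dg h4 he hS] at htr
  have hle : S.card ≤ 4 := (Finset.card_le_univ S).trans (by simp)
  generalize S.card = n at hle htr
  interval_cases n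
  · norm_num at htr; exact absurd htr hT.four_ne
  · norm_num at htr; exact absurd htr hT.two
  · rfl
  · norm_num at htr; exact absurd htr hT.two
  · norm_num at htr; exact absurd htr hT.four_ne

/-- A common frame of two commuting planes. -/
theorem TData.pair_frame (h4 : Fintype.card β = 4) {P T : GL β F} (hP : Pl hT P) (hTp : Pl hT T)
    (hc : P * T = T * P) (h1 : T ≠ P) (h2 : T ≠ -P) :
    ∃ (e : Fin 4 → W) (S S' : Finset (Fin 4)), F4 h e ∧ Dg e S P ∧ Dg e S' T ∧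
      (∀ j l : Fin 4, j ≠ l → ¬ ((j ∈ S ↔ l ∈ S) ∧ (j ∈ S' ↔ l ∈ S'))) ∧ Pl hT (P * T) := by
  classical
  obtain ⟨e, S, S', he, -, hS, hS'⟩ := hT.frame_two h4 (hT.pl_iso h4 hP).1 (hT.pl_iso h4 hP).2.1
    (hT.pl_iso h4 hTp).1 (hT.pl_iso h4 hTp).2.1 hc (n := 0) (by omega) Fin.elim0 (fun a => a.elim0)
    (fun a => a.elim0) (fun a => a.elim0) (fun a => a.elim0)
  have c1 := hT.card_two h4 he hS (hT.pl_iso h4 hP).2.2.2.1
  have c2 := hT.card_two h4 he hS' (hT.pl_iso h4 hTp).2.2.2.1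
  rcases sep_two S S' c1 c2 with e' | e' | hsep
  · exact absurd (Dg.unique hT he h4 hS' (e' ▸ hS)) h1
  · exact absurd (Dg.unique hT he h4 hS' (e' ▸ hS.neg)) h2
  · exact ⟨e, S, S', he, hS, hS', hsep, hT.dg_pl' h4 he (sep_card S S' c1 c2 hsep) (hS.mul hS')⟩

/-- An involution commuting with a product of a reflection and an element at the other factor. -/
theorem TData.split_rf (h4 : Fintype.card β = 4) {i m : κ} (ht : Two i m) {y : GL X F} (hy : y ∈ Wr F κ β)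
    (hyG : y ∈ GT (κ := κ) c h) (hyy : y * y = 1) {v : W} (hv : h v v ≠ 0) {Q : GL β F}
    (hc : y * (pe i (rf hT v) * pe m Q) = pe i (rf hT v) * pe m Q * y) :
    ∃ A B : GL β F, y = pe i A * pe m B ∧ A ∈ TensorOrth.iso h ∧ B ∈ TensorOrth.iso h ∧ A * A = 1 ∧ B * B = 1 :=
  hT.invol_split h4 ht hy hyG hyy fun A B μ ν _ _ e => by
    obtain ⟨l, x, hx, h5⟩ := hT.eig_rf h4 hv (hT.part_rf h4 ht.ne hv (A := A) (B := B) (Q := Q) (by rw [← e]; exact hc))
    exact ⟨l, x, hx, Or.inl h5⟩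

/-- An involution commuting with two separating diagonal elements at one factor. -/
theorem TData.split_pl (h4 : Fintype.card β = 4) {i m : κ} (ht : Two i m) {y : GL X F} (hy : y ∈ Wr F κ β)
    (hyG : y ∈ GT (κ := κ) c h) (hyy : y * y = 1) {P T Q U : GL β F} (hP : Pl hT P) (hTp : Pl hT T)
    (hPT : P * T = T * P) (h1 : T ≠ P) (h2 : T ≠ -P)
    (hc : y * (pe i P * pe m Q) = pe i P * pe m Q * y) (hc' : y * (pe i T * pe m U) = pe i T * pe m U * y) :
    ∃ A B : GL β F, y = pe i A * pe m B ∧ A ∈ TensorOrth.iso h ∧ B ∈ TensorOrth.iso h ∧ A * A = 1 ∧ B * B = 1 := by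
  obtain ⟨e, S, S', he, hS, hS', hsep, -⟩ := hT.pair_frame h4 hP hTp hPT h1 h2
  exact hT.invol_split h4 ht hy hyG hyy fun A B μ ν hA _ e' => by
    obtain ⟨l, x, hx, h5⟩ := hT.eig_diag h4 he (hT.diag_of_comm h4 he hsep hS hS'
      (hT.part_pl h4 ht.ne hA hP (B := B) (Q := Q) (by rw [← e']; exact hc))
      (hT.part_pl h4 ht.ne hA hTp (B := B) (Q := U) (by rw [← e']; exact hc')))
    exact ⟨l, x, hx, Or.inl h5⟩

omit hT
namespace Px

variable {M : Subgroup (GL (κ → β) F)} (hM : Px c h M) (h4 : Fintype.card β = 4)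
  (hCp : ∀ (l : κ) (P : GL β F), Pl hM.data P → Cen M (pe l P))
include hM h4 hCp

/-- The centraliser of two products of planes with separate parts. -/
theorem cent3 {i m : κ} (ht : Two i m) {P T Q U : GL β F} (hP : Pl hM.data P) (hTp : Pl hM.data T)
    (hQ : Pl hM.data Q) (hU : Pl hM.data U) (hPT : P * T = T * P) (h1 : T ≠ P) (h2 : T ≠ -P)
    {g : GL X F} (hg : g ∈ M) (hgD : g * (pe i P * pe m Q) = pe i P * pe m Q * g)
    (hgz : g * (pe i T * pe m U) = pe i T * pe m U * g) : g ∈ Wr F κ β := by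
  classical
  have hT := hM.data
  haveI := hT.nontriv h4
  obtain ⟨D, hD⟩ : ∃ D, D = pe (κ := κ) i P * pe m Q := ⟨_, rfl⟩
  obtain ⟨z, hz⟩ : ∃ z, z = pe (κ := κ) i T * pe m U := ⟨_, rfl⟩
  rw [← hD] at hgD
  rw [← hz] at hgz
  obtain ⟨C, hC⟩ : ∃ C : Subgroup (GL X F), C = M ⊓ Subgroup.centralizer {D} ⊓ Subgroup.centralizer {z} := ⟨_, rfl⟩
  have hmem : ∀ k, k ∈ C ↔ k ∈ M ∧ k * D = D * k ∧ k * z = z * k := fun k => by
    rw [hC, Subgroup.mem_inf, Subgroup.mem_inf, Subgroup.mem_centralizer_singleton_iff,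
      Subgroup.mem_centralizer_singleton_iff]
    tauto
  obtain ⟨-, -, -, -, -, -, -, hPTp⟩ := hT.pair_frame h4 hP hTp hPT h1 h2
  obtain ⟨t, htd⟩ : ∃ t, t = pe (κ := κ) i T := ⟨_, rfl⟩
  obtain ⟨s, hsd⟩ : ∃ s, s = pe (κ := κ) i P := ⟨_, rfl⟩
  have hMp : ∀ {l : κ} {A : GL β F}, Pl hT A → pe l A ∈ M := fun {l A} hA => by
    obtain ⟨v, u, hv, hu, hvu, rfl⟩ := hA
    exact (hM.pl_mem h4 l hv hu hvu).1
  have hcomm : ∀ {A : GL β F}, A * P = P * A → A * T = T * A → pe i A ∈ M → pe i A ∈ C := fun {A} e1 e2 hA => by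
    refine (hmem _).2 ⟨hA, ?_, ?_⟩
    · rw [hD, ← mul_assoc, ← map_mul, e1, map_mul, mul_assoc, pe_comm ht.ne A Q, mul_assoc]
    · rw [hz, ← mul_assoc, ← map_mul, e2, map_mul, mul_assoc, pe_comm ht.ne A U, mul_assoc]
  have htC : t ∈ C := htd ▸ hcomm hPT.symm rfl (hMp hTp)
  have hsC : s ∈ C := hsd ▸ hcomm rfl hPT (hMp hP)
  have hgC : g ∈ C := (hmem g).2 ⟨hg, hgD, hgz⟩
  have htt : t * t = 1 := by rw [htd, ← map_mul, (hT.pl_iso h4 hTp).2.1, map_one]
  have hss : s * s = 1 := by rw [hsd, ← map_mul, (hT.pl_iso h4 hP).2.1, map_one]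
  obtain ⟨b, hb⟩ : ∃ b, b = g * s * g⁻¹ := ⟨_, rfl⟩
  have hbC : b ∈ C := hb ▸ mul_mem (mul_mem hgC hsC) (inv_mem hgC)
  have hbb : b * b = 1 := hb ▸ conjSq' g hss
  -- the parts of an element of `C` keeping the factors
  have hparts : ∀ k ∈ C, k ∈ Wr F κ β → ∀ {σ : Equiv.Perm κ} {gs : κ → GL β F}, k = wgl σ gs →
      (σ = 1 → gs i * P = P * gs i ∧ gs i * T = T * gs i) ∧
      (σ i = m ∧ σ m = i → (∃ r : F, (Q : Mb) = r • ((gs m * P * (gs m)⁻¹ : GL β F) : Mb)) ∧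
        ∃ r : F, (U : Mb) = r • ((gs m * T * (gs m)⁻¹ : GL β F) : Mb)) := by
    intro k hk _ σ gs hke
    obtain ⟨hkM, hkD, hkz⟩ := (hmem k).1 hk
    refine ⟨fun hσ => ?_, fun hσ => ?_⟩
    · subst hσ
      obtain ⟨μ, hμ⟩ := hT.slot_simil (hke ▸ hM.iso_mem hkM) i
      rw [hke, ht.wgl_eq] at hkD hkz
      exact ⟨hT.part_pl h4 ht.ne hμ hP (B := gs m) (Q := Q) (hD ▸ hkD),
        hT.part_pl h4 ht.ne hμ hTp (B := gs m) (Q := U) (hz ▸ hkz)⟩
    · have key : ∀ {A B : GL β F}, k * (pe i A * pe m B) = pe i A * pe m B * k →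
          ∃ r : F, (B : Mb) = r • ((gs m * A * (gs m)⁻¹ : GL β F) : Mb) := fun {A B} hc => by
        have e1 : k * (pe i A * pe m B) * k⁻¹ = pe i A * pe m B := by rw [hc, mul_inv_cancel_right]
        rw [show k * (pe i A * pe m B) * k⁻¹ = k * pe i A * k⁻¹ * (k * pe m B * k⁻¹) by group, hke, conj_pe, conj_pe,
          show σ⁻¹ i = m from (Equiv.Perm.inv_eq_iff_eq.2 hσ.2.symm), show σ⁻¹ m = i from (Equiv.Perm.inv_eq_iff_eq.2 hσ.1.symm),
          ← pe_comm ht.ne] at e1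
        obtain ⟨-, r, -, hr⟩ := pe2_unique ht.ne e1
        exact ⟨r, hr⟩
      exact ⟨key (hD ▸ hkD), key (hz ▸ hkz)⟩
  obtain ⟨w, hwC, hw1, hwt, hwb, hcase⟩ := dih_split htt hbb htC hbC fun k hk ek => by
    have hk' : g⁻¹ * k ∈ C := mul_mem (inv_mem hgC) hk
    have e5 : g⁻¹ * k * pe i T * (g⁻¹ * k)⁻¹ = pe i P := by
      rw [show g⁻¹ * k * pe i T * (g⁻¹ * k)⁻¹ = g⁻¹ * (k * pe i T * k⁻¹) * g by group, ← htd, ek, hb, ← hsd]
      group
    have hkW := hM.fus_pl h4 hCp ((hmem _).1 hk').1 hTp e5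
    obtain ⟨σ, gs, hke⟩ : ∃ σ gs, g⁻¹ * k = wgl σ gs := by obtain ⟨σ, gs, e⟩ := hkW; exact ⟨σ, gs, e⟩
    rw [hke, conj_pe] at e5
    rcases ht.perm σ with hσ | hσ
    · subst hσ
      obtain ⟨-, e2⟩ := (hparts _ hk' hkW hke).1 rfl
      rw [inv_one, Equiv.Perm.coe_one, id_eq, e2, mul_inv_cancel_right] at e5
      exact h1 (pe_injective i e5)
    · rw [show σ⁻¹ i = m from (Equiv.Perm.inv_eq_iff_eq.2 hσ.2.symm)] at e5
      exact ht.ne (pe_eq (hT.pl_iso h4 hP).2.2.1 e5.symm).1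
  obtain ⟨hwM, hwD, hwz⟩ := (hmem w).1 hwC
  have hwW : w ∈ Wr F κ β := hCp i T hTp w hwM (htd ▸ hwt)
  have hyW : t * w ∈ Wr F κ β := mul_mem (htd ▸ TensorPow.pe_mem _ _) hwW
  obtain ⟨htM, htD, htz⟩ := (hmem t).1 htC
  have hyM : t * w ∈ M := mul_mem htM hwM
  have hyy : t * w * (t * w) = 1 := by
    rw [mul_assoc, ← mul_assoc w, hwt, mul_assoc t w w]
    rcases hcase with ⟨k, -, e, -⟩ | ⟨k, -, e, -⟩
    · have := conjSq' k htt
      rw [e, mul_assoc, ← mul_assoc w, hwt, mul_assoc t w w] at this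
      exact this
    · have := conjSq' k hbb
      rw [e, mul_assoc, ← mul_assoc w, hwt, mul_assoc t w w] at this
      exact this
  obtain ⟨A, B, hye, hA, hB, hAA, hBB⟩ := hT.split_pl h4 ht hyW (hM.le hyM) hyy hP hTp hPT h1 h2
    (hD ▸ comm_mul2 htD hwD) (hz ▸ comm_mul2 htz hwz)
  have hbW : b ∈ Wr F κ β := by
    obtain ⟨hbM, hbD, hbz⟩ := (hmem b).1 hbC
    have hfin : ∀ {R : GL β F}, Pl hT R → b * pe i R = pe i R * b → b ∈ Wr F κ β := fun hR hc => hCp i _ hR b hbM hc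
    rcases hcase with ⟨k, hk, e1, e2⟩ | ⟨k, hk, e1, -⟩
    · exfalso
      obtain ⟨hkW, -⟩ := hM.single_back h4 hCp ht (i₀ := i) hTp ((hmem k).1 hk).1 hA hB hAA hBB
        (by rw [← hye, ← e1, htd])
      obtain ⟨σ, gs, hke⟩ : ∃ σ gs, k = wgl σ gs := by obtain ⟨σ, gs, e⟩ := hkW; exact ⟨σ, gs, e⟩
      rw [htd, hke, conj_pe] at e1
      rcases ht.perm σ with hσ | hσ
      · subst hσ
        obtain ⟨-, e3⟩ := (hparts _ hk hkW hke).1 rfl
        rw [inv_one, Equiv.Perm.coe_one, id_eq, e3, mul_inv_cancel_right, left_eq_mul] at e1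
        exact hw1 e1
      · obtain ⟨-, r, hr⟩ := (hparts _ hk hkW hke).2 hσ
        rw [show σ⁻¹ i = m from (Equiv.Perm.inv_eq_iff_eq.2 hσ.2.symm)] at e1
        have hU' : gs m * T * (gs m)⁻¹ = U ∨ gs m * T * (gs m)⁻¹ = -U := by
          rcases hT.pm_of_smul h4 (conjSq' (gs m) (hT.pl_iso h4 hTp).2.1) (hT.pl_iso h4 hU).2.1 hr with e' | e'
          · exact Or.inl e'.symm
          · exact Or.inr (by rw [e', neg_neg])
        obtain ⟨U', hU'p, hwe, hwg⟩ : ∃ U', Pl hT U' ∧ w = pe i T * pe m U' ∧ g * w = w * g := by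
          have hw' : w = pe i T * pe m (gs m * T * (gs m)⁻¹) := by
            rw [e1, ← mul_assoc, ← map_mul, (hT.pl_iso h4 hTp).2.1, map_one, one_mul]
          rcases hU' with e' | e' <;> rw [e'] at hw'
          · exact ⟨U, hU, hw', by rw [hw', ← hz]; exact hgz⟩
          · exact ⟨-U, (hT.pl_iso h4 hU).2.2.2.2, hw', by
              rw [hw', pe_neg, mul_neg, ← hz, mul_neg, neg_mul, hgz]⟩
        refine hM.no_D h4 hCp ht (i₀ := i) hP hPTp hU'p (k := g⁻¹ * k * g)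
          (mul_mem (mul_mem (inv_mem hg) ((hmem k).1 hk).1) hg) ?_
        rw [show g⁻¹ * k * g * pe i P * (g⁻¹ * k * g)⁻¹ = g⁻¹ * (k * (g * pe i P * g⁻¹) * k⁻¹) * g by group, ← hsd,
          ← hb, e2, hb, show g⁻¹ * (g * s * g⁻¹ * w) * g = s * (g⁻¹ * (w * g)) by group, ← hwg, inv_mul_cancel_left,
          hwe, hsd, ← mul_assoc, ← map_mul]
    · obtain ⟨kg, hkg⟩ : ∃ kg, kg = k * g := ⟨_, rfl⟩
      have hkgC : kg ∈ C := hkg ▸ mul_mem hk hgC
      have e3 : kg * pe i P * kg⁻¹ = t * w := by rw [← e1, hb, hkg, hsd]; group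
      obtain ⟨hkW, -⟩ := hM.single_back h4 hCp ht (i₀ := i) hP ((hmem _).1 hkgC).1 hA hB hAA hBB (hye ▸ e3)
      obtain ⟨σ, gs, hke⟩ : ∃ σ gs, kg = wgl σ gs := by obtain ⟨σ, gs, e⟩ := hkW; exact ⟨σ, gs, e⟩
      rw [hke, conj_pe] at e3
      have hwe : ∀ {l : κ} {R : GL β F}, pe l R = t * w → w = pe i T * pe l R := fun {l R} e => by
        rw [e, htd, ← mul_assoc, ← map_mul, (hT.pl_iso h4 hTp).2.1, map_one, one_mul]
      rcases ht.perm σ with hσ | hσ
      · subst hσ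
        obtain ⟨e4, -⟩ := (hparts _ hkgC hkW hke).1 rfl
        rw [inv_one, Equiv.Perm.coe_one, id_eq, e4, mul_inv_cancel_right] at e3
        refine hfin (R := P * T) hPTp ?_
        rw [show pe i (P * T) = w by rw [hwe e3, ← map_mul, hPT]]
        exact hwb.symm
      · obtain ⟨⟨r, hr⟩, -⟩ := (hparts _ hkgC hkW hke).2 hσ
        rw [show σ⁻¹ i = m from (Equiv.Perm.inv_eq_iff_eq.2 hσ.2.symm)] at e3
        have hwD' : w * D = pe i (T * P) * pe m (gs m * P * (gs m)⁻¹ * Q) := by rw [hwe e3, hD, pe2_mul ht.ne]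
        refine hfin (R := P * T) hPTp ?_
        have hbwD : b * (w * D) = w * D * b := by rw [← mul_assoc, ← hwb, mul_assoc, hbD, ← mul_assoc]
        rcases hT.pm_of_smul h4 (conjSq' (gs m) (hT.pl_iso h4 hP).2.1) (hT.pl_iso h4 hQ).2.1 hr with e' | e'
        · rw [hwD', e', conjSq' (gs m) (hT.pl_iso h4 hP).2.1, map_one, mul_one, ← hPT] at hbwD
          exact hbwD
        · rw [hwD', e', mul_neg, conjSq' (gs m) (hT.pl_iso h4 hP).2.1, pe_neg, map_one, mul_neg, mul_one, ← hPT, mul_neg,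
            neg_mul, neg_inj] at hbwD
          exact hbwD
  obtain ⟨hbM, hbD, hbz⟩ := (hmem b).1 hbC
  obtain ⟨A', B', hbe, hA', hB', hAA', hBB'⟩ := hT.split_pl h4 ht hbW (hM.le hbM) hbb hP hTp hPT h1 h2 (hD ▸ hbD)
    (hz ▸ hbz)
  exact (hM.single_back h4 hCp ht (i₀ := i) hP hg hA' hB' hAA' hBB' (by rw [← hbe, hb, hsd])).1

end Px

end Cfsg.Agent.Classical.TensorPowOrth
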