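import Cfsg.Agent.Lib.Classical.TensorPowOrth.FourThreeDet
import Cfsg.Agent.Lib.Classical.TensorPowOrth.FourTwoCent

/-!
Two factors of dimension four over three elements: the members commuting with an anisotropic plane, and their
conjugates of a mixed plane.
-/

set_option autoImplicit false
set_option linter.unusedSectionVars false
set_option linter.unusedSimpArgs false
set_option linter.style.haveILetI false

open scoped Kronecker

namespace Cfsg.Agent.Classical.TensorPowOrth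

open Matrix Module MaxTv TensorMax TensorPow
open Cfsg.Agent.Classical.TensorOrth (Sym NdOn iso TSP IsSieg)

variable {F : Type*} [Field F] [Fintype F] {κ β : Type} [Fintype κ] [DecidableEq κ] [Fintype β] [DecidableEq β]
  {c : F} {h : (β → F) → (β → F) → F}

local notation "X" => (κ → β)
local notation "V" => ((κ → β) → F)
local notation "Mn" => Matrix (κ → β) (κ → β) F
local notation "Mb" => Matrix β β F
local notation "W" => (β → F)

variable (hT : TData c h)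
include hT

section Axes

variable (h4 : Fintype.card β = 4) {e : Fin 4 → β → F} {R : GL β F} (ax : Axis h e R)
include h4 ax

theorem Axis.anti_t : rf hT (e 2) * rf hT (e 0) * R * (rf hT (e 2) * rf hT (e 0)) = R⁻¹ := by
  obtain ⟨T, hT'⟩ : ∃ T, T = rf hT (e 2) * rf hT (e 0) := ⟨_, rfl⟩
  have hD : Dg e {2, 0} T := hT' ▸ hT.dg_pl ax.frame (show (2 : Fin 4) ≠ 0 by decide)
  rw [← hT']
  refine eq_inv_of_mul_eq_one_left (Units.ext (ax.frame.ext_mat hT h4 fun j => ?_))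
  have hd : ∀ j : Fin 4, j = 0 ∨ j = 1 ∨ j = 2 ∨ j = 3 := by decide
  simp only [Units.val_mul, Units.val_one, Matrix.one_mulVec, ← Matrix.mulVec_mulVec]
  rcases hd j with rfl | rfl | rfl | rfl <;>
    simp [sgS, ax.r0, ax.r1, ax.r2, ax.r3, hD 0, hD 1, hD 2, hD 3, Matrix.mulVec_neg, Matrix.mulVec_smul]

theorem Axis.pl : Pl hT (rf hT (e 2) * rf hT (e 3)) :=
  ⟨e 2, e 3, ax.frame.ne 2, ax.frame.ne 3, ax.frame.orth 2 3 (by decide), rfl⟩

theorem Axis.rot_ne : R ≠ R⁻¹ := fun e' => by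
  have h1 : R * R = 1 := by nth_rw 2 [e']; exact mul_inv_cancel R
  rw [ax.sq_rot hT h4] at h1
  exact (ax.pl hT h4 |> hT.pl_iso h4).2.2.1 1 (by rw [h1, Units.val_one, one_smul])

/-- Elements commuting with the plane keep it. -/
theorem Axis.keep {A : GL β F} (hc : A * (rf hT (e 2) * rf hT (e 3)) = rf hT (e 2) * rf hT (e 3) * A)
    {j : Fin 4} (hj : j = 2 ∨ j = 3) : h (e 0) ((A : Mb) *ᵥ e j) = 0 ∧ h (e 1) ((A : Mb) *ᵥ e j) = 0 := by
  have hs := hT.hh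
  have hD := hT.dg_pl ax.frame (show (2 : Fin 4) ≠ 3 by decide)
  have hi := (ax.pl hT h4 |> hT.pl_iso h4).1
  have h1 : ((rf hT (e 2) * rf hT (e 3) : GL β F) : Mb) *ᵥ ((A : Mb) *ᵥ e j) = -((A : Mb) *ᵥ e j) := by
    rw [Matrix.mulVec_mulVec, ← Units.val_mul, ← hc, Units.val_mul, ← Matrix.mulVec_mulVec, hD j, sgS,
      if_pos (by rcases hj with rfl | rfl <;> decide), neg_one_smul, Matrix.mulVec_neg]
  have key : ∀ l : Fin 4, (l = 0 ∨ l = 1) → h (e l) ((A : Mb) *ᵥ e j) = 0 := fun l hl => by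
    have h2 := hi (e l) ((A : Mb) *ᵥ e j)
    rw [h1, hD l, sgS, if_neg (by rcases hl with rfl | rfl <;> decide), one_smul, hs.neg_right] at h2
    exact (mul_eq_zero.1 (show (2 : F) * h (e l) ((A : Mb) *ᵥ e j) = 0 by linear_combination -h2)).resolve_left hT.two
  exact ⟨key 0 (Or.inl rfl), key 1 (Or.inr rfl)⟩

/-- Isometries commuting with the plane and its rotation, of spinor kernel at one factor, are rotations up to sign. -/
theorem Axis.stab {i m : κ} (ht : Two i m) {B : GL β F} (hB : B ∈ TensorOrth.iso h)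
    (hBG : pe i B ∈ GT (κ := κ) c h) (hRG : pe (κ := κ) i R ∈ GT (κ := κ) c h)
    (hcs : B * (rf hT (e 2) * rf hT (e 3)) = rf hT (e 2) * rf hT (e 3) * B) (hcR : B * R = R * B) :
    ∃ n : ℕ, B = R ^ n ∨ B = -R ^ n := by
  have hs := hT.hh
  have he := ax.frame
  have hd23 : ∀ l : Fin 4, (l = 2 ∨ l = 3) → ∀ k : Fin 4, (k = 0 ∨ k = 1) → h (e l) ((B : Mb) *ᵥ e k) = 0 := by
    intro l hl k hk
    have hD := hT.dg_pl he (show (2 : Fin 4) ≠ 3 by decide)
    have h1 : ((rf hT (e 2) * rf hT (e 3) : GL β F) : Mb) *ᵥ ((B : Mb) *ᵥ e k) = (B : Mb) *ᵥ e k := by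
      rw [Matrix.mulVec_mulVec, ← Units.val_mul, ← hcs, Units.val_mul, ← Matrix.mulVec_mulVec, hD k, sgS,
        if_neg (by rcases hk with rfl | rfl <;> decide), one_smul]
    have h2 := (ax.pl hT h4 |> hT.pl_iso h4).1 (e l) ((B : Mb) *ᵥ e k)
    rw [h1, hD l, sgS, if_pos (by rcases hl with rfl | rfl <;> decide), neg_one_smul, hs.neg_left] at h2
    exact (mul_eq_zero.1 (show (2 : F) * h (e l) ((B : Mb) *ᵥ e k) = 0 by linear_combination -h2)).resolve_left hT.two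
  have b0 := ax.hyp_diag hT h4 (hd23 2 (Or.inl rfl) 0 (Or.inl rfl)) (hd23 3 (Or.inr rfl) 0 (Or.inl rfl)) (hB _ _)
  have b1 := ax.hyp_diag' hT h4 (hd23 2 (Or.inl rfl) 1 (Or.inr rfl)) (hd23 3 (Or.inr rfl) 1 (Or.inr rfl)) (hB _ _)
  -- one sign makes both fixed
  obtain ⟨B', hB', hB'G, hB'R, h0', h1', hBB'⟩ : ∃ B' : GL β F, B' ∈ TensorOrth.iso h ∧
      pe i B' ∈ GT (κ := κ) c h ∧ B' * R = R * B' ∧ (B' : Mb) *ᵥ e 0 = e 0 ∧
      ((B' : Mb) *ᵥ e 1 = e 1 ∨ (B' : Mb) *ᵥ e 1 = -e 1) ∧ (B = B' ∨ B = -B') := by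
    rcases b0 with b0 | b0
    · exact ⟨B, hB, hBG, hcR, b0, b1, Or.inl rfl⟩
    · refine ⟨-B, fun x z => ?_, ?_, by rw [neg_mul, hcR, mul_neg], ?_, ?_, Or.inr (neg_neg B).symm⟩
      · rw [Units.val_neg, Matrix.neg_mulVec, Matrix.neg_mulVec, hs.neg_left, hs.neg_right, neg_neg, hB]
      · have h5 := mul_mem (hT.dg_GT h4 ht.card.symm.le i he (S := (∅ : Finset (Fin 4))ᶜ) (by decide)
          (Dg.one e).neg) hBG
        rwa [← map_mul, neg_one_mul] at h5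
      · rw [Units.val_neg, Matrix.neg_mulVec, b0, neg_neg]
      · rw [Units.val_neg, Matrix.neg_mulVec]
        rcases b1 with b1 | b1 <;> rw [b1]
        · exact Or.inr rfl
        · exact Or.inl (neg_neg _)
  have hodd : ∀ {n : ℕ} {D : GL β F} {S : Finset (Fin 4)}, Odd S.card → Dg e S D → pe (κ := κ) i (R ^ n * D) ∈
      GT (κ := κ) c h → False := by
    intro n D S hS hD hG
    have h5 : pe (κ := κ) i D ∈ GT (κ := κ) c h := by
      have h6 := mul_mem (inv_mem (pow_mem hRG n)) hG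
      rwa [map_mul, map_pow, inv_mul_cancel_left] at h6
    have h7 := hT.dg_parity h4 ht he he hD (Dg.one e) (by rwa [map_one, mul_one])
    rw [Finset.card_empty, add_zero] at h7
    exact Nat.not_even_iff_odd.2 hS h7
  rcases h1' with h1' | h1'
  · obtain ⟨n, hn | hn⟩ := ax.fix_plane hT h4 hB' h0' h1'
    · exact ⟨n, hBB'.imp (·.trans hn) fun e' => by rw [e', hn]⟩
    · exact (hodd (by decide) (Dg.rf hT he 3) (hn ▸ hB'G)).elim
  · exfalso
    obtain ⟨B'', hB''⟩ : ∃ B'', B'' = B' * rf hT (e 1) := ⟨_, rfl⟩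
    have hr : rf hT (e 1) * R = R * rf hT (e 1) :=
      (hT.comm_rf_of_eig h4 (sim_one_of_iso ax.isom) (he.ne 1) one_ne_zero (by rw [ax.r1, one_smul])).symm
    obtain ⟨n, hn | hn⟩ := ax.fix_plane hT h4 (B := B'') (hB'' ▸ mul_mem hB' (hT.rf_iso _))
      (by rw [hB'', Units.val_mul, ← Matrix.mulVec_mulVec, hT.rf_perp (he.ne 1) (he.orth 0 1 (by decide)), h0'])
      (by rw [hB'', Units.val_mul, ← Matrix.mulVec_mulVec, hT.rf_self (he.ne 1), Matrix.mulVec_neg, h1', neg_neg])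
    · refine hodd (S := {1}) (n := n) (by decide) (Dg.rf hT he 1) ?_
      rw [← hn, hB'', mul_assoc, hT.rf_sq (he.ne 1), mul_one]
      exact hB'G
    · have h5 : B'' * R = R * B'' := by rw [hB'', mul_assoc, hr, ← mul_assoc, hB'R, mul_assoc]
      rw [hn, mul_assoc, ← mul_assoc R (R ^ n), ← pow_succ', pow_succ, mul_assoc, mul_left_cancel_iff] at h5
      have h6 := congrArg (fun Y : GL β F => (Y : Mb) *ᵥ e 2) h5
      simp only [Units.val_mul, ← Matrix.mulVec_mulVec, ax.r2] at h6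
      rw [hT.rf_self (he.ne 3), hT.rf_perp (he.ne 3) (he.orth 2 3 (by decide)), ax.r2,
        neg_eq_iff_add_eq_zero, ← two_smul F, smul_eq_zero] at h6
      exact he.ne 3 (by rw [h6.resolve_left hT.two, hs.zero_left])

end Axes

omit hT
namespace Px

variable {M : Subgroup (GL (κ → β) F)} (hM : Px c h M) (h4 : Fintype.card β = 4) {e : Fin 4 → β → F} {R : GL β F}
  (ax : Axis h e R) {i m : κ} (ht : Two i m) (hRG : pe (κ := κ) i R ∈ GT (κ := κ) c h)
include hM h4 ax ht hRG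

/-- Members fixing the tensors of the orthogonal plane are rotations. -/
theorem fx_rot {k : GL X F} (hk : k ∈ M) (h0 : k ∈ Fx F i (e 0)) (h1 : k ∈ Fx F i (e 1)) :
    ∃ n : ℕ, k = pe i R ^ n := by
  have hT := hM.data
  have hs := hT.hh
  haveI := hT.nontriv h4
  have he := ax.frame
  obtain ⟨B, hB, hB0, rfl⟩ := hT.fx_Wr (fun e' : e 0 = 0 => he.ne 0 (by rw [e', hs.zero_left]))
    (hM.fx_two h4 (he.ne 0) hk h0) (hM.iso_mem hk) h0
  obtain ⟨j⟩ : Nonempty β := Fintype.card_pos_iff.1 (by omega)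
  have hB1 : (B : Mb) *ᵥ e 1 = e 1 := ht.tp2_left_inj (r := Pi.single j 1) (by simp)
    ((ht.pe_left B _ _).symm.trans (h1 _ (tp2_mem i _ _)))
  obtain ⟨n, hn | hn⟩ := ax.fix_plane hT h4 hB hB0 hB1
  · exact ⟨n, by rw [hn, map_pow]⟩
  · exfalso
    have h5 : pe (κ := κ) i (rf hT (e 3)) ∈ GT (κ := κ) c h := by
      have h6 := mul_mem (inv_mem (pow_mem hRG n)) (hM.le hk)
      rwa [hn, map_mul, map_pow, inv_mul_cancel_left] at h6
    have h7 := hT.dg_parity h4 ht he he (Dg.rf hT he 3) (Dg.one e) (by rwa [map_one, mul_one])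
    simp at h7

/-- Members commuting with the plane normalise its rotation. -/
theorem rot_kind {g : GL X F} (hg : g ∈ M)
    (hgs : g * pe i (rf hM.data (e 2) * rf hM.data (e 3)) = pe i (rf hM.data (e 2) * rf hM.data (e 3)) * g) :
    g * pe i R * g⁻¹ = pe i R ∨ g * pe i R * g⁻¹ = pe i R⁻¹ := by
  have hT := hM.data
  have he := ax.frame
  obtain ⟨π, hπ⟩ : ∃ π : Equiv.Perm (Fin 4), π = Equiv.swap 0 2 * Equiv.swap 1 3 := ⟨_, rfl⟩
  have p0 : π 0 = 2 := by rw [hπ]; decide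
  have p1 : π 1 = 3 := by rw [hπ]; decide
  have p2 : π 2 = 0 := by rw [hπ]; decide
  have p3 : π 3 = 1 := by rw [hπ]; decide
  have hgi : g⁻¹ * pe i (rf hT (e 2) * rf hT (e 3)) = pe i (rf hT (e 2) * rf hT (e 3)) * g⁻¹ :=
    (Commute.inv_left (show Commute g _ from hgs)).eq
  have hfx0 : pe i R ∈ Fx F i (e 0) := fun t ht' => fixed_of_mem_line ax.r0 ht'
  have hfx1 : pe i R ∈ Fx F i (e 1) := fun t ht' => fixed_of_mem_line ax.r1 ht'
  have key : ∀ j : Fin 4, (j = 2 ∨ j = 3) → g * pe i R * g⁻¹ ∈ Fx F i ((e ∘ π) j) := fun j hj => by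
    have h5 := hM.plane_fixes h4 (he.perm π) (g := g⁻¹) (k := pe i R)
      (by simpa [p0, p1] using hgi) (by simpa [p2] using hfx0) (by simpa [p3] using hfx1) hj
    rwa [inv_inv] at h5
  obtain ⟨n, hn⟩ := hM.fx_rot h4 ax ht hRG (mul_mem (mul_mem hg (hM.pe_mem hRG)) (inv_mem hg))
    (by simpa [p2] using key 2 (Or.inl rfl)) (by simpa [p3] using key 3 (Or.inr rfl))
  have h4R : pe (κ := κ) i R ^ 4 = 1 := by rw [← map_pow, ax.four_rot hT h4, map_one]
  have hsq : pe (κ := κ) i R ^ 2 = pe i (rf hT (e 2) * rf hT (e 3)) := by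
    rw [← map_pow, pow_two, ax.sq_rot hT h4]
  rw [← Nat.mod_add_div n 4, pow_add, pow_mul, h4R, one_pow, mul_one] at hn
  have h5 := Nat.mod_lt n (show 4 > 0 by norm_num)
  have hne1 : pe (κ := κ) i R ≠ 1 := fun e' => ax.rot_ne hT h4 (by
    haveI := hT.nontriv h4
    have h6 : R = 1 := pe_injective i (e'.trans (map_one _).symm)
    rw [h6, inv_one])
  interval_cases hr : n % 4
  · exact absurd (by rw [show pe i R = g⁻¹ * (g * pe i R * g⁻¹) * g by group, hn, pow_zero]; group) hne1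
  · exact Or.inl (by rw [hn, pow_one])
  · exfalso
    have h6 : pe i R = pe (κ := κ) i R ^ 2 := by
      conv_lhs => rw [show pe i R = g⁻¹ * (g * pe i R * g⁻¹) * g by group, hn, hsq, hgi, inv_mul_cancel_right]
      rw [hsq]
    rw [pow_two, left_eq_mul] at h6
    exact hne1 h6
  · exact Or.inr (by rw [hn, map_inv]; exact eq_inv_of_mul_eq_one_left (by rw [← pow_succ]; exact h4R))

/-- Conjugates of elements commuting with the rotation. -/
theorem rot_comm {g z : GL X F} (hg : g ∈ M)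
    (hgs : g * pe i (rf hM.data (e 2) * rf hM.data (e 3)) = pe i (rf hM.data (e 2) * rf hM.data (e 3)) * g)
    (hz : z * pe i R = pe i R * z) : g * z * g⁻¹ * pe i R = pe i R * (g * z * g⁻¹) := by
  have key : ∀ w : GL X F, z * w = w * z → g * z * g⁻¹ * (g * w * g⁻¹) = g * w * g⁻¹ * (g * z * g⁻¹) := fun w hw => by
    rw [show g * z * g⁻¹ * (g * w * g⁻¹) = g * (z * w) * g⁻¹ by group, hw]
    group
  rcases hM.rot_kind h4 ax ht hRG hg hgs with e' | e'
  · have h5 := key _ hz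
    rwa [e'] at h5
  · have h5 := key _ hz
    rw [e', map_inv] at h5
    have h6 := (Commute.inv_right (show Commute (g * z * g⁻¹) (pe i R)⁻¹ from h5)).eq
    rwa [inv_inv] at h6

/-- Conjugates of elements inverting the rotation. -/
theorem rot_anti {g z : GL X F} (hg : g ∈ M)
    (hgs : g * pe i (rf hM.data (e 2) * rf hM.data (e 3)) = pe i (rf hM.data (e 2) * rf hM.data (e 3)) * g)
    (hz : z * pe i R * z⁻¹ = pe i R⁻¹) : g * z * g⁻¹ * pe i R * (g * z * g⁻¹)⁻¹ = pe i R⁻¹ := by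
  have hgen : g * z * g⁻¹ * (g * pe i R * g⁻¹) * (g * z * g⁻¹)⁻¹ = (g * pe i R * g⁻¹)⁻¹ := by
    rw [show g * z * g⁻¹ * (g * pe i R * g⁻¹) * (g * z * g⁻¹)⁻¹ = g * (z * pe i R * z⁻¹) * g⁻¹ by group, hz, map_inv]
    group
  rcases hM.rot_kind h4 ax ht hRG hg hgs with e' | e'
  · rwa [e', ← map_inv] at hgen
  · rw [e', map_inv, inv_inv] at hgen
    have h6 := congrArg (·⁻¹) hgen
    simp only [_root_.mul_inv_rev, inv_inv] at h6
    rw [map_inv]
    simpa only [_root_.mul_inv_rev, inv_inv, mul_assoc] using h6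

/-- Members conjugating the mixed plane to an element at the factor stabilise the decomposition. -/
theorem fus3 {g : GL X F} (hg : g ∈ M)
    (hgs : g * pe i (rf hM.data (e 2) * rf hM.data (e 3)) = pe i (rf hM.data (e 2) * rf hM.data (e 3)) * g)
    {U : GL β F} (he' : g * pe i (rf hM.data (e 2) * rf hM.data (e 0)) * g⁻¹ = pe i U) : g ∈ Wr F κ β := by
  have hT := hM.data
  obtain ⟨B, hB, -, -, -⟩ := hT.exists_pure_perp h4 m (ax.frame.ne 2)
  have hxM := (hM.pure_mem h4 hB).1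
  have hcx : ∀ A, pe m B * pe i A = pe i A * pe m B := fun A => pe_comm ht.ne.symm B A
  have h5 : g⁻¹ * pe m B * g ∈ Wr F κ β := by
    refine hM.cent_st h4 (i := i) ax.frame (a := 2) (b := 3) (d := 0) (by decide) (by decide) (by decide)
      (mul_mem (mul_mem (inv_mem hg) hxM) hg) ?_ (comm_conj (Q := pe m B) (by rw [he', hcx]))
    exact (((show Commute g _ from hgs).inv_left.mul_left (hcx _)).mul_left hgs).eq
  have := hM.fus_pure h4 hB (inv_mem hg) (by rwa [inv_inv])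
  simpa using (Wr F κ β).inv_mem this

/-- A member does not conjugate the mixed plane to planes at both factors. -/
theorem no_D3 {g : GL X F} (hg : g ∈ M)
    (hgs : g * pe i (rf hM.data (e 2) * rf hM.data (e 3)) = pe i (rf hM.data (e 2) * rf hM.data (e 3)) * g)
    {T : GL β F} (hTT : T * T = 1) (hTs : T * (rf hM.data (e 2) * rf hM.data (e 3)) = rf hM.data (e 2) * rf hM.data (e 3) * T)
    (hTR : T * R * T⁻¹ = R⁻¹) {f : Fin 4 → β → F} {R' : GL β F} (axf : Axis h f R')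
    (hy : g * pe i (rf hM.data (e 2) * rf hM.data (e 0)) * g⁻¹ =
      pe i T * pe m (-(rf hM.data (f 2) * rf hM.data (f 3)))) : g ∈ Wr F κ β := by
  classical
  have hT := hM.data
  have hs := hT.hh
  haveI := hT.nontriv h4
  have he := ax.frame
  have hf := axf.frame
  have hgiso := hM.iso_mem hg
  obtain ⟨U, hU⟩ : ∃ U, U = -(rf hT (f 2) * rf hT (f 3)) := ⟨_, rfl⟩
  rw [← hU] at hy
  have hDU : Dg f {0, 1} U := by
    have h7 := (hT.dg_pl hf (show (2 : Fin 4) ≠ 3 by decide)).neg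
    rwa [show ({2, 3} : Finset (Fin 4))ᶜ = {0, 1} by decide, ← hU] at h7
  have hUi : U ∈ TensorOrth.iso h := Dg.iso hT hf h4 hDU
  have hUU : ∀ r, (U : Mb) *ᵥ ((U : Mb) *ᵥ r) = r := fun r => by
    rw [Matrix.mulVec_mulVec, ← Units.val_mul, Dg.unique hT hf h4 (hDU.mul hDU) (by simpa using Dg.one f),
      Units.val_one, Matrix.one_mulVec]
  -- the negated vector of `T` in the plane
  have hTinv : T⁻¹ = T := inv_eq_of_mul_eq_one_right hTT
  have hTRv : ∀ x, (T : Mb) *ᵥ ((R : Mb) *ᵥ x) = ((R⁻¹ : GL β F) : Mb) *ᵥ ((T : Mb) *ᵥ x) := fun x => by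
    rw [Matrix.mulVec_mulVec, Matrix.mulVec_mulVec, ← Units.val_mul, ← Units.val_mul, ← hTR, inv_mul_cancel_right]
  have hRi3 : ((R⁻¹ : GL β F) : Mb) *ᵥ e 2 = -e 3 := by
    conv_lhs => rw [show e 2 = (R : Mb) *ᵥ (-e 3) by rw [Matrix.mulVec_neg, ax.r3, neg_neg]]
    rw [Matrix.mulVec_mulVec, ← Units.val_mul, inv_mul_cancel, Units.val_one, Matrix.one_mulVec]
  obtain ⟨a, ha0, ha1, hax, hTa⟩ : ∃ a, h (e 0) a = 0 ∧ h (e 1) a = 0 ∧ a ≠ 0 ∧ (T : Mb) *ᵥ a = -a := by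
    by_cases hz : e 2 - (T : Mb) *ᵥ e 2 = 0
    · refine ⟨e 3, he.orth 0 3 (by decide), he.orth 1 3 (by decide),
        fun e' => he.ne 3 (by rw [e', hs.zero_left]), ?_⟩
      rw [← ax.r2, hTRv, ← sub_eq_zero.1 hz, hRi3]
      rw [ax.r2]
    · refine ⟨_, ?_, ?_, hz, ?_⟩
      · rw [hs.sub_right, he.orth 0 2 (by decide), (ax.keep hT h4 hTs (Or.inl rfl)).1, sub_zero]
      · rw [hs.sub_right, he.orth 1 2 (by decide), (ax.keep hT h4 hTs (Or.inl rfl)).2, sub_zero]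
      · rw [Matrix.mulVec_sub, Matrix.mulVec_mulVec, ← Units.val_mul, hTT, Units.val_one, Matrix.one_mulVec, neg_sub]
  have haa := ax.aniso hT h4 ha0 ha1 hax
  obtain ⟨α, γ, hαγ⟩ := ax.span hT h4 ha0 ha1
  obtain ⟨a', ha'⟩ : ∃ a', a' = (R : Mb) *ᵥ a := ⟨_, rfl⟩
  have ha'e : a' = α • e 3 + (-γ) • e 2 := by
    rw [ha', hαγ, Matrix.mulVec_add, Matrix.mulVec_smul, Matrix.mulVec_smul, ax.r2, ax.r3, smul_neg, neg_smul]
  have ha'a : h a' a' = h a a := by rw [ha', ax.isom]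
  have haa' : h a a' = 0 := by
    rw [ha'e, hαγ]
    simp only [hs.add_left, hs.add_right, hs.smul_left, hs.smul_right, he.orth 2 3 (by decide),
      he.orth 3 2 (by decide), ← ax.val]
    ring
  have hRa' : (R : Mb) *ᵥ a' = -a := by
    rw [ha'e, hαγ, Matrix.mulVec_add, Matrix.mulVec_smul, Matrix.mulVec_smul, ax.r2, ax.r3]
    match_scalars <;> ring
  have hTa' : (T : Mb) *ᵥ a' = a' := by
    have h5 : ((R⁻¹ : GL β F) : Mb) *ᵥ a = -a' := by
      conv_lhs => rw [show a = (R : Mb) *ᵥ (-a') by rw [Matrix.mulVec_neg, hRa', neg_neg]]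
      rw [Matrix.mulVec_mulVec, ← Units.val_mul, inv_mul_cancel, Units.val_one, Matrix.one_mulVec]
    rw [ha', hTRv, hTa, Matrix.mulVec_neg, h5, neg_neg]
    exact ha'
  have ha'0 : h (e 0) a' = 0 := by rw [ha', ← ax.r0, ax.isom, ha0]
  have ha'1 : h (e 1) a' = 0 := by rw [ha', ← ax.r1, ax.isom, ha1]
  have hea : F4 h ![e 0, e 1, a, a'] := ⟨fun p q hpq => by
      fin_cases p <;> fin_cases q <;>
        first
          | exact absurd rfl hpq
          | simp [he.orth 0 1 (by decide), he.orth 1 0 (by decide), ha0, ha1, ha'0, ha'1, haa', hs.symm a (e 0),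
              hs.symm a (e 1), hs.symm a' (e 0), hs.symm a' (e 1), hs.symm a' a],
    fun p => by fin_cases p <;> simp [he.ne, haa, ha'a]⟩
  have hneg01 : rf hT (e 0) * rf hT (e 1) = -(rf hT (e 2) * rf hT (e 3)) := by
    refine Dg.unique hT he h4 (hT.dg_pl he (show (0 : Fin 4) ≠ 1 by decide)) ?_
    have h7 := (hT.dg_pl he (show (2 : Fin 4) ≠ 3 by decide)).neg
    rwa [show ({2, 3} : Finset (Fin 4))ᶜ = {0, 1} by decide] at h7
  -- the twisted form
  obtain ⟨pF, hpF⟩ : ∃ pF : W → W, ∀ r, pF r = (2 : F)⁻¹ • (r + (U : Mb) *ᵥ r) := ⟨_, fun _ => rfl⟩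
  obtain ⟨pN, hpN⟩ : ∃ pN : W → W, ∀ r, pN r = (2 : F)⁻¹ • (r - (U : Mb) *ᵥ r) := ⟨_, fun _ => rfl⟩
  obtain ⟨G, hG⟩ : ∃ G : W → V, ∀ r, G r = tp2 i a (pF r) + tp2 i a' (pN r) := ⟨_, fun _ => rfl⟩
  have h2 := hT.two
  have hsum : ∀ r, pF r + pN r = r := fun r => by
    rw [hpF, hpN]; match_scalars <;> field_simp <;> ring
  have hUF : ∀ r, (U : Mb) *ᵥ pF r = pF r := fun r => by
    rw [hpF, Matrix.mulVec_smul, Matrix.mulVec_add, hUU, add_comm]
  have hUN : ∀ r, (U : Mb) *ᵥ pN r = -pN r := fun r => by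
    rw [hpN, Matrix.mulVec_smul, Matrix.mulVec_sub, hUU, ← smul_neg, neg_sub]
  have hFN : ∀ r r', h (pF r) (pN r') = 0 := fun r r' => by
    have h5 := hUi (pF r) (pN r')
    rw [hUF, hUN, hs.neg_right] at h5
    exact (mul_eq_zero.1 (show (2 : F) * h (pF r) (pN r') = 0 by linear_combination -h5)).resolve_left h2
  have hform : ∀ r r', tf c h (G r) (G r') = c * (h a a * h r r') := fun r r' => by
    have hV := hT.sym (κ := κ)
    conv_rhs => rw [← hsum r, ← hsum r']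
    simp only [hG, hV.add_left, hV.add_right, ht.tf_tp2 hT, hs.add_left, hs.add_right, haa', hs.symm a' a, ha'a,
      hFN, hs.symm (pN r) (pF r')]
    ring
  have hGinv : ∀ r, (pe i T * pe m U : GL X F).val *ᵥ G r = -G r := fun r => by
    rw [hG, Units.val_mul, ← Matrix.mulVec_mulVec, Matrix.mulVec_add, ht.pe_right, ht.pe_right, Matrix.mulVec_add,
      ht.pe_left, ht.pe_left, hTa, hTa', hUF, hUN, ht.tp2_neg_left, ht.tp2_neg_right]
    abel
  have hGs : ∀ r, (pe i (rf hT (e 2) * rf hT (e 3)) : Mn) *ᵥ G r = -G r := fun r => by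
    have hsv : ∀ x, h (e 0) x = 0 → h (e 1) x = 0 →
        ((rf hT (e 2) * rf hT (e 3) : GL β F) : Mb) *ᵥ x = -x := fun x h0 h1 => by
      obtain ⟨α', γ', rfl⟩ := ax.span hT h4 h0 h1
      rw [Matrix.mulVec_add, Matrix.mulVec_smul, Matrix.mulVec_smul, hT.dg_pl he (show (2 : Fin 4) ≠ 3 by decide) 2,
        hT.dg_pl he (show (2 : Fin 4) ≠ 3 by decide) 3, sgS, sgS, if_pos (by decide), if_pos (by decide)]
      match_scalars <;> ring
    rw [hG, Matrix.mulVec_add, ht.pe_left, ht.pe_left, hsv a ha0 ha1, hsv a' ha'0 ha'1, ht.tp2_neg_left,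
      ht.tp2_neg_left, neg_add]
  -- each twisted tensor is an image
  have hpre : ∀ r, ∃ w : W, (g : Mn) *ᵥ tp2 i (e 2) w = G r := fun r => by
    obtain ⟨q, hq⟩ : ∃ q, q = ((g⁻¹ : GL X F) : Mn) *ᵥ G r := ⟨_, rfl⟩
    have hgi : g⁻¹ * pe i (rf hT (e 2) * rf hT (e 3)) = pe i (rf hT (e 2) * rf hT (e 3)) * g⁻¹ :=
      (Commute.inv_left (show Commute g _ from hgs)).eq
    have hfix : (pe i (rf hT (e 0) * rf hT (e 1)) : Mn) *ᵥ q = q := by
      rw [hneg01, pe_neg, Units.val_neg, Matrix.neg_mulVec, hq, Matrix.mulVec_mulVec, ← Units.val_mul, ← hgi,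
        Units.val_mul, ← Matrix.mulVec_mulVec, hGs, Matrix.mulVec_neg, neg_neg]
    obtain ⟨u, hu, v, hv, huv⟩ := hT.fixed_split h4 i he hfix
    obtain ⟨w, rfl⟩ := ht.mem_line hu
    obtain ⟨w', rfl⟩ := ht.mem_line hv
    have htq : (pe i (rf hT (e 2) * rf hT (e 0)) : Mn) *ᵥ q = -q := by
      rw [show pe i (rf hT (e 2) * rf hT (e 0)) = g⁻¹ * (pe i T * pe m U) * g by rw [← hy]; group, hq,
        Matrix.mulVec_mulVec, ← Units.val_mul, mul_inv_cancel_right, Units.val_mul, ← Matrix.mulVec_mulVec, hGinv,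
        Matrix.mulVec_neg]
    rw [huv, Matrix.mulVec_add, ht.pe_left, ht.pe_left, hT.dg_pl he (show (2 : Fin 4) ≠ 0 by decide) 2,
      hT.dg_pl he (show (2 : Fin 4) ≠ 0 by decide) 3, sgS, sgS, if_pos (by decide), if_neg (by decide), one_smul,
      neg_one_smul, ht.tp2_neg_left, neg_add, add_right_inj, eq_neg_iff_add_eq_zero, ← two_smul F, smul_eq_zero] at htq
    refine ⟨w, ?_⟩
    rw [htq.resolve_left h2, add_zero] at huv
    rw [← huv, hq, Matrix.mulVec_mulVec, ← Units.val_mul, mul_inv_cancel, Units.val_one, Matrix.one_mulVec]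
  choose ψ hψ using hpre
  obtain ⟨μ, hμ⟩ : ∃ μ, μ = h a a / h (e 2) (e 2) := ⟨_, rfl⟩
  have hμ0 : μ ≠ 0 := hμ ▸ div_ne_zero haa (he.ne 2)
  have hψh : ∀ r r', h (ψ r) (ψ r') = μ * h r r' := fun r r' => by
    have h5 := hgiso (tp2 i (e 2) (ψ r)) (tp2 i (e 2) (ψ r'))
    rw [hψ, hψ, hform, ht.tf_tp2 hT] at h5
    rw [hμ, div_mul_eq_mul_div, eq_div_iff (he.ne 2)]
    linear_combination -(mul_left_cancel₀ hT.hc h5)
  -- the Siegel elements
  obtain ⟨z₁, hz₁⟩ : ∃ z₁, z₁ = f 0 + f 1 := ⟨_, rfl⟩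
  have o01 := hf.orth 0 1 (by decide)
  have o10 := hf.orth 1 0 (by decide)
  have hzz : h z₁ z₁ = 0 := by
    simp only [hz₁, hs.add_left, hs.add_right, o01, o10, axf.hyp]; ring
  have hwz : ∀ j : Fin 4, (j = 2 ∨ j = 3) → h (f j) z₁ = 0 := fun j hj => by
    rw [hz₁, hs.add_right, hf.orth j 0 (by rcases hj with rfl | rfl <;> decide),
      hf.orth j 1 (by rcases hj with rfl | rfl <;> decide), add_zero]
  have hUz : (U : Mb) *ᵥ z₁ = -z₁ := by
    rw [hz₁, Matrix.mulVec_add, hDU 0, hDU 1, sgS, sgS, if_pos (by decide), if_pos (by decide), neg_one_smul,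
      neg_one_smul, neg_add]
  have hUw : (U : Mb) *ᵥ f 2 = f 2 := by rw [hDU 2, sgS, if_neg (by decide), one_smul]
  have hpz : pF z₁ = 0 ∧ pN z₁ = z₁ := by
    rw [hpF, hpN, hUz, add_neg_cancel, smul_zero, sub_neg_eq_add, ← two_smul F, smul_smul, inv_mul_cancel₀ h2,
      one_smul]
    exact ⟨rfl, rfl⟩
  have hpw : pF (f 2) = f 2 ∧ pN (f 2) = 0 := by
    rw [hpF, hpN, hUw, sub_self, smul_zero, ← two_smul F, smul_smul, inv_mul_cancel₀ h2, one_smul]
    exact ⟨rfl, rfl⟩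
  have hz10 : z₁ ≠ 0 := fun e' => hf.ne 0 (by
    have h5 := congrArg (fun x => h x (f 0)) e'
    simpa [hz₁, hs.add_left, hs.zero_left, o10] using h5)
  have hGz : G z₁ = tp2 i a' z₁ := by rw [hG, hpz.1, hpz.2, ht.tp2_zero_right, zero_add]
  have hGw : G (f 2) = tp2 i a (f 2) := by rw [hG, hpw.1, hpw.2, ht.tp2_zero_right, add_zero]
  obtain ⟨w, hw⟩ : ∃ w, w = μ⁻¹ • ψ (f 2) := ⟨_, rfl⟩
  have hψz0 : ψ z₁ ≠ 0 := fun e' => hz10 (by
    have h5 := hψ z₁
    rw [e', ht.tp2_zero_right, Matrix.mulVec_zero, hGz] at h5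
    exact ht.tp2_right_inj (a := a') (fun e0 => haa (by rw [← ha'a, e0, hs.zero_left]))
      (by rw [ht.tp2_zero_right, ← h5]))
  have hzzψ : h (ψ z₁) (ψ z₁) = 0 := by rw [hψh, hzz, mul_zero]
  have hwzψ : h w (ψ z₁) = 0 := by rw [hw, hs.smul_left, hψh, hwz 2 (Or.inl rfl), mul_zero, mul_zero]
  have hww : h w w = μ⁻¹ * h (f 2) (f 2) := by
    rw [hw, hs.smul_left, hs.smul_right, hψh, inv_mul_cancel_left₀ hμ0]
  obtain ⟨B, hBi, hB⟩ := hs.exists_sieg h2 hzzψ hwzψ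
  have hxP : Pure h m (pe m B) :=
    ⟨B, _, w, hBi, hzzψ, hψz0, hwzψ, by rw [hww]; exact mul_ne_zero (inv_ne_zero hμ0) (hf.ne 2), hB, rfl⟩
  obtain ⟨hxM, -⟩ := hM.pure_mem h4 hxP
  obtain ⟨y, hy'⟩ : ∃ y, y = g * pe m B * g⁻¹ := ⟨_, rfl⟩
  have hyM : y ∈ M := hy' ▸ mul_mem (mul_mem hg hxM) (inv_mem hg)
  have hyR : y * pe i R = pe i R * y := hy' ▸ hM.rot_comm h4 ax ht hRG hg hgs (pe_comm ht.ne.symm B R)
  have hys : y * pe i (rf hT (e 2) * rf hT (e 3)) = pe i (rf hT (e 2) * rf hT (e 3)) * y := by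
    rw [← ax.sq_rot hT h4, map_mul, ← mul_assoc, hyR, mul_assoc, hyR, mul_assoc]
  have hyRv : ∀ q : V, (y : Mn) *ᵥ ((pe i R : Mn) *ᵥ q) = (pe i R : Mn) *ᵥ ((y : Mn) *ᵥ q) := fun q => by
    rw [Matrix.mulVec_mulVec, ← Units.val_mul, hyR, Units.val_mul, ← Matrix.mulVec_mulVec]
  -- the image on the twisted tensors
  have hyG : ∀ r, (y : Mn) *ᵥ G r = G r + h r z₁ • G (f 2) - h r (f 2) • G z₁ -
      (h (f 2) (f 2) / 2 * h r z₁) • G z₁ := fun r => by
    have h5 : (B : Mb) *ᵥ ψ r = ψ r + h r z₁ • ψ (f 2) - h r (f 2) • ψ z₁ -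
        (h (f 2) (f 2) / 2 * h r z₁) • ψ z₁ := by
      rw [hB, hψh, hww, hw, hs.smul_right, hψh]
      match_scalars <;> field_simp
    conv_lhs => rw [← hψ r]
    rw [hy', Units.val_mul, Units.val_mul, ← Matrix.mulVec_mulVec, ← Matrix.mulVec_mulVec, inv_mulVec_cancel,
      ht.pe_right, h5, ht.tp2_sub_right, ht.tp2_sub_right, ht.tp2_add_right, ht.tp2_smul_right, ht.tp2_smul_right,
      ht.tp2_smul_right, Matrix.mulVec_sub, Matrix.mulVec_sub, Matrix.mulVec_add, Matrix.mulVec_smul,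
      Matrix.mulVec_smul, Matrix.mulVec_smul, hψ, hψ, hψ]
  have hhz : ∀ r, h (pF r) z₁ = 0 ∧ h (pN r) z₁ = h r z₁ ∧ h (pF r) (f 2) = h r (f 2) ∧ h (pN r) (f 2) = 0 :=
    fun r => by
      have k1 : h (pF r) z₁ = 0 := by rw [← hpz.2]; exact hFN _ _
      have k2 : h (pN r) (f 2) = 0 := by rw [← hpw.1, hs.symm]; exact hFN _ _
      refine ⟨k1, ?_, ?_, k2⟩
      · conv_rhs => rw [← hsum r, hs.add_left, k1, zero_add]
      · conv_rhs => rw [← hsum r, hs.add_left, k2, add_zero]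
  obtain ⟨κ₁, hκ₁⟩ : ∃ κ₁, κ₁ = h (f 2) (f 2) / 2 := ⟨_, rfl⟩
  have hpp : ∀ r, pF (pF r) = pF r ∧ pN (pF r) = 0 ∧ pF (pN r) = 0 ∧ pN (pN r) = pN r := fun r => by
    have e1 : ∀ x, (U : Mb) *ᵥ x = x → pF x = x ∧ pN x = 0 := fun x hx => by
      rw [hpF, hpN, hx, sub_self, smul_zero, ← two_smul F, smul_smul, inv_mul_cancel₀ h2, one_smul]
      exact ⟨rfl, rfl⟩
    have e2 : ∀ x, (U : Mb) *ᵥ x = -x → pF x = 0 ∧ pN x = x := fun x hx => by
      rw [hpF, hpN, hx, add_neg_cancel, smul_zero, sub_neg_eq_add, ← two_smul F, smul_smul, inv_mul_cancel₀ h2,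
        one_smul]
      exact ⟨rfl, rfl⟩
    exact ⟨(e1 _ (hUF r)).1, (e1 _ (hUF r)).2, (e2 _ (hUN r)).1, (e2 _ (hUN r)).2⟩
  have hya : ∀ r, (y : Mn) *ᵥ tp2 i a r = tp2 i a (r - (κ₁ * h r z₁) • z₁) -
      tp2 i a' (h r z₁ • f 2 + h r (f 2) • z₁) := fun r => by
    have hGF : tp2 i a (pF r) = G (pF r) := by
      rw [hG, (hpp r).1, (hpp r).2.1, ht.tp2_zero_right, add_zero]
    have hGN : tp2 i a' (pN r) = G (pN r) := by
      rw [hG, (hpp r).2.2.1, (hpp r).2.2.2, ht.tp2_zero_right, zero_add]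
    have hN : tp2 i a (pN r) = -((pe i R : Mn) *ᵥ tp2 i a' (pN r)) := by
      rw [ht.pe_left, hRa', ht.tp2_neg_left, neg_neg]
    conv_lhs => rw [← hsum r, ht.tp2_add_right, hN, Matrix.mulVec_add, Matrix.mulVec_neg, hyRv, hGF, hGN, hyG, hyG]
    simp only [(hhz r).1, (hhz r).2.1, (hhz r).2.2.1, (hhz r).2.2.2, mul_zero, zero_smul, add_zero, sub_zero,
      ← hκ₁, hGz, hGw, ← hGN, ← hGF, Matrix.mulVec_add, Matrix.mulVec_sub, Matrix.mulVec_smul, ht.pe_left, ← ha',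
      hRa', ht.tp2_neg_left]
    conv_rhs => rw [← hsum r]
    simp only [hsum r, ht.tp2_add_right, ht.tp2_sub_right, ht.tp2_smul_right]
    conv_rhs => rw [← hsum r, ht.tp2_add_right]
    simp only [hsum r]
    match_scalars <;> ring
  -- a commuting Siegel element at the other factor
  obtain ⟨B', hB'i, hB'⟩ := hs.exists_sieg h2 hzz (hwz 3 (Or.inr rfl))
  have hxP' : Pure h m (pe m B') :=
    ⟨B', z₁, f 3, hB'i, hzz, hz10, hwz 3 (Or.inr rfl), hf.ne 3, hB', rfl⟩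
  obtain ⟨hx'M, -⟩ := hM.pure_mem h4 hxP'
  have hB'z : (B' : Mb) *ᵥ z₁ = z₁ := by
    rw [hB', hzz, hs.symm z₁ (f 3), hwz 3 (Or.inr rfl)]; simp
  have hB'w : (B' : Mb) *ᵥ f 2 = f 2 := by
    rw [hB', hwz 2 (Or.inl rfl), hf.orth 2 3 (by decide)]; simp
  have hB'R : ∀ q : V, (pe m B' : Mn) *ᵥ ((pe i R : Mn) *ᵥ q) = (pe i R : Mn) *ᵥ ((pe m B' : Mn) *ᵥ q) := fun q => by
    rw [Matrix.mulVec_mulVec, ← Units.val_mul, pe_comm ht.ne.symm B' R, Units.val_mul, ← Matrix.mulVec_mulVec]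
  have hcomm : ∀ r, ((y * pe m B' : GL X F) : Mn) *ᵥ tp2 i a r = ((pe m B' * y : GL X F) : Mn) *ᵥ tp2 i a r :=
    fun r => by
      have k1 : h ((B' : Mb) *ᵥ r) z₁ = h r z₁ := by conv_lhs => rw [← hB'z, hB'i]
      have k2 : h ((B' : Mb) *ᵥ r) (f 2) = h r (f 2) := by conv_lhs => rw [← hB'w, hB'i]
      rw [Units.val_mul, Units.val_mul, ← Matrix.mulVec_mulVec, ← Matrix.mulVec_mulVec, ht.pe_right, hya, hya, k1, k2,
        Matrix.mulVec_sub, ht.pe_right, ht.pe_right]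
      simp only [Matrix.mulVec_sub, Matrix.mulVec_add, Matrix.mulVec_smul, hB'z, hB'w]
  obtain ⟨z, hz⟩ : ∃ z, z = (pe m B' * y)⁻¹ * (y * pe m B') := ⟨_, rfl⟩
  have hzfx : ∀ r, (z : Mn) *ᵥ tp2 i a r = tp2 i a r := fun r => by
    rw [hz, Units.val_mul, ← Matrix.mulVec_mulVec, hcomm, inv_mulVec_cancel]
  have hza : z ∈ Fx F i a := fun q hq => by
    obtain ⟨r, rfl⟩ := ht.mem_line hq
    exact hzfx r
  have hzR : z * pe i R = pe i R * z := by
    rw [hz]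
    have hc' : Commute (pe m B') (pe i R) := pe_comm ht.ne.symm B' R
    have hyc : Commute y (pe i R) := hyR
    exact (((hc'.mul_left hyc).inv_left).mul_left (hyc.mul_left hc')).eq
  obtain ⟨B₀, hB₀, hB₀a, hzB⟩ := hT.fx_Wr hax
    (hM.fx_two h4 haa (hz ▸ mul_mem (inv_mem (mul_mem hx'M hyM)) (mul_mem hyM hx'M)) hza)
    (hM.iso_mem (hz ▸ mul_mem (inv_mem (mul_mem hx'M hyM)) (mul_mem hyM hx'M))) hza
  have hB₀R : B₀ * R = R * B₀ := pe_injective i (by rw [map_mul, map_mul, ← hzB, hzR])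
  have hB₀a' : (B₀ : Mb) *ᵥ a' = a' := by
    rw [ha', Matrix.mulVec_mulVec, ← Units.val_mul, hB₀R, Units.val_mul, ← Matrix.mulVec_mulVec, hB₀a]
  have hB₀3 : B₀ * B₀ * B₀ = 1 := by
    haveI : Fact (Nat.Prime 3) := ⟨Nat.prime_three⟩
    haveI : CharP F 3 :=
      ringChar.of_eq (CharP.ringChar_of_prime_eq_zero Nat.prime_three (by exact_mod_cast three_zero ax.card))
    have hx3 : pe m B' ^ 3 = (1 : GL X F) := hT.pure_pow (p := 3) hxP'
    have hzx : z * (pe m B')⁻¹ = (pe m B')⁻¹ * z := by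
      rw [hzB, ← map_inv, pe_comm ht.ne]
    have h5 : y⁻¹ * (pe m B')⁻¹ * y = z * (pe m B')⁻¹ := by rw [hz]; group
    have h6 : (z * (pe m B')⁻¹) ^ 3 = 1 := by
      rw [← h5, show y⁻¹ * (pe m B')⁻¹ * y = y⁻¹ * (pe m B')⁻¹ * y⁻¹⁻¹ by rw [inv_inv], conj_pow, inv_pow, hx3]
      group
    rw [(show Commute z (pe m B')⁻¹ from hzx).mul_pow, inv_pow, hx3, inv_one, mul_one, hzB, ← map_pow, ← map_one
      (pe (F := F) (κ := κ) (β := β) i)] at h6
    have h7 := pe_injective i h6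
    rwa [pow_succ, pow_two] at h7
  have hfix0 : ∀ j : Fin 4, (j = 0 ∨ j = 1) → (B₀ : Mb) *ᵥ e j = e j := fun j hj => by
    have hpa : h a (e j) = 0 ∧ h a' (e j) = 0 := by
      rcases hj with rfl | rfl <;> exact ⟨by rw [hs.symm]; assumption, by rw [hs.symm]; assumption⟩
    have hperp : ∀ l : Fin 4, (l = 2 ∨ l = 3) → h (e l) ((B₀ : Mb) *ᵥ e j) = 0 := fun l hl => by
      obtain ⟨p, q, hpq⟩ : ∃ p q : F, e l = p • a + q • a' := by
        refine ⟨h a (e l) / h a a, h a' (e l) / h a' a', ?_⟩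
        conv_lhs => rw [hea.expand hT h4 (e l)]
        rw [Fin.sum_univ_four]
        simp [he.orth 0 l (by rcases hl with rfl | rfl <;> decide), he.orth 1 l (by rcases hl with rfl | rfl <;> decide)]
      rw [hpq, hs.add_left, hs.smul_left, hs.smul_left, ← hB₀a, ← hB₀a', hB₀, hB₀, hpa.1, hpa.2]
      ring
    have hcube : (B₀ : Mb) *ᵥ ((B₀ : Mb) *ᵥ ((B₀ : Mb) *ᵥ e j)) = e j := by
      rw [Matrix.mulVec_mulVec, Matrix.mulVec_mulVec, ← Units.val_mul, ← Units.val_mul, hB₀3, Units.val_one,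
        Matrix.one_mulVec]
    have h6 : (B₀ : Mb) *ᵥ e j = e j ∨ (B₀ : Mb) *ᵥ e j = -e j := by
      rcases hj with rfl | rfl
      · exact ax.hyp_diag hT h4 (hperp 2 (Or.inl rfl)) (hperp 3 (Or.inr rfl)) (hB₀ _ _)
      · exact ax.hyp_diag' hT h4 (hperp 2 (Or.inl rfl)) (hperp 3 (Or.inr rfl)) (hB₀ _ _)
    rcases h6 with h6 | h6
    · exact h6
    · rw [h6, Matrix.mulVec_neg, h6, neg_neg, h6] at hcube
      rw [h6, hcube]
  have hB₀1 : B₀ = 1 := Dg.unique hT hea h4 (S := ∅) (fun j => by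
    fin_cases j <;> simp [sgS, hfix0, hB₀a, hB₀a']) (Dg.one _)
  have hyx : y * pe m B' = pe m B' * y := by
    rw [hB₀1, map_one, hz, inv_mul_eq_one] at hzB
    exact hzB.symm
  exact hM.fus_pure h4 hxP hg (hy' ▸ hM.cent_pure h4 hxP' hyM hyx)

end Px

end Cfsg.Agent.Classical.TensorPowOrth
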