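import Cfsg.Agent.Lib.Classical.TensorPowOrth.FourBig

/-!
Factors of dimension four, any number of them: the centralisers of reflections at a factor, by planes, and common
frames of two commuting involutions.
-/

set_option autoImplicit false
set_option linter.unusedSectionVars false
set_option linter.unusedSimpArgs false
set_option linter.style.haveILetI false

open scoped Kronecker

namespace Cfsg.Agent.Classical.TensorPowOrth

open Matrix Module MaxTv TensorMax TensorPow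
open Cfsg.Agent.Classical.TensorOrth (Sym NdOn iso TSP IsSieg)

variable {F : Type*} [Field F] [Fintype F] {κ β : Type} [Fintype κ] [DecidableEq κ] [Fintype β] [DecidableEq β]
  {c : F} {h : (β → F) → (β → F) → F}

local notation "X" => (κ → β)
local notation "V" => ((κ → β) → F)
local notation "Mn" => Matrix (κ → β) (κ → β) F
local notation "Mb" => Matrix β β F
local notation "W" => (β → F)

variable (hT : TData c h)
include hT

theorem TData.zeta_four (h4 : Fintype.card β = 4) (h2κ : Fintype.card κ = 2) : zeta h κ = -1 := by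
  rw [zeta, if_pos h2κ]
  exact OrthAut.sqSign_of_not (hT.det_four h4)

/-- A diagonal involution with an even number of signs at a factor lies in the derived group. -/
theorem TData.dg_GT (h4 : Fintype.card β = 4) (hκ : 2 ≤ Fintype.card κ) (i : κ) {e : Fin 4 → W} (he : F4 h e)
    {S : Finset (Fin 4)} (hS : Even S.card) {B : GL β F} (hB : Dg e S B) : pe (κ := κ) i B ∈ GT (κ := κ) c h := by
  obtain ⟨B', hB', hsg⟩ := hT.sgn_dg h4 hκ i he S
  rw [Dg.unique hT he h4 hB hB']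
  refine hT.mem_GT.2 ⟨hT.pe_iso i (Dg.iso hT he h4 hB'), ?_⟩
  rw [hsg, unit_pow_even _ hS]
  rfl

theorem TData.pl_GT (h4 : Fintype.card β = 4) (hκ : 2 ≤ Fintype.card κ) (i : κ) {v u : W} (hv : h v v ≠ 0)
    (hu : h u u ≠ 0) (hvu : h v u = 0) : pe (κ := κ) i (rf hT v * rf hT u) ∈ GT (κ := κ) c h := by
  obtain ⟨e, he, rfl, rfl⟩ := hT.frame2 h4 hv hu hvu
  exact hT.dg_GT h4 hκ i he (by decide) (hT.dg_pl he (show (0 : Fin 4) ≠ 1 by decide))

theorem TData.neg_pl_GT (h4 : Fintype.card β = 4) (hκ : 2 ≤ Fintype.card κ) (i : κ) {v u : W} (hv : h v v ≠ 0)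
    (hu : h u u ≠ 0) (hvu : h v u = 0) : pe (κ := κ) i (-(rf hT v * rf hT u)) ∈ GT (κ := κ) c h := by
  obtain ⟨e, he, rfl, rfl⟩ := hT.frame2 h4 hv hu hvu
  exact hT.dg_GT h4 hκ i he (by decide) (hT.dg_pl he (show (0 : Fin 4) ≠ 1 by decide)).neg

/-- Orthogonal common eigenvectors of two commuting isometric involutions extend to a common frame. -/
theorem TData.frame_ext2 (h4 : Fintype.card β = 4) {B C : GL β F} (hB : B ∈ TensorOrth.iso h) (hBB : B * B = 1)
    (hC : C ∈ TensorOrth.iso h) (hCC : C * C = 1) (hBC : B * C = C * B) :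
    ∀ (j n : ℕ) (hn : n + j = 4) (v : Fin n → W), (∀ a b, a ≠ b → h (v a) (v b) = 0) →
    (∀ a, h (v a) (v a) ≠ 0) → (∀ a, (B : Mb) *ᵥ v a = v a ∨ (B : Mb) *ᵥ v a = -v a) →
    (∀ a, (C : Mb) *ᵥ v a = v a ∨ (C : Mb) *ᵥ v a = -v a) →
    ∃ e : Fin 4 → W, F4 h e ∧ (∀ a : Fin n, e (Fin.castLE (by omega) a) = v a) ∧
      (∀ a, (B : Mb) *ᵥ e a = e a ∨ (B : Mb) *ᵥ e a = -e a) ∧
      ∀ a, (C : Mb) *ᵥ e a = e a ∨ (C : Mb) *ᵥ e a = -e a
  | 0, n, hn, v, horth, hne, hb, hc' => by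
    have hn4 : n = 4 := by omega
    subst hn4
    exact ⟨v, ⟨horth, hne⟩, fun a => rfl, hb, hc'⟩
  | j + 1, n, hn, v, horth, hne, hb, hc' => by
    have hs := hT.hh
    obtain ⟨U, hU, hd, hmem⟩ := hT.exists_perpN h4 n v horth hne
    obtain ⟨x, hx, hxx⟩ := hs.exists_aniso hT.two hU (Submodule.exists_mem_ne_zero_of_ne_bot fun e => by
      rw [e, finrank_bot] at hd; omega)
    have step : ∀ A : GL β F, A ∈ TensorOrth.iso h → A * A = 1 →
        (∀ a, (A : Mb) *ᵥ v a = v a ∨ (A : Mb) *ᵥ v a = -v a) → ∀ x, h x x ≠ 0 → (∀ a, h x (v a) = 0) →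
        ∃ w, (w = x + (A : Mb) *ᵥ x ∨ w = x - (A : Mb) *ᵥ x) ∧ h w w ≠ 0 ∧ (∀ a, h w (v a) = 0) ∧
          ((A : Mb) *ᵥ w = w ∨ (A : Mb) *ᵥ w = -w) := by
      intro A hA hAA heig x hxx hxv
      have hAAx : (A : Mb) *ᵥ ((A : Mb) *ᵥ x) = x := by
        rw [Matrix.mulVec_mulVec, ← Units.val_mul, hAA, Units.val_one, Matrix.one_mulVec]
      have hAx : ∀ a, h ((A : Mb) *ᵥ x) (v a) = 0 := fun a => by
        rcases heig a with e | e
        · have h1 := hA x (v a)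
          rwa [e, hxv] at h1
        · have h1 := hA x (v a)
          rwa [e, hs.neg_right, hxv, neg_eq_zero] at h1
      by_cases h1 : h (x + (A : Mb) *ᵥ x) (x + (A : Mb) *ᵥ x) = 0
      · refine ⟨_, Or.inr rfl, fun e => hxx ?_, fun a => by rw [hs.sub_left, hAx, hxv, sub_zero],
          Or.inr (by rw [Matrix.mulVec_sub, hAAx, neg_sub])⟩
        have h2 := hA x x
        simp only [hs.add_left, hs.add_right, hs.sub_left, hs.sub_right, hs.symm ((A : Mb) *ᵥ x) x, h2] at h1 e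
        have h22 : (2 : F) * 2 ≠ 0 := mul_ne_zero hT.two hT.two
        exact mul_left_cancel₀ h22 (by linear_combination h1 + e)
      · exact ⟨_, Or.inl rfl, h1, fun a => by rw [hs.add_left, hAx, hxv, add_zero],
          Or.inl (by rw [Matrix.mulVec_add, hAAx, add_comm])⟩
    obtain ⟨w₁, -, hw₁, hw₁p, hw₁e⟩ := step B hB hBB hb x hxx ((hmem x).1 hx)
    obtain ⟨w, hwdef, hw, hwp, hwC⟩ := step C hC hCC hc' w₁ hw₁ hw₁p
    have hwB : (B : Mb) *ᵥ w = w ∨ (B : Mb) *ᵥ w = -w := by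
      have hc2 : (B : Mb) *ᵥ ((C : Mb) *ᵥ w₁) = (C : Mb) *ᵥ ((B : Mb) *ᵥ w₁) := by
        rw [Matrix.mulVec_mulVec, Matrix.mulVec_mulVec, ← Units.val_mul, ← Units.val_mul, hBC]
      rcases hw₁e with e | e <;> rcases hwdef with rfl | rfl
      · exact Or.inl (by rw [Matrix.mulVec_add, hc2, e])
      · exact Or.inl (by rw [Matrix.mulVec_sub, hc2, e])
      · exact Or.inr (by rw [Matrix.mulVec_add, hc2, e, Matrix.mulVec_neg, neg_add])
      · exact Or.inr (by rw [Matrix.mulVec_sub, hc2, e, Matrix.mulVec_neg]; abel)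
    obtain ⟨e, he, hev, heb, hec⟩ := TData.frame_ext2 h4 hB hBB hC hCC hBC j (n + 1) (by omega) (Fin.snoc v w)
      (fun a b hab => by
        induction a using Fin.lastCases with
        | last =>
          induction b using Fin.lastCases with
          | last => exact absurd rfl hab
          | cast b => rw [Fin.snoc_last, Fin.snoc_castSucc]; exact hwp b
        | cast a =>
          induction b using Fin.lastCases with
          | last => rw [Fin.snoc_last, Fin.snoc_castSucc, hs.symm]; exact hwp a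
          | cast b =>
            rw [Fin.snoc_castSucc, Fin.snoc_castSucc]
            exact horth _ _ fun e => hab (by rw [e]))
      (fun a => by
        induction a using Fin.lastCases with
        | last => rw [Fin.snoc_last]; exact hw
        | cast a => rw [Fin.snoc_castSucc]; exact hne a)
      (fun a => by
        induction a using Fin.lastCases with
        | last => rw [Fin.snoc_last]; exact hwB
        | cast a => rw [Fin.snoc_castSucc]; exact hb a)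
      (fun a => by
        induction a using Fin.lastCases with
        | last => rw [Fin.snoc_last]; exact hwC
        | cast a => rw [Fin.snoc_castSucc]; exact hc' a)
    refine ⟨e, he, fun a => ?_, heb, hec⟩
    have := hev a.castSucc
    rwa [Fin.snoc_castSucc] at this

/-- Two commuting isometric involutions are diagonal in one frame. -/
theorem TData.frame_two (h4 : Fintype.card β = 4) {B C : GL β F} (hB : B ∈ TensorOrth.iso h) (hBB : B * B = 1)
    (hC : C ∈ TensorOrth.iso h) (hCC : C * C = 1) (hBC : B * C = C * B) {n : ℕ} (hn : n ≤ 4) (v : Fin n → W)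
    (horth : ∀ a b, a ≠ b → h (v a) (v b) = 0) (hne : ∀ a, h (v a) (v a) ≠ 0)
    (hb : ∀ a, (B : Mb) *ᵥ v a = v a ∨ (B : Mb) *ᵥ v a = -v a)
    (hc' : ∀ a, (C : Mb) *ᵥ v a = v a ∨ (C : Mb) *ᵥ v a = -v a) :
    ∃ (e : Fin 4 → W) (S T : Finset (Fin 4)), F4 h e ∧ (∀ a : Fin n, e (Fin.castLE hn a) = v a) ∧ Dg e S B ∧
      Dg e T C := by
  classical
  obtain ⟨e, he, hev, heb, hec⟩ := hT.frame_ext2 h4 hB hBB hC hCC hBC (4 - n) n (by omega) v horth hne hb hc'
  refine ⟨e, Finset.univ.filter fun a => (B : Mb) *ᵥ e a = -e a,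
    Finset.univ.filter fun a => (C : Mb) *ᵥ e a = -e a, he, hev, fun a => ?_, fun a => ?_⟩
  · by_cases h1 : (B : Mb) *ᵥ e a = -e a
    · rw [sgS, if_pos (by simpa using h1), h1, neg_one_smul]
    · rw [sgS, if_neg (by simpa using h1), one_smul, (heb a).resolve_right h1]
  · by_cases h1 : (C : Mb) *ᵥ e a = -e a
    · rw [sgS, if_pos (by simpa using h1), h1, neg_one_smul]
    · rw [sgS, if_neg (by simpa using h1), one_smul, (hec a).resolve_right h1]

omit hT in
/-- Two orthogonal vectors of a plane have the product of the values of an orthogonal basis up to a square. -/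
theorem pair_class {hs : Sym h} {e₀ e₁ w₁ w₂ : W} (he : h e₀ e₁ = 0) {a b a' b' : F}
    (h1 : w₁ = a • e₀ + b • e₁) (h2 : w₂ = a' • e₀ + b' • e₁) (hw : h w₁ w₂ = 0) :
    h w₁ w₁ * h w₂ w₂ = (a * b' - b * a') ^ 2 * (h e₀ e₀ * h e₁ e₁) := by
  rw [h1, h2] at hw ⊢
  simp only [hs.add_left, hs.add_right, hs.smul_left, hs.smul_right, he, hs.symm e₁ e₀] at hw ⊢
  linear_combination (a * a' * h e₀ e₀ + b * b' * h e₁ e₁) * hw

/-- A similitude does not map a plane into its orthogonal plane. -/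
theorem TData.no_flip (h4 : Fintype.card β = 4) {e : Fin 4 → W} (he : F4 h e) {μ : F} {B : GL β F} (hB : Sim h μ B)
    (hz : ∀ a : Fin 4, a.val < 2 → ∀ b : Fin 4, b.val < 2 → h (e b) ((B : Mb) *ᵥ e a) = 0) : False := by
  have hs := hT.hh
  have hco : ∀ a : Fin 4, a.val < 2 → (B : Mb) *ᵥ e a = (h (e 2) ((B : Mb) *ᵥ e a) / h (e 2) (e 2)) • e 2 +
      (h (e 3) ((B : Mb) *ᵥ e a) / h (e 3) (e 3)) • e 3 := fun a ha => by
    conv_lhs => rw [he.expand hT h4 ((B : Mb) *ᵥ e a)]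
    rw [Fin.sum_univ_four, hz a ha 0 (by decide), hz a ha 1 (by decide)]
    simp
  have hperp : h ((B : Mb) *ᵥ e 0) ((B : Mb) *ᵥ e 1) = 0 := by rw [hB, he.orth 0 1 (by decide), mul_zero]
  have hcl := pair_class (hs := hs) (he.orth 2 3 (by decide)) (hco 0 (by decide)) (hco 1 (by decide)) hperp
  rw [hB, hB] at hcl
  obtain ⟨d, hd⟩ : ∃ d, d = h (e 2) ((B : Mb) *ᵥ e 0) / h (e 2) (e 2) * (h (e 3) ((B : Mb) *ᵥ e 1) / h (e 3) (e 3)) -
      h (e 3) ((B : Mb) *ᵥ e 0) / h (e 3) (e 3) * (h (e 2) ((B : Mb) *ᵥ e 1) / h (e 2) (e 2)) := ⟨_, rfl⟩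
  rw [← hd] at hcl
  have hμ := hT.sim_ne h4 hB
  refine he.not_sq hT h4 ⟨d * (h (e 2) (e 2) * h (e 3) (e 3)) / μ, ?_⟩
  field_simp
  linear_combination (h (e 2) (e 2) * h (e 3) (e 3)) * hcl

/-- A similitude commuting up to sign with a plane commutes with it. -/
theorem TData.pl_sign (h4 : Fintype.card β = 4) {e : Fin 4 → W} (he : F4 h e) {μ : F} {B : GL β F} (hB : Sim h μ B)
    {S : Finset (Fin 4)} (hS : S.card = 2) {P : GL β F} (hP : Dg e S P) (hc' : B * P = -(P * B)) : False := by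
  classical
  obtain ⟨π, hπ⟩ : ∃ π : Equiv.Perm (Fin 4), S.image π.symm = {0, 1} :=
    (by decide : ∀ S : Finset (Fin 4), S.card = 2 → ∃ π : Equiv.Perm (Fin 4), S.image π.symm = {0, 1}) S hS
  have hP' := hP.reframe π
  rw [hπ] at hP'
  have hs := hT.hh
  have he' := he.perm π
  refine hT.no_flip h4 he' hB fun a ha b hb => ?_
  have hmem : ∀ a : Fin 4, a.val < 2 → a ∈ ({0, 1} : Finset (Fin 4)) := by decide
  have h1 : (P : Mb) *ᵥ ((B : Mb) *ᵥ (e ∘ π) a) = (B : Mb) *ᵥ (e ∘ π) a := by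
    have h2 : ((B * P : GL β F) : Mb) *ᵥ (e ∘ π) a = ((-(P * B) : GL β F) : Mb) *ᵥ (e ∘ π) a := by rw [hc']
    rw [Units.val_mul, Units.val_neg, Matrix.neg_mulVec, Units.val_mul, ← Matrix.mulVec_mulVec,
      ← Matrix.mulVec_mulVec, hP' a, sgS, if_pos (hmem a ha), neg_one_smul, Matrix.mulVec_neg, neg_inj] at h2
    exact h2.symm
  have h3 := (Dg.iso hT he' h4 hP') ((e ∘ π) b) ((B : Mb) *ᵥ (e ∘ π) a)
  rw [h1, hP' b, sgS, if_pos (hmem b hb), neg_one_smul, hs.neg_left] at h3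
  exact (mul_eq_zero.1 (show (2 : F) * h ((e ∘ π) b) ((B : Mb) *ᵥ (e ∘ π) a) = 0 by linear_combination -h3)).resolve_left
    hT.two

omit hT
namespace Px

variable {M : Subgroup (GL (κ → β) F)} (hM : Px c h M) (h4 : Fintype.card β = 4)
include hM h4

theorem pl_mem (i : κ) {v u : W} (hv : h v v ≠ 0) (hu : h u u ≠ 0) (hvu : h v u = 0) :
    pe i (rf hM.data v * rf hM.data u) ∈ M ∧ pe i (rf hM.data v * rf hM.data u) ∈ Wr F κ β :=
  ⟨hM.pe_mem (hM.data.pl_GT h4 hM.ht i hv hu hvu), TensorPow.pe_mem _ _⟩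

/-- The members fixing the tensors of an anisotropic vector at a factor stabilise the decomposition. -/
theorem fx_two {i : κ} {v : W} (hv : h v v ≠ 0) {g : GL X F} (hg : g ∈ M) (hfx : g ∈ Fx F i v) :
    g ∈ Wr F κ β := by
  classical
  have hT := hM.data
  have hs := hT.hh
  haveI := hT.nontriv h4
  haveI : Nonempty β := Fintype.card_pos_iff.1 (by omega)
  obtain ⟨l, hli⟩ := nonempty_rst hM.ht i
  obtain ⟨ν, hν⟩ : ∃ ν : F, ¬ IsSquare ν := FiniteField.exists_nonsquare fun e2 => hT.two (by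
    haveI := ringChar.of_eq e2; exact CharTwo.two_eq_zero)
  have hν0 : ν ≠ 0 := fun e => hν ⟨0, by rw [e, mul_zero]⟩
  obtain ⟨U, hU, hd, hmem⟩ := hT.exists_perpN h4 1 ![v] (fun a b hab => absurd (Subsingleton.elim a b) hab)
    (fun a => by fin_cases a; exact hv)
  obtain ⟨u, hu, huu⟩ := hT.exists_val hU (by omega) (one_ne_zero (α := F))
  obtain ⟨u₂, hu₂, huu₂⟩ := hT.exists_val hU (by omega) hν0
  have huv : h u v = 0 := (hmem u).1 hu 0
  have hu₂v : h u₂ v = 0 := (hmem u₂).1 hu₂ 0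
  have hu1 : h u u ≠ 0 := by rw [huu]; exact one_ne_zero
  have hu21 : h u₂ u₂ ≠ 0 := by rw [huu₂]; exact hν0
  obtain ⟨K, hK⟩ : ∃ K : Subgroup (GL X F), K = M ⊓ Fx F i v := ⟨_, rfl⟩
  have hKm : ∀ k ∈ K, k ∈ M ∧ k ∈ Fx F i v ∧ k * pe i (rf hT v) = pe i (rf hT v) * k := fun k hk => by
    rw [hK] at hk
    exact ⟨hk.1, hk.2, hT.fx_comm hv (hM.iso_mem hk.1) hk.2⟩
  have hvu : ∀ w, h w v = 0 → h v w = 0 := fun w hw => by rw [hs.symm, hw]
  -- the plane orthogonal to `v` and `w`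
  obtain ⟨σ, hσ⟩ : ∃ σ : W → GL X F, ∀ w, σ w = pe i (-(rf hT v * rf hT w)) :=
    ⟨fun w => pe i (-(rf hT v * rf hT w)), fun _ => rfl⟩
  have hσK : ∀ w, h w v = 0 → h w w ≠ 0 → σ w ∈ K ∧ σ w * σ w = 1 := fun w hw hww => by
    refine ⟨hK ▸ Subgroup.mem_inf.2 ⟨(hσ w).symm ▸ hM.pe_mem (hT.neg_pl_GT h4 hM.ht i hv hww (hvu w hw)),
      fun t ht' => (hσ w).symm ▸ fixed_of_mem_line (i := i) (v := v) ?_ ht'⟩, ?_⟩
    · rw [Units.val_neg, Matrix.neg_mulVec, Units.val_mul, ← Matrix.mulVec_mulVec,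
        hT.rf_perp hww (hvu w hw), hT.rf_self hv, neg_neg]
    · rw [hσ, ← map_mul, neg_mul_neg, mul_assoc, ← mul_assoc (rf hT w), hT.rf_comm hww hv hw,
        mul_assoc (rf hT v), hT.rf_sq hww, mul_one, hT.rf_sq hv, map_one]
  have hσe : ∀ w, h w v = 0 → h w w ≠ 0 → ∀ {k : GL X F}, k * pe i (rf hT v) = pe i (rf hT v) * k →
      k * σ w = σ w * k → k * pe i (rf hT w) = pe i (rf hT w) * k := fun w hw hww k hkv hkw => by
    have e : pe (κ := κ) i (rf hT w) = -(pe i (rf hT v) * σ w) := by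
      rw [hσ, ← map_mul, mul_neg, ← mul_assoc, hT.rf_sq hv, one_mul, pe_neg, neg_neg]
    rw [e, mul_neg, neg_mul, ← mul_assoc, hkv, mul_assoc, hkw, ← mul_assoc]
  obtain ⟨P, hP, -, -, -⟩ := hT.exists_pure_perp h4 l hv
  obtain ⟨x, hx⟩ : ∃ x, x = pe l P := ⟨_, rfl⟩
  rw [← hx] at hP
  have hxM := (hM.pure_mem h4 hP).1
  have hxc : ∀ A, x * pe i A = pe i A * x := fun A => hx ▸ pe_comm hli P A
  -- elements of `K` conjugating into elements at the factor
  have hback : ∀ k ∈ K, ∀ {a : W}, h a a ≠ 0 → h a v = 0 → ∀ A,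
      k * σ a * k⁻¹ = pe i A → k ∈ Wr F κ β := by
    intro k hk a ha hva A e
    have h1 : k⁻¹ * x * k * pe i (rf hT v) = pe i (rf hT v) * (k⁻¹ * x * k) :=
      (((Commute.inv_left (hKm k hk).2.2).mul_left (hxc _)).mul_left (hKm k hk).2.2).eq
    have h5 : k⁻¹ * x * k ∈ Wr F κ β := by
      refine hM.cent_two_rf h4 (i := i) hv ha (hvu a hva) (mul_mem (mul_mem (inv_mem (hKm k hk).1) hxM) (hKm k hk).1)
        h1 (hσe a hva ha h1 (comm_conj (Q := x) ?_))
      rw [e, hxc]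
    have := hM.fus_pure h4 hP (inv_mem (hKm k hk).1) (by rwa [inv_inv])
    simpa using (Wr F κ β).inv_mem this
  have hnc : ∀ k ∈ K, k * σ u * k⁻¹ ≠ σ u₂ := by
    intro k hk e
    obtain ⟨B, hB, hBv, rfl⟩ := hT.fx_Wr (fun e : v = 0 => hv (by rw [e, hs.zero_left]))
      (hback k hk hu1 huv _ (e.trans (hσ u₂))) (hM.iso_mem (hKm k hk).1) (hKm k hk).2.1
    rw [hσ, hσ, ← map_inv, ← map_mul, ← map_mul] at e
    have e' := pe_injective i e
    rw [mul_neg, neg_mul, neg_inj, show B * (rf hT v * rf hT u) * B⁻¹ = B * rf hT v * B⁻¹ * (B * rf hT u * B⁻¹) by group,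
      hT.rf_conj h4 (sim_one_of_iso hB) hv, hT.rf_conj h4 (sim_one_of_iso hB) hu1, hBv, mul_left_cancel_iff] at e'
    obtain ⟨r, -, hr⟩ := hT.rf_inj (by rw [hB]; exact hu1) hu21 e'
    exact hν ⟨r, by rw [← huu₂, hr, hs.smul_left, hs.smul_right, hB, huu]; ring⟩
  obtain ⟨a, ha⟩ : ∃ a, a = σ u := ⟨_, rfl⟩
  obtain ⟨b, hb⟩ : ∃ b, b = g * σ u₂ * g⁻¹ := ⟨_, rfl⟩
  have hgK : g ∈ K := hK ▸ Subgroup.mem_inf.2 ⟨hg, hfx⟩
  have haK : a ∈ K := ha ▸ (hσK u huv hu1).1
  have hbK : b ∈ K := hb ▸ mul_mem (mul_mem hgK (hσK u₂ hu₂v hu21).1) (inv_mem hgK)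
  have haa : a * a = 1 := ha ▸ (hσK u huv hu1).2
  have hbb : b * b = 1 := hb ▸ conj_invol (hσK u₂ hu₂v hu21).2
  obtain ⟨w, hwK, hw1, hwa, hwb, hcase⟩ := dih_split haa hbb haK hbK fun k hk e => hnc (g⁻¹ * k)
    (mul_mem (inv_mem hgK) hk) (by
      rw [show g⁻¹ * k * σ u * (g⁻¹ * k)⁻¹ = g⁻¹ * (k * σ u * k⁻¹) * g by group, ← ha, e, hb]
      group)
  obtain ⟨hwM, hwfx, hwv⟩ := hKm w hwK
  have hww : w * w = 1 := by
    have h5 : (a * w) * (a * w) = 1 := by
      rcases hcase with ⟨k, -, e, -⟩ | ⟨k, -, e, -⟩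
      · rw [← e]; exact conj_invol haa
      · rw [← e]; exact conj_invol hbb
    rwa [mul_assoc, ← mul_assoc w, hwa, mul_assoc a w w, ← mul_assoc, haa, one_mul] at h5
  have hwu := hσe u huv hu1 hwv (ha ▸ hwa)
  have hwW : w ∈ Wr F κ β := hM.cent_two_rf h4 hv hu1 (hvu u huv) hwM hwv hwu
  obtain ⟨B, hB, hBv, rfl⟩ := hT.fx_Wr (fun e : v = 0 => hv (by rw [e, hs.zero_left])) hwW (hM.iso_mem hwM) hwfx
  rw [← map_mul, ← map_one (pe (F := F) (κ := κ) (β := β) i)] at hww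
  have hBB : B * B = 1 := pe_injective i hww
  have hBu : (B : Mb) *ᵥ u = u ∨ (B : Mb) *ᵥ u = -u := by
    rw [← map_mul, ← map_mul] at hwu
    obtain ⟨r, -, hr⟩ := hT.eig_of_comm_rf hu1 (pe_injective i hwu)
    have h5 := hB u u
    rw [hr, hs.smul_left, hs.smul_right, huu, mul_one] at h5
    rcases mul_self_eq_one_iff.1 h5 with e | e <;> rw [e] at hr
    · exact Or.inl (by rwa [one_smul] at hr)
    · exact Or.inr (by rwa [neg_one_smul] at hr)
  obtain ⟨e, S, he, hev, hS⟩ := hT.invol_dg h4 hB hBB (show 2 ≤ 4 by omega) ![v, u]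
    (fun p q hpq => by
      fin_cases p <;> fin_cases q <;> first | exact absurd rfl hpq | simpa [hs.symm v u] using huv | simpa using huv)
    (fun p => by fin_cases p <;> simp [hv, hu1])
    (fun p => by fin_cases p <;> simp [hBv, hBu])
  have he0 : e 0 = v := hev 0
  have he1 : e 1 = u := hev 1
  have hS0 : (0 : Fin 4) ∉ S := fun h0 => by
    have h5 := hS 0
    rw [sgS, if_pos h0, he0, hBv, neg_one_smul, eq_neg_iff_add_eq_zero, ← two_smul F, smul_eq_zero] at h5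
    exact hv (by rw [h5.resolve_left hT.two, hs.zero_left])
  have hσD : Dg e ({0, 1} : Finset (Fin 4))ᶜ (-(rf hT v * rf hT u)) := by
    have h5 := (hT.dg_pl he (show (0 : Fin 4) ≠ 1 by decide)).neg
    rwa [he0, he1] at h5
  have hD : Dg e (symmDiff ({0, 1} : Finset (Fin 4))ᶜ S) (-(rf hT v * rf hT u) * B) := hσD.mul hS
  have htr : ((-(rf hT v * rf hT u) * B : GL β F) : Mb).trace = 0 := by
    have h0 : ∀ {w : W}, h w v = 0 → h w w ≠ 0 → ((-(rf hT v * rf hT w) : GL β F) : Mb).trace = 0 := fun hw hww => by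
      rw [Units.val_neg, Matrix.trace_neg, hT.trace_pl h4 hv hww (hvu _ hw), neg_zero]
    rcases hcase with ⟨k, -, e', -⟩ | ⟨k, -, e', -⟩
    · rw [← h0 huv hu1]
      refine hT.trace_pe_inj h4 (i := i) (j := i) ?_
      rw [map_mul, ← hσ, ← ha, ← e', trace_conj]
    · rw [← h0 hu₂v hu21]
      refine hT.trace_pe_inj h4 (i := i) (j := i) ?_
      rw [map_mul, ← hσ, ← hσ, ← ha, ← e', trace_conj, hb, trace_conj]
  rw [hT.trace_dg h4 he hD] at htr
  have hc2 : (symmDiff ({0, 1} : Finset (Fin 4))ᶜ S).card = 2 := by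
    have hle : (symmDiff ({0, 1} : Finset (Fin 4))ᶜ S).card ≤ 3 :=
      (by decide : ∀ S : Finset (Fin 4), 0 ∉ S → (symmDiff ({0, 1} : Finset (Fin 4))ᶜ S).card ≤ 3) S hS0
    generalize (symmDiff ({0, 1} : Finset (Fin 4))ᶜ S).card = n at hle htr
    interval_cases n
    · norm_num at htr; exact absurd htr hT.four_ne
    · norm_num at htr; exact absurd htr hT.two
    · rfl
    · norm_num at htr; exact absurd htr hT.two
  obtain ⟨j', hj0, hneg⟩ : ∃ j' : Fin 4, j' ≠ 0 ∧ (symmDiff ({0} : Finset (Fin 4)) S)ᶜ = {j'} :=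
    (by decide : ∀ S : Finset (Fin 4), 0 ∉ S → S ≠ ∅ → (symmDiff ({0, 1} : Finset (Fin 4))ᶜ S).card = 2 →
      ∃ j' : Fin 4, j' ≠ 0 ∧ (symmDiff ({0} : Finset (Fin 4)) S)ᶜ = {j'}) S hS0
      (fun e' => hw1 (by rw [Dg.unique hT he h4 hS (e' ▸ Dg.one e), map_one])) hc2
  obtain ⟨u', hu'⟩ : ∃ u', u' = e j' := ⟨_, rfl⟩
  have hu'1 : h u' u' ≠ 0 := hu' ▸ he.ne j'
  have hu'v : h v u' = 0 := by rw [hu', ← he0]; exact he.orth 0 j' hj0.symm
  have hrf : rf hT u' = -(rf hT v * B) := by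
    have h5 := Dg.rf hT he 0
    rw [he0] at h5
    have h6 := (h5.mul hS).neg
    rw [hneg] at h6
    rw [hu']
    exact Dg.unique hT he h4 (Dg.rf hT he j') h6
  obtain ⟨hbM, hbfx, hbv⟩ := hKm b hbK
  have hbW : b ∈ Wr F κ β := hM.cent_two_rf h4 hv hu'1 hu'v hbM hbv (by
    rw [hrf, pe_neg, map_mul, mul_neg, neg_mul, ← mul_assoc, hbv, mul_assoc, ← hwb, ← mul_assoc])
  obtain ⟨B', -, -, hB'⟩ := hT.fx_Wr (fun e : v = 0 => hv (by rw [e, hs.zero_left])) hbW (hM.iso_mem hbM) hbfx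
  exact hback g hgK hu21 hu₂v B' (hb ▸ hB')

/-- The centraliser of a reflection at a factor. -/
theorem cent_rf2 {i : κ} {v : W} (hv : h v v ≠ 0) : Cen M (pe i (rf hM.data v)) := by
  intro g hg hc
  have hT := hM.data
  obtain ⟨N, hN⟩ : ∃ N : Subgroup (GL X F), N = M ⊓ Subgroup.centralizer {pe i (rf hT v)} := ⟨_, rfl⟩
  have hmem : ∀ k, k ∈ N ↔ k ∈ M ∧ k * pe i (rf hT v) = pe i (rf hT v) * k := fun k => by
    rw [hN, Subgroup.mem_inf, Subgroup.mem_centralizer_singleton_iff]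
  exact hM.res_le h4 hv (i := i) (N := N) (fun k hk => ((hmem k).1 hk).1)
    (fun k hk t ht' => hT.line_of_comm hv ((hmem k).1 hk).2 ht')
    (fun A hA hAG => (hmem _).2 ⟨hM.mem ⟨emb_mem_Wr hA, hT.emb_GT hAG⟩, emb_pe_comm A _⟩)
    (fun k hk hkfx => hM.fx_two h4 hv ((hmem k).1 hk).1 hkfx) ((hmem g).2 ⟨hg, hc⟩)

/-- The centraliser of two planes at a factor with one common direction. -/
theorem cent_st {i : κ} {e : Fin 4 → W} (he : F4 h e) {a b d : Fin 4} (hab : a ≠ b) (had : a ≠ d) (hbd : b ≠ d)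
    {g : GL X F} (hg : g ∈ M)
    (h1 : g * pe i (rf hM.data (e a) * rf hM.data (e b)) = pe i (rf hM.data (e a) * rf hM.data (e b)) * g)
    (h2 : g * pe i (rf hM.data (e a) * rf hM.data (e d)) = pe i (rf hM.data (e a) * rf hM.data (e d)) * g) :
    g ∈ Wr F κ β := by
  have hT := hM.data
  refine hM.cent_rf2 h4 (he.ne a) g hg (comm_of_two hT.two (he.ext_mat hT h4 fun j => ?_) h1 h2)
  rw [Dg.rf hT he a j, Matrix.sub_mulVec, Matrix.smul_mulVec, Matrix.one_mulVec, ← Matrix.mulVec_mulVec,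
    Matrix.sub_mulVec, Matrix.one_mulVec, Matrix.sub_mulVec, Matrix.one_mulVec, hT.dg_pl he had j,
    Matrix.mulVec_sub, Matrix.mulVec_smul, hT.dg_pl he hab j]
  have h2' := hT.two
  by_cases ea : j = a <;> by_cases eb : j = b <;> by_cases ed : j = d <;>
    first
      | (exfalso; first | exact hab (ea.symm.trans eb) | exact had (ea.symm.trans ed) | exact hbd (eb.symm.trans ed))
      | (simp [sgS, ea, eb, ed, hab, had, hbd, hab.symm, had.symm, hbd.symm] <;> match_scalars <;> field_simp <;> ring)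

end Px

end Cfsg.Agent.Classical.TensorPowOrth
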