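import Cfsg.Agent.Lib.Classical.TensorPowOrth.FourPlane

/-!
Two factors of dimension four, the centralisers of planes stabilising the decomposition: the conjugates of planes and
of products of reflections inside the stabiliser.
-/

set_option autoImplicit false
set_option linter.unusedSectionVars false
set_option linter.unusedSimpArgs false
set_option linter.style.haveILetI false

open scoped Kronecker

namespace Cfsg.Agent.Classical.TensorPowOrth

open Matrix Module MaxTv TensorMax TensorPow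
open Cfsg.Agent.Classical.TensorOrth (Sym NdOn iso TSP IsSieg)

variable {F : Type*} [Field F] [Fintype F] {κ β : Type} [Fintype κ] [DecidableEq κ] [Fintype β] [DecidableEq β]
  {c : F} {h : (β → F) → (β → F) → F}

local notation "X" => (κ → β)
local notation "V" => ((κ → β) → F)
local notation "Mn" => Matrix (κ → β) (κ → β) F
local notation "Mb" => Matrix β β F
local notation "W" => (β → F)

theorem Two.perm {i m : κ} (ht : Two i m) (σ : Equiv.Perm κ) : σ = 1 ∨ (σ i = m ∧ σ m = i) := by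
  rcases ht.all (σ i) with e | e
  · refine Or.inl (Equiv.ext fun l => ?_)
    rcases ht.all l with rfl | rfl
    · exact e
    · exact (ht.all _).resolve_left fun e' => ht.ne (σ.injective (e.trans e'.symm))
  · exact Or.inr ⟨e, (ht.all _).resolve_right fun e' => ht.ne (σ.injective (e.trans e'.symm))⟩

set_option synthInstance.maxSize 2000 in
set_option synthInstance.maxHeartbeats 400000 in
/-- Two sets of two places out of four are equal, complementary or separate the places. -/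
theorem sep_two : ∀ S T : Finset (Fin 4), S.card = 2 → T.card = 2 → T = S ∨ T = Sᶜ ∨
    ∀ j l : Fin 4, j ≠ l → ¬ ((j ∈ S ↔ l ∈ S) ∧ (j ∈ T ↔ l ∈ T)) := by decide

variable (hT : TData c h)
include hT

theorem TData.part_rf (h4 : Fintype.card β = 4) {i m : κ} (him : i ≠ m) {A B : GL β F} {v : W} (hv : h v v ≠ 0)
    {Q : GL β F} (hc : pe i A * pe m B * (pe i (rf hT v) * pe m Q) = pe i (rf hT v) * pe m Q * (pe i A * pe m B)) :
    A * rf hT v = rf hT v * A := by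
  haveI := hT.nontriv h4
  obtain ⟨⟨r, -, e⟩, -⟩ := comm_parts him hc
  exact hT.comm_rf_part h4 hv e

theorem TData.part_pl (h4 : Fintype.card β = 4) {i m : κ} (him : i ≠ m) {μ : F} {A B : GL β F} (hA : Sim h μ A)
    {P Q : GL β F} (hP : Pl hT P)
    (hc : pe i A * pe m B * (pe i P * pe m Q) = pe i P * pe m Q * (pe i A * pe m B)) : A * P = P * A := by
  haveI := hT.nontriv h4
  obtain ⟨⟨r, -, e⟩, -⟩ := comm_parts him hc
  exact hT.comm_pl_part h4 hA hP e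

theorem TData.part_pl1 (h4 : Fintype.card β = 4) {i m : κ} (him : i ≠ m) {μ : F} {A B : GL β F} (hA : Sim h μ A)
    {P : GL β F} (hP : Pl hT P)
    (hc : pe i A * pe m B * pe i P = pe i P * (pe i A * pe m B)) : A * P = P * A :=
  hT.part_pl h4 him hA hP (A := A) (B := B) (Q := 1) (by rwa [map_one, mul_one])

theorem TData.part_rf_right (h4 : Fintype.card β = 4) {i m : κ} (him : i ≠ m) {A B : GL β F} {u : W} (hu : h u u ≠ 0)
    {P : GL β F} (hc : pe i A * pe m B * (pe i P * pe m (rf hT u)) = pe i P * pe m (rf hT u) * (pe i A * pe m B)) :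
    B * rf hT u = rf hT u * B :=
  hT.part_rf h4 him.symm (A := B) (B := A) hu (Q := P) (by
    rwa [← pe_comm him A B, ← pe_comm him P (rf hT u)])

theorem TData.part_pl_right (h4 : Fintype.card β = 4) {i m : κ} (him : i ≠ m) {μ : F} {A B : GL β F}
    (hB : Sim h μ B) {P Q : GL β F} (hQ : Pl hT Q)
    (hc : pe i A * pe m B * (pe i P * pe m Q) = pe i P * pe m Q * (pe i A * pe m B)) : B * Q = Q * B :=
  hT.part_pl h4 him.symm (A := B) (B := A) hB hQ (Q := P) (by rwa [← pe_comm him A B, ← pe_comm him P Q])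

theorem TData.eig_rf (h4 : Fintype.card β = 4) {A : GL β F} {v : W} (hv : h v v ≠ 0)
    (hc : A * rf hT v = rf hT v * A) : ∃ (l : F) (x : W), x ≠ 0 ∧ (A : Mb) *ᵥ x = l • x := by
  obtain ⟨r, -, hr⟩ := hT.eig_of_comm_rf hv hc
  exact ⟨r, v, fun e => hv (by rw [e, hT.hh.zero_left]), hr⟩

/-- An element commuting with two diagonal involutions separating the places is diagonal. -/
theorem TData.diag_of_comm (h4 : Fintype.card β = 4) {e : Fin 4 → W} (he : F4 h e) {S T : Finset (Fin 4)}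
    (hsep : ∀ j l, j ≠ l → ¬ ((j ∈ S ↔ l ∈ S) ∧ (j ∈ T ↔ l ∈ T))) {P Q A : GL β F} (hP : Dg e S P) (hQ : Dg e T Q)
    (hAP : A * P = P * A) (hAQ : A * Q = Q * A) (j : Fin 4) : ∃ r : F, (A : Mb) *ᵥ e j = r • e j := by
  classical
  have hs := hT.hh
  have key : ∀ {S : Finset (Fin 4)} {U : GL β F}, Dg e S U → A * U = U * A → ∀ l, ¬ (j ∈ S ↔ l ∈ S) →
      h (e l) ((A : Mb) *ᵥ e j) = 0 := fun {S U} hU hc l hl => by
    have h1 := Dg.iso hT he h4 hU (e l) ((A : Mb) *ᵥ e j)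
    rw [Matrix.mulVec_mulVec (e j) (U : Mb), ← Units.val_mul, ← hc, Units.val_mul, ← Matrix.mulVec_mulVec, hU j,
      hU l, Matrix.mulVec_smul, hs.smul_left, hs.smul_right] at h1
    have h2 : sgS S l * sgS S j = (-1 : F) := by
      by_cases hj : j ∈ S <;> by_cases hl' : l ∈ S <;> simp [sgS, hj, hl'] at hl ⊢
    exact (mul_eq_zero.1 (show (2 : F) * h (e l) ((A : Mb) *ᵥ e j) = 0 by
      linear_combination -h1 + h (e l) ((A : Mb) *ᵥ e j) * h2)).resolve_left hT.two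
  refine ⟨h (e j) ((A : Mb) *ᵥ e j) / h (e j) (e j), ?_⟩
  conv_lhs => rw [he.expand hT h4 ((A : Mb) *ᵥ e j)]
  refine Finset.sum_eq_single j (fun l _ hl => ?_) fun h' => absurd (Finset.mem_univ j) h'
  have h0 : h (e l) ((A : Mb) *ᵥ e j) = 0 := by
    by_cases hS : j ∈ S ↔ l ∈ S
    · exact key hQ hAQ l fun hT' => hsep j l hl.symm ⟨hS, hT'⟩
    · exact key hP hAP l hS
  rw [h0, zero_div, zero_smul]

theorem TData.eig_diag (h4 : Fintype.card β = 4) {e : Fin 4 → W} (he : F4 h e) {A : GL β F}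
    (hd : ∀ j, ∃ r : F, (A : Mb) *ᵥ e j = r • e j) : ∃ (l : F) (x : W), x ≠ 0 ∧ (A : Mb) *ᵥ x = l • x := by
  obtain ⟨r, hr⟩ := hd 0
  exact ⟨r, e 0, fun e' => he.ne 0 (by rw [e', hT.hh.zero_left]), hr⟩

theorem TData.diag_sq (h4 : Fintype.card β = 4) {e : Fin 4 → W} (he : F4 h e) {μ : F} {A : GL β F}
    (hA : Sim h μ A) (hd : ∀ j, ∃ r : F, (A : Mb) *ᵥ e j = r • e j) : (A : Mb) * (A : Mb) = μ • 1 := by
  refine he.ext_mat hT h4 fun j => ?_
  obtain ⟨r, hr⟩ := hd j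
  have h1 := hA (e j) (e j)
  rw [hr, hT.hh.smul_left, hT.hh.smul_right] at h1
  rw [← Matrix.mulVec_mulVec, hr, Matrix.mulVec_smul, hr, smul_smul, Matrix.smul_mulVec, Matrix.one_mulVec]
  congr 1
  exact mul_right_cancel₀ (he.ne j) (by linear_combination h1)

theorem TData.diag_invol (h4 : Fintype.card β = 4) {e : Fin 4 → W} (he : F4 h e) {A : GL β F}
    (hA : A ∈ TensorOrth.iso h) (hd : ∀ j, ∃ r : F, (A : Mb) *ᵥ e j = r • e j) :
    ∃ S, Dg e S A := by
  classical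
  refine ⟨Finset.univ.filter fun j => (A : Mb) *ᵥ e j = -e j, fun j => ?_⟩
  obtain ⟨r, hr⟩ := hd j
  by_cases h1 : (A : Mb) *ᵥ e j = -e j
  · rw [sgS, if_pos (by simpa using h1), h1, neg_one_smul]
  · rw [sgS, if_neg (by simpa using h1), one_smul, hr]
    have h2 := hA (e j) (e j)
    rw [hr, hT.hh.smul_left, hT.hh.smul_right] at h2
    rcases mul_self_eq_one_iff.1 (mul_right_cancel₀ (he.ne j) (show r * r * h (e j) (e j) = 1 * h (e j) (e j) by
      linear_combination h2)) with e' | e'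
    · rw [e', one_smul]
    · exact absurd (by rw [hr, e', neg_one_smul]) h1

/-- A product of reflections at two factors is not a sign. -/
theorem TData.AA_ne (h4 : Fintype.card β = 4) {i m : κ} (ht : Two i m) {v u : W} (hv : h v v ≠ 0) :
    pe i (rf hT v) * pe m (rf hT u) ≠ 1 ∧ pe i (rf hT v) * pe m (rf hT u) ≠ -1 := by
  haveI := hT.nontriv h4
  constructor <;> intro e
  · obtain ⟨⟨r, hr, e'⟩, -⟩ := pe2_unique ht.ne (A := rf hT v) (B := rf hT u) (A' := 1) (B' := 1)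
      (by rw [e, map_one, map_one, one_mul])
    exact hT.rf_nonscalar h4 hv r⁻¹ (by rw [← Units.val_one, e', smul_smul, inv_mul_cancel₀ hr, one_smul])
  · obtain ⟨⟨r, hr, e'⟩, -⟩ := pe2_unique ht.ne (A := rf hT v) (B := rf hT u) (A' := -1) (B' := 1)
      (by rw [e, map_one, mul_one, pe_neg, map_one])
    refine hT.rf_nonscalar h4 hv (-r⁻¹) ?_
    rw [Units.val_neg, Units.val_one] at e'
    rw [neg_smul, ← smul_neg, e', smul_smul, inv_mul_cancel₀ hr, one_smul]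

/-- The parts of an element of trace different from zero have eigenvectors. -/
theorem TData.eig_of_trace (h4 : Fintype.card β = 4) {i m : κ} (ht : Two i m) {y : GL X F} (hy : y ∈ Wr F κ β)
    (hyG : y ∈ GT (κ := κ) c h) (hyy : y * y = 1) (htr : (y : Mn).trace ≠ 0) :
    ∃ A B : GL β F, y = pe i A * pe m B ∧ A ∈ TensorOrth.iso h ∧ B ∈ TensorOrth.iso h ∧ A * A = 1 ∧ B * B = 1 := by
  haveI := hT.nontriv h4
  obtain ⟨A₀, B₀, hye, μ, ν, r, s, hA, hB, hr, -, -⟩ := hT.invol_two h4 ht hy hyG hyy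
  refine hT.invol_split h4 ht hy hyG hyy fun A B μ' ν' hA' hB' e => ?_
  obtain ⟨⟨t, ht0, e'⟩, -⟩ := pe2_unique ht.ne (hye.symm.trans e)
  rcases hT.sim_cases h4 hA hr with ⟨a, f, S, D, ha, hf, hD, hAD⟩ | ⟨h0, -⟩
  · refine ⟨t * (a * sgS S 0), f 0, fun e0 => hf.ne 0 (by rw [e0, hT.hh.zero_left]), Or.inl ?_⟩
    rw [e', hAD, Matrix.smul_mulVec, Matrix.smul_mulVec, hD 0, smul_smul, smul_smul, mul_assoc]
  · exact absurd (by rw [hye, hT.trace_two h4 ht, h0, zero_mul]) htr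

omit hT
namespace Px

variable {M : Subgroup (GL (κ → β) F)} (hM : Px c h M) (h4 : Fintype.card β = 4)
  (hCp : ∀ (l : κ) (P : GL β F), Pl hM.data P → Cen M (pe l P))
include hM h4 hCp

/-- A member conjugating a plane at a factor to an element at a factor. -/
theorem fus_pl {k : GL X F} (hk : k ∈ M) {i l : κ} {P : GL β F} (hP : Pl hM.data P) {U : GL β F}
    (e : k * pe i P * k⁻¹ = pe l U) : k ∈ Wr F κ β := by
  have hT := hM.data
  obtain ⟨j, hj⟩ := nonempty_rst hM.ht l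
  obtain ⟨v, u, hv, -⟩ := id hP
  obtain ⟨B, hB, -, -, -⟩ := hT.exists_pure_perp h4 j hv
  have hxM := (hM.pure_mem h4 hB).1
  have h5 : k⁻¹ * pe j B * k ∈ Wr F κ β := hCp i P hP _ (mul_mem (mul_mem (inv_mem hk) hxM) hk)
    (comm_conj (Q := pe j B) (by rw [e, pe_comm hj]))
  have := hM.fus_pure h4 hB (inv_mem hk) (by rwa [inv_inv])
  simpa using (Wr F κ β).inv_mem this

/-- No member conjugates a plane at a factor to planes at both. -/
theorem no_D {i₀ i m : κ} (ht : Two i m) {P₀ P Q : GL β F} (hP₀ : Pl hM.data P₀) (hP : Pl hM.data P)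
    (hQ : Pl hM.data Q) {k : GL X F} (hk : k ∈ M) (e : k * pe i₀ P₀ * k⁻¹ = pe i P * pe m Q) : False := by
  classical
  have hT := hM.data
  have hs := hT.hh
  haveI := hT.nontriv h4
  obtain ⟨j₀, ht₀⟩ := exists_two ht.card i₀
  suffices hkW : k ∈ Wr F κ β by
    obtain ⟨σ, gs, rfl⟩ := hkW
    rw [conj_pe] at e
    have hns := (hT.pl_iso h4 hP).2.2.1
    have hns' := (hT.pl_iso h4 hQ).2.2.1
    rcases ht.all (σ⁻¹ i₀) with h1 | h1 <;> rw [h1] at e
    · obtain ⟨-, r, -, e2⟩ := pe2_unique ht.ne (A := gs i * P₀ * (gs i)⁻¹) (B := 1) (A' := P) (B' := Q)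
        (by rw [map_one, mul_one, e])
      exact hns' r (by rw [e2, Units.val_one])
    · obtain ⟨⟨r, -, e2⟩, -⟩ := pe2_unique ht.ne (A := 1) (B := gs m * P₀ * (gs m)⁻¹) (A' := P) (B' := Q)
        (by rw [map_one, one_mul, e])
      exact hns r (by rw [e2, Units.val_one])
  -- a plane with a rotation of order more than two
  suffices key : ∀ (e' : Fin 4 → W), F4 h e' → h (e' 0) (e' 0) + h (e' 1) (e' 1) ≠ 0 → ∀ P Q : GL β F,
      P = rf hT (e' 0) * rf hT (e' 1) → Pl hT Q → k * pe i₀ P₀ * k⁻¹ = pe i P * pe m Q → k ∈ Wr F κ β by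
    obtain ⟨e', he, hD, hPe⟩ := hT.pl_dg h4 hP
    by_cases h01 : h (e' 0) (e' 0) + h (e' 1) (e' 1) = 0
    · obtain ⟨π, hπ⟩ : ∃ π : Equiv.Perm (Fin 4), π = Equiv.swap 0 2 * Equiv.swap 1 3 := ⟨_, rfl⟩
      have p0 : π 0 = 2 := by rw [hπ]; decide
      have p1 : π 1 = 3 := by rw [hπ]; decide
      have h7 := hD.neg
      rw [show ({0, 1} : Finset (Fin 4))ᶜ = {2, 3} by decide] at h7
      refine key _ (he.perm π) ?_ (-P) (-Q) ?_ (hT.pl_iso h4 hQ).2.2.2.2 (by rw [e, pe_neg, pe_neg, neg_mul_neg])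
      · simp only [Function.comp_apply, p0, p1]
        intro h23
        refine he.not_sq hT h4 ⟨h (e' 0) (e' 0) * h (e' 2) (e' 2), ?_⟩
        linear_combination (h (e' 0) (e' 0) * h (e' 2) (e' 2) * h (e' 3) (e' 3)) * h01 -
          h (e' 0) (e' 0) * h (e' 0) (e' 0) * h (e' 2) (e' 2) * h23
      · simp only [Function.comp_apply, p0, p1]
        exact Dg.unique hT he h4 h7 (hT.dg_pl he (show (2 : Fin 4) ≠ 3 by decide))
    · exact key e' he h01 P Q hPe hQ e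
  clear hP hQ e P Q
  intro e' he hd P Q hPe hQ e
  have hDP : Dg e' {0, 1} P := hPe ▸ hT.dg_pl he (by decide)
  have hP : Pl hT P := hT.dg_pl' h4 he (by decide) hDP
  obtain ⟨f, hf, hDQ, -⟩ := hT.pl_dg h4 hQ
  obtain ⟨s, hs'⟩ : ∃ s, s = pe (κ := κ) i₀ P₀ := ⟨_, rfl⟩
  obtain ⟨y, hy⟩ : ∃ y, y = pe i P * pe m Q := ⟨_, rfl⟩
  rw [← hs', ← hy] at e
  have hkG : k ∈ TensorOrth.iso (tf c h) := hM.iso_mem hk
  have hconjM : ∀ {z : GL X F}, z ∈ M → k⁻¹ * z * k ∈ M := fun hz => mul_mem (mul_mem (inv_mem hk) hz) hk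
  -- conjugates of what commutes with `y` commute with `s`
  have hback : ∀ {z : GL X F}, z ∈ M → z * y = y * z →
      k⁻¹ * z * k ∈ M ∧ k⁻¹ * z * k ∈ Wr F κ β ∧ k⁻¹ * z * k * s = s * (k⁻¹ * z * k) := fun {z} hz hzy => by
    have h5 : k⁻¹ * z * k * s = s * (k⁻¹ * z * k) := comm_conj (Q := z) (by rw [e, hzy])
    exact ⟨hconjM hz, hCp i₀ P₀ hP₀ _ (hconjM hz) (hs' ▸ h5), h5⟩
  have hself : ∀ {A : GL β F}, A * P = P * A → pe i A * y = y * pe i A := fun {A} hA => by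
    rw [hy, ← mul_assoc, ← map_mul, hA, map_mul, mul_assoc, mul_assoc, ← pe_comm ht.ne A Q]
  have hsingle : ∀ {l : κ} {U : GL β F} {R : GL β F} {j : κ}, Pl hT R → pe j R ∈ M →
      k⁻¹ * pe j R * k = pe l U → k ∈ Wr F κ β := fun {l U R j} hR hRM h5 => by
    have h6 := hM.fus_pl h4 hCp (inv_mem hk) (i := j) (l := l) hR (U := U) (by rw [inv_inv]; exact h5)
    simpa using (Wr F κ β).inv_mem h6
  have hPM : pe i P ∈ M := by rw [hPe]; exact (hM.pl_mem h4 i (he.ne 0) (he.ne 1) (he.orth 0 1 (by decide))).1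
  have hQM : pe m Q ∈ M := by
    obtain ⟨v, u, hv, hu, hvu, rfl⟩ := hQ
    exact (hM.pl_mem h4 m hv hu hvu).1
  obtain ⟨hcM, hcW, hcs⟩ := hback hPM (hself rfl)
  obtain ⟨cc, hcc⟩ : ∃ cc, cc = k⁻¹ * pe i P * k := ⟨_, rfl⟩
  rw [← hcc] at hcM hcW hcs
  -- the product of reflections
  obtain ⟨hA0G, hA0s, hA0t⟩ := hT.AA_facts h4 ht (he.ne 2) (hf.ne 0)
  obtain ⟨A0, hA0⟩ : ∃ A0, A0 = pe i (rf hT (e' 2)) * pe m (rf hT (f 0)) := ⟨_, rfl⟩
  rw [← hA0] at hA0G hA0s hA0t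
  have hP2 : rf hT (e' 2) * P = P * rf hT (e' 2) :=
    Units.ext (he.ext_mat hT h4 fun j => by
      rw [Units.val_mul, Units.val_mul, ← Matrix.mulVec_mulVec, ← Matrix.mulVec_mulVec, hDP j, Dg.rf hT he 2 j,
        Matrix.mulVec_smul, Matrix.mulVec_smul, hDP j, Dg.rf hT he 2 j, smul_comm])
  have hQ0 : rf hT (f 0) * Q = Q * rf hT (f 0) :=
    Units.ext (hf.ext_mat hT h4 fun j => by
      rw [Units.val_mul, Units.val_mul, ← Matrix.mulVec_mulVec, ← Matrix.mulVec_mulVec, hDQ j, Dg.rf hT hf 0 j,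
        Matrix.mulVec_smul, Matrix.mulVec_smul, hDQ j, Dg.rf hT hf 0 j, smul_comm])
  have hA0y : A0 * y = y * A0 := by rw [hA0, hy, pe2_mul ht.ne, pe2_mul ht.ne, hP2, hQ0]
  have hA0M : A0 ∈ M := hM.mem ⟨hA0 ▸ mul_mem (TensorPow.pe_mem _ _) (TensorPow.pe_mem _ _), hA0G⟩
  obtain ⟨haM, haW, has⟩ := hback hA0M hA0y
  have hconj_invol : ∀ {z : GL X F}, z * z = 1 → (k⁻¹ * z * k) * (k⁻¹ * z * k) = 1 := fun {z} hz => by
    rw [show k⁻¹ * z * k * (k⁻¹ * z * k) = k⁻¹ * (z * z) * k by group, hz]; group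
  have htrk : ∀ z : GL X F, ((k⁻¹ * z * k : GL X F) : Mn).trace = (z : Mn).trace := fun z => by
    have := trace_conj k⁻¹ z
    rwa [inv_inv] at this
  obtain ⟨Aa, Ba, ea, hAai, hBai, hAaa, hBaa⟩ := hT.eig_of_trace h4 ht₀ haW (hM.le haM) (hconj_invol hA0s)
    (by rw [htrk, hA0t]; exact hT.four_ne)
  obtain ⟨hne1, hne2⟩ := hT.AA_ne h4 ht (v := e' 2) (u := f 0) (he.ne 2)
  obtain ⟨p, q, hp, hq, ea', -, -⟩ := hT.kind_four h4 ht₀ hAai hBai hAaa hBaa (ea ▸ hM.le haM)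
    (by rw [← ea, htrk, hA0t])
    (fun h1 => hne1 (by
      rw [← hA0, show A0 = k * (k⁻¹ * A0 * k) * k⁻¹ by group, ea, h1]; group))
    (fun h1 => hne2 (by
      rw [← hA0, show A0 = k * (k⁻¹ * A0 * k) * k⁻¹ by group, ea, h1, mul_neg, neg_mul, mul_one, mul_inv_cancel]))
  rw [ea'] at ea
  -- the parts of the conjugate of `P`
  have hPP : pe (κ := κ) i P * pe i P = 1 := by rw [← map_mul, (hT.pl_iso h4 hP).2.1, map_one]
  have hcc1 : cc * cc = 1 := hcc ▸ hconj_invol hPP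
  have hca : cc * (k⁻¹ * A0 * k) = k⁻¹ * A0 * k * cc := by
    have h5 : pe i P * A0 = A0 * pe i P := by
      rw [hA0, ← mul_assoc, ← map_mul, ← hP2, map_mul, mul_assoc, mul_assoc, ← pe_comm ht.ne P (rf hT (f 0))]
    rw [hcc, show k⁻¹ * pe i P * k * (k⁻¹ * A0 * k) = k⁻¹ * (pe i P * A0) * k by group, h5]
    group
  obtain ⟨C, C', ec, hCi, hC'i, hCC, hC'C'⟩ := hT.invol_split h4 ht₀ hcW (hM.le hcM) hcc1 fun A B μ ν hA hB e2 => by
    obtain ⟨l, x, hx, h5⟩ := hT.eig_rf h4 hp (hT.part_rf h4 ht₀.ne hp (A := A) (B := B) (Q := rf hT q)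
      (by rw [← e2, ← ea]; exact hca))
    exact ⟨l, x, hx, Or.inl h5⟩
  rcases hT.kind_zero h4 ht₀ hCi hC'i hCC hC'C' (ec ▸ hM.le hcM) (by
      rw [← ec, hcc, htrk, trace_pe, (hT.pl_iso h4 hP).2.2.2.1, zero_mul]) with
    ⟨hCP, hC'P⟩ | ⟨U, -, e5, -⟩ | ⟨U, -, e5, -⟩
  swap
  · exact hsingle hP hPM (l := i₀) (U := U) (by rw [← hcc, ec, e5])
  swap
  · exact hsingle hP hPM (l := j₀) (U := U) (by rw [← hcc, ec, e5])
  -- both parts are planes
  have hcsC : C * P₀ = P₀ * C := hT.part_pl1 h4 ht₀.ne (sim_one_of_iso hCi) hP₀ (B := C') (by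
    rw [← ec, ← hs']; exact hcs)
  obtain ⟨g, S₀, S₁, hg, -, hgP, hgC⟩ := hT.frame_two h4 (hT.pl_iso h4 hP₀).1 (hT.pl_iso h4 hP₀).2.1 hCi hCC
    hcsC.symm (n := 0) (by omega) Fin.elim0 (fun a => a.elim0) (fun a => a.elim0) (fun a => a.elim0)
    (fun a => a.elim0)
  have hcard : ∀ {U : GL β F} {S : Finset (Fin 4)}, Pl hT U → Dg g S U → S.card = 2 := fun {U S} hU hS => by
    have h5 := (hT.pl_iso h4 hU).2.2.2.1
    rw [hT.trace_dg h4 hg hS] at h5
    have hle : S.card ≤ 4 := (Finset.card_le_univ S).trans (by simp)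
    generalize S.card = n at hle h5
    interval_cases n
    · norm_num at h5; exact absurd h5 hT.four_ne
    · norm_num at h5; exact absurd h5 hT.two
    · rfl
    · norm_num at h5; exact absurd h5 hT.two
    · norm_num at h5; exact absurd h5 hT.four_ne
  rcases sep_two S₀ S₁ (hcard hP₀ hgP) (hcard hCP hgC) with
    rfl | rfl | hsep
  · -- then the conjugate of `Q` is at one factor
    have hC : C = P₀ := Dg.unique hT hg h4 hgC hgP
    refine hsingle hQ hQM (l := j₀) (U := C') ?_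
    have h5 : k⁻¹ * pe m Q * k = cc * s := by
      rw [hcc, show s = k⁻¹ * y * k by rw [← e]; group, hy,
        show k⁻¹ * pe i P * k * (k⁻¹ * (pe i P * pe m Q) * k) = k⁻¹ * (pe i P * pe i P * pe m Q) * k by group, hPP,
        one_mul]
    rw [h5, ec, hC, hs', mul_assoc, ← pe_comm ht₀.ne P₀ C', ← mul_assoc, ← map_mul, (hT.pl_iso h4 hP₀).2.1, map_one,
      one_mul]
  · have hC : C = -P₀ := Dg.unique hT hg h4 hgC hgP.neg
    refine hsingle hQ hQM (l := j₀) (U := -C') ?_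
    have h5 : k⁻¹ * pe m Q * k = cc * s := by
      rw [hcc, show s = k⁻¹ * y * k by rw [← e]; group, hy,
        show k⁻¹ * pe i P * k * (k⁻¹ * (pe i P * pe m Q) * k) = k⁻¹ * (pe i P * pe i P * pe m Q) * k by group, hPP,
        one_mul]
    rw [h5, ec, hC, hs', mul_assoc, ← pe_comm ht₀.ne P₀ C', ← mul_assoc, ← map_mul, neg_mul,
      (hT.pl_iso h4 hP₀).2.1, pe_neg, map_one, pe_neg, neg_one_mul]
  -- the conjugate of a rotation has scalar square at the factor `i₀`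
  obtain ⟨w, hw⟩ : ∃ w, w = e' 0 + e' 1 := ⟨_, rfl⟩
  have h01 : h (e' 0) (e' 1) = 0 := he.orth 0 1 (by decide)
  have h10 : h (e' 1) (e' 0) = 0 := he.orth 1 0 (by decide)
  have hww : h w w = h (e' 0) (e' 0) + h (e' 1) (e' 1) := by
    simp only [hw, hs.add_left, hs.add_right, h01, h10]; ring
  have hw0 : h w w ≠ 0 := hww ▸ hd
  obtain ⟨R, hR⟩ : ∃ R, R = rf hT (e' 0) * rf hT w := ⟨_, rfl⟩
  have hcomm : ∀ {U : GL β F} {v : W} {r : F}, U ∈ TensorOrth.iso h → h v v ≠ 0 → r ≠ 0 → (U : Mb) *ᵥ v = r • v →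
      rf hT v * U = U * rf hT v := fun hU hv hr h5 => (hT.comm_rf_of_eig h4 (sim_one_of_iso hU) hv hr h5).symm
  have hPw : (P : Mb) *ᵥ w = (-1 : F) • w := by
    rw [hw, Matrix.mulVec_add, hDP 0, hDP 1, sgS, sgS, if_pos (by decide), if_pos (by decide), smul_add]
  have hPiso := (hT.pl_iso h4 hP).1
  have hRP : R * P = P * R := by
    rw [hR, mul_assoc, hcomm hPiso hw0 (neg_ne_zero.2 one_ne_zero) hPw, ← mul_assoc,
      hcomm hPiso (he.ne 0) (neg_ne_zero.2 one_ne_zero)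
        (by rw [hDP 0, sgS, if_pos (by decide)]), mul_assoc]
  have hR2 : R * rf hT (e' 2) = rf hT (e' 2) * R := by
    rw [hR, mul_assoc, hT.rf_comm hw0 (he.ne 2) (by
      rw [hw, hs.add_left, he.orth 0 2 (by decide), he.orth 1 2 (by decide), add_zero]), ← mul_assoc,
      hT.rf_comm (he.ne 0) (he.ne 2) (he.orth 0 2 (by decide)), mul_assoc]
  have hRG : pe (κ := κ) i R ∈ GT (κ := κ) c h := by
    rw [hR]
    exact hT.pair_mem i (he.ne 0) hw0 (Or.inl ⟨⟨2, by omega⟩, hM.ht⟩) (hT.rf_iso _) (hT.rf_iso _)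
      (hT.rf_apply (he.ne 0)) (hT.rf_apply hw0)
  obtain ⟨hrM, hrW, hrs⟩ := hback (hM.pe_mem hRG) (hself hRP)
  obtain ⟨cr, hcr⟩ : ∃ cr, cr = k⁻¹ * pe i R * k := ⟨_, rfl⟩
  rw [← hcr] at hrM hrW hrs
  obtain ⟨σ, gs, hσe, hσ, -⟩ := slot_fix hrW (hT.pl_iso h4 hP₀).2.2.1 (hs' ▸ hrs)
  obtain rfl : σ = 1 := (ht₀.perm σ).resolve_right fun h5 => ht₀.ne (hσ.symm.trans h5.1)
  rw [ht₀.wgl_eq] at hσe
  obtain ⟨μ, hμ⟩ := hT.slot_simil (σ := (1 : Equiv.Perm κ)) (gs := gs) (by rw [ht₀.wgl_eq, ← hσe]; exact hM.iso_mem hrM)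
    i₀
  obtain ⟨Xa, hXa⟩ : ∃ Xa, Xa = gs i₀ := ⟨_, rfl⟩
  rw [← hXa] at hμ hσe
  have hXP : Xa * P₀ = P₀ * Xa := hT.part_pl1 h4 ht₀.ne hμ hP₀ (B := gs j₀) (by rw [← hσe, ← hs']; exact hrs)
  have hXp : Xa * rf hT p = rf hT p * Xa := hT.part_rf h4 ht₀.ne hp (A := Xa) (B := gs j₀) (Q := rf hT q) (by
    rw [← hσe, ← ea, hcr]
    have h5 : pe i R * A0 = A0 * pe i R := by
      rw [hA0, ← mul_assoc, ← map_mul, hR2, map_mul, mul_assoc, mul_assoc, ← pe_comm ht.ne R (rf hT (f 0))]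
    rw [show k⁻¹ * pe i R * k * (k⁻¹ * A0 * k) = k⁻¹ * (pe i R * A0) * k by group, h5]
    group)
  have hXC : Xa * C = C * Xa := by
    have h5 : pe i₀ Xa * pe j₀ (gs j₀) * (pe i₀ C * pe j₀ C') = pe i₀ C * pe j₀ C' * (pe i₀ Xa * pe j₀ (gs j₀)) := by
      rw [← hσe, ← ec, hcr, hcc,
        show k⁻¹ * pe i R * k * (k⁻¹ * pe i P * k) = k⁻¹ * (pe i R * pe i P) * k by group, ← map_mul, hRP, map_mul]
      group
    obtain ⟨⟨r, hr, h6⟩, -⟩ := comm_parts ht₀.ne h5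
    obtain ⟨a, ha, hXv⟩ := hT.eig_of_comm_rf hp hXp
    obtain ⟨b, hb, hCv⟩ := hT.eig_of_comm_rf hp (hT.part_rf h4 ht₀.ne hp (A := C) (B := C') (Q := rf hT q)
      (by rw [← ec, ← ea]; exact hca))
    have h7 := congrArg (fun N : Mb => N *ᵥ p) h6
    simp only [Matrix.smul_mulVec, ← Matrix.mulVec_mulVec, hXv, hCv, Matrix.mulVec_smul, smul_smul] at h7
    have hr1 : a * b = r * (b * a) := smul_left_injective F (fun e0 : p = 0 => hp (by rw [e0, hs.zero_left]))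
      (by linear_combination (norm := (match_scalars <;> ring)) h7)
    have : r = 1 := mul_right_cancel₀ (mul_ne_zero ha hb) (by linear_combination -hr1)
    exact Units.ext (by rw [Units.val_mul, Units.val_mul, h6, this, one_smul])
  have hX2 := hT.diag_sq h4 hg hμ (hT.diag_of_comm h4 hg hsep hgP hgC hXP hXC)
  obtain ⟨v, u, hv, -⟩ := hP
  obtain ⟨B, hB, -, -, -⟩ := hT.exists_pure_perp h4 i₀ hv
  obtain ⟨x', hx'⟩ : ∃ x', x' = k * pe i₀ B * k⁻¹ := ⟨_, rfl⟩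
  have hx'M : x' ∈ M := hx' ▸ mul_mem (mul_mem hk (hM.pure_mem h4 hB).1) (inv_mem hk)
  have hc2 : x' * pe i (R * R) = pe i (R * R) * x' := by
    have h5 : cr * cr * pe i₀ B = pe i₀ B * (cr * cr) := by
      have h6 : Xa * Xa * B = B * (Xa * Xa) := Units.ext (by
        simp only [Units.val_mul, hX2, Matrix.smul_mul, Matrix.mul_smul, one_mul, mul_one])
      rw [hσe, pe2_mul ht₀.ne, mul_assoc, ← pe_comm ht₀.ne B, ← mul_assoc, ← map_mul, h6, map_mul, mul_assoc]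
    rw [hcr, show k⁻¹ * pe i R * k * (k⁻¹ * pe i R * k) = k⁻¹ * pe i (R * R) * k by rw [map_mul]; group] at h5
    have h6 := congrArg (fun z => k * z * k⁻¹) h5
    rw [hx']
    simp only [mul_assoc, mul_inv_cancel_left, mul_inv_cancel, mul_one] at h6 ⊢
    exact h6.symm
  -- so it commutes with the plane
  have hx'P : x' * pe i P = pe i P * x' := by
    obtain ⟨κ', hκ'⟩ : ∃ κ', κ' = -8 * (h (e' 0) (e' 0) * h (e' 1) (e' 1)) /
      ((h (e' 0) (e' 0) + h (e' 1) (e' 1)) * (h (e' 0) (e' 0) + h (e' 1) (e' 1))) := ⟨_, rfl⟩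
    have h2 := hT.two
    have h0 := he.ne 0
    have h1 := he.ne 1
    have hκ0 : κ' ≠ 0 := by
      rw [hκ']
      refine div_ne_zero (mul_ne_zero (neg_ne_zero.2 ?_) (mul_ne_zero h0 h1)) (mul_ne_zero hd hd)
      rw [show (8 : F) = 2 * (2 * 2) by norm_num]
      exact mul_ne_zero h2 (mul_ne_zero h2 h2)
    have hpoly : ((R * R : GL β F) : Mb) + (((R * R)⁻¹ : GL β F) : Mb) + (-2 : F) • 1 =
        κ' • (1 + (-1 : F) • (P : Mb)) := by
      have hinv : (R * R)⁻¹ = rf hT w * rf hT (e' 0) * (rf hT w * rf hT (e' 0)) := inv_eq_of_mul_eq_one_right (by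
        rw [hR]
        simp only [mul_assoc]
        rw [← mul_assoc (rf hT w) (rf hT w), hT.rf_sq hw0, one_mul, ← mul_assoc (rf hT (e' 0)) (rf hT (e' 0)),
          hT.rf_sq (he.ne 0), one_mul, ← mul_assoc (rf hT w) (rf hT w), hT.rf_sq hw0, one_mul, hT.rf_sq (he.ne 0)])
      have e0 : ∀ j, (rf hT (e' 0) : Mb) *ᵥ e' j = (sgS {0} j : F) • e' j := Dg.rf hT he 0
      have w0 : (rf hT w : Mb) *ᵥ e' 0 = ((h (e' 1) (e' 1) - h (e' 0) (e' 0)) / (h (e' 0) (e' 0) + h (e' 1) (e' 1))) • e' 0 +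
          (-(2 * h (e' 0) (e' 0)) / (h (e' 0) (e' 0) + h (e' 1) (e' 1))) • e' 1 := by
        rw [hT.rf_apply hw0, hww, hw, hs.add_right, h01]
        match_scalars <;> field_simp <;> ring
      have w1 : (rf hT w : Mb) *ᵥ e' 1 = (-(2 * h (e' 1) (e' 1)) / (h (e' 0) (e' 0) + h (e' 1) (e' 1))) • e' 0 +
          ((h (e' 0) (e' 0) - h (e' 1) (e' 1)) / (h (e' 0) (e' 0) + h (e' 1) (e' 1))) • e' 1 := by
        rw [hT.rf_apply hw0, hww, hw, hs.add_right, h10]
        match_scalars <;> field_simp <;> ring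
      have w23 : ∀ j : Fin 4, j = 2 ∨ j = 3 → (rf hT w : Mb) *ᵥ e' j = e' j := fun j hj => hT.rf_perp hw0 (by
        rw [hw, hs.add_right, he.orth j 0 (by rcases hj with rfl | rfl <;> decide),
          he.orth j 1 (by rcases hj with rfl | rfl <;> decide), add_zero])
      refine he.ext_mat hT h4 fun j => ?_
      rw [Matrix.add_mulVec, Matrix.add_mulVec, Matrix.smul_mulVec, Matrix.smul_mulVec, Matrix.add_mulVec,
        Matrix.smul_mulVec, Matrix.one_mulVec, hDP j, hinv, hR]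
      simp only [Units.val_mul, ← Matrix.mulVec_mulVec]
      have hj : ∀ j : Fin 4, j = 0 ∨ j = 1 ∨ j = 2 ∨ j = 3 := by decide
      rcases hj j with rfl | rfl | rfl | rfl
      all_goals simp [sgS, e0, w0, w1, w23 2 (Or.inl rfl), w23 3 (Or.inr rfl), Matrix.mulVec_add, Matrix.mulVec_smul,
        Matrix.mulVec_neg]
      all_goals first
        | (rw [hκ']; match_scalars <;> field_simp <;> ring)
        | (match_scalars <;> ring)
    have hI : x' * pe i (R * R)⁻¹ = pe i (R * R)⁻¹ * x' := by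
      rw [map_inv]; exact (Commute.inv_right hc2).eq
    have h5 := congrArg (et (κ := κ) i) hpoly
    simp only [et_add, et_smul, et_one, et_val] at h5
    have h6 : (x' : Mn) * (κ' • (1 + (-1 : F) • (pe i P : Mn))) = (κ' • (1 + (-1 : F) • (pe i P : Mn))) * (x' : Mn) := by
      rw [← h5]
      simp only [mul_add, add_mul, Matrix.mul_smul, Matrix.smul_mul, mul_one, one_mul, ← Units.val_mul, hc2, hI]
    refine Units.ext ?_
    rw [Matrix.mul_smul, Matrix.smul_mul] at h6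
    have h7 := smul_right_injective Mn hκ0 h6
    simp only [mul_add, add_mul, Matrix.mul_smul, Matrix.smul_mul, mul_one, one_mul, neg_one_smul, mul_neg, neg_mul] at h7
    rw [Units.val_mul, Units.val_mul]
    exact neg_inj.1 (add_left_cancel h7)
  exact hM.fus_pure h4 hB hk (hx' ▸ hCp i P (hT.dg_pl' h4 he (by decide) hDP) x' hx'M hx'P)

/-- A member conjugating a plane at a factor to an involution with isometric parts. -/
theorem single_back {i₀ i m : κ} (ht : Two i m) {P₀ : GL β F} (hP₀ : Pl hM.data P₀) {k : GL X F} (hk : k ∈ M)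
    {A B : GL β F} (hA : A ∈ TensorOrth.iso h) (hB : B ∈ TensorOrth.iso h) (hAA : A * A = 1) (hBB : B * B = 1)
    (e : k * pe i₀ P₀ * k⁻¹ = pe i A * pe m B) :
    k ∈ Wr F κ β ∧ ((∃ P, Pl hM.data P ∧ pe i A * pe m B = pe i P ∧ Pl hM.data A ∧ (B = 1 ∨ B = -1)) ∨
      ∃ P, Pl hM.data P ∧ pe i A * pe m B = pe m P ∧ Pl hM.data B ∧ (A = 1 ∨ A = -1)) := by
  have hT := hM.data
  obtain ⟨v, u, hv, hu, hvu, hPe⟩ := id hP₀
  have hyG : pe i A * pe m B ∈ GT (κ := κ) c h :=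
    e ▸ hT.conj_mem (hM.iso_mem hk) (hPe ▸ hT.pl_GT h4 hM.ht i₀ hv hu hvu)
  rcases hT.kind_zero h4 ht hA hB hAA hBB hyG (by
      rw [← e, trace_conj, trace_pe, (hT.pl_iso h4 hP₀).2.2.2.1, zero_mul]) with
    ⟨hAP, hBP⟩ | ⟨P, hP, e', hh⟩ | ⟨P, hP, e', hh⟩
  · exact (hM.no_D h4 hCp ht hP₀ hAP hBP hk e).elim
  · exact ⟨hM.fus_pl h4 hCp hk hP₀ (e.trans e'), Or.inl ⟨P, hP, e', hh⟩⟩
  · exact ⟨hM.fus_pl h4 hCp hk hP₀ (e.trans e'), Or.inr ⟨P, hP, e', hh⟩⟩

end Px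

end Cfsg.Agent.Classical.TensorPowOrth
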