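import Cfsg.Agent.Lib.Classical.TensorPowOrth.FourSwap

/-!
Two factors of dimension four: the parts of elements commuting with reflections and planes, and the kinds of
involutions with diagonal parts.
-/

set_option autoImplicit false
set_option linter.unusedSectionVars false
set_option linter.unusedSimpArgs false
set_option linter.style.haveILetI false

open scoped Kronecker

namespace Cfsg.Agent.Classical.TensorPowOrth

open Matrix Module MaxTv TensorMax TensorPow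
open Cfsg.Agent.Classical.TensorOrth (Sym NdOn iso TSP IsSieg)

variable {F : Type*} [Field F] [Fintype F] {κ β : Type} [Fintype κ] [DecidableEq κ] [Fintype β] [DecidableEq β]
  {c : F} {h : (β → F) → (β → F) → F}

local notation "X" => (κ → β)
local notation "V" => ((κ → β) → F)
local notation "Mn" => Matrix (κ → β) (κ → β) F
local notation "Mb" => Matrix β β F
local notation "W" => (β → F)

/-- A product of two reflections at orthogonal vectors. -/
def Pl (hT : TData c h) (P : GL β F) : Prop :=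
  ∃ v u, h v v ≠ 0 ∧ h u u ≠ 0 ∧ h v u = 0 ∧ P = rf hT v * rf hT u

theorem pe2_mul {i m : κ} (him : i ≠ m) (A B A' B' : GL β F) :
    pe i A * pe m B * (pe i A' * pe m B') = pe i (A * A') * pe m (B * B') := by
  rw [mul_assoc, ← mul_assoc (pe m B), ← pe_comm him A' B, mul_assoc, ← map_mul, ← mul_assoc, ← map_mul]

theorem pe2_unique [Nontrivial β] {i m : κ} (him : i ≠ m) {A B A' B' : GL β F}
    (e : pe i A * pe m B = pe i A' * pe m B') :
    (∃ r : F, r ≠ 0 ∧ (A' : Mb) = r • (A : Mb)) ∧ ∃ r : F, r ≠ 0 ∧ (B' : Mb) = r • (B : Mb) := by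
  rw [pe_mul_pe him, pe_mul_pe him] at e
  obtain ⟨r, hr, e1⟩ := (wgl_unique e).2 i
  obtain ⟨s, hs, e2⟩ := (wgl_unique e).2 m
  rw [Function.update_of_ne him, Function.update_of_ne him, Function.update_self, Function.update_self] at e1
  rw [Function.update_self, Function.update_self] at e2
  exact ⟨⟨r, hr, e1⟩, s, hs, e2⟩

/-- The parts of commuting elements commute up to scalars. -/
theorem comm_parts [Nontrivial β] {i m : κ} (him : i ≠ m) {A B P Q : GL β F}
    (hc : pe i A * pe m B * (pe i P * pe m Q) = pe i P * pe m Q * (pe i A * pe m B)) :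
    (∃ r : F, r ≠ 0 ∧ (P : Mb) * (A : Mb) = r • ((A : Mb) * (P : Mb))) ∧
      ∃ r : F, r ≠ 0 ∧ (Q : Mb) * (B : Mb) = r • ((B : Mb) * (Q : Mb)) := by
  rw [pe2_mul him, pe2_mul him] at hc
  simpa only [Units.val_mul] using pe2_unique him hc

variable (hT : TData c h)
include hT

theorem TData.pl_dg (h4 : Fintype.card β = 4) {P : GL β F} (hP : Pl hT P) :
    ∃ e : Fin 4 → W, F4 h e ∧ Dg e {0, 1} P ∧ P = rf hT (e 0) * rf hT (e 1) := by
  obtain ⟨v, u, hv, hu, hvu, rfl⟩ := hP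
  obtain ⟨e, he, rfl, rfl⟩ := hT.frame2 h4 hv hu hvu
  exact ⟨e, he, hT.dg_pl he (by decide), rfl⟩

theorem TData.dg_pl' (h4 : Fintype.card β = 4) {e : Fin 4 → W} (he : F4 h e) {S : Finset (Fin 4)} (hS : S.card = 2)
    {P : GL β F} (hP : Dg e S P) : Pl hT P := by
  obtain ⟨a, b, hab, rfl⟩ := Finset.card_eq_two.1 hS
  exact ⟨e a, e b, he.ne a, he.ne b, he.orth a b hab, Dg.unique hT he h4 hP (hT.dg_pl he hab)⟩

theorem TData.pl_iso (h4 : Fintype.card β = 4) {P : GL β F} (hP : Pl hT P) :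
    P ∈ TensorOrth.iso h ∧ P * P = 1 ∧ (∀ r : F, (P : Mb) ≠ r • 1) ∧ (P : Mb).trace = 0 ∧ Pl hT (-P) := by
  obtain ⟨e, he, hD, hPe⟩ := hT.pl_dg h4 hP
  refine ⟨Dg.iso hT he h4 hD, Dg.unique hT he h4 (hD.mul hD) (by simpa using Dg.one e),
    hPe ▸ hT.pl_nonscalar h4 (he.ne 0) (he.ne 1) (he.orth 0 1 (by decide)),
    hPe ▸ hT.trace_pl h4 (he.ne 0) (he.ne 1) (he.orth 0 1 (by decide)),
    hT.dg_pl' h4 he (by decide) hD.neg⟩

/-- The part of an element commuting with a reflection. -/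
theorem TData.comm_rf_part (h4 : Fintype.card β = 4) {A : GL β F} {v : W} (hv : h v v ≠ 0) {r : F}
    (e : (rf hT v : Mb) * (A : Mb) = r • ((A : Mb) * (rf hT v : Mb))) : A * rf hT v = rf hT v * A := by
  have e' := congrArg (fun M : Mb => ((A⁻¹ : GL β F) : Mb) * M) e
  simp only [Matrix.mul_smul, ← mul_assoc, ← Units.val_mul, inv_mul_cancel, Units.val_one, one_mul] at e'
  have htr := congrArg Matrix.trace e'
  rw [Matrix.trace_smul, Units.val_mul, Units.val_mul, Matrix.trace_units_conj', hT.trace_rf h4 hv, smul_eq_mul] at htr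
  have hr : r = 1 := mul_right_cancel₀ hT.two (by linear_combination -htr)
  exact Units.ext (by rw [Units.val_mul, Units.val_mul, e, hr, one_smul])

/-- The part of an element commuting with a plane. -/
theorem TData.comm_pl_part (h4 : Fintype.card β = 4) {μ : F} {A : GL β F} (hA : Sim h μ A) {P : GL β F}
    (hP : Pl hT P) {r : F} (e : (P : Mb) * (A : Mb) = r • ((A : Mb) * (P : Mb))) : A * P = P * A := by
  obtain ⟨f, hf, hD, -⟩ := hT.pl_dg h4 hP
  have hPP : (P : Mb) * (P : Mb) = 1 := by rw [← Units.val_mul, (hT.pl_iso h4 hP).2.1, Units.val_one]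
  have h1 : (A : Mb) = (r * r) • (A : Mb) := by
    conv_lhs => rw [show (A : Mb) = (P : Mb) * ((P : Mb) * (A : Mb)) * 1 by rw [← mul_assoc, hPP, one_mul, mul_one]]
    rw [mul_one, e, Matrix.mul_smul, ← mul_assoc, e, Matrix.smul_mul, smul_smul, mul_assoc, hPP, mul_one]
  have hr : r * r = 1 := by
    by_contra hne
    have h2 : (r * r - 1) • (A : Mb) = 0 := by rw [sub_smul, one_smul, ← h1, sub_self]
    haveI := hT.nontriv h4
    exact Units.ne_zero A ((smul_eq_zero.1 h2).resolve_left (sub_ne_zero.2 hne))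
  rcases mul_self_eq_one_iff.1 hr with rfl | rfl
  · exact Units.ext (by rw [Units.val_mul, Units.val_mul, e, one_smul])
  · exact (hT.pl_sign h4 hf hA (by decide) hD (Units.ext (by
      rw [Units.val_mul, Units.val_neg, Units.val_mul, e, neg_one_smul, neg_neg]))).elim

/-- A similitude with scalar square and an eigenvector is a multiple of an isometric involution. -/
theorem TData.eig_invol (h4 : Fintype.card β = 4) {μ r : F} {A : GL β F} (hA : Sim h μ A)
    (hr : (A : Mb) * (A : Mb) = r • 1) (heig : ∃ (l : F) (x : W), x ≠ 0 ∧ (A : Mb) *ᵥ x = l • x) :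
    ∃ (a : F) (A' : GL β F), a ≠ 0 ∧ A' ∈ TensorOrth.iso h ∧ A' * A' = 1 ∧ (A : Mb) = a • (A' : Mb) ∧
      r = a * a := by
  rcases hT.sim_cases h4 hA hr with ⟨a, e, S, D, ha, he, hD, e'⟩ | ⟨-, -, hno⟩
  · have hDD : D * D = 1 := Dg.unique hT he h4 (hD.mul hD) (by simpa using Dg.one e)
    refine ⟨a, D, ha, Dg.iso hT he h4 hD, hDD, e', ?_⟩
    haveI := hT.nontriv h4
    rw [e', Matrix.smul_mul, Matrix.mul_smul, smul_smul, ← Units.val_mul, hDD, Units.val_one] at hr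
    exact (smul_left_injective F one_ne_zero hr).symm
  · obtain ⟨l, x, hx, hAx⟩ := heig
    exact absurd hAx (hno l x hx)

/-- An involution of the stabiliser with an eigenvector in one part has isometric involutions as its parts. -/
theorem TData.invol_split (h4 : Fintype.card β = 4) {i m : κ} (ht : Two i m) {y : GL X F} (hy : y ∈ Wr F κ β)
    (hyG : y ∈ GT (κ := κ) c h) (hyy : y * y = 1)
    (heig : ∀ A B : GL β F, ∀ μ ν : F, Sim h μ A → Sim h ν B → y = pe i A * pe m B →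
      ∃ (l : F) (x : W), x ≠ 0 ∧ ((A : Mb) *ᵥ x = l • x ∨ (B : Mb) *ᵥ x = l • x)) :
    ∃ A B : GL β F, y = pe i A * pe m B ∧ A ∈ TensorOrth.iso h ∧ B ∈ TensorOrth.iso h ∧ A * A = 1 ∧ B * B = 1 := by
  haveI := hT.nontriv h4
  obtain ⟨A, B, hye, μ, ν, r, s, hA, hB, hr, hs', hrs⟩ := hT.invol_two h4 ht hy hyG hyy
  have hsq : ∃ (a : F) (A' : GL β F) (b : F) (B' : GL β F), A' ∈ TensorOrth.iso h ∧ B' ∈ TensorOrth.iso h ∧
      A' * A' = 1 ∧ B' * B' = 1 ∧ (A : Mb) = a • (A' : Mb) ∧ (B : Mb) = b • (B' : Mb) ∧ (a * b) * (a * b) = 1 := by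
    have hpart : ∀ {μ r : F} {A : GL β F}, Sim h μ A → (A : Mb) * (A : Mb) = r • 1 → IsSquare r →
        ∃ (a : F) (A' : GL β F), A' ∈ TensorOrth.iso h ∧ A' * A' = 1 ∧ (A : Mb) = a • (A' : Mb) ∧ r = a * a := by
      intro μ r A hA hr hsq
      rcases hT.sim_cases h4 hA hr with ⟨a, e, S, D, ha, he, hD, e'⟩ | ⟨-, hn, -⟩
      · have hDD : D * D = 1 := Dg.unique hT he h4 (hD.mul hD) (by simpa using Dg.one e)
        refine ⟨a, D, Dg.iso hT he h4 hD, hDD, e', ?_⟩
        rw [e', Matrix.smul_mul, Matrix.mul_smul, smul_smul, ← Units.val_mul, hDD, Units.val_one] at hr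
        exact (smul_left_injective F one_ne_zero hr).symm
      · exact absurd hsq hn
    obtain ⟨l, x, hx, hAx | hBx⟩ := heig A B μ ν hA hB hye
    · obtain ⟨a, A', ha, hA', hAA, e, rfl⟩ := hT.eig_invol h4 hA hr ⟨l, x, hx, hAx⟩
      obtain ⟨b, B', hB', hBB, e', rfl⟩ := hpart hB hs' ⟨a⁻¹, by
        rw [← mul_inv, eq_inv_of_mul_eq_one_right hrs]⟩
      exact ⟨a, A', b, B', hA', hB', hAA, hBB, e, e', by linear_combination hrs⟩
    · obtain ⟨b, B', hb, hB', hBB, e', rfl⟩ := hT.eig_invol h4 hB hs' ⟨l, x, hx, hBx⟩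
      obtain ⟨a, A', hA', hAA, e, rfl⟩ := hpart hA hr ⟨b⁻¹, by
        rw [← mul_inv, eq_inv_of_mul_eq_one_left hrs]⟩
      exact ⟨a, A', b, B', hA', hB', hAA, hBB, e, e', by linear_combination hrs⟩
  obtain ⟨a, A', b, B', hA', hB', hAA, hBB, eA, eB, hab⟩ := hsq
  have key : (y : Mn) = (a * b) • ((pe i A' * pe m B' : GL X F) : Mn) := by
    rw [hye, Units.val_mul, Units.val_mul, ← et_val, ← et_val, ← et_val, ← et_val, eA, eB, et_smul, et_smul,
      Matrix.smul_mul, Matrix.mul_smul, smul_smul]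
  rcases mul_self_eq_one_iff.1 hab with e | e <;> rw [e] at key
  · exact ⟨A', B', Units.ext (by rw [key, one_smul]), hA', hB', hAA, hBB⟩
  · refine ⟨-A', B', Units.ext (by rw [key, neg_one_smul, pe_neg, neg_mul, Units.val_neg]), fun x z => ?_, hB', ?_, hBB⟩
    · rw [Units.val_neg, Matrix.neg_mulVec, Matrix.neg_mulVec, hT.hh.neg_left, hT.hh.neg_right, neg_neg, hA']
    · rw [neg_mul_neg, hAA]

/-- An even number of signs at two factors. -/
theorem TData.dg_parity (h4 : Fintype.card β = 4) {i m : κ} (ht : Two i m) {e f : Fin 4 → W} (he : F4 h e)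
    (hf : F4 h f) {S T : Finset (Fin 4)} {A B : GL β F} (hA : Dg e S A) (hB : Dg f T B)
    (hG : pe i A * pe m B ∈ GT (κ := κ) c h) : Even (S.card + T.card) := by
  obtain ⟨A', hA', hsA⟩ := hT.sgn_dg h4 ht.card.symm.le i he S
  obtain ⟨B', hB', hsB⟩ := hT.sgn_dg h4 ht.card.symm.le m hf T
  rw [← Dg.unique hT he h4 hA hA'] at hsA
  rw [← Dg.unique hT hf h4 hB hB'] at hsB
  have h1 := (hT.mem_GT.1 hG).2
  rw [sgn_mul (hT.sym (κ := κ)) hT.two (hT.pe_iso i (Dg.iso hT he h4 hA)) (hT.pe_iso m (Dg.iso hT hf h4 hB)), hsA,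
    hsB, Prod.mk_mul_mk, ← pow_add, hT.zeta_four h4 ht.card] at h1
  by_contra hodd
  rw [unit_pow_odd _ (Nat.not_even_iff_odd.1 hodd)] at h1
  exact absurd (congrArg Prod.snd h1) (by decide)

theorem TData.trace_two (h4 : Fintype.card β = 4) {i m : κ} (ht : Two i m) (A B : GL β F) :
    (pe i A * pe m B : GL X F).val.trace = (A : Mb).trace * (B : Mb).trace := by
  rw [trace_pe2 ht.ne, ht.card]
  simp

/-- The involutions of trace zero with diagonal parts. -/
theorem TData.kind_zero (h4 : Fintype.card β = 4) {i m : κ} (ht : Two i m) {A B : GL β F} (hAi : A ∈ TensorOrth.iso h)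
    (hBi : B ∈ TensorOrth.iso h) (hAA : A * A = 1) (hBB : B * B = 1)
    (hG : pe i A * pe m B ∈ GT (κ := κ) c h) (htr : (pe i A * pe m B : GL X F).val.trace = 0) :
    (Pl hT A ∧ Pl hT B) ∨ (∃ P, Pl hT P ∧ pe i A * pe m B = pe i P ∧ Pl hT A ∧ (B = 1 ∨ B = -1)) ∨
      ∃ P, Pl hT P ∧ pe i A * pe m B = pe m P ∧ Pl hT B ∧ (A = 1 ∨ A = -1) := by
  classical
  obtain ⟨e, S, he, -, hA⟩ := hT.invol_dg h4 hAi hAA (n := 0) (by omega) Fin.elim0 (fun a => a.elim0)
    (fun a => a.elim0) (fun a => a.elim0)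
  obtain ⟨f, T, hf, -, hB⟩ := hT.invol_dg h4 hBi hBB (n := 0) (by omega) Fin.elim0 (fun a => a.elim0)
    (fun a => a.elim0) (fun a => a.elim0)
  have hpar := hT.dg_parity h4 ht he hf hA hB hG
  rw [hT.trace_two h4 ht, hT.trace_dg h4 he hA, hT.trace_dg h4 hf hB, mul_eq_zero] at htr
  have hc : ∀ n : ℕ, n ≤ 4 → (4 : F) - 2 * (n : F) = 0 → n = 2 := fun n hn h0 => by
    interval_cases n
    · norm_num at h0; exact absurd h0 hT.four_ne
    · norm_num at h0; exact absurd h0 hT.two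
    · rfl
    · norm_num at h0; exact absurd h0 hT.two
    · norm_num at h0; exact absurd h0 hT.four_ne
  have hle : ∀ S : Finset (Fin 4), S.card ≤ 4 := fun S => (Finset.card_le_univ S).trans (by simp)
  have hkind : ∀ {e : Fin 4 → W} {S : Finset (Fin 4)} {A : GL β F}, F4 h e → Dg e S A → Even S.card →
      Pl hT A ∨ A = 1 ∨ A = -1 := by
    intro e S A he hA hev
    rcases (by decide : ∀ S : Finset (Fin 4), Even S.card → S.card = 2 ∨ S = ∅ ∨ S = (∅ : Finset (Fin 4))ᶜ) S hev with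
      h2 | rfl | rfl
    · exact Or.inl (hT.dg_pl' h4 he h2 hA)
    · exact Or.inr (Or.inl (Dg.unique hT he h4 hA (Dg.one e)))
    · exact Or.inr (Or.inr (Dg.unique hT he h4 hA (Dg.one e).neg))
  rcases htr with h0 | h0
  · have h2 := hc _ (hle S) h0
    have hAP := hT.dg_pl' h4 he h2 hA
    rw [h2] at hpar
    rcases hkind hf hB (by simpa [Nat.even_add] using hpar) with hBP | rfl | rfl
    · exact Or.inl ⟨hAP, hBP⟩
    · exact Or.inr (Or.inl ⟨A, hAP, by rw [map_one, mul_one], hAP, Or.inl rfl⟩)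
    · exact Or.inr (Or.inl ⟨-A, (hT.pl_iso h4 hAP).2.2.2.2,
        by rw [pe_neg, pe_neg, map_one, mul_neg, mul_one], hAP, Or.inr rfl⟩)
  · have h2 := hc _ (hle T) h0
    have hBP := hT.dg_pl' h4 hf h2 hB
    rw [h2] at hpar
    rcases hkind he hA (by simpa [Nat.even_add] using hpar) with hAP | rfl | rfl
    · exact Or.inl ⟨hAP, hBP⟩
    · exact Or.inr (Or.inr ⟨B, hBP, by rw [map_one, one_mul], hBP, Or.inl rfl⟩)
    · exact Or.inr (Or.inr ⟨-B, (hT.pl_iso h4 hBP).2.2.2.2,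
        by rw [pe_neg, pe_neg, map_one, neg_mul, one_mul], hBP, Or.inr rfl⟩)

/-- A product of two reflections at two factors. -/
theorem TData.AA_facts (h4 : Fintype.card β = 4) {i m : κ} (ht : Two i m) {v u : W} (hv : h v v ≠ 0) (hu : h u u ≠ 0) :
    pe i (rf hT v) * pe m (rf hT u) ∈ GT (κ := κ) c h ∧
      (pe i (rf hT v) * pe m (rf hT u)) * (pe i (rf hT v) * pe m (rf hT u)) = 1 ∧
      (pe i (rf hT v) * pe m (rf hT u) : GL X F).val.trace = 4 := by
  refine ⟨hT.mem_GT.2 ⟨mul_mem (hT.pe_iso i (hT.rf_iso v)) (hT.pe_iso m (hT.rf_iso u)), ?_⟩, ?_, ?_⟩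
  · rw [sgn_mul (hT.sym (κ := κ)) hT.two (hT.pe_iso i (hT.rf_iso v)) (hT.pe_iso m (hT.rf_iso u)),
      hT.sgn_pe_refl_even ⟨2, by omega⟩ ht.card.symm.le i hv (hT.rf_apply hv),
      hT.sgn_pe_refl_even ⟨2, by omega⟩ ht.card.symm.le m hu (hT.rf_apply hu), Prod.mk_mul_mk, one_mul,
      Int.units_mul_self]
    rfl
  · rw [pe2_mul ht.ne, hT.rf_sq hv, hT.rf_sq hu, map_one, map_one, one_mul]
  · rw [hT.trace_two h4 ht, hT.trace_rf h4 hv, hT.trace_rf h4 hu]
    norm_num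

/-- The involutions of trace four with diagonal parts. -/
theorem TData.kind_four (h4 : Fintype.card β = 4) {i m : κ} (ht : Two i m) {A B : GL β F} (hAi : A ∈ TensorOrth.iso h)
    (hBi : B ∈ TensorOrth.iso h) (hAA : A * A = 1) (hBB : B * B = 1)
    (hG : pe i A * pe m B ∈ GT (κ := κ) c h) (htr : (pe i A * pe m B : GL X F).val.trace = 4)
    (h1 : pe i A * pe m B ≠ 1) (hn1 : pe i A * pe m B ≠ -1) :
    ∃ p q : W, h p p ≠ 0 ∧ h q q ≠ 0 ∧ pe i A * pe m B = pe i (rf hT p) * pe m (rf hT q) ∧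
      (A = rf hT p ∨ A = -rf hT p) ∧ (B = rf hT q ∨ B = -rf hT q) := by
  classical
  obtain ⟨e, S, he, -, hA⟩ := hT.invol_dg h4 hAi hAA (n := 0) (by omega) Fin.elim0 (fun a => a.elim0)
    (fun a => a.elim0) (fun a => a.elim0)
  obtain ⟨f, T, hf, -, hB⟩ := hT.invol_dg h4 hBi hBB (n := 0) (by omega) Fin.elim0 (fun a => a.elim0)
    (fun a => a.elim0) (fun a => a.elim0)
  have hpar := hT.dg_parity h4 ht he hf hA hB hG
  rw [hT.trace_two h4 ht, hT.trace_dg h4 he hA, hT.trace_dg h4 hf hB] at htr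
  have hkind : ∀ {e : Fin 4 → W} {S : Finset (Fin 4)} {A : GL β F}, F4 h e → Dg e S A →
      (S.card = 0 ∧ A = 1) ∨ (S.card = 4 ∧ A = -1) ∨ S.card = 2 ∨
        (∃ a, S.card = 1 ∧ A = rf hT (e a)) ∨ ∃ a, S.card = 3 ∧ A = -rf hT (e a) := by
    intro e S A he hA
    rcases (by decide : ∀ S : Finset (Fin 4), S = ∅ ∨ S = (∅ : Finset (Fin 4))ᶜ ∨ S.card = 2 ∨ (∃ a, S = {a}) ∨
        ∃ a, S = ({a} : Finset (Fin 4))ᶜ) S with rfl | rfl | h2 | ⟨a, rfl⟩ | ⟨a, rfl⟩
    · exact Or.inl ⟨rfl, Dg.unique hT he h4 hA (Dg.one e)⟩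
    · exact Or.inr (Or.inl ⟨by decide, Dg.unique hT he h4 hA (Dg.one e).neg⟩)
    · exact Or.inr (Or.inr (Or.inl h2))
    · exact Or.inr (Or.inr (Or.inr (Or.inl ⟨a, by simp, Dg.unique hT he h4 hA (Dg.rf hT he a)⟩)))
    · exact Or.inr (Or.inr (Or.inr (Or.inr ⟨a, by simp [Finset.card_compl],
        Dg.unique hT he h4 hA (Dg.rf hT he a).neg⟩)))
  have h2' := hT.two
  rcases hkind he hA with ⟨hS, eA⟩ | ⟨hS, eA⟩ | hS | ⟨a, hS, eA⟩ | ⟨a, hS, eA⟩ <;>
    rcases hkind hf hB with ⟨hTc, eB⟩ | ⟨hTc, eB⟩ | hTc | ⟨b, hTc, eB⟩ | ⟨b, hTc, eB⟩ <;>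
    simp only [hS, hTc] at hpar htr
  all_goals first
    | (exfalso; revert hpar; decide)
    | (exfalso; exact hT.four_ne (by norm_num at htr ⊢; linear_combination -htr))
    | (exfalso; apply h1; rw [eA, eB]; simp [pe_neg]; done)
    | (exfalso; apply hn1; rw [eA, eB]; simp [pe_neg]; done)
    | exact ⟨e a, f b, he.ne a, hf.ne b, by subst eA eB; rfl, Or.inl eA, Or.inl eB⟩
    | exact ⟨e a, f b, he.ne a, hf.ne b, by subst eA eB; rw [pe_neg, pe_neg, neg_mul_neg], Or.inr eA, Or.inr eB⟩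
    | (exfalso; norm_num at htr; exact mul_ne_zero h2' (mul_ne_zero h2' h2') (by linear_combination htr))
    | (exfalso; norm_num at htr; exact mul_ne_zero h2' (mul_ne_zero h2' h2') (by linear_combination -htr))

end Cfsg.Agent.Classical.TensorPowOrth
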