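import Cfsg.Agent.Lib.Classical.TensorPowOrth.Wr
import Cfsg.Agent.Lib.Classical.TensorPow.Ctx

/-!
Elements of product shape in a tensor power, elements diagonal on the tensors of a frame, and: the derived group of
the isometries does not stabilise the decomposition.
-/

set_option autoImplicit false
set_option linter.unusedSectionVars false
set_option linter.unusedSimpArgs false
set_option linter.style.haveILetI false

open scoped Kronecker

namespace Cfsg.Agent.Classical.TensorPowOrth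

open Matrix Module MaxTv TensorMax TensorPow
open Cfsg.Agent.Classical.TensorOrth (Sym NdOn iso cj ext_pure ext_kron)

variable {F : Type*} [Field F] [Fintype F] {κ β : Type} [Fintype κ] [DecidableEq κ] [Fintype β] [DecidableEq β]
  {c : F} {h : (β → F) → (β → F) → F}

local notation "X" => (κ → β)
local notation "V" => ((κ → β) → F)
local notation "Mn" => Matrix (κ → β) (κ → β) F
local notation "Mb" => Matrix β β F
local notation "W" => (β → F)

/-- An element of the other factors. -/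
def emb (i : κ) : GL (Rst i → β) F →* GL (κ → β) F where
  toFun A := (sp i).symm (k2 A 1)
  map_one' := by rw [k2_one, map_one]
  map_mul' A A' := by rw [← map_mul, k2_mul, one_mul]

theorem sp_emb (i : κ) (A : GL (Rst i → β) F) : sp i (emb i A) = k2 A 1 := MulEquiv.apply_symm_apply _ _

theorem emb_pe (i : κ) (j : Rst i) (B : GL β F) : emb i (pe j B) = pe j.1 B :=
  (sp i).injective (by rw [sp_emb, sp_pe_ne j.2])

theorem emb_mem_Wr {i : κ} {A : GL (Rst i → β) F} (hA : A ∈ Wr F (Rst i) β) : emb i A ∈ Wr F κ β :=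
  mem_Wr_of_sp (sp_emb i A) hA

theorem emb_mulVec (i : κ) (A : GL (Rst i → β) F) (x : (Rst i → β) → F) (w : W) :
    (emb i A : Mn) *ᵥ (spV i).symm (tmul x w) = (spV i).symm (tmul ((A : Matrix (Rst i → β) (Rst i → β) F) *ᵥ x) w) := by
  apply (spV i).injective
  rw [← sp_mulVec, LinearEquiv.apply_symm_apply, LinearEquiv.apply_symm_apply, sp_emb, k2_mulVec, Units.val_one,
    Matrix.one_mulVec]

theorem card_rst_one (i : κ) : Fintype.card (Rst i) + 1 = Fintype.card κ := by
  rw [Fintype.card_subtype_compl, Fintype.card_subtype_eq]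
  have : 0 < Fintype.card κ := Fintype.card_pos_iff.2 ⟨i⟩
  omega

theorem nonempty_rst (ht : 2 ≤ Fintype.card κ) (i : κ) : Nonempty (Rst i) :=
  Fintype.card_pos_iff.1 (by have := card_rst_one i; omega)

variable (hT : TData c h)
include hT

/-- Products of similitudes with inverse multipliers are isometries. -/
theorem TData.k2_iso (i : κ) {g : GL X F} {A : GL (Rst i → β) F} {B : GL β F} (hg : sp i g = k2 A B) {μ ν : F}
    (hμν : μ * ν = 1)
    (hA : ∀ x x', tf c h ((A : Matrix (Rst i → β) (Rst i → β) F) *ᵥ x) ((A : Matrix (Rst i → β) (Rst i → β) F) *ᵥ x') = μ * tf c h x x')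
    (hB : ∀ y y', h ((B : Mb) *ᵥ y) ((B : Mb) *ᵥ y') = ν * h y y') : g ∈ iso (tf c h) := by
  rw [← hT.sp_iso i, hg]
  have hs := hT.sym_tfs (κ := κ) i
  have key : ∀ s x y, tfs c h i ((k2 A B : Matrix ((Rst i → β) × β) ((Rst i → β) × β) F) *ᵥ s) ((k2 A B : Matrix ((Rst i → β) × β) ((Rst i → β) × β) F) *ᵥ tmul x y) =
      tfs c h i s (tmul x y) := fun s x y => by
    have h1 : (hs.lin ((k2 A B : Matrix ((Rst i → β) × β) ((Rst i → β) × β) F) *ᵥ tmul x y)).comp (Matrix.toLin' (k2 A B : Matrix ((Rst i → β) × β) ((Rst i → β) × β) F)) =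
        hs.lin (tmul x y) := ext_pure fun a b => by
      simp only [LinearMap.comp_apply, Matrix.toLin'_apply, hs.lin_apply, k2_mulVec, hT.tfs_tmul, hA, hB]
      linear_combination (tf c h a x * h b y) * hμν
    have := LinearMap.congr_fun h1 s
    rwa [LinearMap.comp_apply, hs.lin_apply, hs.lin_apply, Matrix.toLin'_apply] at this
  intro s t
  have h1 : (hs.lin ((k2 A B : Matrix ((Rst i → β) × β) ((Rst i → β) × β) F) *ᵥ s)).comp (Matrix.toLin' (k2 A B : Matrix ((Rst i → β) × β) ((Rst i → β) × β) F)) = hs.lin s :=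
    ext_pure fun a b => by
      simp only [LinearMap.comp_apply, Matrix.toLin'_apply, hs.lin_apply]
      rw [hs.symm _ ((k2 A B : Matrix ((Rst i → β) × β) ((Rst i → β) × β) F) *ᵥ _), hs.symm (tmul a b) s, key]
  have := LinearMap.congr_fun h1 t
  rw [LinearMap.comp_apply, hs.lin_apply, hs.lin_apply, Matrix.toLin'_apply] at this
  rw [hs.symm _ ((k2 A B : Matrix ((Rst i → β) × β) ((Rst i → β) × β) F) *ᵥ t), this, hs.symm]

theorem TData.emb_iso {i : κ} {A : GL (Rst i → β) F} (hA : A ∈ iso (tf (κ := Rst i) c h)) :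
    emb i A ∈ iso (tf (κ := κ) c h) :=
  hT.k2_iso i (sp_emb i A) (one_mul 1) (fun x x' => by rw [one_mul, hA]) (fun y y' => by simp)

theorem TData.emb_GT {i : κ} {A : GL (Rst i → β) F} (hA : A ∈ GT (κ := Rst i) c h) :
    emb i A ∈ GT (κ := κ) c h := by
  have h1 : (GT (κ := Rst i) c h).map (emb i) ≤ GT (κ := κ) c h := by
    rw [GT, Subgroup.map_commutator]
    refine Subgroup.commutator_mono ?_ ?_ <;>
    · rintro _ ⟨a, ha, rfl⟩
      exact hT.emb_iso ha
  exact h1 ⟨A, hA, rfl⟩

/-- An isometry of product shape has similitudes as its parts. -/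
theorem TData.kron_simil {i : κ} {g : GL X F} (hg : g ∈ iso (tf c h)) {A : GL (Rst i → β) F} {B : GL β F}
    (hAB : sp i g = k2 A B) : ∃ μ : F, μ ≠ 0 ∧
      (∀ x x', tf c h ((A : Matrix (Rst i → β) (Rst i → β) F) *ᵥ x) ((A : Matrix (Rst i → β) (Rst i → β) F) *ᵥ x') = μ * tf c h x x') ∧
      ∀ y y', μ * h ((B : Mb) *ᵥ y) ((B : Mb) *ᵥ y') = h y y' := by
  classical
  have hs := hT.hh
  have hR := hT.sym (κ := Rst i)
  have hi : ∀ x x' y y', tf c h ((A : Matrix (Rst i → β) (Rst i → β) F) *ᵥ x) ((A : Matrix (Rst i → β) (Rst i → β) F) *ᵥ x') *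
      h ((B : Mb) *ᵥ y) ((B : Mb) *ᵥ y') = tf c h x x' * h y y' := fun x x' y y' => by
    have h1 := (hT.sp_iso i).2 hg (tmul x y) (tmul x' y')
    rwa [hAB, k2_mulVec, k2_mulVec, hT.tfs_tmul, hT.tfs_tmul] at h1
  obtain ⟨j⟩ : Nonempty β := Fintype.card_pos_iff.1 (by have := hT.three; omega)
  obtain ⟨y₀, -, hy₀⟩ := hs.exists_aniso hT.two hs.ndOn_top ⟨Pi.single j 1, trivial, by simp⟩
  obtain ⟨x₁, x₂, hx⟩ : ∃ x₁ x₂ : (Rst i → β) → F, tf c h x₁ x₂ = 1 := by
    obtain ⟨x₁, hx₁⟩ := hR.sesq.exists_one (v := ptens fun _ : Rst i => (Pi.single j 1 : β → F))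
      (ptens_ne_zero fun _ => by simp)
    exact ⟨_, _, hx₁⟩
  obtain ⟨μ, hμ⟩ : ∃ μ, μ = tf c h ((A : Matrix (Rst i → β) (Rst i → β) F) *ᵥ x₁) ((A : Matrix (Rst i → β) (Rst i → β) F) *ᵥ x₂) := ⟨_, rfl⟩
  have hBy : ∀ y y', μ * h ((B : Mb) *ᵥ y) ((B : Mb) *ᵥ y') = h y y' := fun y y' => by
    rw [hμ, hi, hx, one_mul]
  have hμ0 : μ ≠ 0 := fun e => hy₀ (by rw [← hBy, e, zero_mul])
  have hA : ∀ x x', tf c h ((A : Matrix (Rst i → β) (Rst i → β) F) *ᵥ x) ((A : Matrix (Rst i → β) (Rst i → β) F) *ᵥ x') = μ * tf c h x x' := fun x x' => by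
    have h1 := hi x x' y₀ y₀
    have h3 : h ((B : Mb) *ᵥ y₀) ((B : Mb) *ᵥ y₀) = h y₀ y₀ / μ := by
      rw [eq_div_iff hμ0, mul_comm, hBy]
    rw [h3] at h1
    field_simp at h1
    linear_combination h1
  exact ⟨μ, hμ0, hA, hBy⟩

/-- Isometries of product shape are products of isometries, in odd dimension. -/
theorem TData.split_iso (hodd : Odd (Fintype.card β)) {i : κ} {g : GL X F} (hg : g ∈ iso (tf c h))
    (hk : IsKron (sp i g)) :
    ∃ (A : GL (Rst i → β) F) (B : GL β F), A ∈ iso (tf (κ := Rst i) c h) ∧ B ∈ iso h ∧ sp i g = k2 A B := by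
  classical
  obtain ⟨A, B, hAB⟩ := isKron_iff.1 hk
  obtain ⟨μ, hμ0, hA, hBy⟩ := hT.kron_simil hg hAB
  have hs := hT.hh
  have hR := hT.sym (κ := Rst i)
  obtain ⟨s, hs0, hsμ⟩ : ∃ s : F, s ≠ 0 ∧ s * s = μ := by
    have hm : (B : Mb)ᵀ * (gram h * (B : Mb)) = μ⁻¹ • gram h := Matrix.ext fun a b => by
      have h1 : ((B : Mb)ᵀ * (gram h * (B : Mb))) a b =
          h ((B : Mb) *ᵥ Pi.single a 1) ((B : Mb) *ᵥ Pi.single b 1) := by
        rw [← apply_gram hs, Matrix.mulVec_single_one, Matrix.mulVec_single_one]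
        rfl
      rw [h1, Matrix.smul_apply, smul_eq_mul, eq_inv_mul_iff_mul_eq₀ hμ0, hBy]
      rfl
    have h1 := congrArg Matrix.det hm
    rw [Matrix.det_mul, Matrix.det_mul, Matrix.det_transpose, Matrix.det_smul] at h1
    obtain ⟨d, hd⟩ : ∃ d, d = (B : Mb).det := ⟨_, rfl⟩
    rw [← hd] at h1
    have h3 : d * d = μ⁻¹ ^ Fintype.card β := by
      refine mul_right_cancel₀ hT.gram_det_ne ?_
      linear_combination h1
    obtain ⟨r, hr⟩ := hodd
    rw [hr] at h3
    have hd0 : d ≠ 0 := fun e => pow_ne_zero _ (inv_ne_zero hμ0) (by rw [← h3, e, zero_mul])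
    refine ⟨μ⁻¹ ^ r / d, div_ne_zero (pow_ne_zero _ (inv_ne_zero hμ0)) hd0, ?_⟩
    field_simp
    rw [pow_succ, pow_mul] at h3
    linear_combination (norm := skip) (-μ) * h3
    field_simp
    ring
  obtain ⟨A', hA'⟩ := exists_gl_of_injective (s⁻¹ • Matrix.toLin' (A : Matrix (Rst i → β) (Rst i → β) F))
    fun x y e => gl_mulVec_injective A (smul_right_injective _ (inv_ne_zero hs0) e)
  obtain ⟨B', hB'⟩ := exists_gl_of_injective (s • Matrix.toLin' (B : Mb))
    fun x y e => gl_mulVec_injective B (smul_right_injective _ hs0 e)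
  refine ⟨A', B', fun x x' => ?_, fun y y' => ?_, ?_⟩
  · rw [hA', hA']
    simp only [LinearMap.smul_apply, Matrix.toLin'_apply, hR.smul_left, hR.smul_right, hA, ← hsμ]
    field_simp
  · rw [hB', hB']
    simp only [LinearMap.smul_apply, Matrix.toLin'_apply, hs.smul_left, hs.smul_right]
    rw [← mul_assoc, hsμ, hBy]
  · rw [hAB]
    refine ext_kron fun x y => ?_
    rw [k2_mulVec, k2_mulVec, hA', hB']
    simp only [LinearMap.smul_apply, Matrix.toLin'_apply, tmul_smul_left, tmul_smul_right, smul_smul,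
      inv_mul_cancel₀ hs0, mul_inv_cancel₀ hs0, one_smul]

/-- Maps agreeing on the tensors of a frame are equal. -/
theorem TData.ext_frame {e : β → W} (he : Orth h e) {U : Type*} [AddCommGroup U]
    [Module F U] {L L' : V →ₗ[F] U}
    (hL : ∀ y : κ → β, L (ptens fun l => e (y l)) = L' (ptens fun l => e (y l))) : L = L' :=
  ext_ptens fun xs => by
    conv_lhs => rw [funext fun l : κ => he.expand hT (xs l), ptens_sum (fun l a => h (e a) (xs l) / h (e a) (e a)) fun _ a => e a]
    conv_rhs => rw [funext fun l : κ => he.expand hT (xs l), ptens_sum (fun l a => h (e a) (xs l) / h (e a) (e a)) fun _ a => e a]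
    simp only [map_sum, map_smul, hL]

/-- A skew map commuting with the diagonal elements at the factors vanishes. -/
theorem TData.eq_zero_of_comm_diag (hκ : 2 ≤ Fintype.card κ) {e : β → W} (he : Orth h e) {E : V →ₗ[F] V}
    (hskew : ∀ x y, tf c h (E x) y = -tf c h x (E y))
    (hcomm : ∀ (l : κ) (B : GL β F), B ∈ iso h → pe l B ∈ GT c h → (∀ a, ∃ s : F, (B : Mb) *ᵥ e a = s • e a) →
      cj (pe l B) E = E) : E = 0 := by
  classical
  have hV := hT.sym (κ := κ)
  have hs := hT.hh
  have key : ∀ y y' : κ → β, tf c h (E (ptens fun l => e (y l))) (ptens fun l => e (y' l)) = 0 := by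
    intro y y'
    rcases eq_or_ne y y' with rfl | hne
    · have h1 := hskew (ptens fun l => e (y l)) (ptens fun l => e (y l))
      rw [hV.symm (ptens _) (E _), eq_neg_iff_add_eq_zero, ← two_mul] at h1
      exact (mul_eq_zero.1 h1).resolve_left hT.two
    obtain ⟨l, hl⟩ := Function.ne_iff.1 hne
    obtain ⟨b, hby, hby'⟩ : ∃ b, b ≠ y l ∧ b ≠ y' l := by
      by_contra hc
      push Not at hc
      have h1 := Finset.card_le_card (show (Finset.univ : Finset β) ⊆ {y l, y' l} from fun a _ => by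
        rw [Finset.mem_insert, Finset.mem_singleton]
        exact or_iff_not_imp_left.2 (hc a))
      rw [Finset.card_univ, Finset.card_pair hl] at h1
      have := hT.three
      omega
    have hv := he.ne
    obtain ⟨B, hB, hBG, hBx⟩ := hT.exists_pair l (hv (y l)) (hv b) ((he.pair (y l) b).imp (fun hev => ⟨hev, hκ⟩) id)
      (he.orth _ _ (Ne.symm hby))
    have hneg : (B : Mb) *ᵥ e (y l) = -e (y l) := by
      rw [hBx, he.orth _ _ (Ne.symm hby)]
      have := hv (y l)
      match_scalars <;> field_simp <;> ring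
    have hfix : ∀ a, a ≠ y l → a ≠ b → (B : Mb) *ᵥ e a = e a := fun a h1 h2 => by
      rw [hBx, he.orth _ _ h1, he.orth _ _ h2]; simp
    have hdiag : ∀ a, ∃ s : F, (B : Mb) *ᵥ e a = s • e a := fun a => by
      by_cases h1 : a = y l
      · exact ⟨-1, by rw [h1, hneg, neg_one_smul]⟩
      by_cases h2 : a = b
      · refine ⟨-1, ?_⟩
        rw [h2, hBx, he.orth _ _ hby]
        have := hv b
        match_scalars <;> field_simp <;> ring
      exact ⟨1, by rw [hfix a h1 h2, one_smul]⟩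
    have hp : ∀ (z : κ → β) (s : F), (B : Mb) *ᵥ e (z l) = s • e (z l) →
        (pe l B : Mn) *ᵥ ptens (fun m => e (z m)) = s • ptens (fun m => e (z m)) := fun z s hz => by
      rw [pe_mulVec, hz]
      funext x
      rw [Pi.smul_apply, ptens_update, Pi.smul_apply, smul_eq_mul, smul_eq_mul, ptens,
        ← Finset.mul_prod_erase _ _ (Finset.mem_univ l), mul_assoc]
    have h1 := LinearMap.congr_fun (hcomm l B hB hBG hdiag) ((pe l B : Mn) *ᵥ ptens (fun m => e (y m)))
    rw [TensorOrth.cj_apply, inv_mulVec_cancel, hp y (-1) (by rw [hneg, neg_one_smul])] at h1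
    have h3 := (hT.gt_le_iso hBG) (E (ptens fun m => e (y m))) (ptens fun m => e (y' m))
    rw [h1, map_smul, hV.smul_left, hp y' 1 (by rw [hfix _ (Ne.symm hl) (Ne.symm hby'), one_smul]), one_smul] at h3
    exact (mul_eq_zero.1 (show (2 : F) * tf c h (E (ptens fun m => e (y m))) (ptens fun m => e (y' m)) = 0 by
      linear_combination -h3)).resolve_left hT.two
  refine hT.ext_frame he fun y => ?_
  rw [LinearMap.zero_apply]
  refine hV.eq_zero _ fun x => ?_
  refine (congrArg (· x) (hT.ext_frame he (L := hV.lin (E (ptens fun l => e (y l)))) (L' := 0) fun y' => ?_) :)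
  rw [hV.lin_apply, hV.symm, key, LinearMap.zero_apply]

/-- An element of the derived group, diagonal on the tensors of a basis, outside the stabiliser. -/
theorem TData.exists_diag (hκ : 2 ≤ Fintype.card κ) :
    ∃ (e : β → W) (A : GL X F), Orth h e ∧ A ∈ GT c h ∧ A ∉ Wr F κ β ∧
      ∀ y : κ → β, ∃ s : F, (A : Mn) *ᵥ ptens (fun l => e (y l)) = s • ptens (fun l => e (y l)) := by
  classical
  have hV := hT.sym (κ := κ)
  have hs := hT.hh
  obtain ⟨e, he⟩ := hT.exists_orth
  obtain ⟨j, k, hjk⟩ := Fintype.exists_pair_of_one_lt_card (show 1 < Fintype.card κ by omega)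
  obtain ⟨a₀, a₁, a₂, h01, h02, h12⟩ := Fintype.two_lt_card_iff.1 (show 2 < Fintype.card β by have := hT.three; omega)
  obtain ⟨P, hP⟩ : ∃ P : (κ → β) → V, P = fun y => ptens fun l => e (y l) := ⟨_, rfl⟩
  obtain ⟨D, hD⟩ : ∃ D : (κ → β) → F, D = fun y => c * ∏ l, h (e (y l)) (e (y l)) := ⟨_, rfl⟩
  have hD0 : ∀ y, D y ≠ 0 := fun y => by
    rw [hD]; exact mul_ne_zero hT.hc (Finset.prod_ne_zero_iff.2 fun l _ => he.ne _)
  have hPf : ∀ y y', tf c h (P y) (P y') = if y = y' then D y else 0 := fun y y' => by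
    simp only [hP, hD]
    rw [hT.tf_ptens]
    split_ifs with hyy
    · subst hyy; rfl
    · obtain ⟨l, hl⟩ := Function.ne_iff.1 hyy
      rw [Finset.prod_eq_zero (Finset.mem_univ l) (he.orth _ _ hl), mul_zero]
  obtain ⟨p, hp⟩ : ∃ p : Fin 2 → κ → β, p = ![fun _ => a₀, fun l => if l = j ∨ l = k then a₁ else a₀] := ⟨_, rfl⟩
  have hp01 : p 0 ≠ p 1 := fun e0 => h01 (by simpa [hp] using congrFun e0 j)
  have hDsq : IsSquare (D (p 0) / 2 * (D (p 1) / 2)) := by
    obtain ⟨R, hR⟩ : ∃ R, R = ∏ l ∈ (Finset.univ.erase j).erase k, h (e a₀) (e a₀) := ⟨_, rfl⟩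
    have hsplit : ∀ f : κ → F, ∏ l, f l = f j * (f k * ∏ l ∈ (Finset.univ.erase j).erase k, f l) := fun f => by
      rw [← Finset.mul_prod_erase _ f (Finset.mem_univ j),
        ← Finset.mul_prod_erase _ f (Finset.mem_erase.2 ⟨hjk.symm, Finset.mem_univ k⟩)]
    refine ⟨c * h (e a₀) (e a₀) * h (e a₁) (e a₁) * R / 2, ?_⟩
    have e1 : ∏ l, h (e (p 1 l)) (e (p 1 l)) = h (e a₁) (e a₁) * (h (e a₁) (e a₁) * R) := by
      rw [hsplit, hR]
      simp only [hp, Matrix.cons_val_one, Matrix.cons_val_zero, true_or, or_true, if_true]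
      congr 2
      refine Finset.prod_congr rfl fun l hl => ?_
      simp only [Finset.mem_erase, Finset.mem_univ, and_true] at hl
      simp [hl.1, hl.2]
    have e0 : ∏ l, h (e (p 0 l)) (e (p 0 l)) = h (e a₀) (e a₀) * (h (e a₀) (e a₀) * R) := by
      rw [hsplit, hR]
      simp only [hp, Matrix.cons_val_zero]
    rw [hD]
    simp only
    rw [e0, e1]
    ring
  obtain ⟨L, hL⟩ : ∃ L : V →ₗ[F] V,
      L = LinearMap.id - ∑ i : Fin 2, ((2 / D (p i)) • hV.lin (P (p i))).smulRight (P (p i)) := ⟨_, rfl⟩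
  have hLx : ∀ x, L x = x - ∑ i : Fin 2, (2 * tf c h (P (p i)) x / tf c h (P (p i)) (P (p i))) • P (p i) := fun x => by
    simp only [hL, LinearMap.sub_apply, LinearMap.id_apply, LinearMap.coe_sum, Finset.sum_apply,
      LinearMap.smulRight_apply, LinearMap.smul_apply, hV.lin_apply, smul_eq_mul, hPf, if_true, hV.symm x,
      div_mul_eq_mul_div]
  have hLP : ∀ y, ∃ s : F, L (P y) = s • P y := fun y => by
    rw [hLx, Fin.sum_univ_two]
    simp only [hPf, if_true]
    by_cases h0 : p 0 = y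
    · subst h0
      rw [if_pos rfl, if_neg hp01.symm]
      exact ⟨-1, by have := hD0 (p 0); have := hD0 (p 1); match_scalars <;> field_simp <;> ring⟩
    by_cases h1 : p 1 = y
    · subst h1
      rw [if_neg h0, if_pos rfl]
      exact ⟨-1, by have := hD0 (p 0); have := hD0 (p 1); match_scalars <;> field_simp <;> ring⟩
    rw [if_neg h0, if_neg h1]
    exact ⟨1, by simp⟩
  have hLL : L.comp L = LinearMap.id := hT.ext_frame he fun y => by
    have h1 : L (P y) = P y ∨ L (P y) = -P y := by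
      rw [hLx, Fin.sum_univ_two]
      simp only [hPf, if_true]
      by_cases h0 : p 0 = y
      · subst h0
        rw [if_pos rfl, if_neg hp01.symm]
        exact Or.inr (by have := hD0 (p 0); have := hD0 (p 1); match_scalars <;> field_simp <;> ring)
      by_cases h1 : p 1 = y
      · subst h1
        rw [if_neg h0, if_pos rfl]
        exact Or.inr (by have := hD0 (p 0); have := hD0 (p 1); match_scalars <;> field_simp <;> ring)
      rw [if_neg h0, if_neg h1]
      exact Or.inl (by simp)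
    rw [LinearMap.comp_apply, LinearMap.id_apply]
    change L (L _) = _
    rcases h1 with h1 | h1 <;> simp only [hP] at h1 ⊢ <;> rw [h1]
    · exact h1
    · rw [map_neg, h1, neg_neg]
  obtain ⟨A, hA⟩ := exists_gl_of_injective L fun x y e0 => by
    rw [← LinearMap.id_apply (R := F) x, ← LinearMap.id_apply (R := F) y, ← hLL, LinearMap.comp_apply,
      LinearMap.comp_apply, e0]
  obtain ⟨hAi, hAs⟩ := sgn_refl_prod hV hT.two (g := A) (fun i => P (p i))
    (fun i => by rw [hPf, if_pos rfl]; exact hD0 _)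
    (fun i i' hii => by
      rw [hPf, if_neg]
      fin_cases i <;> fin_cases i' <;> first | exact absurd rfl hii | exact hp01 | exact hp01.symm)
    fun x => by rw [hA, hLx]
  refine ⟨e, A, he, hT.mem_GT.2 ⟨hAi, hAs.trans ?_⟩, ?_, fun y => ?_⟩
  · rw [Fin.prod_univ_two, hPf, if_pos rfl, hPf, if_pos rfl, Fintype.card_fin, neg_one_sq,
      ← OrthAut.sqSign_mul (div_ne_zero (hD0 _) hT.two) (div_ne_zero (hD0 _) hT.two),
      OrthAut.sqSign_of_isSquare hDsq]
    rfl
  · have hfix : (A : Mn) *ᵥ ptens (fun _ : κ => e a₀ + e a₂) =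
        ptens (fun _ : κ => e a₀ + e a₂) + (-2 : F) • ptens (fun _ : κ => e a₀) := by
      rw [hA, hLx, Fin.sum_univ_two]
      simp only [hP, hT.tf_ptens, hs.add_right]
      have hz : ∏ l : κ, (h (e (p 1 l)) (e a₀) + h (e (p 1 l)) (e a₂)) = 0 :=
        Finset.prod_eq_zero (Finset.mem_univ j) (by
          simp only [hp, Matrix.cons_val_one, Matrix.cons_val_zero, true_or, if_true]
          rw [he.orth _ _ h01.symm, he.orth _ _ h12, add_zero])
      rw [hz]
      simp only [hp, Matrix.cons_val_zero, he.orth _ _ h02, add_zero, mul_zero, zero_div, zero_smul]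
      have := hT.hc
      have : ∏ _l : κ, h (e a₀) (e a₀) ≠ 0 := Finset.prod_ne_zero_iff.2 fun _ _ => he.ne _
      match_scalars <;> field_simp <;> ring
    refine not_mem_Wr_of_two (neg_ne_zero.2 hT.two) hfix (fun _ => fn h ((h (e a₂) (e a₂))⁻¹ • e a₂))
      (fun _ => fn h ((h (e a₀) (e a₀))⁻¹ • e a₀ - (h (e a₂) (e a₂))⁻¹ • e a₂)) (fun _ => ?_) (fun _ => ?_) hjk ?_ ?_ ?_
    all_goals
      have := he.ne a₀
      have := he.ne a₂
      simp only [fn_dot hs.sesq, hs.add_left, hs.smul_right, hs.sub_right, he.orth _ _ h02,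
        he.orth _ _ h02.symm]
      field_simp
      try ring
  · obtain ⟨s, hs'⟩ := hLP y
    exact ⟨s, by rw [hA]; simpa only [hP] using hs'⟩

/-- The derived group does not stabilise the decomposition. -/
theorem TData.gt_not_le_Wr (hκ : 2 ≤ Fintype.card κ) : ¬ GT (κ := κ) c h ≤ Wr F κ β := fun hle => by
  obtain ⟨e, A, -, hA, hAn, -⟩ := hT.exists_diag hκ
  exact hAn (hle hA)

end Cfsg.Agent.Classical.TensorPowOrth
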