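import Cfsg.Agent.Lib.Classical.TensorPowOrth.ThreeMain
import Cfsg.Agent.Lib.Classical.TensorPowOrth.FourMain

/-!
Maximality in coordinates of the stabiliser of a tensor power of an orthogonal space.
-/

set_option autoImplicit false
set_option linter.unusedSectionVars false
set_option linter.style.haveILetI false

namespace Cfsg.Agent.Classical.TensorPowOrth

open Matrix Module MaxTv TensorMax TensorPow

variable {F : Type*} [Field F] [Fintype F] {β : Type} [Fintype β] [DecidableEq β]
  {c : F} {h : (β → F) → (β → F) → F}

/-- Maximality in coordinates. -/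
theorem TData.maxAt (hT : TData c h) (hex : ¬ (Fintype.card F = 3 ∧ Fintype.card β = 3)) :
    ∀ (t : ℕ) (κ : Type) [Fintype κ] [DecidableEq κ], Fintype.card κ = t → 2 ≤ t → MaxAt c h κ := by
  intro t
  induction t using Nat.strong_induction_on with
  | _ t ih =>
    intro κ _ _ hcard ht M hle hH hns
    classical
    have hM : Px c h M := ⟨hT, hex, hle, hH, hns, hcard ▸ ht, fun i hi =>
      ih _ (hcard ▸ Fintype.card_subtype_lt (x := i) (by simp)) (Rst i) rfl hi⟩
    rcases Nat.lt_or_ge (Fintype.card β) 5 with h5 | h5
    · rcases Nat.lt_or_ge (Fintype.card β) 4 with h4 | h4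
      · have := hT.three
        exact hM.le_Wr_three (by omega)
      · exact hM.le_Wr_four (by omega)
    · exact hM.le_Wr_five h5

end Cfsg.Agent.Classical.TensorPowOrth
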