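import Cfsg.Agent.Lib.Classical.TensorPowOrth.Spinor

/-!
Orthogonal bases with prescribed values, and one through a hyperbolic pair with one square class in the middle.
-/

set_option autoImplicit false
set_option linter.unusedSectionVars false
set_option linter.unusedSimpArgs false

namespace Cfsg.Agent.Classical.TensorPowOrth

open Matrix Module MaxTv
open Cfsg.Agent.Classical.TensorOrth (Sym NdOn iso)

variable {F : Type*} [Field F] [Fintype F] {β : Type} [Fintype β] [DecidableEq β] {c : F}
  {h : (β → F) → (β → F) → F}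

local notation "W" => (β → F)
local notation "Mb" => Matrix β β F

variable (hT : TData c h)
include hT

omit hT in
/-- An orthogonal basis through a hyperbolic pair, of one square class in the middle in odd dimension. -/
structure MidFrame (h : (β → F) → (β → F) → F) (z u : β → F) (b₀ b₁ : β) (e : β → β → F) : Prop where
  ne : b₀ ≠ b₁
  eq₀ : e b₀ = z + u
  eq₁ : e b₁ = z - u
  orth : ∀ a b, a ≠ b → h (e a) (e b) = 0
  vne : ∀ a, a ≠ b₀ → a ≠ b₁ → h (e a) (e a) ≠ 0
  pair : ∀ a b, a ≠ b₀ → a ≠ b₁ → b ≠ b₀ → b ≠ b₁ →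
    Even (Fintype.card β) ∨ IsSquare (h (e a) (e a) * h (e b) (e b))
  perp : ∀ a, a ≠ b₀ → a ≠ b₁ → h (e a) z = 0 ∧ h (e a) u = 0

theorem TData.exists_midFrame {z u : W} (hz : h z z = 0) (hu : h u u = 0) (huz : h u z = 1) :
    ∃ b₀ b₁ e, MidFrame h z u b₀ b₁ e := by
  classical
  have hs := hT.hh
  have h2 := hT.two
  obtain ⟨d, hd⟩ : ∃ d, d = -(gram h).det := ⟨_, rfl⟩
  have hd0 : d ≠ 0 := hd ▸ neg_ne_zero.2 hT.gram_det_ne
  obtain ⟨b₀, b₁, b₂, hne, h02, h12⟩ := Fintype.two_lt_card_iff.1
    (show 2 < Fintype.card β by have := hT.three; omega)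
  -- the middle value, and an exceptional one
  obtain ⟨g, hg0, x, hx0, hsq, hpair⟩ : ∃ g : F, g ≠ 0 ∧ ∃ x : F, x ≠ 0 ∧
      IsSquare ((-2) * (2 * (x * g ^ (Fintype.card β - 3))) * (gram h).det) ∧
      (Even (Fintype.card β) ∨ x = g) := by
    rcases Nat.even_or_odd (Fintype.card β) with hev | hodd
    · refine ⟨1, one_ne_zero, d, hd0, ⟨2 * d, ?_⟩, Or.inl hev⟩
      rw [one_pow, hd]; ring
    · refine ⟨d, hd0, d, hd0, ?_, Or.inr rfl⟩
      obtain ⟨r, hr⟩ := hodd
      obtain ⟨m, hm⟩ : ∃ m, r = m + 1 := ⟨r - 1, by have := hT.three; omega⟩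
      refine ⟨2 * d * d ^ m, ?_⟩
      rw [show Fintype.card β - 3 = 2 * m by omega, hd]
      ring
  obtain ⟨val, hval⟩ : ∃ val : β → F,
      val = Function.update (Function.update (Function.update (fun _ => g) b₂ x) b₀ 2) b₁ (-2) := ⟨_, rfl⟩
  have h0 : h (z + u) (z + u) = 2 := by
    simp only [hs.add_left, hs.add_right, hz, hu, huz, hs.symm z u]; ring
  have h1 : h (z - u) (z - u) = -2 := by
    simp only [hs.sub_left, hs.sub_right, hz, hu, huz, hs.symm z u]; ring
  have h01 : h (z + u) (z - u) = 0 := by
    simp only [hs.add_left, hs.sub_right, hz, hu, huz, hs.symm z u]; ring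
  have hmid : ∀ a, a ≠ b₀ → a ≠ b₁ → val a = if a = b₂ then x else g := fun a ha0 ha1 => by
    rw [hval, Function.update_of_ne ha1, Function.update_of_ne ha0]
    by_cases e2 : a = b₂
    · subst e2; rw [Function.update_self, if_pos rfl]
    · rw [Function.update_of_ne e2, if_neg e2]
  have hv0 : ∀ a, val a ≠ 0 := fun a => by
    by_cases e1 : a = b₁
    · subst e1; rw [hval, Function.update_self]; exact neg_ne_zero.2 h2
    by_cases e0 : a = b₀
    · subst e0; rw [hval, Function.update_of_ne e1, Function.update_self]; exact h2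
    rw [hmid a e0 e1]; split_ifs <;> assumption
  obtain ⟨e, horth, hv, hes⟩ := hT.ext_vals val hv0 (by
      convert hsq using 2
      rw [hval, Finset.prod_update_of_mem (Finset.mem_univ _),
        Finset.prod_update_of_mem (by simp [hne]), Finset.sdiff_singleton_eq_erase,
        Finset.sdiff_singleton_eq_erase, Finset.prod_update_of_mem (by simp [h02.symm, h12.symm]),
        Finset.prod_const, Finset.sdiff_singleton_eq_erase,
        Finset.card_erase_of_mem (by simp [h02.symm, h12.symm]), Finset.card_erase_of_mem (by simp [hne]),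
        Finset.card_erase_of_mem (Finset.mem_univ _), Finset.card_univ]
      rw [show Fintype.card β - 1 - 1 - 1 = Fintype.card β - 3 by omega])
    {b₀, b₁} (Function.update (fun _ => z + u) b₁ (z - u))
    (fun a ha b hb hab => by
      simp only [Finset.mem_insert, Finset.mem_singleton] at ha hb
      rcases ha with rfl | rfl <;> rcases hb with rfl | rfl
      · exact absurd rfl hab
      · rw [Function.update_of_ne hne, Function.update_self, h01]
      · rw [Function.update_self, Function.update_of_ne hne, hs.symm, h01]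
      · exact absurd rfl hab)
    (fun a ha => by
      simp only [Finset.mem_insert, Finset.mem_singleton] at ha
      rcases ha with rfl | rfl
      · rw [Function.update_of_ne hne, h0, hval, Function.update_of_ne hne, Function.update_self]
      · rw [Function.update_self, h1, hval, Function.update_self])
  have e0 : e b₀ = z + u := by rw [hes b₀ (by simp), Function.update_of_ne hne]
  have e1 : e b₁ = z - u := by rw [hes b₁ (by simp), Function.update_self]
  refine ⟨b₀, b₁, e, hne, e0, e1, horth, fun a ha0 ha1 => by rw [hv]; exact hv0 a,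
    fun a b ha0 ha1 hb0 hb1 => hpair.imp id fun hxg => ⟨g, ?_⟩, fun a ha0 ha1 => ?_⟩
  · rw [hv, hv, hmid a ha0 ha1, hmid b hb0 hb1, hxg, ite_self, ite_self]
  · have k0 := horth a b₀ ha0
    have k1 := horth a b₁ ha1
    rw [e0, hs.add_right] at k0
    rw [e1, hs.sub_right] at k1
    constructor <;> refine (mul_eq_zero.1 ?_).resolve_left h2
    · linear_combination k0 + k1
    · linear_combination k0 - k1

/-- Expansion along the middle. -/
theorem MidFrame.expand {z u : W} {b₀ b₁ : β} {e : β → W} (he : MidFrame h z u b₀ b₁ e)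
    (hz : h z z = 0) (hu : h u u = 0) (huz : h u z = 1) (x : W) :
    x = h x u • z + h x z • u + ∑ a ∈ (Finset.univ.erase b₀).erase b₁, (h (e a) x / h (e a) (e a)) • e a := by
  classical
  have hs := hT.hh
  have h2 := hT.two
  have h0 : h (e b₀) (e b₀) = 2 := by
    simp only [he.eq₀, hs.add_left, hs.add_right, hz, hu, huz, hs.symm z u]; ring
  have h1 : h (e b₁) (e b₁) = -2 := by
    simp only [he.eq₁, hs.sub_left, hs.sub_right, hz, hu, huz, hs.symm z u]; ring
  obtain ⟨r, hr⟩ : ∃ r, r = x - ∑ a, (h (e a) x / h (e a) (e a)) • e a := ⟨_, rfl⟩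
  have hne : ∀ a, h (e a) (e a) ≠ 0 := fun a => by
    by_cases ha : a = b₀
    · rw [ha, h0]; exact h2
    by_cases hb : a = b₁
    · rw [hb, h1]; exact neg_ne_zero.2 h2
    exact he.vne a ha hb
  have hr0 : ∀ b, h r (e b) = 0 := fun b => by
    rw [← hs.lin_apply, hr, map_sub, map_sum, Finset.sum_eq_single b (fun a _ hab => by
      rw [map_smul, hs.lin_apply, he.orth a b hab, smul_zero]) (fun h' => absurd (Finset.mem_univ b) h'),
      map_smul, hs.lin_apply, hs.lin_apply, smul_eq_mul, hs.symm (e b) x, div_mul_cancel₀ _ (hne b), sub_self]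
  have hli : LinearIndependent F e := by
    refine Fintype.linearIndependent_iff.2 fun g hg b => ?_
    have k := congrArg (hs.lin (e b)) hg
    rw [map_sum, map_zero, Finset.sum_eq_single b (fun a _ hab => by
      rw [map_smul, hs.lin_apply, he.orth a b hab, smul_zero]) (fun h' => absurd (Finset.mem_univ b) h'),
      map_smul, hs.lin_apply, smul_eq_mul] at k
    exact (mul_eq_zero.1 k).resolve_right (hne b)
  haveI : Nonempty β := ⟨b₀⟩
  have htop := hli.span_eq_top_of_card_eq_finrank (by rw [Module.finrank_pi])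
  have h3 : r = 0 := hs.eq_zero r fun y => by
    rw [hs.symm]
    have hy : y ∈ Submodule.span F (Set.range e) := htop ▸ Submodule.mem_top
    induction hy using Submodule.span_induction with
    | mem z hz => obtain ⟨b, rfl⟩ := hz; exact hr0 b
    | zero => exact hs.zero_right r
    | add u w _ _ hu hw => rw [hs.add_right, hu, hw, add_zero]
    | smul t u _ hu => rw [hs.smul_right, hu, mul_zero]
  rw [hr, sub_eq_zero, ← Finset.add_sum_erase _ _ (Finset.mem_univ b₀),
    ← Finset.add_sum_erase _ _ (Finset.mem_erase.2 ⟨he.ne.symm, Finset.mem_univ b₁⟩)] at h3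
  conv_lhs => rw [h3]
  rw [← add_assoc]
  congr 1
  rw [h0, h1, he.eq₀, he.eq₁, hs.add_left, hs.sub_left, hs.symm z x, hs.symm u x]
  match_scalars <;> field_simp <;> ring

end Cfsg.Agent.Classical.TensorPowOrth
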