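import Cfsg.Agent.Lib.Classical.TensorPowOrth.GT
import Cfsg.Agent.Lib.Classical.TensorPow.SigFusion

/-!
An element conjugating the Siegel maps at the factors into the stabiliser of the decomposition lies in it, for factors
of dimension at least four.
-/

set_option autoImplicit false
set_option linter.unusedSectionVars false
set_option linter.unusedSimpArgs false
set_option linter.style.haveILetI false

open scoped Kronecker

namespace Cfsg.Agent.Classical.TensorPowOrth

open Matrix Module MaxTv TensorMax TensorPow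
open Cfsg.Agent.Classical.TensorOrth (Sym NdOn iso IsSieg TSP siegGrp)

variable {F : Type*} [Field F] [Fintype F] {κ β : Type} [Fintype κ] [DecidableEq κ] [Fintype β] [DecidableEq β]

local notation "X" => (κ → β)
local notation "V" => ((κ → β) → F)
local notation "Mn" => Matrix (κ → β) (κ → β) F
local notation "Mb" => Matrix β β F
local notation "W" => (β → F)

section ranks

theorem sub_kron {n m : Type*} (A A' : Matrix n n F) (B : Matrix m m F) :
    (A - A') ⊗ₖ B = A ⊗ₖ B - A' ⊗ₖ B := by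
  ext ⟨a, b⟩ ⟨a', b'⟩; simp [sub_mul]

theorem et_sub (i : κ) (S T : Mb) : (et i (S - T) : Mn) = et i S - et i T := by
  rw [eq_sub_iff_add_eq, ← et_add, sub_add_cancel]

theorem rank_conj (g : GL X F) (A : Mn) : ((g : Mn) * A * ((g⁻¹ : GL X F) : Mn)).rank = A.rank := by
  rw [Matrix.rank_mul_eq_left_of_isUnit_det _ _ ((Matrix.isUnit_iff_isUnit_det _).1 (g⁻¹).isUnit),
    Matrix.rank_mul_eq_right_of_isUnit_det _ _ ((Matrix.isUnit_iff_isUnit_det _).1 g.isUnit)]

theorem conj_sub_one (g x : GL X F) : ((g * x * g⁻¹ : GL X F) : Mn) - 1 =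
    (g : Mn) * ((x : Mn) - 1) * ((g⁻¹ : GL X F) : Mn) := by
  rw [mul_sub, sub_mul, mul_one, ← Units.val_mul, ← Units.val_mul, ← Units.val_mul, mul_inv_cancel, Units.val_one]

theorem conj_sq (g : GL X F) (A B : Mn) : (g : Mn) * A * ((g⁻¹ : GL X F) : Mn) *
    ((g : Mn) * B * ((g⁻¹ : GL X F) : Mn)) = (g : Mn) * (A * B) * ((g⁻¹ : GL X F) : Mn) := by
  calc _ = (g : Mn) * (A * (((g⁻¹ : GL X F) : Mn) * (g : Mn)) * B) * ((g⁻¹ : GL X F) : Mn) := by
        simp only [mul_assoc]
    _ = _ := by rw [← Units.val_mul, inv_mul_cancel, Units.val_one, mul_one]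

/-- Two unipotent parts move many vectors. -/
theorem rank_two_lt {α : Type} [Fintype α] [DecidableEq α] (C : Matrix α α F)
    (hC1 : ∀ x, (1 + C) *ᵥ x = 0 → x = 0) (hC : C ≠ 0) (N : Mb) {p : ℕ} (hN : N ^ p = 0) (hr : 2 ≤ N.rank)
    (hk : 4 ≤ Fintype.card β) (hbad : Fintype.card β = 4 → N * N ≠ 0) :
    2 * Fintype.card α < (C ⊗ₖ (1 : Mb) + (1 : Matrix α α F) ⊗ₖ N + C ⊗ₖ N).rank := by
  classical
  obtain ⟨f, hf⟩ : ∃ f, f = C ⊗ₖ (1 : Mb) + (1 : Matrix α α F) ⊗ₖ N + C ⊗ₖ N := ⟨_, rfl⟩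
  rw [← hf]
  obtain ⟨Y, hY⟩ : ∃ Y, Y = Matrix.toLin' Nᵀ := ⟨_, rfl⟩
  have heq : ∀ t ∈ LinearMap.ker (Matrix.toLin' f), ∀ φ,
      C *ᵥ slice φ t + (1 + C) *ᵥ slice (Y φ) t = 0 := fun t ht φ => by
    rw [LinearMap.mem_ker, Matrix.toLin'_apply] at ht
    have h1 := congrArg (slice φ) ht
    rw [hf, Matrix.add_mulVec, Matrix.add_mulVec, map_add, map_add, slice_kron, slice_kron, slice_kron,
      Matrix.vecMul_one, Matrix.one_mulVec, map_zero] at h1
    rw [Matrix.add_mulVec, Matrix.one_mulVec, ← add_assoc, hY, Matrix.toLin'_apply, Matrix.mulVec_transpose]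
    exact h1
  have hrY : finrank F (LinearMap.range Y) = N.rank := by
    rw [← Matrix.rank_transpose N, Matrix.rank, hY, Matrix.toLin'_apply']
  have hkY : finrank F (LinearMap.ker Y) + N.rank = Fintype.card β := by
    rw [← Matrix.rank_transpose N, hY]; exact finrank_ker_mulVec Nᵀ
  have hYp : ∀ φ, (Y ^ p) φ = 0 := fun φ => by
    rw [hY, ← Matrix.toLin'_pow, ← Matrix.transpose_pow, hN, Matrix.transpose_zero, map_zero, LinearMap.zero_apply]
  -- a kernel element is determined on a complement of the range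
  have hgen : ∀ G : Submodule F W, IsCompl (LinearMap.range Y) G → ∀ t ∈ LinearMap.ker (Matrix.toLin' f),
      (∀ g ∈ G, slice g t = 0) → t = 0 := by
    intro G hG t ht h0
    let Z : Submodule F W :=
      { carrier := {φ | slice φ t = 0}
        zero_mem' := by
          show slice (0 : W) t = 0
          rw [← zero_smul F (0 : W), slice_smul, zero_smul]
        add_mem' := fun {a b} (ha : slice a t = 0) (hb : slice b t = 0) => by
          show slice (a + b) t = 0
          rw [slice_add, ha, hb, add_zero]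
        smul_mem' := fun r a (ha : slice a t = 0) => by
          show slice (r • a) t = 0
          rw [slice_smul, ha, smul_zero] }
    have hYZ : ∀ φ ∈ Z, Y φ ∈ Z := fun φ (hφ : slice φ t = 0) => by
      have h1 := heq t ht φ
      rw [hφ, Matrix.mulVec_zero, zero_add] at h1
      exact hC1 _ h1
    have hpowZ : ∀ (j : ℕ), ∀ φ ∈ Z, (Y ^ j) φ ∈ Z := fun j => by
      induction j with
      | zero => intro φ hφ; rwa [pow_zero]
      | succ j ihj => intro φ hφ; rw [pow_succ', Module.End.mul_apply]; exact hYZ _ (ihj φ hφ)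
    have hdown : ∀ m j, p ≤ j + m → ∀ φ, (Y ^ j) φ ∈ Z := by
      intro m
      induction m with
      | zero =>
        intro j hj φ
        obtain ⟨d, rfl⟩ : ∃ d, j = p + d := ⟨j - p, by omega⟩
        rw [pow_add, Module.End.mul_apply, hYp]
        exact Z.zero_mem
      | succ m ihm =>
        intro j hj φ
        obtain ⟨_, ⟨ψ, rfl⟩, g, hg, rfl⟩ := Submodule.mem_sup.1
          (hG.sup_eq_top ▸ Submodule.mem_top : φ ∈ LinearMap.range Y ⊔ G)
        rw [map_add]
        refine Z.add_mem ?_ (hpowZ j g (h0 g hg))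
        rw [← Module.End.mul_apply, ← pow_succ]
        exact ihm (j + 1) (by omega) ψ
    exact eq_zero_of_slice fun φ => by
      have h1 := hdown p 0 (by omega) φ
      rw [pow_zero] at h1
      exact h1
  let Tl : (α × β → F) →ₗ[F] (β → F) →ₗ[F] (α → F) :=
    LinearMap.mk₂ F (fun t φ => slice φ t) (fun a b φ => map_add _ a b) (fun r a φ => map_smul _ r a)
      (fun t a b => slice_add a b t) (fun r t a => slice_smul r a t)
  have hkf := finrank_ker_mulVec f
  rw [Fintype.card_prod] at hkf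
  by_cases h3 : 3 ≤ N.rank
  · obtain ⟨G, hG⟩ := Submodule.exists_isCompl (LinearMap.range Y)
    have hdG := Submodule.finrank_add_eq_of_isCompl hG
    rw [Module.finrank_fintype_fun_eq_card, hrY] at hdG
    have hΨ : Function.Injective ((Tl.compl₂ G.subtype).comp (LinearMap.ker (Matrix.toLin' f)).subtype) :=
      (injective_iff_map_eq_zero _).2 fun t ht => Subtype.ext (hgen G hG t.1 t.2 fun g hg =>
        LinearMap.congr_fun ht ⟨g, hg⟩)
    have hdim := LinearMap.finrank_le_finrank_of_injective hΨ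
    rw [Module.finrank_linearMap, Module.finrank_fintype_fun_eq_card] at hdim
    have hα : 0 < Fintype.card α := by
      by_contra h0
      haveI : IsEmpty α := Fintype.card_eq_zero_iff.1 (by omega)
      exact hC (Matrix.ext fun a => isEmptyElim a)
    obtain ⟨d, hd⟩ : ∃ d, Fintype.card β = N.rank + d := ⟨Fintype.card β - N.rank, by omega⟩
    rw [hd] at hdG hkf
    have hGd : finrank F G = d := by omega
    rw [hGd] at hdim
    nlinarith
  · have hr2 : N.rank = 2 := by omega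
    obtain ⟨e, hek, her⟩ : ∃ e, Y e = 0 ∧ e ∉ LinearMap.range Y := by
      by_contra hc
      push Not at hc
      have hle : LinearMap.ker Y ≤ LinearMap.range Y := fun e he => hc e he
      have h1 := Submodule.finrank_mono hle
      have h4 : Fintype.card β = 4 := by omega
      have heqk : LinearMap.ker Y = LinearMap.range Y := Submodule.eq_of_le_of_finrank_le hle (by omega)
      refine hbad h4 ?_
      have h2 : Y.comp Y = 0 := LinearMap.ext fun φ =>
        LinearMap.mem_ker.1 (heqk ▸ LinearMap.mem_range_self Y φ : Y φ ∈ LinearMap.ker Y)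
      rw [hY, ← Matrix.toLin'_mul, ← Matrix.transpose_mul, LinearEquiv.map_eq_zero_iff,
        Matrix.transpose_eq_zero] at h2
      exact h2
    obtain ⟨G', hG'⟩ := Submodule.exists_isCompl (LinearMap.range Y ⊔ (F ∙ e))
    have he0 : e ≠ 0 := fun e0 => her (e0 ▸ zero_mem _)
    have hdG := Submodule.finrank_add_eq_of_isCompl hG'
    have hsup := Submodule.finrank_sup_add_finrank_inf_eq (LinearMap.range Y) (F ∙ e)
    have hinf : LinearMap.range Y ⊓ (F ∙ e) = ⊥ := by
      rw [eq_bot_iff]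
      rintro x ⟨hx, hxe⟩
      obtain ⟨r, rfl⟩ := Submodule.mem_span_singleton.1 hxe
      rcases eq_or_ne r 0 with rfl | hr0
      · simp
      · exact absurd (by simpa [smul_smul, inv_mul_cancel₀ hr0] using (LinearMap.range Y).smul_mem r⁻¹ hx) her
    rw [hinf, finrank_bot, finrank_span_singleton he0, hrY, hr2] at hsup
    rw [Module.finrank_fintype_fun_eq_card] at hdG
    have hG : IsCompl (LinearMap.range Y) ((F ∙ e) ⊔ G') := by
      refine ⟨?_, codisjoint_iff.2 (by rw [← sup_assoc, hG'.sup_eq_top])⟩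
      rw [disjoint_iff, eq_bot_iff]
      rintro x ⟨hx, hxs⟩
      obtain ⟨a, ha, b, hb, rfl⟩ := Submodule.mem_sup.1 hxs
      have hb0 : b = 0 := by
        have h1 : b ∈ (LinearMap.range Y ⊔ (F ∙ e)) ⊓ G' := ⟨by
          have := sub_mem (Submodule.mem_sup_left (T := (F ∙ e)) hx) (Submodule.mem_sup_right (S := LinearMap.range Y) ha)
          rwa [add_sub_cancel_left] at this, hb⟩
        rw [hG'.inf_eq_bot] at h1
        exact h1
      rw [hb0, add_zero] at hx ⊢
      have h2 : a ∈ LinearMap.range Y ⊓ (F ∙ e) := ⟨hx, ha⟩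
      rwa [hinf] at h2
    let Cl := Matrix.toLin' C
    let Ψ : LinearMap.ker (Matrix.toLin' f) →ₗ[F] LinearMap.ker Cl × (G' →ₗ[F] (α → F)) :=
      LinearMap.prod
        (LinearMap.codRestrict _ ((slice e).comp (LinearMap.ker (Matrix.toLin' f)).subtype) fun t => by
          have h1 := heq t.1 t.2 e
          have hz : slice (Y e) t.1 = 0 := by rw [hek, ← zero_smul F (0 : W), slice_smul, zero_smul]
          rw [hz, Matrix.mulVec_zero, add_zero] at h1
          rw [LinearMap.mem_ker]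
          exact h1)
        ((Tl.compl₂ G'.subtype).comp (LinearMap.ker (Matrix.toLin' f)).subtype)
    have hΨ : Function.Injective Ψ := (injective_iff_map_eq_zero _).2 fun t ht => Subtype.ext
      (hgen _ hG t.1 t.2 fun g hg => by
        obtain ⟨a, ha, b, hb, rfl⟩ := Submodule.mem_sup.1 hg
        obtain ⟨r, rfl⟩ := Submodule.mem_span_singleton.1 ha
        have h1 : slice e t.1 = 0 := congrArg Subtype.val (congrArg Prod.fst ht)
        have h2 : slice b t.1 = 0 := LinearMap.congr_fun (congrArg Prod.snd ht) ⟨b, hb⟩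
        rw [slice_add, slice_smul, h1, h2, smul_zero, add_zero])
    have hdim := LinearMap.finrank_le_finrank_of_injective hΨ
    rw [Module.finrank_prod, Module.finrank_linearMap, Module.finrank_fintype_fun_eq_card] at hdim
    have hkC := finrank_ker_mulVec C
    have hC0 : 1 ≤ C.rank := by
      rw [Nat.one_le_iff_ne_zero, Ne, TensorPow.rank_zero_iff]
      exact hC
    obtain ⟨d, hd⟩ : ∃ d, Fintype.card β = 3 + d := ⟨Fintype.card β - 3, by omega⟩
    rw [hd] at hkf hdG
    have hGd : finrank F G' = d := by omega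
    rw [hGd] at hdim
    have : finrank F (LinearMap.ker Cl) = finrank F (LinearMap.ker (Matrix.toLin' C)) := rfl
    nlinarith

end ranks

section perm

/-- An element of the stabiliser as small as a Siegel map at a factor permutes nothing. -/
theorem perm_one_of_small (h2 : (2 : F) ≠ 0) (hk : 4 ≤ Fintype.card β) {σ : Equiv.Perm κ} {gs : κ → GL β F}
    (hcube : ((wgl σ gs : Mn) - 1) * ((wgl σ gs : Mn) - 1) * ((wgl σ gs : Mn) - 1) = 0)
    (hsq : (((wgl σ gs : Mn) - 1) * ((wgl σ gs : Mn) - 1)).rank ≤ Fintype.card β ^ (Fintype.card κ - 1)) :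
    σ = 1 := by
  classical
  haveI : Nonempty β := Fintype.card_pos_iff.1 (by omega)
  haveI : Nontrivial β := Fintype.one_lt_card_iff_nontrivial.1 (by omega)
  obtain ⟨p, hp⟩ := CharP.exists F
  haveI : Fact p.Prime := ⟨CharP.char_is_prime F p⟩
  have hp3 : 3 ≤ p := by
    have := (Fact.out : p.Prime).two_le
    by_contra hlt
    obtain rfl : p = 2 := by omega
    exact h2 CharTwo.two_eq_zero
  obtain ⟨y, hy⟩ : ∃ y, y = wgl σ gs := ⟨_, rfl⟩
  rw [← hy] at hcube hsq
  have hyp : y ^ p = 1 := by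
    refine Units.ext ?_
    have h1 : ((y : Mn) - 1) ^ p = 0 := by
      obtain ⟨d, hd⟩ : ∃ d, p = d + 3 := ⟨p - 3, by omega⟩
      rw [hd, pow_add, pow_succ, pow_two, hcube, mul_zero]
    rw [sub_pow_char_of_commute (p := p) (Commute.one_right _), one_pow, sub_eq_zero] at h1
    rw [Units.val_pow_eq_pow_val, h1, Units.val_one]
  have hσp : σ ^ p = 1 := by
    obtain ⟨ks, hks⟩ := wgl_pow (σ := σ) (gs := gs) p
    rw [← hy, hyp] at hks
    exact (wgl_eq_one hks.symm).1
  by_contra hσ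
  obtain ⟨a, ha⟩ : ∃ a, σ a ≠ a := by
    by_contra hc
    push Not at hc
    exact hσ (Equiv.ext hc)
  have hper : ∀ i, 0 < i → i < p → (σ ^ i) a ≠ a := by
    intro i hi0 hip hia
    have h1 : Function.IsPeriodicPt σ i a := by
      show (⇑σ)^[i] a = a
      rw [← Equiv.Perm.coe_pow]; exact hia
    have h1' : Function.IsPeriodicPt σ p a := by
      show (⇑σ)^[p] a = a
      rw [← Equiv.Perm.coe_pow, hσp]; rfl
    have h3 : Function.minimalPeriod σ a ∣ Nat.gcd i p := Nat.dvd_gcd h1.minimalPeriod_dvd h1'.minimalPeriod_dvd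
    have h4 : Nat.gcd i p = 1 :=
      Nat.Coprime.symm ((Fact.out : p.Prime).coprime_iff_not_dvd.2 fun hd => absurd (Nat.le_of_dvd hi0 hd) (by omega))
    rw [h4, Nat.dvd_one, Function.minimalPeriod_eq_one_iff_isFixedPt] at h3
    exact ha h3
  obtain ⟨b, hb⟩ : ∃ b, σ a = b := ⟨_, rfl⟩
  obtain ⟨c', hc'⟩ : ∃ c', σ b = c' := ⟨_, rfl⟩
  have hba : b ≠ a := hb ▸ ha
  have hcb : c' ≠ b := fun e => hba (σ.injective (by rw [hb, hc', e]))
  have hca : c' ≠ a := fun e => hper 2 (by omega) (by omega) (by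
    rw [pow_two, Equiv.Perm.mul_apply, hb, hc', e])
  by_cases hp5 : 3 < p
  · obtain ⟨d, hd⟩ : ∃ d, σ c' = d := ⟨_, rfl⟩
    have hdb : d ≠ b := fun e => hca (σ.injective (by rw [hb, hd, e]))
    have hdc : d ≠ c' := fun e => hcb (σ.injective (by rw [hc', hd, e]))
    have hda : d ≠ a := fun e => hper 3 (by omega) hp5 (by
      rw [pow_succ', pow_two, Equiv.Perm.mul_apply, Equiv.Perm.mul_apply, hb, hc', hd, e])
    obtain ⟨b₀, b₁, hb01⟩ := exists_pair_ne β
    obtain ⟨e0, he0⟩ : ∃ e0 : W, e0 = Pi.single b₀ 1 := ⟨_, rfl⟩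
    obtain ⟨e1, he1⟩ : ∃ e1 : W, e1 = Pi.single b₁ 1 := ⟨_, rfl⟩
    obtain ⟨φ, hφ⟩ : ∃ φ : W, φ = Pi.single b₁ 1 := ⟨_, rfl⟩
    obtain ⟨L, hL⟩ : ∃ L : (κ → W) → κ → W, L = fun u l => (gs l : Mb) *ᵥ u (σ l) := ⟨_, rfl⟩
    obtain ⟨u, hu⟩ : ∃ u : κ → W, u = fun l => if l = b then ((gs a)⁻¹ : GL β F).val *ᵥ e0
        else if l = c' then ((gs a * gs b)⁻¹ : GL β F).val *ᵥ e0
        else if l = d then ((gs a * gs b * gs c')⁻¹ : GL β F).val *ᵥ e1 else e0 := ⟨_, rfl⟩
    have hval : ∀ (g : GL β F) (v : W), (g : Mb) *ᵥ (((g⁻¹ : GL β F) : Mb) *ᵥ v) = v := fun g v =>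
      mulVec_inv_cancel g v
    have c0 : φ ⬝ᵥ u a = 0 := by
      rw [hu]
      simp only [if_neg hba.symm, if_neg hca.symm, if_neg hda.symm]
      simp [hφ, he0, hb01.symm]
    have c1 : φ ⬝ᵥ L u a = 0 := by
      rw [hL, hu]
      simp only [hb, if_true, hval]
      simp [hφ, he0, hb01.symm]
    have c2 : φ ⬝ᵥ L (L u) a = 0 := by
      rw [hL, hu]
      simp only [hb, hc', if_neg hcb, if_true]
      rw [Matrix.mulVec_mulVec _ (gs a : Mb), ← Units.val_mul, hval]
      simp [hφ, he0, hb01.symm]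
    have c3 : φ ⬝ᵥ L (L (L u)) a = 1 := by
      rw [hL, hu]
      simp only [hb, hc', hd, if_neg hdb, if_neg hdc, if_true]
      rw [Matrix.mulVec_mulVec _ (gs b : Mb), Matrix.mulVec_mulVec _ (gs a : Mb), ← Units.val_mul, ← Units.val_mul,
        ← mul_assoc, hval]
      simp [hφ, he1]
    have hne : ∀ l, u l ≠ 0 := fun l => by
      have h0 : e0 ≠ 0 := by rw [he0]; simp
      have h1 : e1 ≠ 0 := by rw [he1]; simp
      rw [hu]
      simp only
      split_ifs
      exacts [gl_mulVec_ne_zero _ h0, gl_mulVec_ne_zero _ h0, gl_mulVec_ne_zero _ h1, h0]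
    have hne3 : ∀ l, L (L (L u)) l ≠ 0 := fun l => by
      rw [hL]; exact gl_mulVec_ne_zero _ (gl_mulVec_ne_zero _ (gl_mulVec_ne_zero _ (hne _)))
    choose ξ0 hξ0 using fun l => exists_dual (hne3 l)
    obtain ⟨ξ, hξ⟩ : ∃ ξ : κ → W, ξ = Function.update ξ0 a φ := ⟨_, rfl⟩
    have hap : ∀ v : κ → W, (y : Mn) *ᵥ ptens v = ptens (L v) := fun v => by rw [hy, hL, wgl_mulVec]
    have h5 := congrArg (fun T : Mn => ptens ξ ⬝ᵥ (T *ᵥ ptens u)) hcube
    simp only [Matrix.zero_mulVec, dotProduct_zero, ← Matrix.mulVec_mulVec, Matrix.sub_mulVec, Matrix.one_mulVec,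
      Matrix.mulVec_sub, hap, dotProduct_sub, dot_ptens] at h5
    have hz : ∀ v : κ → W, φ ⬝ᵥ v a = 0 → ∏ l, ξ l ⬝ᵥ v l = 0 := fun v hv =>
      Finset.prod_eq_zero (Finset.mem_univ a) (by rw [hξ, Function.update_self, hv])
    rw [hz _ c0, hz _ c1, hz _ c2, Finset.prod_eq_one (f := fun l => ξ l ⬝ᵥ L (L (L u)) l) fun l _ => by
      by_cases e : l = a
      · subst e; rw [hξ, Function.update_self, c3]
      · rw [hξ, Function.update_of_ne e, hξ0]] at h5
    simp at h5
  -- three factors moved cyclically in characteristic three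
  obtain rfl : p = 3 := by omega
  have hda : σ c' = a := by
    rw [← hc', ← hb, ← Equiv.Perm.mul_apply, ← Equiv.Perm.mul_apply, ← pow_two, ← pow_succ, hσp]
    rfl
  obtain ⟨k, hkdef⟩ : ∃ k : κ → GL β F,
      k = fun l => if l = b then (gs a)⁻¹ else if l = c' then (gs b)⁻¹ * (gs a)⁻¹ else 1 := ⟨_, rfl⟩
  obtain ⟨gs', hgs'⟩ : ∃ gs' : κ → GL β F, gs' = fun l => (k l)⁻¹ * gs l * k (σ l) := ⟨_, rfl⟩
  obtain ⟨z, hz⟩ : ∃ z, z = wgl σ gs' := ⟨_, rfl⟩
  have hconj : z = (wgl 1 k)⁻¹ * y * wgl 1 k := by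
    rw [hz, hy, wgl_inv, inv_one, wgl_mul, wgl_mul, hgs']
    simp
  have hz3 : z * z * z = 1 := by
    rw [hconj, show (wgl 1 k)⁻¹ * y * wgl 1 k * ((wgl 1 k)⁻¹ * y * wgl 1 k) * ((wgl 1 k)⁻¹ * y * wgl 1 k) =
      (wgl 1 k)⁻¹ * y ^ 3 * wgl 1 k by rw [pow_succ, pow_two]; group, hyp]
    group
  have ga : gs' a = 1 := by
    simp only [hgs', hkdef, if_neg hba.symm, if_neg hca.symm, hb, if_true, inv_one, one_mul, mul_inv_cancel]
  have gb : gs' b = 1 := by
    simp only [hgs', hkdef, if_true, hc', if_neg hcb, inv_inv]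
    group
  obtain ⟨t, gc⟩ : ∃ t : F, (gs' c' : Mb) = t • 1 := by
    rw [hz, wgl_mul, wgl_mul] at hz3
    obtain ⟨t, ht⟩ := (wgl_eq_one hz3).2 a
    refine ⟨t, ?_⟩
    have e : σ (σ a) = c' := by rw [hb, hc']
    simpa [ga, gb, hb, hc', e, Equiv.Perm.mul_apply] using ht
  have hmono : ∀ (τ : Equiv.Perm κ) (ks : κ → GL β F) (m : κ), (∃ r : F, (ks m : Mb) = r • 1) → ∀ x x' : X,
      (wgl τ ks : Mn) x x' ≠ 0 → x' (τ m) = x m := by
    intro τ ks m ⟨r, hr⟩ x x' hne
    by_contra hne'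
    refine hne ?_
    rw [wgl_val, wm, Matrix.of_apply]
    refine Finset.prod_eq_zero (Finset.mem_univ m) ?_
    rw [hr, Matrix.smul_apply, Matrix.one_apply_ne (Ne.symm hne'), smul_zero]
  have hA1 : ∀ x x' : X, (z : Mn) x x' ≠ 0 → x' b = x a ∧ x' c' = x b ∧ x' a = x c' := fun x x' hne => by
    rw [hz] at hne
    exact ⟨hb ▸ hmono σ gs' a ⟨1, by rw [ga, Units.val_one, one_smul]⟩ x x' hne,
      hc' ▸ hmono σ gs' b ⟨1, by rw [gb, Units.val_one, one_smul]⟩ x x' hne,
      hda ▸ hmono σ gs' c' ⟨t, gc⟩ x x' hne⟩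
  have hA2 : ∀ x x' : X, ((z : Mn) * (z : Mn)) x x' ≠ 0 → x' c' = x a ∧ x' a = x b ∧ x' b = x c' :=
    fun x x' hne => by
    rw [Matrix.mul_apply] at hne
    obtain ⟨m, -, hm⟩ := Finset.exists_ne_zero_of_sum_ne_zero hne
    obtain ⟨h1, h3, h5⟩ := hA1 x m (left_ne_zero_of_mul hm)
    obtain ⟨h1', h3', h5'⟩ := hA1 m x' (right_ne_zero_of_mul hm)
    exact ⟨h3'.trans h1, h5'.trans h3, h1'.trans h5⟩
  let e := Fintype.equivFin β
  obtain ⟨P, hP⟩ : ∃ P : X → Prop, P = fun x => e (x a) < e (x b) ∧ e (x a) ≤ e (x c') := ⟨_, rfl⟩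
  obtain ⟨S, hS⟩ : ∃ S : Finset X, S = Finset.univ.filter P := ⟨_, rfl⟩
  have hSP : ∀ x, x ∈ S ↔ e (x a) < e (x b) ∧ e (x a) ≤ e (x c') := fun x => by simp [hS, hP]
  have h3F : (3 : F) = 0 := by exact_mod_cast CharP.cast_eq_zero F 3
  have hnorm : ((z : Mn) - 1) * ((z : Mn) - 1) = 1 + (z : Mn) + (z : Mn) * (z : Mn) := by
    have e : ((z : Mn) - 1) * ((z : Mn) - 1) = 1 + (z : Mn) + (z : Mn) * (z : Mn) - (3 : F) • (z : Mn) := by
      rw [sub_mul, mul_sub, mul_sub, one_mul, mul_one, one_mul]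
      match_scalars <;> ring
    rw [e, h3F, zero_smul, sub_zero]
  have hrank : S.card ≤ (((z : Mn) - 1) * ((z : Mn) - 1)).rank := by
    have hsub : ((((z : Mn) - 1) * ((z : Mn) - 1)).submatrix (fun x : S => x.1) (fun x : S => x.1)) =
        (1 : Matrix S S F) := by
      ext x x'
      obtain ⟨hx1, hx2⟩ := (hSP _).1 x.2
      obtain ⟨hx1', hx2'⟩ := (hSP _).1 x'.2
      have z1 : (z : Mn) x.1 x'.1 = 0 := by
        by_contra hne
        obtain ⟨e1, e2, e3⟩ := hA1 _ _ hne
        rw [e1, e3] at hx1'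
        exact absurd (lt_of_lt_of_le hx1' hx2) (lt_irrefl _)
      have z2 : ((z : Mn) * (z : Mn)) x.1 x'.1 = 0 := by
        by_contra hne
        obtain ⟨e1, e2, e3⟩ := hA2 _ _ hne
        rw [e1, e2] at hx2'
        exact absurd (lt_of_lt_of_le hx1 hx2') (lt_irrefl _)
      rw [Matrix.submatrix_apply, hnorm, Matrix.add_apply, Matrix.add_apply, z1, z2, add_zero, add_zero,
        Matrix.one_apply, Matrix.one_apply]
      simp only [Subtype.ext_iff]
    have h1 := (((z : Mn) - 1) * ((z : Mn) - 1)).rank_submatrix_le (fun x : S => x.1) (fun x : S => x.1)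
    rw [hsub, Matrix.rank_one, Fintype.card_coe] at h1
    exact h1
  have hcount : Fintype.card X ≤ 3 * S.card + Fintype.card β ^ (Fintype.card κ - 2) := by
    obtain ⟨C, hC⟩ : ∃ C : Finset X, C = Finset.univ.filter fun x => x a = x b ∧ x b = x c' := ⟨_, rfl⟩
    have hinj : ∀ π : Equiv.Perm κ, (Finset.univ.filter fun x : X => x ∘ π ∈ S).card ≤ S.card := fun π =>
      Finset.card_le_card_of_injOn (fun x => x ∘ π) (fun x hx => (Finset.mem_filter.1 hx).2)
        fun x _ x' _ hxx => funext fun l => by simpa using congrFun hxx (π.symm l)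
    have hCc : C.card ≤ Fintype.card β ^ (Fintype.card κ - 2) := by
      have h1 : Fintype.card {l : κ // l ∉ ({b, c'} : Finset κ)} = Fintype.card κ - 2 := by
        rw [Fintype.card_subtype_compl, Fintype.card_coe, Finset.card_pair hcb.symm]
      rw [← h1, ← Fintype.card_fun, ← Finset.card_univ]
      refine Finset.card_le_card_of_injOn (fun x l => x l.1) (by simp) fun x hx x' hx' hxx => ?_
      simp only [hC, Finset.mem_coe, Finset.mem_filter, Finset.mem_univ, true_and] at hx hx'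
      have haA : a ∉ ({b, c'} : Finset κ) := by simp [hba.symm, hca.symm]
      have hxa := congrFun hxx ⟨a, haA⟩
      funext l
      by_cases e1 : l = b
      · subst e1; rw [← hx.1, ← hx'.1]; exact hxa
      by_cases e2 : l = c'
      · subst e2; rw [← hx.2, ← hx'.2, ← hx.1, ← hx'.1]; exact hxa
      exact congrFun hxx ⟨l, by simp [e1, e2]⟩
    have hcov : (Finset.univ : Finset X) ⊆
        ((S ∪ Finset.univ.filter fun x : X => x ∘ σ ∈ S) ∪ Finset.univ.filter fun x : X => x ∘ ⇑(σ * σ) ∈ S) ∪ C := by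
      intro x _
      simp only [Finset.mem_union, Finset.mem_filter, Finset.mem_univ, true_and, hSP, hC, Function.comp_apply,
        Equiv.Perm.mul_apply, hb, hc', hda, ← e.injective.eq_iff, Fin.ext_iff, Fin.lt_def, Fin.le_def]
      omega
    have h1 := (Finset.card_le_card hcov).trans ((Finset.card_union_le _ _).trans (add_le_add
      ((Finset.card_union_le _ _).trans (add_le_add (Finset.card_union_le _ _) le_rfl)) le_rfl))
    rw [Finset.card_univ] at h1
    have := hinj σ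
    have := hinj (σ * σ)
    omega
  have hle : (((z : Mn) - 1) * ((z : Mn) - 1)).rank ≤ Fintype.card β ^ (Fintype.card κ - 1) := by
    have e1 : (z : Mn) - 1 = (((wgl 1 k)⁻¹ : GL X F) : Mn) * ((y : Mn) - 1) * ((((wgl 1 k)⁻¹)⁻¹ : GL X F) : Mn) := by
      rw [← conj_sub_one, hconj, inv_inv]
    rw [e1, conj_sq, rank_conj]
    exact hsq
  obtain ⟨m, hm⟩ : ∃ m, Fintype.card κ = m + 2 := ⟨Fintype.card κ - 2, by
    have : 2 ≤ Fintype.card κ := Fintype.one_lt_card_iff.2 ⟨a, b, hba.symm⟩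
    omega⟩
  rw [Fintype.card_fun, hm, Nat.add_sub_cancel] at hcount
  rw [hm, show m + 2 - 1 = m + 1 from rfl, pow_succ] at hle
  rw [pow_succ, pow_succ] at hcount
  have hpos : 1 ≤ Fintype.card β ^ m := Nat.one_le_pow _ _ (by omega)
  nlinarith

end perm

section single

variable {c : F} {h : (β → F) → (β → F) → F} (hT : TData c h)
include hT

/-- A nilpotent part of a similitude has rank at least two, and square not zero in dimension four. -/
theorem TData.nilp_simil {N : Mb} {p : ℕ} (hN : N ^ p = 0) (h0 : N ≠ 0) {ν : F}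
    (hν : ∀ x y, h ((1 + N) *ᵥ x) ((1 + N) *ᵥ y) = ν * h x y) :
    2 ≤ N.rank ∧ (Fintype.card β = 4 → N * N ≠ 0) := by
  classical
  have hs := hT.hh
  have key : N * N = 0 → ν = 1 ∧ ∀ x y, h (N *ᵥ x) (N *ᵥ y) = 0 := by
    intro hNN
    have hNn : ∀ y, N *ᵥ (N *ᵥ y) = 0 := fun y => by rw [Matrix.mulVec_mulVec, hNN, Matrix.zero_mulVec]
    have h1 : ∀ x y, h (N *ᵥ x) (N *ᵥ y) = (ν - 1) * h x (N *ᵥ y) := fun x y => by
      have k := hν x (N *ᵥ y)
      simp only [Matrix.add_mulVec, Matrix.one_mulVec, hNn, add_zero, hs.add_left] at k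
      linear_combination k
    by_cases hν1 : ν = 1
    · exact ⟨hν1, fun x y => by rw [h1, hν1, sub_self, zero_mul]⟩
    exfalso
    have hν' : ν - 1 ≠ 0 := sub_ne_zero.2 hν1
    have hdiag : ∀ y, h (N *ᵥ y) (N *ᵥ y) = 0 := fun y => by
      have k := h1 (N *ᵥ y) y
      rw [hNn, hs.zero_left] at k
      exact (mul_eq_zero.1 k.symm).resolve_left hν'
    have hpol : ∀ x y, h (N *ᵥ x) (N *ᵥ y) = 0 := fun x y => by
      have k := hdiag (x + y)
      simp only [Matrix.mulVec_add, hs.add_left, hs.add_right, hdiag, hs.symm (N *ᵥ y) (N *ᵥ x)] at k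
      exact (mul_eq_zero.1 (show (2 : F) * h (N *ᵥ x) (N *ᵥ y) = 0 by linear_combination k)).resolve_left hT.two
    refine h0 (Matrix.ext_iff_mulVec.2 fun y => ?_)
    rw [Matrix.zero_mulVec]
    exact hs.eq_zero _ fun x => by
      have k := h1 x y
      rw [hpol] at k
      exact (mul_eq_zero.1 k.symm).resolve_left hν'
  have hr : 2 ≤ N.rank := by
    by_contra hlt
    have hr1 : N.rank = 1 := by
      have : N.rank ≠ 0 := fun e => h0 ((TensorPow.rank_zero_iff _).1 e)
      omega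
    obtain ⟨v, φ, hv, hφ, hNv⟩ := eq_vmv_of_rank_one hr1
    have hsq : ∀ n : ℕ, N ^ (n + 1) = (φ ⬝ᵥ v) ^ n • N := fun n => by
      induction n with
      | zero => rw [pow_one, pow_zero, one_smul]
      | succ n ihn =>
        rw [pow_succ, ihn, Matrix.smul_mul, hNv, vmv_mul, smul_smul, pow_succ]
    have hφv : φ ⬝ᵥ v = 0 := by
      obtain ⟨q, hq⟩ : ∃ q, p = q + 1 := ⟨p - 1, by
        rcases Nat.eq_zero_or_pos p with rfl | hp
        · rw [pow_zero] at hN
          exact absurd (by rw [← mul_one N, hN, mul_zero]) h0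
        · omega⟩
      rw [hq, hsq] at hN
      exact eq_zero_of_pow_eq_zero ((smul_eq_zero.1 hN).resolve_right h0)
    have hNN : N * N = 0 := by rw [hNv, vmv_mul, hφv, zero_smul]
    obtain ⟨hν1, htot⟩ := key hNN
    have hNx : ∀ x, N *ᵥ x = (φ ⬝ᵥ x) • v := fun x => by rw [hNv, Matrix.vecMulVec_mulVec, op_smul_eq_smul]
    have hprod : ∀ x, φ ⬝ᵥ x = 0 ∨ h v x = 0 := fun x => by
      have k := hν x x
      simp only [Matrix.add_mulVec, Matrix.one_mulVec, hs.add_left, hs.add_right, htot x x, hν1, hNx,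
        hs.smul_left, hs.smul_right, hs.symm x v] at k
      have k' := htot x x
      simp only [hNx, hs.smul_left, hs.smul_right] at k'
      exact mul_eq_zero.1 ((mul_eq_zero.1 (show (2 : F) * ((φ ⬝ᵥ x) * h v x) = 0 by
        linear_combination k - k')).resolve_left hT.two)
    obtain ⟨x₁, hx₁⟩ : ∃ x, φ ⬝ᵥ x ≠ 0 := by
      obtain ⟨x, hx⟩ := exists_dual hφ
      exact ⟨x, by rw [dotProduct_comm, hx]; exact one_ne_zero⟩
    obtain ⟨x₂, hx₂⟩ : ∃ x, h v x ≠ 0 := by
      by_contra hc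
      push Not at hc
      exact hv (hs.eq_zero v fun x => by rw [hs.symm]; exact hc x)
    have e1 := (hprod x₁).resolve_left hx₁
    have e2 := (hprod x₂).resolve_right hx₂
    rcases hprod (x₁ + x₂) with e | e
    · rw [dotProduct_add, e2, add_zero] at e; exact hx₁ e
    · rw [hs.add_right, e1, zero_add] at e; exact hx₂ e
  refine ⟨hr, fun h4 hNN => ?_⟩
  obtain ⟨-, htot⟩ := key hNN
  obtain ⟨n₁, hn₁, n₂, hn₂, hind⟩ : ∃ n₁ ∈ LinearMap.range N.mulVecLin, ∃ n₂ ∈ LinearMap.range N.mulVecLin,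
      ∀ s t : F, s • n₁ + t • n₂ = 0 → s = 0 ∧ t = 0 := by
    let bs := Module.finBasis F (LinearMap.range N.mulVecLin)
    have hr' : 2 ≤ finrank F (LinearMap.range N.mulVecLin) := hr
    refine ⟨_, (bs ⟨0, by omega⟩).2, _, (bs ⟨1, by omega⟩).2, fun s t hst => ?_⟩
    have h0 : s • bs ⟨0, by omega⟩ + t • bs ⟨1, by omega⟩ = 0 := Subtype.ext (by simpa using hst)
    have q0 := congrArg (fun v => bs.repr v ⟨0, by omega⟩) h0
    have q1 := congrArg (fun v => bs.repr v ⟨1, by omega⟩) h0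
    simp [Finsupp.single_apply] at q0 q1
    exact ⟨q0, q1⟩
  obtain ⟨x, rfl⟩ := hn₁
  obtain ⟨y, rfl⟩ := hn₂
  simp only [Matrix.mulVecLin_apply] at hind
  exact hT.four h4 _ _ ⟨htot x x, htot y y, htot x y, hind⟩

/-- An element of the stabiliser as small as a Siegel map at a factor acts at one factor. -/
theorem TData.single_slot (hk : 4 ≤ Fintype.card β) [Nonempty κ] {y : GL X F} (hy : y ∈ Wr F κ β)
    (hyi : y ∈ iso (tf (κ := κ) c h))
    (hcube : ((y : Mn) - 1) * ((y : Mn) - 1) * ((y : Mn) - 1) = 0)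
    (hsq : (((y : Mn) - 1) * ((y : Mn) - 1)).rank ≤ Fintype.card β ^ (Fintype.card κ - 1))
    (hlin : ((y : Mn) - 1).rank ≤ 2 * Fintype.card β ^ (Fintype.card κ - 1)) :
    ∃ (m : κ) (B : GL β F), y = pe m B := by
  classical
  haveI : Nonempty β := Fintype.card_pos_iff.1 (by omega)
  haveI : Nontrivial β := Fintype.one_lt_card_iff_nontrivial.1 (by omega)
  obtain ⟨σ, gs, rfl⟩ := hy
  obtain rfl := perm_one_of_small hT.two hk hcube hsq
  obtain ⟨p, hp⟩ := CharP.exists F
  haveI : Fact p.Prime := ⟨CharP.char_is_prime F p⟩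
  have hp3 : 3 ≤ p := by
    have := (Fact.out : p.Prime).two_le
    by_contra hlt
    obtain rfl : p = 2 := by omega
    exact hT.two CharTwo.two_eq_zero
  have hzp : (wgl 1 gs : GL X F) ^ p = 1 := by
    refine Units.ext ?_
    have h1 : ((wgl 1 gs : Mn) - 1) ^ p = 0 := by
      obtain ⟨d, hd⟩ : ∃ d, p = d + 3 := ⟨p - 3, by omega⟩
      rw [hd, pow_add, pow_succ, pow_two, hcube, mul_zero]
    rw [sub_pow_char_of_commute (p := p) (Commute.one_right _), one_pow, sub_eq_zero] at h1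
    rw [Units.val_pow_eq_pow_val, h1, Units.val_one]
  rw [wgl_one_pow] at hzp
  obtain ⟨-, hsc⟩ := wgl_eq_one hzp
  choose r hr using hsc
  simp only [Pi.pow_apply, Units.val_pow_eq_pow_val] at hr
  choose d N hd hB hN using fun l => exists_unip p (hr l)
  obtain ⟨D, hD⟩ : ∃ D, D = ∏ l, d l := ⟨_, rfl⟩
  have hunit : ∀ l, ∃ B : GL β F, (B : Mb) = 1 + N l := fun l => by
    have h1 : (1 + N l) ^ p = 1 := by
      rw [add_pow_char_of_commute (p := p) (Commute.one_left _), one_pow, hN, add_zero]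
    exact ⟨(IsUnit.of_pow_eq_one h1 (Fact.out : p.Prime).ne_zero).unit, rfl⟩
  choose Bs hBs using hunit
  have hap : ∀ u : κ → β → F, (wgl 1 gs : Mn) *ᵥ ptens u = D • ptens fun l => (Bs l : Mb) *ᵥ u l := fun u => by
    rw [wgl_mulVec, hD]
    funext x
    simp only [Equiv.Perm.coe_one, id_eq, ptens, hB, hBs, Matrix.smul_mulVec, Pi.smul_apply, smul_eq_mul,
      Finset.prod_mul_distrib]
  have hk' : ∀ l, ∃ k : β → F, k ≠ 0 ∧ N l *ᵥ k = 0 := fun l => exists_ker_of_pow (hN l)
  choose kv hk0 hkN using hk'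
  have hD1 : D = 1 := by
    have hk1 : (wgl 1 gs : Mn) *ᵥ ptens kv = D • ptens kv := by
      rw [hap]
      simp only [hBs, Matrix.add_mulVec, Matrix.one_mulVec, hkN, add_zero]
    have h1 := congrArg (· *ᵥ ptens kv) hcube
    simp only [Matrix.zero_mulVec, ← Matrix.mulVec_mulVec, Matrix.sub_mulVec, Matrix.one_mulVec, hk1,
      Matrix.mulVec_sub, Matrix.mulVec_smul, smul_sub, smul_smul] at h1
    have h3 : ((D - 1) * (D - 1) * (D - 1)) • ptens kv = 0 := by linear_combination (norm := module) h1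
    have h4 := (smul_eq_zero.1 h3).resolve_right (ptens_ne_zero hk0)
    rw [mul_eq_zero, mul_eq_zero, or_self, or_self] at h4
    exact sub_eq_zero.1 h4
  have hy' : wgl 1 gs = wgl 1 Bs := Units.ext (Matrix.toLin'.injective (ext_ptens fun u => by
    rw [Matrix.toLin'_apply, Matrix.toLin'_apply, hap, hD1, one_smul, wgl_mulVec]
    rfl))
  rw [hy'] at hlin hyi ⊢
  have hone : ∀ a b, a ≠ b → N a ≠ 0 → N b ≠ 0 → False := by
    intro a b hab ha hb
    obtain ⟨A', hA'⟩ : ∃ A', A' = wgl (rperm (i := b) (1 : Equiv.Perm κ) rfl) fun j : Rst b => Bs j.1 := ⟨_, rfl⟩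
    have hsp : sp b (wgl 1 Bs) = k2 A' (Bs b) := hA' ▸ sp_wgl 1 rfl Bs
    obtain ⟨μ, hμ0, -, hμ⟩ := hT.kron_simil hyi hsp
    obtain ⟨hr2, hbad⟩ := hT.nilp_simil (hN b) hb (ν := μ⁻¹) fun x x' => by
      rw [eq_inv_mul_iff_mul_eq₀ hμ0, ← hBs, hμ]
    obtain ⟨C, hC⟩ : ∃ C : Matrix (Rst b → β) (Rst b → β) F, C = (A' : Matrix _ _ F) - 1 := ⟨_, rfl⟩
    have hC0 : C ≠ 0 := fun e => by
      rw [hC, sub_eq_zero] at e
      have h1 : A' = 1 := Units.ext e
      rw [hA'] at h1
      obtain ⟨t, ht⟩ := (wgl_eq_one h1).2 ⟨a, hab⟩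
      simp only [hBs] at ht
      obtain ⟨v, hv0, hv⟩ := exists_ker_of_pow (hN a)
      have h2 := congrArg (· *ᵥ v) ht
      simp only [Matrix.add_mulVec, Matrix.one_mulVec, hv, add_zero, Matrix.smul_mulVec] at h2
      have ht1 : t = 1 := smul_left_injective F hv0 (show t • v = (1 : F) • v by rw [one_smul, ← h2])
      rw [ht1, one_smul] at ht
      exact ha (add_eq_left.1 ht)
    have h5 := rank_two_lt C (fun x hx => gl_mulVec_injective A' (show (A' : Matrix (Rst b → β) (Rst b → β) F) *ᵥ x =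
        (A' : Matrix (Rst b → β) (Rst b → β) F) *ᵥ 0 by
      rw [Matrix.mulVec_zero, ← hx, hC, add_sub_cancel])) hC0 (N b) (hN b) hr2 hk hbad
    have h6 : ((wgl 1 Bs : Mn) - 1).rank =
        (C ⊗ₖ (1 : Mb) + (1 : Matrix (Rst b → β) (Rst b → β) F) ⊗ₖ N b + C ⊗ₖ N b).rank := by
      rw [← Matrix.rank_reindex (spE b) (spE b)]
      congr 1
      rw [show Matrix.reindex (spE b) (spE b) ((wgl 1 Bs : Mn) - 1) = rX b (wgl 1 Bs : Mn) - rX b 1 from rfl,
        rX_one, show rX b (wgl 1 Bs : Mn) = (sp b (wgl 1 Bs) : Matrix _ _ F) from rfl, hsp, k2_val, hBs, hC,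
        Matrix.kronecker_add, sub_kron, sub_kron, Matrix.one_kronecker_one]
      abel
    rw [h6, ← card_rst b] at hlin
    exact absurd h5 (not_lt.2 hlin)
  obtain ⟨m, hm⟩ : ∃ m, ∀ l, l ≠ m → N l = 0 := by
    by_cases hall : ∀ l, N l = 0
    · exact ⟨Classical.arbitrary κ, fun l _ => hall l⟩
    · push Not at hall
      obtain ⟨m, hm⟩ := hall
      exact ⟨m, fun l hl => by_contra fun h' => hone l m hl h' hm⟩
  refine ⟨m, Bs m, ?_⟩
  show wgl 1 Bs = wgl 1 _
  congr 1
  funext l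
  by_cases e : l = m
  · subst e; rw [Function.update_self]
  · rw [Function.update_of_ne e]
    exact Units.ext (by rw [hBs, hm l e, add_zero]; rfl)

/-- An element conjugating the Siegel maps at the factors into the stabiliser is in it. -/
theorem TData.mem_Wr_of_norm (hk : 4 ≤ Fintype.card β) [Nonempty κ] {A : GL X F}
    (hA : ∀ (j : κ) (B : GL β F), B ∈ siegGrp h →
      A * pe j B * A⁻¹ ∈ Wr F κ β ∧ A * pe j B * A⁻¹ ∈ iso (tf (κ := κ) c h)) : A ∈ Wr F κ β := by
  classical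
  haveI : Nontrivial β := Fintype.one_lt_card_iff_nontrivial.1 (by omega)
  have hs := hT.hh
  obtain ⟨T, hTdef⟩ : ∃ T, T = Matrix.toLin' (A : Mn) := ⟨_, rfl⟩
  have hTinj : Function.Injective T := fun x y e => gl_mulVec_injective A (by
    simpa only [hTdef, Matrix.toLin'_apply] using e)
  -- singular vectors
  have hsing : ∀ (j : κ) (z : W), h z z = 0 → z ≠ 0 →
      ∃ (m : κ) (w : W), w ≠ 0 ∧ (line j z).map T = line m w := by
    intro j z hz hz0
    obtain ⟨u, huu, huz⟩ := hs.exists_partner hT.two hz hz0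
    obtain ⟨w, hw, hww⟩ := hs.exists_aniso hT.two (hs.ndOn_perp2 huu hz huz)
      (Submodule.exists_mem_ne_zero_of_ne_bot fun e0 => by
        have := hs.finrank_perp2 u z; rw [e0, finrank_bot] at *; omega)
    obtain ⟨B, -, hBx⟩ := hs.exists_sieg hT.two hz (show h w z = 0 from hw.2)
    obtain ⟨N, hNdef⟩ : ∃ N : Mb, N = (B : Mb) - 1 := ⟨_, rfl⟩
    have hNx : ∀ x, N *ᵥ x = h x z • w - (h x w + h w w / 2 * h x z) • z := fun x => by
      rw [hNdef, Matrix.sub_mulVec, Matrix.one_mulVec, hBx]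
      module
    have hN2x : ∀ x, N *ᵥ (N *ᵥ x) = (-(h x z * h w w)) • z := fun x => by
      rw [hNx x, Matrix.mulVec_sub, Matrix.mulVec_smul, Matrix.mulVec_smul, hNx w, hNx z, hz,
        (show h w z = 0 from hw.2), hs.symm z w, (show h w z = 0 from hw.2)]
      module
    have hN3 : N * N * N = 0 := Matrix.ext_iff_mulVec.2 fun x => by
      rw [← Matrix.mulVec_mulVec, ← Matrix.mulVec_mulVec, Matrix.zero_mulVec, hN2x, hNx x, hs.sub_left,
        hs.smul_left, hs.smul_left, hz, (show h w z = 0 from hw.2)]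
      simp
    have hr1 : N.rank ≤ 2 := by
      rw [Matrix.rank]
      refine (Submodule.finrank_mono (show LinearMap.range N.mulVecLin ≤ Submodule.span F ({w, z} : Set W) from ?_)).trans
        ((finrank_span_le_card ({w, z} : Set W)).trans ?_)
      · rintro _ ⟨x, rfl⟩
        rw [Matrix.mulVecLin_apply, hNx]
        exact sub_mem (Submodule.smul_mem _ _ (Submodule.subset_span (by simp)))
          (Submodule.smul_mem _ _ (Submodule.subset_span (by simp)))
      · rw [Set.toFinset_insert, Set.toFinset_singleton]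
        exact Finset.card_le_two
    have hr2 : (N * N).rank ≤ 1 := by
      rw [Matrix.rank]
      refine (Submodule.finrank_mono (show LinearMap.range (N * N).mulVecLin ≤ Submodule.span F ({z} : Set W) from ?_)).trans
        (le_of_eq (finrank_span_singleton hz0))
      rintro _ ⟨x, rfl⟩
      rw [Matrix.mulVecLin_apply, ← Matrix.mulVec_mulVec, hN2x]
      exact Submodule.smul_mem _ _ (Submodule.subset_span rfl)
    obtain ⟨hyW, hyi⟩ := hA j B (Subgroup.subset_closure ⟨z, w, hz, hw.2, hBx⟩)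
    have he1 : (pe j B : Mn) - 1 = et j N := by rw [← et_val, hNdef, et_sub, et_one]
    have hy1 : ((A * pe j B * A⁻¹ : GL X F) : Mn) - 1 = (A : Mn) * et j N * ((A⁻¹ : GL X F) : Mn) := by
      rw [conj_sub_one, he1]
    obtain ⟨m, B', hB'⟩ := hT.single_slot hk hyW hyi
      (by rw [hy1, conj_sq, conj_sq, et_mul, et_mul, hN3, ← zero_smul F (1 : Mb), et_smul, zero_smul, mul_zero,
        zero_mul])
      (by rw [hy1, conj_sq, rank_conj, et_mul, rank_et]
          exact (Nat.mul_le_mul_left _ hr2).trans (le_of_eq (mul_one _)))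
      (by rw [hy1, rank_conj, rank_et, mul_comm 2]
          exact Nat.mul_le_mul_left _ hr1)
    obtain ⟨N', hN'⟩ : ∃ N' : Mb, N' = (B' : Mb) - 1 := ⟨_, rfl⟩
    have hy2 : (A : Mn) * et j (N * N) * ((A⁻¹ : GL X F) : Mn) = et m (N' * N') := by
      rw [← et_mul, ← conj_sq, ← hy1, hB', ← et_val, hN', ← et_one (F := F) (κ := κ) (β := β) m, ← et_sub, et_mul]
    have hN2ne : N * N ≠ 0 := fun e0 => by
      have := congrArg (· *ᵥ u) e0
      simp only [← Matrix.mulVec_mulVec, hN2x, huz, one_mul, Matrix.zero_mulVec] at this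
      exact hz0 ((smul_eq_zero.1 this).resolve_left (neg_ne_zero.2 hww))
    have hr' : (N' * N').rank = 1 := by
      have h1 := congrArg Matrix.rank hy2
      rw [rank_conj, rank_et, rank_et] at h1
      have h3 : (N * N).rank = 1 := by
        have : (N * N).rank ≠ 0 := fun e0 => hN2ne ((TensorPow.rank_zero_iff _).1 e0)
        omega
      rw [h3] at h1
      exact (Nat.eq_of_mul_eq_mul_left (pow_pos (by omega) _) h1).symm
    obtain ⟨w', φ, hw'0, -, hN'v⟩ := eq_vmv_of_rank_one hr'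
    refine ⟨m, w', hw'0, ?_⟩
    rw [hTdef]
    refine map_line_eq_of_le hz0 hw'0 ?_
    rintro _ ⟨t, ht, rfl⟩
    obtain ⟨r, hr⟩ := mem_line_iff.1 ht
    obtain ⟨s, hsdef⟩ : ∃ s, s = (spV j).symm (tmul r ((-h w w)⁻¹ • u)) := ⟨_, rfl⟩
    have hst : et j (N * N) *ᵥ s = t := by
      refine (spV j).injective ?_
      rw [hr, hsdef, show spV j (et j (N * N) *ᵥ (spV j).symm (tmul r ((-h w w)⁻¹ • u))) =
        rX j (et j (N * N)) *ᵥ tmul r ((-h w w)⁻¹ • u) from ?_, rX_et, kronecker_mulVec, Matrix.one_mulVec,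
        ← Matrix.mulVec_mulVec, hN2x, hs.smul_left, huz]
      · congr 1
        rw [mul_one, show -((-h w w)⁻¹ * h w w) = (1 : F) by field_simp, one_smul]
      · funext q
        rw [spV_apply]
        simp only [Matrix.mulVec, dotProduct, rX, Matrix.reindex_apply, Matrix.submatrix_apply]
        exact Fintype.sum_equiv (spE j) _ _ fun q' => by
          rw [Equiv.symm_apply_apply]
          rfl
    refine mem_line_iff.2 ⟨slice φ (spV m ((A : Mn) *ᵥ s)), ?_⟩
    rw [Matrix.toLin'_apply, ← hst, Matrix.mulVec_mulVec]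
    have e2 : (A : Mn) * et j (N * N) = et m (N' * N') * (A : Mn) := by
      rw [← hy2, mul_assoc ((A : Mn) * et j (N * N)), ← Units.val_mul, inv_mul_cancel, Units.val_one, mul_one]
    rw [e2, ← Matrix.mulVec_mulVec, hN'v]
    obtain ⟨v, hv⟩ : ∃ v, v = spV m ((A : Mn) *ᵥ s) := ⟨_, rfl⟩
    have e3 : spV m (et m (vecMulVec w' φ) *ᵥ ((A : Mn) *ᵥ s)) =
        ((1 : Matrix (Rst m → β) (Rst m → β) F) ⊗ₖ vecMulVec w' φ) *ᵥ v := by
      rw [hv, ← rX_et]
      funext q
      rw [spV_apply]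
      simp only [Matrix.mulVec, dotProduct, rX, Matrix.reindex_apply, Matrix.submatrix_apply]
      exact Fintype.sum_equiv (spE m) _ _ fun q' => by
        rw [Equiv.symm_apply_apply, spV_apply, Equiv.symm_apply_apply]
        rfl
    rw [e3, ← hv]
    refine LinearMap.congr_fun (f := Matrix.toLin' ((1 : Matrix (Rst m → β) (Rst m → β) F) ⊗ₖ vecMulVec w' φ))
      (g := (fac w').comp (slice φ)) (ext_tmul fun a b => ?_) v
    rw [Matrix.toLin'_apply, kronecker_mulVec, LinearMap.comp_apply, fac_apply, slice_tmul, Matrix.one_mulVec,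
      Matrix.vecMulVec_mulVec, op_smul_eq_smul, tmul_smul_right, tmul_smul_left]
  -- one factor for all singular vectors
  have hsame : ∀ (j : κ) (z z' : W) (m m' : κ) (w w' : W), z ≠ 0 → z' ≠ 0 → w ≠ 0 → w' ≠ 0 →
      (line j z).map T = line m w → (line j z').map T = line m' w' → m = m' := by
    intro j z z' m m' w w' hz0 hz'0 hw0 hw'0 e e'
    by_contra hne
    by_cases hdep : ∀ r : F, z' ≠ r • z
    · obtain ⟨xs, hxs⟩ : ∃ xs : κ → W, xs = Function.update (Function.update (fun _ => w) m w) m' w' := ⟨_, rfl⟩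
      have hm' : ptens xs ∈ line m' w' := hxs ▸ ptens_mem_line _
      have hm : ptens xs ∈ line m w := by
        rw [hxs, Function.update_comm hne]; exact ptens_mem_line _
      rw [← e] at hm
      rw [← e'] at hm'
      obtain ⟨s, hs1, hse⟩ := hm
      obtain ⟨s', hs2, hse'⟩ := hm'
      obtain rfl : s' = s := hTinj (hse'.trans hse.symm)
      rw [line_inter hdep hs1 hs2, map_zero] at hse
      refine ptens_ne_zero (xs := xs) (fun l => ?_) hse.symm
      rw [hxs]
      by_cases e1 : l = m' <;> by_cases e2 : l = m <;> simp [e1, e2, hw0, hw'0, Ne.symm hne, Function.update_of_ne hne]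
    · push Not at hdep
      obtain ⟨r, hr⟩ := hdep
      have hl : line (κ := κ) j z' = line j z := Submodule.eq_of_le_of_finrank_le (fun s hs => by
        obtain ⟨a, ha⟩ := mem_line_iff.1 hs
        exact mem_line_iff.2 ⟨r • a, by rw [ha, hr, tmul_smul_right, tmul_smul_left]⟩)
        (le_of_eq (finrank_line_eq j j hz0 hz'0))
      rw [hl, e] at e'
      exact hne (line_eq_slot hw0 hw'0 e')
  refine mem_Wr_of_lines _ κ rfl A fun j v hv => ?_
  rw [← hTdef]
  by_cases hvv : h v v = 0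
  · exact hsing j v hvv hv
  -- two hyperbolic planes through the vector
  obtain ⟨z, hzz, hzv⟩ : ∃ z, h z z = 0 ∧ h z v ≠ 0 := by
    by_contra hc
    push Not at hc
    exact hvv (hs.mem_of_iso_all hT.two hT.three (p := LinearMap.ker (hs.lin v))
      (fun x hx => by rw [LinearMap.mem_ker, hs.lin_apply]; exact hc x hx) v)
  have hz0 : z ≠ 0 := fun e => hzv (by rw [e, hs.zero_left])
  obtain ⟨a, hadef⟩ : ∃ a, a = h v v / (2 * h z v) := ⟨_, rfl⟩
  have ha0 : a ≠ 0 := hadef ▸ div_ne_zero hvv (mul_ne_zero hT.two hzv)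
  obtain ⟨u, hudef⟩ : ∃ u, u = v - a • z := ⟨_, rfl⟩
  have hzu : h z u = h z v := by rw [hudef, hs.sub_right, hs.smul_right, hzz, mul_zero, sub_zero]
  have huu : h u u = 0 := by
    simp only [hudef, hs.sub_left, hs.sub_right, hs.smul_left, hs.smul_right, hzz, hs.symm v z]
    rw [hadef]; have := hT.two; field_simp; ring
  have hu0 : u ≠ 0 := fun e => hzv (by rw [← hzu, e, hs.zero_right])
  obtain ⟨u', hu'⟩ : ∃ u', u' = (h z u)⁻¹ • u := ⟨_, rfl⟩
  have hu'u' : h u' u' = 0 := by rw [hu', hs.smul_left, hs.smul_right, huu, mul_zero, mul_zero]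
  have hu'z : h u' z = 1 := by rw [hu', hs.smul_left, hs.symm u z, inv_mul_cancel₀ (hzu ▸ hzv)]
  obtain ⟨y₀, hy₀, hyy⟩ := hT.exists_val (hs.ndOn_perp2 hu'u' hzz hu'z)
    (by have := hs.finrank_perp2 u' z; omega)
    (d := -(2 * (1 / a) * h z v)) (neg_ne_zero.2 (mul_ne_zero (mul_ne_zero hT.two (one_div_ne_zero ha0)) hzv))
  have hyz : h y₀ z = 0 := hy₀.2
  have hyu : h y₀ u = 0 := by
    have := hy₀.1
    rw [show u = (h z u) • u' by rw [hu', smul_smul, mul_inv_cancel₀ (hzu ▸ hzv), one_smul], hs.smul_right,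
      show h y₀ u' = 0 from this, mul_zero]
  have hy00 : y₀ ≠ 0 := fun e => by
    rw [e, hs.zero_left] at hyy
    exact neg_ne_zero.2 (mul_ne_zero (mul_ne_zero hT.two (one_div_ne_zero ha0)) hzv) hyy.symm
  obtain ⟨z', hz'⟩ : ∃ z', z' = z + y₀ + (1 / a) • u := ⟨_, rfl⟩
  have hvexp : v = u + a • z := by rw [hudef]; abel
  have hz'v : h z' v = 2 * h z v := by
    rw [hz', hvexp]
    simp only [hs.add_left, hs.add_right, hs.smul_left, hs.smul_right, hzz, huu, hyz, hyu, hzu, hs.symm u z]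
    field_simp
    ring
  have hz'z' : h z' z' = 0 := by
    rw [hz']
    simp only [hs.add_left, hs.add_right, hs.smul_left, hs.smul_right, hzz, huu, hyz, hyu, hzu, hs.symm u z,
      hs.symm z y₀, hs.symm u y₀, hyy]
    ring
  have hz'v0 : h z' v ≠ 0 := hz'v ▸ mul_ne_zero hT.two hzv
  have hz'0 : z' ≠ 0 := fun e => hz'v0 (by rw [e, hs.zero_left])
  obtain ⟨a', ha'⟩ : ∃ a', a' = h v v / (2 * h z' v) := ⟨_, rfl⟩
  obtain ⟨u₂, hu₂⟩ : ∃ u₂, u₂ = v - a' • z' := ⟨_, rfl⟩
  have hu₂u₂ : h u₂ u₂ = 0 := by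
    simp only [hu₂, hs.sub_left, hs.sub_right, hs.smul_left, hs.smul_right, hz'z', hs.symm v z']
    rw [ha']; have := hT.two; field_simp; ring
  have hu₂0 : u₂ ≠ 0 := fun e => hvv (by
    rw [hu₂, sub_eq_zero] at e
    rw [e, hs.smul_left, hs.smul_right, hz'z', mul_zero, mul_zero])
  obtain ⟨m, w1, hw1, e1⟩ := hsing j z hzz hz0
  obtain ⟨m2, w2, hw2, e2⟩ := hsing j u huu hu0
  obtain ⟨m3, w3, hw3, e3⟩ := hsing j z' hz'z' hz'0
  obtain ⟨m4, w4, hw4, e4⟩ := hsing j u₂ hu₂u₂ hu₂0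
  obtain rfl := hsame j z u m m2 w1 w2 hz0 hu0 hw1 hw2 e1 e2
  obtain rfl := hsame j z z' m m3 w1 w3 hz0 hz'0 hw1 hw3 e1 e3
  obtain rfl := hsame j z u₂ m m4 w1 w4 hz0 hu₂0 hw1 hw4 e1 e4
  -- images
  have himg : ∀ (x : W) (w : W), (line j x).map T = line m w → ∀ (r : (Rst j → β) → F), ∃ r' : (Rst m → β) → F,
      spV m (T ((spV j).symm (tmul r x))) = tmul r' w := fun x w e r => by
    refine mem_line_iff.1 ?_
    rw [← e]
    exact Submodule.mem_map_of_mem (mem_line_iff.2 ⟨r, LinearEquiv.apply_symm_apply _ _⟩)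
  have hpre : ∀ (x : W) (w : W), (line j x).map T = line m w → ∀ (r' : (Rst m → β) → F), ∃ r,
      spV m (T ((spV j).symm (tmul r x))) = tmul r' w := fun x w e r' => by
    have hmem : (spV m).symm (tmul r' w) ∈ line m w := mem_line_iff.2 ⟨r', LinearEquiv.apply_symm_apply _ _⟩
    rw [← e] at hmem
    obtain ⟨t, ht, hte⟩ := hmem
    obtain ⟨r, hr⟩ := mem_line_iff.1 ht
    refine ⟨r, ?_⟩
    rw [← hr, LinearEquiv.symm_apply_apply, hte, LinearEquiv.apply_symm_apply]
  have hlin : ∀ (r : (Rst j → β) → F) (p q : W) (s t : F), spV m (T ((spV j).symm (tmul r (s • p + t • q)))) =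
      s • spV m (T ((spV j).symm (tmul r p))) + t • spV m (T ((spV j).symm (tmul r q))) := fun r p q s t => by
    rw [tmul_add_right, tmul_smul_right, tmul_smul_right]
    simp only [map_add, map_smul]
  obtain ⟨r₀, hr₀⟩ : ∃ r₀ : (Rst j → β) → F, r₀ ≠ 0 := by
    obtain ⟨b⟩ : Nonempty β := inferInstance
    exact ⟨Pi.single (fun _ => b) 1, by simp⟩
  have hpl : ∀ x y : W, ∀ (s t : F), x = s • z + t • u → y = x → ∀ r, ∃ r1 r2,
      spV m (T ((spV j).symm (tmul r y))) = tmul r1 w1 + tmul r2 w2 := fun x y s t hx hy r => by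
    obtain ⟨r1, h1⟩ := himg z w1 e1 r
    obtain ⟨r2, h2⟩ := himg u w2 e2 r
    exact ⟨s • r1, t • r2, by rw [hy, hx, hlin, h1, h2, tmul_smul_left, tmul_smul_left]⟩
  -- the third line is outside
  have hout : ∀ s t : F, w3 ≠ s • w1 + t • w2 := by
    intro s t hst
    obtain ⟨r', hr'⟩ := himg z' w3 e3 r₀
    obtain ⟨ra, hra⟩ := hpre z w1 e1 (s • r')
    obtain ⟨rb, hrb⟩ := hpre u w2 e2 (t • r')
    have h1 : tmul r₀ z' = tmul ra z + tmul rb u := by
      apply (spV j).symm.injective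
      apply hTinj
      apply (spV m).injective
      rw [hr', map_add, map_add, map_add, hra, hrb, hst, tmul_add_right, tmul_smul_left, tmul_smul_left,
        tmul_smul_right, tmul_smul_right]
    obtain ⟨ξ, hξ⟩ := exists_dual hr₀
    have h3 := congrArg (lslice ξ) h1
    rw [map_add, lslice_tmul, lslice_tmul, lslice_tmul, hξ, one_smul] at h3
    have h4 := congrArg (fun x => h x y₀) h3
    simp only [hz', hs.add_left, hs.smul_left, hs.symm z y₀, hyz, hs.symm u y₀, hyu, hyy, mul_zero, add_zero,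
      zero_add] at h4
    exact neg_ne_zero.2 (mul_ne_zero (mul_ne_zero hT.two (one_div_ne_zero ha0)) hzv) h4
  have hind12 : ∀ s t : F, s • w1 + t • w2 = 0 → s = 0 ∧ t = 0 := by
    intro s t hst
    by_cases ht0 : t = 0
    · rw [ht0, zero_smul, add_zero] at hst
      exact ⟨(smul_eq_zero.1 hst).resolve_right hw1, ht0⟩
    exfalso
    have hw : w2 = (-s / t) • w1 := by
      linear_combination (norm := skip) t⁻¹ • hst
      match_scalars <;> field_simp <;> ring
    obtain ⟨ra, hra⟩ := himg u w2 e2 r₀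
    obtain ⟨rb, hrb⟩ := hpre z w1 e1 ((-s / t) • ra)
    have h1 : tmul r₀ u = tmul rb z := by
      apply (spV j).symm.injective
      apply hTinj
      apply (spV m).injective
      rw [hra, hrb, hw, tmul_smul_right, tmul_smul_left]
    obtain ⟨ξ, hξ⟩ := exists_dual hr₀
    have h3 := congrArg (lslice ξ) h1
    rw [lslice_tmul, lslice_tmul, hξ, one_smul] at h3
    exact hzv (by rw [← hzu, h3, hs.smul_right, hzz, mul_zero])
  by_cases hdep : ∃ α β' γ : F, w4 = α • w1 + β' • w2 + γ • w3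
  · obtain ⟨α, β', γ, h4⟩ := hdep
    have hv2 : v = (1 : F) • u₂ + a' • z' := by rw [hu₂, one_smul]; abel
    have key : ∀ r, ∃ r', spV m (T ((spV j).symm (tmul r v))) = tmul r' (α • w1 + β' • w2) := by
      intro r
      obtain ⟨r1, r2, h12⟩ := hpl v v a 1 (by rw [hudef, one_smul]; abel) rfl r
      obtain ⟨r4, h4'⟩ := himg u₂ w4 e4 r
      obtain ⟨r3, h3'⟩ := himg z' w3 e3 r
      have h5 : spV m (T ((spV j).symm (tmul r v))) = tmul r4 w4 + tmul (a' • r3) w3 := by
        rw [hv2, hlin, h4', h3', one_smul, tmul_smul_left]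
      refine ⟨r4, ?_⟩
      have h6 : tmul (r4 : (Rst m → β) → F) w4 + tmul (a' • r3) w3 = tmul r1 w1 + tmul r2 w2 := h5.symm.trans h12
      rw [h5]
      -- compare the components at the third vector
      obtain ⟨φ, hφ3, hφ⟩ : ∃ φ : W, φ ⬝ᵥ w3 = 1 ∧ ∀ x ∈ Submodule.span F ({w1, w2} : Set W), φ ⬝ᵥ x = 0 :=
        exists_dot_one fun hm => by
          obtain ⟨s, t, hst⟩ := Submodule.mem_span_pair.1 hm
          exact hout s t hst.symm
      have f1 : φ ⬝ᵥ w1 = 0 := hφ _ (Submodule.subset_span (by simp))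
      have f2 : φ ⬝ᵥ w2 = 0 := hφ _ (Submodule.subset_span (by simp))
      have h7 := congrArg (slice φ) h6
      simp only [map_add, slice_tmul, h4, dotProduct_add, dotProduct_smul, f1, f2, hφ3, smul_eq_mul, mul_zero,
        zero_smul, zero_add, mul_one, one_smul, add_zero] at h7
      rw [h4, tmul_add_right, add_assoc, tmul_smul_right γ r4 w3, ← tmul_smul_left, ← tmul_add_left, h7,
        tmul_zero_left, add_zero]
    have hne : α • w1 + β' • w2 ≠ 0 := fun e0 => by
      obtain ⟨r', hr'⟩ := key r₀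
      rw [e0, tmul_zero_right] at hr'
      have h0 : tmul r₀ v = 0 :=
        (spV j).symm.injective (hTinj ((spV m).injective (hr'.trans (by simp))))
      exact tmul_ne_zero hr₀ hv h0
    refine ⟨m, _, hne, ?_⟩
    rw [hTdef]
    refine map_line_eq_of_le hv hne ?_
    rintro _ ⟨t, ht, rfl⟩
    obtain ⟨r, hr⟩ := mem_line_iff.1 ht
    obtain ⟨r', hr'⟩ := key r
    refine mem_line_iff.2 ⟨r', ?_⟩
    rw [← hr', ← hr, LinearEquiv.symm_apply_apply, hTdef]
  · exfalso
    push Not at hdep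
    obtain ⟨r1, r2, h12⟩ := hpl v v a 1 (by rw [hudef, one_smul]; abel) rfl r₀
    obtain ⟨r4, h4'⟩ := himg u₂ w4 e4 r₀
    obtain ⟨r3, h3'⟩ := himg z' w3 e3 r₀
    have h5 : spV m (T ((spV j).symm (tmul r₀ v))) = tmul r4 w4 + tmul (a' • r3) w3 := by
      rw [show v = (1 : F) • u₂ + a' • z' by rw [hu₂, one_smul]; abel, hlin, h4', h3', one_smul, tmul_smul_left]
    have h6 : tmul (r4 : (Rst m → β) → F) w4 + tmul (a' • r3) w3 = tmul r1 w1 + tmul r2 w2 := h5.symm.trans h12
    obtain ⟨φ, hφ4, hφ⟩ : ∃ φ : W, φ ⬝ᵥ w4 = 1 ∧ ∀ x ∈ Submodule.span F ({w1, w2, w3} : Set W), φ ⬝ᵥ x = 0 :=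
      exists_dot_one fun hm => by
        obtain ⟨s, t, r, hst⟩ := Submodule.mem_span_triple.1 hm
        exact hdep s t r hst.symm
    have f1 : φ ⬝ᵥ w1 = 0 := hφ _ (Submodule.subset_span (by simp))
    have f2 : φ ⬝ᵥ w2 = 0 := hφ _ (Submodule.subset_span (by simp))
    have f3 : φ ⬝ᵥ w3 = 0 := hφ _ (Submodule.subset_span (by simp))
    have hr4 := congrArg (slice φ) h6
    simp only [map_add, slice_tmul, f1, f2, f3, hφ4, zero_smul, add_zero, one_smul] at hr4
    obtain ⟨ψ, hψ3, hψ⟩ : ∃ φ : W, φ ⬝ᵥ w3 = 1 ∧ ∀ x ∈ Submodule.span F ({w1, w2} : Set W), φ ⬝ᵥ x = 0 :=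
      exists_dot_one fun hm => by
        obtain ⟨s, t, hst⟩ := Submodule.mem_span_pair.1 hm
        exact hout s t hst.symm
    have hr3 := congrArg (slice ψ) h6
    simp only [map_add, slice_tmul, hr4, tmul_zero_left, smul_zero, zero_add, hψ3, one_smul,
      hψ _ (Submodule.subset_span (Set.mem_insert _ _)),
      hψ _ (Submodule.subset_span (Set.mem_insert_of_mem _ rfl)), zero_smul, add_zero] at hr3
    rw [hr4, hr3, tmul_zero_left, tmul_zero_left, add_zero] at h5
    exact tmul_ne_zero hr₀ hv ((spV j).symm.injective (hTinj ((spV m).injective (h5.trans (by simp)))))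

end single

end Cfsg.Agent.Classical.TensorPowOrth
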