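import Cfsg.Agent.Lib.Classical.TensorPowOrth.Block
import Cfsg.Agent.Lib.Classical.TensorPowOrth.Mid

/-!
An additive group of matrices invariant under the orthogonal groups at the factors contains a pure one with
elementary components.
-/

set_option autoImplicit false
set_option linter.unusedSectionVars false
set_option linter.unusedSimpArgs false

namespace Cfsg.Agent.Classical.TensorPowOrth

open Matrix Module MaxTv TensorMax TensorPow
open Cfsg.Agent.Classical.TensorOrth (Sym NdOn iso cj IsSieg wd siegGrp)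

variable {F : Type*} [Field F] [Fintype F] {κ β : Type} [Fintype κ] [DecidableEq κ] [Fintype β] [DecidableEq β]
  {c : F} {h : (β → F) → (β → F) → F}

local notation "X" => (κ → β)
local notation "Mn" => Matrix (κ → β) (κ → β) F
local notation "Mb" => Matrix β β F
local notation "W" => (β → F)
local notation "Eb" => ((β → F) →ₗ[F] (β → F))

/-- The rank one self-adjoint map of a vector. -/
def AE (hs : Sym h) (a : β → F) : (β → F) →ₗ[F] (β → F) := (hs.lin a).smulRight a

theorem AE_apply (hs : Sym h) (a x : W) : AE hs a x = h x a • a := rfl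

theorem cj_AE (hs : Sym h) {g : GL β F} (hg : g ∈ iso h) (a : W) : cj g (AE hs a) = AE hs ((g : Mb) *ᵥ a) :=
  LinearMap.ext fun x => by
    obtain ⟨x', rfl⟩ : ∃ x', (g : Mb) *ᵥ x' = x := ⟨_, mulVec_inv_cancel g x⟩
    rw [TensorOrth.cj_apply, inv_mulVec_cancel, AE_apply, AE_apply, hg, Matrix.mulVec_smul]

/-- An additive group invariant under the factors and under multiplication by fourth powers. -/
structure SlotInv (c : F) (h : (β → F) → (β → F) → F) (P : AddSubgroup (Matrix (κ → β) (κ → β) F)) : Prop where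
  conj : ∀ (l : κ) (B : GL β F), B ∈ iso h → pe l B ∈ GT c h → ∀ D ∈ P,
    et l (B : Mb) * D * et l ((B⁻¹ : GL β F) : Mb) ∈ P
  refl : Even (Fintype.card β) → ∀ (l : κ) (v : β → F), h v v ≠ 0 → ∀ B : GL β F, B ∈ iso h →
    (∀ x, (B : Mb) *ᵥ x = x - (2 * h x v / h v v) • v) → ∀ D ∈ P,
    et l (B : Mb) * D * et l ((B⁻¹ : GL β F) : Mb) ∈ P
  sc : ∀ (r : F), ∀ D ∈ P, (r * r * r * r) • D ∈ P

/-- Not a multiple of the identity. -/
def NonSc {n : Type} [DecidableEq n] (D : Matrix n n F) : Prop := ∀ r : F, D ≠ r • 1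

/-- An elementary component at a singular pair. -/
def Kind (hs : Sym h) (a u : β → F) (T : (β → F) →ₗ[F] (β → F)) : Prop :=
  T = LinearMap.id ∨ T = AE hs a ∨ ∃ e ∈ hs.perp2 u a, h e e ≠ 0 ∧ T = wd a e hs

theorem Kind.ne_zero {hs : Sym h} {a u : W} (hua : h u a = 1) {T : Eb} (hT : Kind hs a u T) : T ≠ 0 := by
  intro h0
  have hu : u ≠ 0 := fun e => one_ne_zero (by rw [← hua, e, hs.zero_left])
  rcases hT with rfl | rfl | ⟨e, he, hee, rfl⟩ <;> have k := LinearMap.congr_fun h0 u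
  · exact hu k
  · rw [AE_apply, hua, one_smul, LinearMap.zero_apply] at k
    exact one_ne_zero (by rw [← hua, k, hs.zero_right] : (1 : F) = 0)
  · rw [TensorOrth.wd_apply, hua, one_smul, hs.symm u e, (show h e u = 0 from he.1), zero_smul, sub_zero] at k
    exact hee (by rw [k, LinearMap.zero_apply, hs.zero_left])

theorem Kind.nonscalar {hs : Sym h} {a u : W} (haa : h a a = 0) (hua : h u a = 1) {T : Eb} (hT : Kind hs a u T)
    (hid : T ≠ LinearMap.id) (r : F) : T ≠ r • LinearMap.id := by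
  intro h0
  have ha0 : a ≠ 0 := fun e => one_ne_zero (by rw [← hua, e, hs.zero_right])
  have ka : T a = 0 := by
    rcases hT with rfl | rfl | ⟨e, he, -, rfl⟩
    · exact absurd rfl hid
    · rw [AE_apply, haa, zero_smul]
    · rw [TensorOrth.wd_apply, haa, zero_smul, hs.symm a e, (show h e a = 0 from he.2), zero_smul, sub_zero]
  have h1 := LinearMap.congr_fun h0 a
  rw [ka, LinearMap.smul_apply, LinearMap.id_apply, eq_comm, smul_eq_zero] at h1
  exact hT.ne_zero hua (by rw [h0, h1.resolve_right ha0, zero_smul])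

/-- The operations at a factor that keep a set. -/
def Op (l : κ) (Q : AddSubgroup (Matrix (κ → β) (κ → β) F)) (Φ : Module.End F ((β → F) →ₗ[F] (β → F))) : Prop :=
  ∀ D ∈ Q, ∃ D' ∈ Q, ∀ y y', bl l y y' D' = Φ (bl l y y' D)

variable {Q : AddSubgroup (Matrix (κ → β) (κ → β) F)} {l : κ} {Φ Ψ : Module.End F ((β → F) →ₗ[F] (β → F))}

theorem Op.one : Op l Q 1 := fun D hD => ⟨D, hD, fun _ _ => rfl⟩

theorem Op.add (h1 : Op l Q Φ) (h2 : Op l Q Ψ) : Op l Q (Φ + Ψ) := fun D hD => by
  obtain ⟨A, hA, hA'⟩ := h1 D hD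
  obtain ⟨B, hB, hB'⟩ := h2 D hD
  exact ⟨A + B, add_mem hA hB, fun y y' => by rw [map_add, hA', hB', LinearMap.add_apply]⟩

theorem Op.sub (h1 : Op l Q Φ) (h2 : Op l Q Ψ) : Op l Q (Φ - Ψ) := fun D hD => by
  obtain ⟨A, hA, hA'⟩ := h1 D hD
  obtain ⟨B, hB, hB'⟩ := h2 D hD
  exact ⟨A - B, sub_mem hA hB, fun y y' => by rw [map_sub, hA', hB', LinearMap.sub_apply]⟩

theorem Op.mul (h1 : Op l Q Φ) (h2 : Op l Q Ψ) : Op l Q (Φ * Ψ) := fun D hD => by
  obtain ⟨B, hB, hB'⟩ := h2 D hD
  obtain ⟨A, hA, hA'⟩ := h1 B hB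
  exact ⟨A, hA, fun y y' => by rw [hA', hB', Module.End.mul_apply]⟩

theorem Op.smul {r : F} (hr : ∀ D ∈ Q, r • D ∈ Q) (h1 : Op l Q Φ) : Op l Q (r • Φ) := fun D hD => by
  obtain ⟨A, hA, hA'⟩ := h1 D hD
  exact ⟨r • A, hr A hA, fun y y' => by rw [map_smul, hA', LinearMap.smul_apply]⟩

theorem exists_scalar (hq : 5 ≤ Fintype.card F) :
    (∃ r : F, r ≠ 0 ∧ r * r ≠ 1) ∧
      ∃ s : F, s ≠ 0 ∧ s * s ≠ 1 ∧ ((∃ r, s * s = r * r * r * r) ∨ ∃ n : ℕ, (n : F) = s * s) := by
  classical
  have key : ∀ (p : Polynomial F), p ≠ 0 → p.natDegree + 1 < Fintype.card F → ∃ r : F, r ≠ 0 ∧ ¬ p.IsRoot r :=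
    fun p hp hd => by
      by_contra hc
      push Not at hc
      have hsub : (Finset.univ.erase (0 : F)).val ⊆ p.roots := fun r hr => by
        rw [Polynomial.mem_roots hp]
        exact hc r (Finset.mem_erase.1 hr).1
      have h1 := Polynomial.card_le_degree_of_subset_roots hsub
      rw [Finset.card_erase_of_mem (Finset.mem_univ _), Finset.card_univ] at h1
      omega
  obtain ⟨r, hr0, hr⟩ := key (Polynomial.X ^ 2 - Polynomial.C 1) (Polynomial.X_pow_sub_C_ne_zero (by norm_num) _)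
    (by rw [Polynomial.natDegree_X_pow_sub_C]; omega)
  refine ⟨⟨r, hr0, fun e => hr (by simp [Polynomial.IsRoot, pow_two, e])⟩, ?_⟩
  by_cases h3 : (3 : F) = 0
  swap
  · by_cases h20 : (2 : F) = 0
    · haveI : CharP F 2 := CharTwo.of_one_ne_zero_of_two_eq_zero one_ne_zero h20
      obtain ⟨s, hs⟩ := surjective_frobenius F 2 r
      rw [frobenius_def, pow_two] at hs
      refine ⟨r, hr0, fun e => hr (by simp [Polynomial.IsRoot, pow_two, e]), Or.inl ⟨s, ?_⟩⟩
      rw [← hs]; ring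
    refine ⟨2, h20, fun e => h3 (by linear_combination e), Or.inr ⟨4, by norm_num⟩⟩
  obtain ⟨m, hm0, hm⟩ := key (Polynomial.X ^ 4 - Polynomial.C 1) (Polynomial.X_pow_sub_C_ne_zero (by norm_num) _)
    (by
      rw [Polynomial.natDegree_X_pow_sub_C]
      obtain ⟨p, hp⟩ := CharP.exists F
      have hp3 : p = 3 := by
        have h1 : p ∣ 3 := (CharP.cast_eq_zero_iff F p 3).1 (by exact_mod_cast h3)
        have hpp := (CharP.char_is_prime_or_zero F p).resolve_right (CharP.char_ne_zero_of_finite F p)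
        exact (Nat.prime_dvd_prime_iff_eq hpp Nat.prime_three).1 h1
      subst hp3
      haveI : Fact (Nat.Prime 3) := ⟨Nat.prime_three⟩
      obtain ⟨n, -, hn⟩ := FiniteField.card F 3
      have : 3 ^ 1 < 3 ^ (n : ℕ) := by rw [← hn]; omega
      have : 3 ^ 2 ≤ 3 ^ (n : ℕ) := Nat.pow_le_pow_right (by norm_num) (by
        have := (Nat.pow_lt_pow_iff_right (by norm_num : 1 < 3)).1 this; omega)
      omega)
  refine ⟨m * m, mul_ne_zero hm0 hm0, fun e => hm ?_, Or.inl ⟨m, by ring⟩⟩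
  rw [Polynomial.IsRoot, Polynomial.eval_sub, Polynomial.eval_pow, Polynomial.eval_X, Polynomial.eval_C]
  linear_combination e

theorem five_le_card (h2 : (2 : F) ≠ 0) (h : Fintype.card F ≠ 3) : 5 ≤ Fintype.card F := by
  have hodd : Fintype.card F % 2 = 1 := FiniteField.odd_card_of_char_ne_two fun e => h2 (by
    haveI := ringChar.of_eq e; exact CharTwo.two_eq_zero)
  have h1 := Fintype.one_lt_card (α := F)
  omega

variable (hT : TData c h) (hex : ¬ (Fintype.card F = 3 ∧ Fintype.card β = 3))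
include hT hex

/-- One factor. -/
theorem TData.pattern_step (hκ : 2 ≤ Fintype.card κ) {P : AddSubgroup Mn} (hP : SlotInv c h P) {a u : W} (haa : h a a = 0) (huu : h u u = 0)
    (hua : h u a = 1) (s : Finset κ) (gs : κ → Eb) {l : κ} (hl : l ∉ s) {D : Mn} (hD : D ∈ P)
    (hpur : ∀ m ∈ s, Pur m (gs m) D) (hns : NonSc D) :
    ∃ T, Kind hT.hh a u T ∧ ∃ D' ∈ P, NonSc D' ∧ Pur l T D' ∧ ∀ m ∈ s, Pur m (gs m) D' := by
  classical
  have hs := hT.hh
  have h2 := hT.two
  by_cases hcom : ∀ y y', bl l y y' D ∈ F ∙ (LinearMap.id : Eb)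
  · exact ⟨_, Or.inl rfl, D, hD, hns, fun y y' => by
      obtain ⟨r, hr⟩ := Submodule.mem_span_singleton.1 (hcom y y'); exact ⟨r, hr.symm⟩, hpur⟩
  let Q : AddSubgroup Mn :=
    { carrier := {E | E ∈ P ∧ ∀ m ∈ s, Pur m (gs m) E}
      zero_mem' := ⟨P.zero_mem, fun m _ => pur_zero m _⟩
      add_mem' := fun ha hb => ⟨P.add_mem ha.1 hb.1, fun m hm => (ha.2 m hm).add (hb.2 m hm)⟩
      neg_mem' := fun ha => ⟨P.neg_mem ha.1, fun m hm => (ha.2 m hm).neg⟩ }
  have hQc : ∀ B : GL β F, B ∈ iso h → pe l B ∈ GT c h → ∀ E ∈ Q,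
      et l (B : Mb) * E * et l ((B⁻¹ : GL β F) : Mb) ∈ Q := fun B hB hBG E hE =>
    ⟨hP.conj l B hB hBG E hE.1, fun m hm => (hE.2 m hm).conj (fun e => hl (by subst e; exact hm)) _ _⟩
  have hop : ∀ B : GL β F, B ∈ iso h → pe l B ∈ GT c h → Op l Q (cj B) := fun B hB hBG E hE =>
    ⟨_, hQc B hB hBG E hE, fun y y' => bl_conj l B E y y'⟩
  have hopR : Even (Fintype.card β) → ∀ v, h v v ≠ 0 → ∀ B : GL β F, B ∈ iso h →
      (∀ x, (B : Mb) *ᵥ x = x - (2 * h x v / h v v) • v) → Op l Q (cj B) := fun hev v hv B hB hBx E hE =>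
    ⟨_, ⟨hP.refl hev l v hv B hB hBx E hE.1,
      fun m hm => (hE.2 m hm).conj (fun e => hl (by subst e; exact hm)) _ _⟩, fun y y' => bl_conj l B E y y'⟩
  have hopS : ∀ B : GL β F, B ∈ siegGrp h → Op l Q (cj B) := fun B hB =>
    hop B (hs.siegGrp_le h2 hB) (hT.pe_siegGrp hB)
  have hsc4 : ∀ r : F, ∀ E ∈ Q, (r * r * r * r) • E ∈ Q := fun r E hE =>
    ⟨hP.sc r E hE.1, fun m hm => (hE.2 m hm).smul _⟩
  have hscn : ∀ n : ℕ, ∀ E ∈ Q, (n : F) • E ∈ Q := fun n E hE => by
    rw [Nat.cast_smul_eq_nsmul]; exact Q.nsmul_mem hE n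
  -- a member fixed modulo the identity by the Siegel maps at `a`
  let K : Submodule F Mn :=
    { carrier := {E | ∀ y y', bl l y y' E ∈ F ∙ (LinearMap.id : Eb)}
      zero_mem' := fun y y' => by rw [map_zero]; exact zero_mem _
      add_mem' := fun ha hb y y' => by rw [map_add]; exact add_mem (ha y y') (hb y y')
      smul_mem' := fun r _ ha y y' => by rw [map_smul]; exact Submodule.smul_mem _ r (ha y y') }
  haveI : Fintype {w : W // h w a = 0} := Fintype.ofFinite _
  choose g hgi hg using fun i : {w : W // h w a = 0} => hs.exists_sieg h2 haa i.2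
  let op : {w : W // h w a = 0} → Module.End F Mn := fun i =>
    LinearMap.mulLeft F (et l (g i : Mb)) * LinearMap.mulRight F (et l (((g i)⁻¹ : GL β F) : Mb)) - 1
  have hopa : ∀ i E, op i E = et l (g i : Mb) * E * et l (((g i)⁻¹ : GL β F) : Mb) - E := fun i E => by
    simp only [op, LinearMap.sub_apply, Module.End.mul_apply, LinearMap.mulLeft_apply, LinearMap.mulRight_apply,
      Module.End.one_apply, mul_assoc]
  have hG : ∀ i, pe l (g i) ∈ GT c h := fun i => hT.pe_sieg (hg i) haa i.2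
  obtain ⟨E, hEQ, hEK, hEf⟩ := exists_fixed_add (k := F) (T := Q) (K := K) ⟨hD, hpur⟩ hcom op
    (fun i j => by
      have hcm := hs.sieg_commute h2 (hg i) (hg j) haa i.2 j.2
      have hcm' : (g i)⁻¹ * (g j)⁻¹ = (g j)⁻¹ * (g i)⁻¹ := by rw [← _root_.mul_inv_rev, ← _root_.mul_inv_rev, hcm]
      have hc1 : Commute (LinearMap.mulLeft F (et l (g i : Mb)) * LinearMap.mulRight F (et l (((g i)⁻¹ : GL β F) : Mb)))
          (LinearMap.mulLeft F (et l (g j : Mb)) * LinearMap.mulRight F (et l (((g j)⁻¹ : GL β F) : Mb))) :=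
        LinearMap.ext fun T => by
          simp only [Module.End.mul_apply, LinearMap.mulLeft_apply, LinearMap.mulRight_apply, mul_assoc, et_mul]
          simp only [← mul_assoc, et_mul]
          rw [← Units.val_mul, ← Units.val_mul, ← Units.val_mul, ← Units.val_mul, hcm, hcm']
      exact ((hc1.sub_left (Commute.one_left _)).sub_right ((Commute.one_right _).sub_left (Commute.one_left _))))
    (fun i S hS => by rw [hopa]; exact sub_mem (hQc _ (hgi i) (hG i) S hS) hS)
    (fun i S hS y y' => by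
      obtain ⟨r, hr⟩ := Submodule.mem_span_singleton.1 (hS y y')
      rw [hopa, map_sub, bl_conj, ← hr, map_smul, TensorOrth.cj_id, sub_self]
      exact zero_mem _)
    (fun i => by
      refine isNilpotent_conj ⟨3, ?_⟩ ⟨3, ?_⟩
      all_goals
        rw [← et_one (F := F) (κ := κ) (β := β) l, ← eq_sub_of_add_eq (a := et l ((_ : Mb) - 1))
          (by rw [← et_add, sub_add_cancel]), pow_succ, pow_two, et_mul, et_mul,
          show ∀ A : Mb, (∀ x, A *ᵥ (A *ᵥ (A *ᵥ x)) = 0) → A * A * A = 0 from fun A hA =>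
            Matrix.ext_iff_mulVec.2 fun x => by
              rw [← Matrix.mulVec_mulVec, ← Matrix.mulVec_mulVec, hA, Matrix.zero_mulVec]]
        · rw [et, wm]
          ext x y
          exact Finset.prod_eq_zero (Finset.mem_univ l) (by simp)
      · exact fun x => hs.sieg_cube h2 (hg i) haa i.2 x
      · exact fun x => TensorOrth.sieg_inv_cube hs h2 (hg i) haa i.2 x)
  have hshape : ∀ y y', ∃ α δ : F, ∃ v ∈ hs.perp2 u a,
      bl l y y' E = α • (LinearMap.id : Eb) + δ • AE hs a + wd a v hs := fun y y' => by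
    obtain ⟨α, δ, v, hv, hx⟩ := hT.block_shape hex haa huu hua (S := bl l y y' E) fun w k hw hk => by
      rw [hs.sieg_unique hk (hg ⟨w, hw⟩)]
      have h1 := hEf ⟨w, hw⟩ y y'
      rwa [hopa, map_sub, bl_conj] at h1
    refine ⟨α, δ, v, hv, LinearMap.ext fun x => ?_⟩
    rw [hx, LinearMap.add_apply, LinearMap.add_apply, LinearMap.smul_apply, LinearMap.smul_apply,
      LinearMap.id_apply, AE_apply, smul_smul]
  choose α δ v hv hbl using hshape
  -- it suffices to find an operation with one elementary image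
  have finish : ∀ (Φ : Module.End F Eb) (T : Eb), Op l Q Φ → Kind hs a u T → T ≠ LinearMap.id →
      (∀ y y', ∃ r : F, Φ (bl l y y' E) = r • T) → (∃ y y', Φ (bl l y y' E) ≠ 0) →
      ∃ T, Kind hs a u T ∧ ∃ D' ∈ P, NonSc D' ∧ Pur l T D' ∧ ∀ m ∈ s, Pur m (gs m) D' := by
    intro Φ T hΦ hK hid hr hne
    obtain ⟨E', hE', hE''⟩ := hΦ E hEQ
    refine ⟨T, hK, E', hE'.1, fun r e => ?_, fun y y' => ?_, hE'.2⟩
    · obtain ⟨y, y', hyy⟩ := hne
      obtain ⟨m, hm⟩ := hr y y'
      have hm0 : m ≠ 0 := fun e0 => hyy (by rw [hm, e0, zero_smul])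
      have h1 := hE'' y y'
      rw [e, map_smul, bl_one, hm, smul_smul] at h1
      refine hK.nonscalar haa hua hid (m⁻¹ * (r * if y = y' then 1 else 0)) ?_
      rw [← smul_smul, h1, smul_smul, inv_mul_cancel₀ hm0, one_smul]
    · obtain ⟨m, hm⟩ := hr y y'
      exact ⟨m, by rw [hE'', hm]⟩
  obtain ⟨b₀, b₁, e, he⟩ := hT.exists_midFrame haa huu hua
  have hrest : ∀ b, b ≠ b₀ → b ≠ b₁ → e b ∈ hs.perp2 u a ∧ h (e b) (e b) ≠ 0 := fun b h0 h1 =>
    ⟨⟨(he.perp b h0 h1).2, (he.perp b h0 h1).1⟩, he.vne b h0 h1⟩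
  have hvexp : ∀ w ∈ hs.perp2 u a,
      w = ∑ b ∈ (Finset.univ.erase b₀).erase b₁, (h (e b) w / h (e b) (e b)) • e b := fun w hw => by
    have h1 := he.expand hT haa huu hua w
    rwa [(show h w u = 0 from hw.1), (show h w a = 0 from hw.2), zero_smul, zero_smul, zero_add, zero_add] at h1
  have hrcard : ((Finset.univ.erase b₀).erase b₁).card = Fintype.card β - 2 := by
    rw [Finset.card_erase_of_mem (Finset.mem_erase.2 ⟨he.ne.symm, Finset.mem_univ _⟩),
      Finset.card_erase_of_mem (Finset.mem_univ _), Finset.card_univ]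
    omega
  obtain ⟨b, hb⟩ : ∃ b, b ∈ (Finset.univ.erase b₀).erase b₁ :=
    Finset.card_pos.1 (by have := hT.three; omega)
  simp only [Finset.mem_erase, Finset.mem_univ, and_true] at hb
  have hN0 : ∀ w ∈ hs.perp2 u a, w ≠ 0 → wd a w hs ≠ 0 := fun w hw hw0 h0 => hw0 (by
    have k := LinearMap.congr_fun h0 u
    rwa [TensorOrth.wd_apply, hua, one_smul, hs.symm u w, (show h w u = 0 from hw.1), zero_smul, sub_zero,
      LinearMap.zero_apply] at k)
  have hA0 : AE hs a ≠ 0 := Kind.ne_zero hua (Or.inr (Or.inl rfl))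
  by_cases hN : ∃ y y', v y y' ≠ 0
  · obtain ⟨y₀, y₁, hv0⟩ := hN
    obtain ⟨b, ⟨hbb₀, hbb₁⟩, hbv⟩ : ∃ b, (b ≠ b₀ ∧ b ≠ b₁) ∧ h (e b) (v y₀ y₁) ≠ 0 := by
      by_contra hc
      push Not at hc
      refine hv0 ?_
      rw [hvexp _ (hv y₀ y₁)]
      refine Finset.sum_eq_zero fun b hb => ?_
      simp only [Finset.mem_erase, Finset.mem_univ, and_true] at hb
      rw [hc b ⟨hb.2, hb.1⟩, zero_div, zero_smul]
    obtain ⟨γ, hγ⟩ : ∃ γ, γ = h (e b) (e b) := ⟨_, rfl⟩
    have hγ0 : γ ≠ 0 := hγ ▸ he.vne b hbb₀ hbb₁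
    have hne1 : wd a (e b) hs ≠ LinearMap.id := fun h0 => by
      have k := LinearMap.congr_fun h0 a
      rw [TensorOrth.wd_apply, haa, hs.symm a (e b), (he.perp b hbb₀ hbb₁).1, zero_smul, zero_smul, sub_zero,
        LinearMap.id_apply] at k
      exact one_ne_zero (by rw [← hua, ← k, hs.zero_right] : (1 : F) = 0)
    by_cases h5 : 5 ≤ Fintype.card β
    · obtain ⟨b', b'', hb', hb'', hbb⟩ : ∃ b' b'', (b' ≠ b₀ ∧ b' ≠ b₁ ∧ b' ≠ b) ∧ (b'' ≠ b₀ ∧ b'' ≠ b₁ ∧ b'' ≠ b) ∧
          b' ≠ b'' := by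
        have hc : 1 < (((Finset.univ.erase b₀).erase b₁).erase b).card := by
          rw [Finset.card_erase_of_mem (by simp [hbb₀, hbb₁]), hrcard]; omega
        obtain ⟨b', hb', b'', hb'', hne⟩ := Finset.one_lt_card.1 hc
        simp only [Finset.mem_erase, Finset.mem_univ, and_true] at hb' hb''
        exact ⟨b', b'', ⟨hb'.2.2, hb'.2.1, hb'.1⟩, ⟨hb''.2.2, hb''.2.1, hb''.1⟩, hne⟩
      have hpair : ∀ d, d ≠ b₀ → d ≠ b₁ → d ≠ b → ∃ B : GL β F, B ∈ iso h ∧ pe l B ∈ GT c h ∧ (B : Mb) *ᵥ a = a ∧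
          ∀ x, (B : Mb) *ᵥ x = x - (2 * h x (e b) / γ) • e b - (2 * h x (e d) / h (e d) (e d)) • e d :=
          fun d h0 h1 hd => by
        obtain ⟨B, hB, hBG, hBx⟩ := hT.exists_pair l (v := e b) (w := e d) (hrest b hbb₀ hbb₁).2 (hrest d h0 h1).2
          ((he.pair b d hbb₀ hbb₁ h0 h1).imp (fun hev => ⟨hev, hκ⟩) id) (he.orth b d (Ne.symm hd))
        refine ⟨B, hB, hBG, ?_, fun x => by rw [hBx, hγ]⟩
        rw [hBx, hs.symm a (e b), (he.perp b hbb₀ hbb₁).1, hs.symm a (e d), (he.perp d h0 h1).1]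
        simp
      obtain ⟨B, hBi, hBG, hBa, hBx⟩ := hpair b' hb'.1 hb'.2.1 hb'.2.2
      obtain ⟨B', hB'i, hB'G, hB'a, hB'x⟩ := hpair b'' hb''.1 hb''.2.1 hb''.2.2
      have himg : ∀ w, wd a w hs - cj B' (wd a w hs) - cj B (wd a w hs - cj B' (wd a w hs)) =
          (4 * h w (e b) / γ) • wd a (e b) hs := fun w => by
        simp only [map_sub, TensorOrth.cj_wd hs hBi,
          TensorOrth.cj_wd hs hB'i, hBa, hB'a]
        refine LinearMap.ext fun x => ?_
        have o1 := he.orth b b' (Ne.symm hb'.2.2)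
        have o2 := he.orth b b'' (Ne.symm hb''.2.2)
        have o3 := he.orth b' b'' hbb
        have v1 := hγ.symm
        simp only [LinearMap.sub_apply, LinearMap.smul_apply, TensorOrth.wd_apply, hBx, hB'x, hs.sub_left,
          hs.sub_right, hs.smul_left, hs.smul_right, o1, o2, o3, v1, hs.symm (e b'') (e b'), hs.symm (e b') (e b),
          hs.symm (e b'') (e b)]
        have := (hrest b' hb'.1 hb'.2.1).2
        have := (hrest b'' hb''.1 hb''.2.1).2
        match_scalars <;> field_simp <;> ring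
      refine finish (((1 : Module.End F Eb) - cj B) * ((1 : Module.End F Eb) - cj B')) (wd a (e b) hs)
        ((Op.one.sub (hop B hBi hBG)).mul (Op.one.sub (hop B' hB'i hB'G)))
        (Or.inr (Or.inr ⟨e b, (hrest b hbb₀ hbb₁).1, (hrest b hbb₀ hbb₁).2, rfl⟩)) ?_ ?_ ?_
      · intro h0
        have k := LinearMap.congr_fun h0 a
        rw [TensorOrth.wd_apply, haa, hs.symm a (e b), (he.perp b hbb₀ hbb₁).1, zero_smul, zero_smul, sub_zero,
          LinearMap.id_apply] at k
        exact one_ne_zero (by rw [← hua, ← k, hs.zero_right] : (1 : F) = 0)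
      · intro y y'
        refine ⟨4 * h (v y y') (e b) / γ, ?_⟩
        rw [hbl, Module.End.mul_apply]
        simp only [map_add, map_smul, himg, LinearMap.sub_apply, Module.End.one_apply, TensorOrth.cj_id,
          cj_AE hs hBi, cj_AE hs hB'i, hBa, hB'a, sub_self, smul_zero, map_zero, zero_add]
      · refine ⟨y₀, y₁, ?_⟩
        rw [hbl, Module.End.mul_apply]
        simp only [map_add, map_smul, himg, LinearMap.sub_apply, Module.End.one_apply, TensorOrth.cj_id,
          cj_AE hs hBi, cj_AE hs hB'i, hBa, hB'a, sub_self, smul_zero, map_zero, zero_add]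
        refine smul_ne_zero (div_ne_zero (mul_ne_zero ?_ (by rwa [hs.symm])) hγ0)
          (hN0 _ (hrest b hbb₀ hbb₁).1 fun e0 => (hrest b hbb₀ hbb₁).2 (by rw [e0, hs.zero_left]))
        rw [show (4 : F) = 2 * 2 by norm_num]; exact mul_ne_zero h2 h2
    · by_cases h4 : Fintype.card β = 4
      · obtain ⟨B, hB, hBx⟩ := hT.exists_hrefl (hrest b hbb₀ hbb₁).2
        rw [← hγ] at hBx
        have hBa : (B : Mb) *ᵥ a = a := by rw [hBx, hs.symm a (e b), (he.perp b hbb₀ hbb₁).1]; simp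
        have himg : ∀ w, wd a w hs - cj B (wd a w hs) = (2 * h w (e b) / γ) • wd a (e b) hs := fun w => by
          rw [TensorOrth.cj_wd hs hB, hBa, hBx]
          refine LinearMap.ext fun x => ?_
          simp only [LinearMap.sub_apply, LinearMap.smul_apply, TensorOrth.wd_apply, hs.sub_right, hs.smul_right]
          module
        have himg' : ∀ y y', ((1 : Module.End F Eb) - cj B) (bl l y y' E) =
            (2 * h (v y y') (e b) / γ) • wd a (e b) hs := fun y y' => by
          rw [hbl, ← himg]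
          simp only [map_add, map_smul, LinearMap.sub_apply, Module.End.one_apply, TensorOrth.cj_id,
            cj_AE hs hB, hBa, sub_self, smul_zero, zero_add]
        refine finish ((1 : Module.End F Eb) - cj B) (wd a (e b) hs)
          (Op.one.sub (hopR (h4 ▸ by decide) (e b) (hrest b hbb₀ hbb₁).2 B hB (hγ ▸ hBx)))
          (Or.inr (Or.inr ⟨e b, (hrest b hbb₀ hbb₁).1, (hrest b hbb₀ hbb₁).2, rfl⟩)) hne1
          (fun y y' => ⟨_, himg' y y'⟩) ⟨y₀, y₁, ?_⟩
        rw [himg']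
        exact smul_ne_zero (div_ne_zero (mul_ne_zero h2 (by rwa [hs.symm])) hγ0)
          (hN0 _ (hrest b hbb₀ hbb₁).1 fun e0 => (hrest b hbb₀ hbb₁).2 (by rw [e0, hs.zero_left]))
      have h3 : Fintype.card β = 3 := by have := hT.three; omega
      have hq : 5 ≤ Fintype.card F := five_le_card h2 fun e => hex ⟨e, h3⟩
      obtain ⟨⟨m, hm0, hm1⟩, -⟩ := exists_scalar hq
      obtain ⟨B, hB, hBa, hBu, hBf, hBs, -⟩ := hT.exists_torus (κ := κ) l haa huu hua (mul_ne_zero hm0 hm0)
      have hBG : pe l B ∈ GT c h := hBs (Or.inr ⟨m, rfl⟩)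
      have hsing : ∀ w ∈ hs.perp2 u a, w = (h (e b) w / γ) • e b := fun w hw => by
        have h1 := hvexp w hw
        have hS : (Finset.univ.erase b₀).erase b₁ = {b} := by
          refine Finset.eq_singleton_iff_unique_mem.2 ⟨by simp [hbb₀, hbb₁], fun d hd => ?_⟩
          exact Finset.card_le_one.1 (by rw [hrcard, h3]) d hd b (by simp [hbb₀, hbb₁])
        rwa [hS, Finset.sum_singleton, ← hγ] at h1
      have hNs : ∀ w ∈ hs.perp2 u a, wd a w hs = (h (e b) w / γ) • wd a (e b) hs := fun w hw => by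
        have hw' := hsing w hw
        obtain ⟨t, ht⟩ : ∃ t, t = h (e b) w / γ := ⟨_, rfl⟩
        rw [← ht] at hw' ⊢
        refine LinearMap.ext fun x => ?_
        rw [hw']
        simp only [LinearMap.smul_apply, TensorOrth.wd_apply, hs.smul_right, hs.smul_left]
        module
      have hcN : cj B (wd a (e b) hs) = (m * m) • wd a (e b) hs := by
        rw [TensorOrth.cj_wd hs hB, hBa, hBf _ (he.perp b hbb₀ hbb₁).1 (he.perp b hbb₀ hbb₁).2]
        refine LinearMap.ext fun x => ?_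
        simp only [LinearMap.smul_apply, TensorOrth.wd_apply, hs.smul_right]
        module
      have hcA : cj B (AE hs a) = (m * m * m * m) • AE hs a := by
        rw [cj_AE hs hB, hBa]
        refine LinearMap.ext fun x => ?_
        simp only [LinearMap.smul_apply, AE_apply, hs.smul_right]
        module
      have himg : ∀ y y', ((cj B - 1 : Module.End F Eb) * (cj B - (m * m * m * m) • 1)) (bl l y y' E) =
          ((m * m - 1) * (m * m - m * m * m * m) * (h (e b) (v y y') / γ)) • wd a (e b) hs := fun y y' => by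
        rw [hbl, hNs _ (hv y y'), Module.End.mul_apply]
        simp only [LinearMap.sub_apply, LinearMap.smul_apply, Module.End.one_apply, map_add, map_sub, map_smul,
          TensorOrth.cj_id, hcA, hcN]
        module
      refine finish ((cj B - 1) * (cj B - (m * m * m * m) • 1)) (wd a (e b) hs)
        (((hop B hB hBG).sub Op.one).mul ((hop B hB hBG).sub (Op.one.smul (hsc4 m))))
        (Or.inr (Or.inr ⟨e b, (hrest b hbb₀ hbb₁).1, (hrest b hbb₀ hbb₁).2, rfl⟩)) ?_
        (fun y y' => ⟨_, himg y y'⟩) ⟨y₀, y₁, ?_⟩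
      · intro h0
        have k := LinearMap.congr_fun h0 a
        rw [TensorOrth.wd_apply, haa, hs.symm a (e b), (he.perp b hbb₀ hbb₁).1, zero_smul, zero_smul, sub_zero,
          LinearMap.id_apply] at k
        exact one_ne_zero (by rw [← hua, ← k, hs.zero_right] : (1 : F) = 0)
      · rw [himg]
        refine smul_ne_zero (mul_ne_zero (mul_ne_zero (sub_ne_zero.2 hm1) ?_) (div_ne_zero hbv hγ0))
          (hN0 _ (hrest b hbb₀ hbb₁).1 fun e0 => (hrest b hbb₀ hbb₁).2 (by rw [e0, hs.zero_left]))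
        intro e0
        exact hm1 (mul_left_cancel₀ (mul_ne_zero hm0 hm0) (by linear_combination -e0))
  push Not at hN
  have hw0 : wd a (0 : W) hs = 0 := LinearMap.ext fun x => by
    simp [TensorOrth.wd_apply, hs.zero_right]
  have hbl' : ∀ y y', bl l y y' E = α y y' • (LinearMap.id : Eb) + δ y y' • AE hs a := fun y y' => by
    rw [hbl, hN, hw0, add_zero]
  obtain ⟨y₀, y₁, hd0⟩ : ∃ y y', δ y y' ≠ 0 := by
    by_contra hc
    push Not at hc
    refine hEK fun y y' => ?_
    rw [hbl', hc, zero_smul, add_zero]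
    exact Submodule.smul_mem _ _ (Submodule.mem_span_singleton_self _)
  have hAid : AE hs a ≠ LinearMap.id := fun h0 => by
    have k := LinearMap.congr_fun h0 a
    rw [AE_apply, haa, zero_smul, LinearMap.id_apply] at k
    exact one_ne_zero (by rw [← hua, ← k, hs.zero_right] : (1 : F) = 0)
  -- an operation sending the rank one map to a nonzero multiple and the identity to zero suffices
  have finA : ∀ (Φ : Module.End F Eb), Op l Q Φ → Φ LinearMap.id = 0 →
      ∀ r : F, r ≠ 0 → Φ (AE hs a) = r • AE hs a →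
      ∃ T, Kind hs a u T ∧ ∃ D' ∈ P, NonSc D' ∧ Pur l T D' ∧ ∀ m ∈ s, Pur m (gs m) D' :=
    fun Φ hΦ h1 r hr hA => by
      have himg : ∀ y y', Φ (bl l y y' E) = (δ y y' * r) • AE hs a := fun y y' => by
        rw [hbl', map_add, map_smul, map_smul, h1, hA, smul_zero, zero_add, smul_smul]
      exact finish Φ _ hΦ (Or.inr (Or.inl rfl)) hAid (fun y y' => ⟨_, himg y y'⟩)
        ⟨y₀, y₁, by rw [himg]; exact smul_ne_zero (mul_ne_zero hd0 hr) hA0⟩
  have hau : h a u = 1 := by rw [hs.symm, hua]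
  by_cases h5 : 5 ≤ Fintype.card β
  · obtain ⟨w, hw, hw0', hww⟩ := hs.exists_iso_in h2 (hs.ndOn_perp2 huu haa hua)
      (by have := hs.finrank_perp2 u a; omega)
    obtain ⟨g₁, hg₁, hg₁x⟩ := hs.exists_sieg h2 huu (w := w) hw.1
    obtain ⟨g₂, hg₂, hg₂x⟩ := hs.exists_sieg h2 huu (w := -w) (by rw [hs.neg_left, (show h w u = 0 from hw.1), neg_zero])
    have hm1 : g₁ ∈ siegGrp h := Subgroup.subset_closure ⟨u, w, huu, hw.1, hg₁x⟩
    have hm2 : g₂ ∈ siegGrp h := Subgroup.subset_closure ⟨u, -w, huu, by rw [hs.neg_left, (show h w u = 0 from hw.1), neg_zero], hg₂x⟩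
    obtain ⟨B, hB, hBw⟩ := hs.exists_move h2 (by omega) hw0' hww
      (fun e0 => one_ne_zero (by rw [← hua, e0, hs.zero_right])) haa
    refine finA (cj B * (cj g₁ + cj g₂ - (1 + 1))) ((hopS B hB).mul (((hopS _ hm1).add (hopS _ hm2)).sub
      (Op.one.add Op.one))) ?_ 2 h2 ?_
    · simp only [Module.End.mul_apply, LinearMap.sub_apply, LinearMap.add_apply, Module.End.one_apply,
        TensorOrth.cj_id, sub_self, map_zero]
    · have h3 : (cj g₁ + cj g₂ - (1 + 1) : Module.End F Eb) (AE hs a) = (2 : F) • AE hs w := by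
        simp only [LinearMap.sub_apply, LinearMap.add_apply, Module.End.one_apply, cj_AE hs hg₁, cj_AE hs hg₂]
        refine LinearMap.ext fun x => ?_
        simp only [LinearMap.sub_apply, LinearMap.add_apply, LinearMap.smul_apply, AE_apply, hg₁x a, hg₂x a, hau,
          hs.symm a w, (show h w a = 0 from hw.2), hs.neg_right, hs.neg_left, hww, neg_zero, zero_div, mul_one,
          one_smul, zero_smul, sub_zero, hs.add_right]
        module
      rw [Module.End.mul_apply, h3, map_smul, cj_AE hs (hs.siegGrp_le h2 hB), hBw]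
  · by_cases h4 : Fintype.card β = 4
    · have hL : ∀ w, h w a = 0 → h w u = 0 → ∃ Φ : Module.End F Eb, Op l Q Φ ∧ Φ LinearMap.id = 0 ∧
          Φ (AE hs a) = (2 : F) • AE hs w + (h w w * h w w / 2) • AE hs u -
            (h w w) • ((hs.lin a).smulRight u + (hs.lin u).smulRight a) := fun w hwa hwu => by
        obtain ⟨g₁, hg₁, hg₁x⟩ := hs.exists_sieg h2 huu hwu
        obtain ⟨g₂, hg₂, hg₂x⟩ := hs.exists_sieg h2 huu (w := -w) (by rw [hs.neg_left, hwu, neg_zero])
        refine ⟨cj g₁ + cj g₂ - (1 + 1), ((hopS _ (Subgroup.subset_closure ⟨u, w, huu, hwu, hg₁x⟩)).add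
          (hopS _ (Subgroup.subset_closure ⟨u, -w, huu, by rw [hs.neg_left, hwu, neg_zero], hg₂x⟩))).sub
          (Op.one.add Op.one), ?_, ?_⟩
        · simp only [LinearMap.sub_apply, LinearMap.add_apply, Module.End.one_apply, TensorOrth.cj_id, sub_self]
        · simp only [LinearMap.sub_apply, LinearMap.add_apply, Module.End.one_apply, cj_AE hs hg₁, cj_AE hs hg₂]
          refine LinearMap.ext fun x => ?_
          simp only [LinearMap.sub_apply, LinearMap.add_apply, LinearMap.smul_apply, LinearMap.smulRight_apply,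
            hs.lin_apply, AE_apply, hg₁x a, hg₂x a, hau, hs.add_right, hs.sub_right, hs.neg_left, hs.neg_right,
            hs.smul_right, hs.symm a w, hwa, neg_zero, neg_neg]
          match_scalars <;> field_simp <;> ring
      obtain ⟨b', hb', hne⟩ := Finset.exists_mem_ne
        (show 1 < ((Finset.univ.erase b₀).erase b₁).card by rw [hrcard]; omega) b
      simp only [Finset.mem_erase, Finset.mem_univ, and_true] at hb'
      obtain ⟨hbu, hba⟩ := And.intro (he.perp b hb.2 hb.1).2 (he.perp b hb.2 hb.1).1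
      obtain ⟨hbu', hba'⟩ := And.intro (he.perp b' hb'.2 hb'.1).2 (he.perp b' hb'.2 hb'.1).1
      have hbb' := he.orth b b' (Ne.symm hne)
      obtain ⟨Φ₁, hΦ₁, hi₁, hA₁⟩ := hL (e b + e b') (by rw [hs.add_left, hba, hba', add_zero])
        (by rw [hs.add_left, hbu, hbu', add_zero])
      obtain ⟨Φ₂, hΦ₂, hi₂, hA₂⟩ := hL (e b - e b') (by rw [hs.sub_left, hba, hba', sub_zero])
        (by rw [hs.sub_left, hbu, hbu', sub_zero])
      obtain ⟨Φ₃, hΦ₃, hi₃, hA₃⟩ := hL (e b) hba hbu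
      obtain ⟨Φ₄, hΦ₄, hi₄, hA₄⟩ := hL (e b') hba' hbu'
      obtain ⟨r, hr0, B, hB, hBG, hBa, hBu, -, -⟩ :=
        hT.exists_swap l haa huu hua hba hbu (hrest b hb.2 hb.1).2
      refine finA (cj B * (Φ₁ + Φ₂ - (Φ₃ + Φ₃ + (Φ₄ + Φ₄))))
        ((hop B hB hBG).mul ((hΦ₁.add hΦ₂).sub ((hΦ₃.add hΦ₃).add (hΦ₄.add hΦ₄)))) ?_
        (2 * h (e b) (e b) * h (e b') (e b') * (r⁻¹ * r⁻¹)) ?_ ?_
      · simp only [Module.End.mul_apply, LinearMap.sub_apply, LinearMap.add_apply, hi₁, hi₂, hi₃, hi₄, add_zero,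
          sub_self, map_zero]
      · exact mul_ne_zero (mul_ne_zero (mul_ne_zero h2 (hrest b hb.2 hb.1).2) (hrest b' hb'.2 hb'.1).2)
          (mul_ne_zero (inv_ne_zero hr0) (inv_ne_zero hr0))
      · have h6 : (Φ₁ + Φ₂ - (Φ₃ + Φ₃ + (Φ₄ + Φ₄))) (AE hs a) =
            (2 * h (e b) (e b) * h (e b') (e b')) • AE hs u := by
          rw [LinearMap.sub_apply, LinearMap.add_apply, LinearMap.add_apply, LinearMap.add_apply,
            LinearMap.add_apply, hA₁, hA₂, hA₃, hA₄]
          refine LinearMap.ext fun x => ?_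
          simp only [LinearMap.sub_apply, LinearMap.add_apply, LinearMap.smul_apply, LinearMap.smulRight_apply,
            hs.lin_apply, AE_apply, hs.add_left, hs.sub_left, hs.add_right, hs.sub_right, hbb', hs.symm (e b') (e b)]
          match_scalars <;> field_simp <;> ring
        rw [Module.End.mul_apply, h6, map_smul, cj_AE hs hB, hBu]
        refine LinearMap.ext fun x => ?_
        simp only [LinearMap.smul_apply, AE_apply, hs.smul_right, smul_smul]
        congr 1
        ring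
    have h3 : Fintype.card β = 3 := by have := hT.three; omega
    have hq : 5 ≤ Fintype.card F := five_le_card h2 fun e => hex ⟨e, h3⟩
    obtain ⟨γ, hγ⟩ : ∃ γ, γ = h (e b) (e b) := ⟨_, rfl⟩
    have hγ0 : γ ≠ 0 := hγ ▸ he.vne b hb.2 hb.1
    obtain ⟨-, t, ht0, ht1, htsc⟩ := exists_scalar hq
    have htQ : ∀ D ∈ Q, (t * t) • D ∈ Q := fun D hD => by
      rcases htsc with ⟨r, hr⟩ | ⟨n, hn⟩
      · rw [hr]; exact hsc4 r D hD
      · rw [← hn]; exact hscn n D hD
    obtain ⟨hbu, hba⟩ := And.intro (he.perp b hb.2 hb.1).2 (he.perp b hb.2 hb.1).1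
    have hbg := hγ.symm
    have hL : ∀ r : F, ∃ Φ : Module.End F Eb, Op l Q Φ ∧ Φ LinearMap.id = 0 ∧ Φ (AE hs a) =
        (2 * (r * r)) • AE hs (e b) + (r * r * (r * r) * (γ * γ) / 2) • AE hs u -
          (r * r * γ) • ((hs.lin a).smulRight u + (hs.lin u).smulRight a) := fun r => by
      obtain ⟨g₁, hg₁, hg₁x⟩ := hs.exists_sieg h2 huu (w := r • e b) (by rw [hs.smul_left, hbu, mul_zero])
      obtain ⟨g₂, hg₂, hg₂x⟩ := hs.exists_sieg h2 huu (w := (-r) • e b) (by rw [hs.smul_left, hbu, mul_zero])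
      have hm1 : g₁ ∈ siegGrp h :=
        Subgroup.subset_closure ⟨u, _, huu, by rw [hs.smul_left, hbu, mul_zero], hg₁x⟩
      have hm2 : g₂ ∈ siegGrp h :=
        Subgroup.subset_closure ⟨u, _, huu, by rw [hs.smul_left, hbu, mul_zero], hg₂x⟩
      refine ⟨cj g₁ + cj g₂ - (1 + 1), ((hopS _ hm1).add (hopS _ hm2)).sub (Op.one.add Op.one), ?_, ?_⟩
      · simp only [LinearMap.sub_apply, LinearMap.add_apply, Module.End.one_apply, TensorOrth.cj_id, sub_self]
      · simp only [LinearMap.sub_apply, LinearMap.add_apply, Module.End.one_apply, cj_AE hs hg₁, cj_AE hs hg₂]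
        refine LinearMap.ext fun x => ?_
        simp only [LinearMap.sub_apply, LinearMap.add_apply, LinearMap.smul_apply, LinearMap.smulRight_apply,
          hs.lin_apply, AE_apply, hg₁x a, hg₂x a, hau, hs.smul_left, hs.smul_right, hs.add_right, hs.sub_right,
          hs.symm a (e b), hba, hbg]
        match_scalars <;> field_simp <;> ring
    obtain ⟨Φt, hΦt, hit, hAt⟩ := hL t
    obtain ⟨Φ₁, hΦ₁, hi1, hA1⟩ := hL 1
    obtain ⟨r, hr0, B, hB, hBG, hBa, hBu, -, -⟩ := hT.exists_swap l haa huu hua hba hbu (hrest b hb.2 hb.1).2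
    refine finA (cj B * (Φt - (t * t) • Φ₁)) ((hop B hB hBG).mul (hΦt.sub (hΦ₁.smul htQ))) ?_
      (t * t * (t * t - 1) * (γ * γ) / 2 * (r⁻¹ * r⁻¹)) ?_ ?_
    · simp only [Module.End.mul_apply, LinearMap.sub_apply, LinearMap.smul_apply, hit, hi1, smul_zero, sub_self,
        map_zero]
    · exact mul_ne_zero (div_ne_zero (mul_ne_zero (mul_ne_zero (mul_ne_zero ht0 ht0) (sub_ne_zero.2 ht1))
        (mul_ne_zero hγ0 hγ0)) h2) (mul_ne_zero (inv_ne_zero hr0) (inv_ne_zero hr0))
    · have h3 : (Φt - (t * t) • Φ₁) (AE hs a) = (t * t * (t * t - 1) * (γ * γ) / 2) • AE hs u := by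
        rw [LinearMap.sub_apply, LinearMap.smul_apply, hAt, hA1]
        match_scalars <;> field_simp <;> ring
      rw [Module.End.mul_apply, h3, map_smul, cj_AE hs hB, hBu]
      refine LinearMap.ext fun x => ?_
      simp only [LinearMap.smul_apply, AE_apply, hs.smul_right, smul_smul]
      congr 1
      ring

/-- A pure member. -/
theorem TData.pattern (hκ : 2 ≤ Fintype.card κ) {P : AddSubgroup Mn} (hP : SlotInv c h P) {a u : W} (haa : h a a = 0) (huu : h u u = 0)
    (hua : h u a = 1) {D₀ : Mn} (hD₀ : D₀ ∈ P) (hns : NonSc D₀) :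
    ∃ (r : F) (gs : κ → Eb), r ≠ 0 ∧ (∀ l, Kind hT.hh a u (gs l)) ∧ (∃ l, gs l ≠ LinearMap.id) ∧
      r • wm 1 (fun l => LinearMap.toMatrix' (gs l)) ∈ P := by
  classical
  have key : ∀ s : Finset κ, ∃ gs : κ → Eb, (∀ m, Kind hT.hh a u (gs m)) ∧ ∃ D ∈ P, NonSc D ∧
      ∀ m ∈ s, Pur m (gs m) D := by
    intro s
    induction s using Finset.induction_on with
    | empty => exact ⟨fun _ => LinearMap.id, fun _ => Or.inl rfl, D₀, hD₀, hns, fun m hm => absurd hm (by simp)⟩
    | insert l s hl ih =>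
      obtain ⟨gs, hk, D, hD, hn, hpur⟩ := ih
      obtain ⟨T, hT', D', hD', hn', hl', hpur'⟩ := hT.pattern_step hex hκ hP haa huu hua s gs hl hD hpur hn
      refine ⟨Function.update gs l T, fun m => ?_, D', hD', hn', fun m hm => ?_⟩
      · by_cases e : m = l
        · subst e; rwa [Function.update_self]
        · rw [Function.update_of_ne e]; exact hk m
      · rcases Finset.mem_insert.1 hm with rfl | hm
        · rwa [Function.update_self]
        · rw [Function.update_of_ne fun e : m = l => hl (e ▸ hm)]; exact hpur' m hm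
  obtain ⟨gs, hk, D, hD, hn, hpur⟩ := key Finset.univ
  obtain ⟨r, rfl⟩ := exists_eq_wm (D := D) (gs := fun l => LinearMap.toMatrix' (gs l))
    (fun l => by rw [Matrix.toLin'_toMatrix']; exact hpur l (Finset.mem_univ l))
    (fun l e => (hk l).ne_zero hua (LinearMap.toMatrix'.map_eq_zero_iff.1 e))
  refine ⟨r, gs, fun e => hn 0 (by rw [e, zero_smul, zero_smul]), hk, ?_, hD⟩
  by_contra hc
  push Not at hc
  refine hn r ?_
  simp only [hc, LinearMap.toMatrix'_id]
  rw [wm_one]

end Cfsg.Agent.Classical.TensorPowOrth
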