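import Cfsg.Agent.Lib.Classical.TensorPowOrth.Norm
import Cfsg.Agent.Lib.Classical.MaxTensorOrthPair

/-!
A proper overgroup of the stabiliser of a tensor power of an orthogonal space, with the induction hypothesis: it
contains no element of the derived group of all but one factor outside the stabiliser there.
-/

set_option autoImplicit false
set_option linter.unusedSectionVars false
set_option linter.unusedSimpArgs false
set_option linter.style.haveILetI false

open scoped Kronecker commutatorElement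

namespace Cfsg.Agent.Classical.TensorPowOrth

open Matrix Module MaxTv TensorMax TensorPow
open Cfsg.Agent.Classical.TensorOrth (Sym NdOn iso Ovr Ovr0 NoRoot FullAt IsEich IsSieg siegGrp sl ext_pure ext_kron)
open Cfsg.Agent.Classical.TensorRoot (kg kg_apply kg_isKron)

variable {F : Type*} [Field F] [Fintype F]

/-- All Siegel maps generate the derived group. -/
theorem comm_le_of_full {ι : Type} [Fintype ι] [DecidableEq ι] {f : (ι → F) → (ι → F) → F}
    {M : Subgroup (GL ι F)} (hs : Sym f) (h2 : (2 : F) ≠ 0) (hn : 4 ≤ Fintype.card ι)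
    (hfull : ∀ v, f v v = 0 → FullAt f M v) : ⁅iso f, iso f⁆ ≤ M := by
  intro g hg
  obtain ⟨hgi, hsg⟩ := (mem_comm_iso hs h2 g).1 hg
  have hnd := hs.quad_nondeg h2
  have hgo : g ∈ isometryGroup F ⇑hs.quad := by rw [← iso_eq_isometry hs h2]; exact hgi
  rw [sgn, dif_pos hgo] at hsg
  have hk : (⟨g, hgo⟩ : isometryGroup F ⇑hs.quad) ∈ Omega F ⇑hs.quad := by
    rw [OrthAut.omega_eq_ker hnd (OrthAut.genQ_odd hnd h2)]
    exact hsg
  rw [OrthAut.omega_eq_eR hnd h2 hn (OrthAut.exists_singular_three hnd h2 (by omega))] at hk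
  have hle : TensorOrth.siegGrp f ≤ M := (Subgroup.closure_le _).2 (by
    rintro k ⟨a, w, ha, hw, hk⟩
    obtain ⟨k', hk', hk''⟩ := hfull a ha w hw
    rwa [SetLike.mem_coe, hs.sieg_unique hk hk''])
  exact hle (hs.eR_le_siegGrp h2 ⟨_, hk, rfl⟩)

variable {κ β : Type} [Fintype κ] [DecidableEq κ] [Fintype β] [DecidableEq β]
  {c : F} {h : (β → F) → (β → F) → F}

local notation "X" => (κ → β)
local notation "V" => ((κ → β) → F)
local notation "Mn" => Matrix (κ → β) (κ → β) F
local notation "Mb" => Matrix β β F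
local notation "W" => (β → F)

/-- Proper overgroups of the stabiliser stabilise the decomposition. -/
def MaxAt (c : F) (h : (β → F) → (β → F) → F) (κ : Type) [Fintype κ] [DecidableEq κ] : Prop :=
  ∀ M : Subgroup (GL (κ → β) F), M ≤ GT (κ := κ) c h → Wr F κ β ⊓ GT (κ := κ) c h ≤ M →
    ¬ GT (κ := κ) c h ≤ M → M ≤ Wr F κ β

/-- A proper overgroup with the induction hypothesis. -/
structure Px (c : F) (h : (β → F) → (β → F) → F) (M : Subgroup (GL (κ → β) F)) : Prop where
  data : TData c h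
  hex : ¬ (Fintype.card F = 3 ∧ Fintype.card β = 3)
  le : M ≤ GT (κ := κ) c h
  mem : Wr F κ β ⊓ GT (κ := κ) c h ≤ M
  proper : ¬ GT (κ := κ) c h ≤ M
  ht : 2 ≤ Fintype.card κ
  ih : ∀ i : κ, 2 ≤ Fintype.card (Rst i) → MaxAt c h (Rst i)

/-- The coordinates with the factor `i` first. -/
def sqE (i : κ) : (κ → β) ≃ β × (Rst i → β) := (spE i).trans (Equiv.prodComm _ _)

/-- The isomorphism of groups. -/
def sq (i : κ) : GL (κ → β) F ≃* GL (β × (Rst i → β)) F := Geo.glReindex (sqE i)

/-- The isomorphism of spaces. -/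
def sqV (i : κ) : ((κ → β) → F) ≃ₗ[F] (β × (Rst i → β) → F) := LinearEquiv.funCongrLeft F F (sqE i).symm

theorem sq_mulVec (i : κ) (g : GL X F) (t : V) :
    (sq i g : Matrix (β × (Rst i → β)) (β × (Rst i → β)) F) *ᵥ sqV i t = sqV i ((g : Mn) *ᵥ t) := by
  funext p
  simp only [sqV, LinearEquiv.funCongrLeft_apply, LinearMap.funLeft_apply, Matrix.mulVec, dotProduct]
  exact Fintype.sum_equiv (sqE i).symm _ _ fun q => rfl

theorem sqV_symm_tmul (i : κ) (y : W) (x : (Rst i → β) → F) :
    (sqV i).symm (tmul y x) = (spV i).symm (tmul x y) := by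
  rw [LinearEquiv.symm_apply_eq]
  funext p
  obtain ⟨b, r⟩ := p
  show y b * x r = (spV i).symm (tmul x y) ((spE i).symm (r, b))
  rw [← spV_apply i ((spV i).symm (tmul x y)) (r, b), LinearEquiv.apply_symm_apply]
  exact mul_comm _ _

theorem sq_kron {i : κ} {g : GL X F} (hk : IsKron (sq i g)) : IsKron (sp i g) := by
  obtain ⟨A, B, hAB⟩ := hk
  refine ⟨B, A, Matrix.ext fun p q => ?_⟩
  have h1 := congrFun (congrFun hAB (p.2, p.1)) (q.2, q.1)
  rw [Matrix.kroneckerMap_apply, mul_comm]
  exact h1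

namespace Px

variable {M : Subgroup (GL (κ → β) F)} (hM : Px c h M)
include hM

theorem iso_mem {g : GL X F} (hg : g ∈ M) : g ∈ iso (tf c h) := hM.data.gt_le_iso (hM.le hg)

theorem card_three : 3 ≤ Fintype.card β := hM.data.three

theorem nontrivial : Nontrivial β := Fintype.one_lt_card_iff_nontrivial.1 (by have := hM.data.three; omega)

theorem pe_mem {i : κ} {B : GL β F} (hB : pe i B ∈ GT c h) : pe i B ∈ M := hM.mem ⟨TensorPow.pe_mem _ _, hB⟩

/-- An element of the overgroup exchanging the factors `i` and `j`, in odd dimension. -/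
theorem exists_perm (hodd : Odd (Fintype.card β)) (i j : κ) : ∃ gs : κ → GL β F, (∀ l, gs l ∈ iso h) ∧ wgl (Equiv.swap i j) gs ∈ M := by
  classical
  obtain ⟨b⟩ : Nonempty β := Fintype.card_pos_iff.1 (by have := hM.data.three; omega)
  obtain ⟨v, -, hv⟩ := hM.data.hh.exists_aniso hM.data.two hM.data.hh.ndOn_top ⟨Pi.single b 1, trivial, by simp⟩
  obtain ⟨B, hB, -, hG⟩ := hM.data.exists_fix_vec hodd i hv (hM.data.wgl_iso (Equiv.swap i j) (gs := fun _ => 1)
    fun _ => one_mem _)
  have e : wgl (Equiv.swap i j) (fun _ => (1 : GL β F)) * pe i B = wgl (Equiv.swap i j)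
      (fun l => Function.update (1 : κ → GL β F) i B (Equiv.swap i j l)) := by
    show _ * wgl 1 _ = _
    rw [wgl_mul, one_mul]
    congr 1
    funext l
    rw [one_mul]
  rw [e] at hG
  refine ⟨_, fun l => ?_, hM.mem ⟨wgl_mem _ _, hG⟩⟩
  rcases eq_or_ne (Equiv.swap i j l) i with e' | e'
  · rw [e', Function.update_self]; exact hB
  · rw [Function.update_of_ne e']; exact one_mem _

/-- With all of the derived group of the other factors, everything. -/
theorem not_rich_odd (hodd : Odd (Fintype.card β)) {i : κ} (ht : 3 ≤ Fintype.card κ) : ¬ ∀ A ∈ GT (κ := Rst i) c h, emb i A ∈ M := by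
  classical
  intro hR
  haveI := hM.nontrivial
  have hT := hM.data
  have hs := hT.hh
  have hcr := card_rst_one i
  obtain ⟨f', hf'⟩ : ∃ f' : (β × (Rst i → β) → F) → (β × (Rst i → β) → F) → F,
      f' = fun x y => tf c h ((sqV i).symm x) ((sqV i).symm y) := ⟨_, rfl⟩
  have hV : Sym f' := by
    have hV0 := hT.sym (κ := κ)
    rw [hf']
    exact
      { add_left := fun x y v => by simp only [map_add, hV0.add_left]
        smul_left := fun r x v => by simp only [map_smul, hV0.smul_left]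
        symm := fun x y => hV0.symm _ _
        eq_zero := fun w hw => (sqV i).symm.injective ((hV0.eq_zero _ fun x => by
          simpa using hw (sqV i x)).trans (map_zero _).symm) }
  have hiso : ∀ g : GL X F, sq i g ∈ iso f' ↔ g ∈ iso (tf c h) := fun g => by
    have e : ∀ x, (sqV i).symm ((sq i g : Matrix (β × (Rst i → β)) (β × (Rst i → β)) F) *ᵥ x) =
        (g : Mn) *ᵥ (sqV i).symm x := fun x => by
      rw [LinearEquiv.symm_apply_eq, ← sq_mulVec, LinearEquiv.apply_symm_apply]
    refine ⟨fun hg x y => ?_, fun hg x y => ?_⟩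
    · have := hg (sqV i x) (sqV i y)
      simp only [hf'] at this
      rwa [e, e, LinearEquiv.symm_apply_apply, LinearEquiv.symm_apply_apply] at this
    · simp only [hf', e, hg _ _]
  have hten : ∀ y y' x x', f' (tmul y x) (tmul y' x') = h y y' * tf (κ := Rst i) c h x x' := fun y y' x x' => by
    simp only [hf', sqV_symm_tmul]
    rw [mul_comm]
    exact hT.tfs_tmul i x x' y y'
  obtain ⟨b⟩ : Nonempty β := inferInstance
  obtain ⟨v, -, hv⟩ := hs.exists_aniso hT.two hs.ndOn_top ⟨Pi.single b 1, trivial, by simp⟩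
  obtain ⟨j⟩ := nonempty_rst hM.ht i
  -- every element of product shape
  have hkron : ∀ g ∈ GT (κ := κ) c h, IsKron (sp i g) → g ∈ M := fun g hg hk => by
    obtain ⟨A, B, hA, -, hAB⟩ := hT.split_iso hodd (hT.gt_le_iso hg) hk
    obtain ⟨C, -, -, hAC⟩ := hT.exists_fix_vec hodd j hv hA
    have hw : (emb i (A * pe j C))⁻¹ * g ∈ Wr F κ β := by
      refine mem_Wr_of_sp (A := (pe j C)⁻¹) (B := B) ?_ ((Wr F (Rst i) β).inv_mem (TensorPow.pe_mem _ _))
      rw [map_mul, map_inv, sp_emb, hAB, inv_mul_eq_iff_eq_mul, k2_mul, mul_inv_cancel_right, one_mul]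
    have h1 := mul_mem (hR _ hAC) (hM.mem (Subgroup.mem_inf.2 ⟨hw, mul_mem (inv_mem (hT.emb_GT hAC)) hg⟩))
    rwa [mul_inv_cancel_left] at h1
  have hO : Ovr h (tf (κ := Rst i) c h) f' ((GT c h).map (sq i).toMonoidHom) (M.map (sq i).toMonoidHom) :=
    { two := hT.two
      hA := hs
      hB := hT.sym
      hV := hV
      ten := hten
      sq := fun g hg => by
        obtain ⟨g₀, rfl⟩ := (sq i).surjective g
        exact ⟨g₀ * g₀, hT.sq_mem ((hiso g₀).1 hg), map_mul _ _ _⟩
      gIso := by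
        rintro _ ⟨g, hg, rfl⟩
        exact (hiso g).2 (hT.gt_le_iso hg)
      le := Subgroup.map_mono hM.le
      mem := by
        rintro _ ⟨g, hg, rfl⟩ hk
        exact ⟨g, hkron g hg (sq_kron hk), rfl⟩
      ha := hT.three
      hb := by
        rw [card_rst]
        exact le_trans hT.three (Nat.le_self_pow (by omega) _)
      hB4 := fun h4 => by
        exfalso
        rw [card_rst] at h4
        have : Odd (Fintype.card β ^ (Fintype.card κ - 1)) := hodd.pow
        rw [h4] at this
        exact absurd this (by decide)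
      hex := hM.hex }
  have hlt : Fintype.card β < Fintype.card (Rst i → β) := by
    rw [card_rst]
    exact lt_self_pow₀ (by have := hT.three; omega) (by omega)
  by_cases hN : NoRoot (tf (κ := Rst i) c h) (M.map (sq i).toMonoidHom)
  · obtain ⟨gs, -, hgs⟩ := hM.exists_perm hodd i j.1
    obtain ⟨A, B, hAB⟩ := isKron_iff.1 (sq_kron (hO.all_kron hN (Or.inl hlt)
      (by
        obtain ⟨r, hr⟩ : Odd (Fintype.card (Rst i → β)) := by rw [Fintype.card_fun]; exact hodd.pow
        have := hT.three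
        omega) (Subgroup.mem_map_of_mem _ hgs)))
    obtain ⟨u, hu⟩ : ∃ u : W, u ≠ 0 := ⟨Pi.single b 1, by simp⟩
    have h1 := map_line_of_kron hAB hu
    rw [wgl_line' _ _ _ hu, Equiv.swap_inv, Equiv.swap_apply_left] at h1
    exact j.2 (line_eq_slot (gl_mulVec_ne_zero _ hu) (gl_mulVec_ne_zero _ hu) h1)
  · refine hM.proper fun g hg => ?_
    have hfull : ⁅iso f', iso f'⁆ ≤ M.map (sq i).toMonoidHom :=
      comm_le_of_full hV hT.two (by
        rw [Fintype.card_prod]
        have := hT.three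
        nlinarith)
        fun v hv => hO.full hN (fun h4 => absurd (h4 ▸ hodd) (by decide))
          (fun h3 => by have := hT.three; omega) hv
    have hg' : (sq i).toMonoidHom g ∈ ⁅iso f', iso f'⁆ := by
      have h1 : (GT (κ := κ) c h).map (sq i).toMonoidHom ≤ ⁅iso f', iso f'⁆ := by
        rw [GT, Subgroup.map_commutator]
        refine Subgroup.commutator_mono ?_ ?_ <;>
        · rintro _ ⟨a, ha, rfl⟩
          exact (hiso a).2 ha
      exact h1 ⟨g, hg, rfl⟩
    exact (Subgroup.mem_map_iff_mem (sq i).injective).1 (hfull hg')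

/-- An element of the overgroup moving the factor `i` to another one, in even dimension. -/
theorem exists_mov (hev : Even (Fintype.card β)) (ht : 3 ≤ Fintype.card κ) (i j : κ) (hji : j ≠ i) :
    ∃ (σ : Equiv.Perm κ) (gs : κ → GL β F), (∀ l, gs l ∈ iso h) ∧ wgl σ gs ∈ M ∧ σ i = j := by
  classical
  obtain ⟨l, hl⟩ := (Finset.card_pos.1 (show 0 < (Finset.univ \ ({i, j} : Finset κ)).card by
    rw [Finset.card_sdiff_of_subset (Finset.subset_univ _), Finset.card_univ, Finset.card_pair (Ne.symm hji)]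
    omega))
  simp only [Finset.mem_sdiff, Finset.mem_univ, true_and, Finset.mem_insert, Finset.mem_singleton, not_or] at hl
  obtain ⟨σ, hσ⟩ : ∃ σ, σ = (Equiv.swap j l)⁻¹ * (Equiv.swap i j)⁻¹ * Equiv.swap j l * Equiv.swap i j := ⟨_, rfl⟩
  have hiso : ∀ τ : Equiv.Perm κ, wgl τ (fun _ => (1 : GL β F)) ∈ iso (tf c h) := fun τ =>
    hM.data.wgl_iso τ fun _ => one_mem _
  have e : ⁅wgl (Equiv.swap i j) (fun _ => (1 : GL β F)), wgl (Equiv.swap j l) fun _ => (1 : GL β F)⁆ =
      wgl σ fun _ => (1 : GL β F) := by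
    rw [commutatorElement_def, wgl_inv, wgl_inv, wgl_mul, wgl_mul, wgl_mul, hσ]
    simp [mul_assoc]
  refine ⟨σ, fun _ => 1, fun _ => one_mem _, hM.mem ⟨wgl_mem _ _, ?_⟩, ?_⟩
  · rw [← e]
    exact Subgroup.commutator_mem_commutator (hiso _) (hiso _)
  · rw [hσ]
    simp [Equiv.Perm.mul_apply, Equiv.swap_apply_of_ne_of_ne hl.1 hl.2, Equiv.swap_apply_right]

/-- The two factors at `i` hold the Siegel maps, once the derived group of the other factors is in. -/
theorem ovr0 {i : κ} (ht : 3 ≤ Fintype.card κ) (hR : ∀ A ∈ GT (κ := Rst i) c h, emb i A ∈ M) :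
    Ovr0 (tf (κ := Rst i) c h) h (tfs c h i) (M.map (sp i).toMonoidHom) := by
  classical
  have hT := hM.data
  have hs := hT.hh
  have hA := hT.sym (κ := Rst i)
  have hcr := card_rst_one i
  exact
    { two := hT.two
      hA := hA
      hB := hs
      hV := hT.sym_tfs i
      ten := fun x x' y y' => hT.tfs_tmul i x x' y y'
      isoLe := by
        rintro _ ⟨g, hg, rfl⟩
        exact (hT.sp_iso i).2 (hM.iso_mem hg)
      ha := by
        rw [card_rst]
        exact le_trans hT.three (Nat.le_self_pow (by omega) _)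
      hb := hT.three
      kA := fun {A} hA' => by
        have hG : A ∈ GT (κ := Rst i) c h := by
          refine (Subgroup.closure_le _).2 ?_ hA'
          rintro k ⟨a, w, ha, hw, hk⟩
          exact hT.cube_mem (hA.siegGrp_le hT.two (Subgroup.subset_closure ⟨a, w, ha, hw, hk⟩))
            fun x => hA.sieg_cube hT.two hk ha hw x
        refine ⟨emb i A, hR A hG, ext_kron fun x y => ?_⟩
        rw [kg_apply, MulEquiv.coe_toMonoidHom, sp_emb, k2_mulVec]
      exists_eichB := fun {z y} hz hy => by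
        obtain ⟨B, -, hBx⟩ := hs.exists_sieg hT.two hz hy
        refine ⟨kg (1 : GL (Rst i → β) F) B, ⟨pe i B, hM.pe_mem (hT.pe_sieg hBx hz hy), ext_kron fun x w => ?_⟩,
          kg_isKron _ _, fun t => ?_⟩
        · rw [kg_apply, MulEquiv.coe_toMonoidHom, sp_pe, k2_mulVec]
        let L : ((Rst i → β) × β → F) →ₗ[F] ((Rst i → β) × β → F) := LinearMap.id + (fac y).comp (sl h z) -
          (fac z).comp (sl h y) - (h y y / 2) • (fac z).comp (sl h z)
        have hsl : ∀ (u : W) (x : (Rst i → β) → F) (w : W), sl h u (tmul x w) = h w u • x := fun u x w => by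
          rw [sl, slice_tmul, fn_dot hs.sesq]
        have e1 : Matrix.toLin' (kg (1 : GL (Rst i → β) F) B : Matrix ((Rst i → β) × β) ((Rst i → β) × β) F) = L :=
          ext_tmul fun x w => by
            simp only [L, Matrix.toLin'_apply, kg_apply, Units.val_one, Matrix.one_mulVec, hBx w, LinearMap.add_apply,
              LinearMap.sub_apply, LinearMap.smul_apply, LinearMap.comp_apply, LinearMap.id_apply, fac_apply, hsl,
              tmul_add_right, tmul_sub_right, tmul_smul_right, tmul_smul_left, smul_smul]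
        have := LinearMap.congr_fun e1 t
        simpa only [L, Matrix.toLin'_apply, LinearMap.add_apply, LinearMap.sub_apply, LinearMap.smul_apply,
          LinearMap.comp_apply, LinearMap.id_apply, fac_apply] using this }

/-- A root element at the factor `i`, once the derived group of the other factors is in. -/
theorem root_rich (hev : Even (Fintype.card β)) {i : κ} (ht : 3 ≤ Fintype.card κ)
    (hR : ∀ A ∈ GT (κ := Rst i) c h, emb i A ∈ M) : ¬ NoRoot h (M.map (sp i).toMonoidHom) := by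
  classical
  haveI := hM.nontrivial
  have hT := hM.data
  have hs := hT.hh
  have hA := hT.sym (κ := Rst i)
  have hcr := card_rst_one i
  obtain ⟨j, m, hjm⟩ := Fintype.exists_pair_of_one_lt_card (show 1 < Fintype.card (Rst i) by omega)
  obtain ⟨z, u, hz, -, huz⟩ := hs.exists_hyp hT.two hT.three
  have hz0 : z ≠ 0 := fun e0 => one_ne_zero (by rw [← huz, e0, hs.zero_right])
  obtain ⟨σ, gs, hgs, hπ, hσ⟩ := hM.exists_mov hev ht i j.1 j.2
  -- two orthogonal singular tensors through the line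
  obtain ⟨as, has⟩ : ∃ as : Rst i → W, as = fun _ => z := ⟨_, rfl⟩
  obtain ⟨bs, hbs⟩ : ∃ bs : Rst i → W, bs = Function.update (fun _ => z) m u := ⟨_, rfl⟩
  have haj : as j = z := by rw [has]
  have hbj : bs j = z := by rw [hbs, Function.update_of_ne hjm]
  have hzero : ∀ xs ys : Rst i → W, h (xs j) (ys j) = 0 → tf c h (ptens xs) (ptens ys) = 0 := fun xs ys e0 => by
    rw [hT.tf_ptens, Finset.prod_eq_zero (Finset.mem_univ j) e0, mul_zero]
  have haa : tf c h (ptens as) (ptens as) = 0 := hzero _ _ (by rw [haj, hz])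
  have hbb : tf c h (ptens bs) (ptens bs) = 0 := hzero _ _ (by rw [hbj, hz])
  have hba : tf c h (ptens bs) (ptens as) = 0 := hzero _ _ (by rw [haj, hbj, hz])
  obtain ⟨T, hTi, hTx⟩ := hA.exists_sieg hT.two haa hba
  have hTG : T ∈ GT (κ := Rst i) c h := hT.cube_mem hTi fun x => hA.sieg_cube hT.two hTx haa hba x
  have hT1 : T ≠ 1 := by
    intro e0
    obtain ⟨x, hx⟩ : ∃ x, tf c h x (ptens as) ≠ 0 := by
      by_contra hc
      push Not at hc
      exact ptens_ne_zero (xs := as) (fun _ => by rw [has]; exact hz0) (hA.eq_zero _ fun x => hc x)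
    have h1 := hTx x
    rw [e0, Units.val_one, Matrix.one_mulVec, hbb, zero_div, zero_mul, zero_smul, sub_zero] at h1
    obtain ⟨φ, hφu, hφ⟩ : ∃ φ : W, φ ⬝ᵥ u = 1 ∧ ∀ y ∈ Submodule.span F ({z} : Set W), φ ⬝ᵥ y = 0 :=
      exists_dot_one fun hm => by
        obtain ⟨r, rfl⟩ := Submodule.mem_span_singleton.1 hm
        exact one_ne_zero (by rw [← huz, hs.smul_left, hz, mul_zero])
    obtain ⟨ψ, hψ⟩ := exists_dual hz0
    obtain ⟨ξ, hξ⟩ : ∃ ξ : Rst i → W, ξ = Function.update (fun _ => ψ) m φ := ⟨_, rfl⟩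
    have h3 := congrArg (fun s => ptens ξ ⬝ᵥ s) h1
    simp only [dotProduct_sub, dotProduct_add, dotProduct_smul, dot_ptens] at h3
    have ea : ∏ l, ξ l ⬝ᵥ as l = 0 := Finset.prod_eq_zero (Finset.mem_univ m) (by
      rw [hξ, Function.update_self, has]; exact hφ z (Submodule.subset_span rfl))
    have eb : ∏ l, ξ l ⬝ᵥ bs l = 1 := Finset.prod_eq_one fun l _ => by
      by_cases el : l = m
      · subst el; rw [hξ, hbs, Function.update_self, Function.update_self, hφu]
      · rw [hξ, hbs, Function.update_of_ne el, Function.update_of_ne el, hψ]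
    rw [ea, eb, smul_zero, sub_zero, smul_eq_mul, mul_one] at h3
    exact hx (by linear_combination -h3)
  -- moved to the factor `i`
  obtain ⟨z', hz'⟩ : ∃ z', z' = (gs i : Mb) *ᵥ z := ⟨_, rfl⟩
  have hz'z : h z' z' = 0 := by rw [hz', hgs i, hz]
  have hz'0 : z' ≠ 0 := hz' ▸ gl_mulVec_ne_zero _ hz0
  obtain ⟨u', hu'u, hu'⟩ := hs.exists_partner hT.two hz'z hz'0
  obtain ⟨g, hg⟩ : ∃ g, g = wgl σ gs * emb i T * (wgl σ gs)⁻¹ := ⟨_, rfl⟩
  have hgM : g ∈ M := hg ▸ mul_mem (mul_mem hπ (hR T hTG)) (inv_mem hπ)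
  have hpt : ∀ ys : κ → W, ∃ r : (Rst i → β) → F, spV i ((g : Mn) *ᵥ ptens ys - ptens ys) = tmul r z' ∧
      (h (ys i) z' = 0 → (g : Mn) *ᵥ ptens ys = ptens ys) := by
    intro ys
    obtain ⟨xs, hxs⟩ : ∃ xs : κ → W,
        xs = fun l => (((gs (σ.symm l))⁻¹ : GL β F) : Mb) *ᵥ ys (σ.symm l) := ⟨_, rfl⟩
    have hys : (wgl σ gs : Mn) *ᵥ ptens xs = ptens ys := by
      rw [wgl_mulVec]
      congr 1
      funext l
      simp only [hxs, Equiv.symm_apply_apply, mulVec_inv_cancel]
    obtain ⟨s, hs'⟩ : ∃ s, s = (ptens fun l : Rst i => xs l.1 : (Rst i → β) → F) := ⟨_, rfl⟩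
    obtain ⟨w, hw⟩ : ∃ w : V, w = tf c h s (ptens as) • (spV i).symm (tmul (ptens bs) (xs i)) -
        tf c h s (ptens bs) • (spV i).symm (tmul (ptens as) (xs i)) := ⟨_, rfl⟩
    have h1 : (emb i T : Mn) *ᵥ ptens xs = ptens xs + w := by
      have e0 : ptens xs = (spV i).symm (tmul s (xs i)) := by
        rw [hs', ← spV_ptens, LinearEquiv.symm_apply_apply]
      rw [e0, emb_mulVec, hTx, hbb, zero_div, zero_mul, zero_smul, sub_zero, tmul_sub_left, tmul_add_left,
        tmul_smul_left, tmul_smul_left, map_sub, map_add, map_smul, map_smul, hw]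
      abel
    have h2 : (g : Mn) *ᵥ ptens ys - ptens ys = (wgl σ gs : Mn) *ᵥ w := by
      rw [← hys, hg, Units.val_mul, Units.val_mul, ← Matrix.mulVec_mulVec, ← Matrix.mulVec_mulVec, inv_mulVec_cancel,
        h1, Matrix.mulVec_add, add_sub_cancel_left]
    have hline : ∀ as' : Rst i → W, as' j = z → ∃ r : (Rst i → β) → F,
        spV i ((wgl σ gs : Mn) *ᵥ (spV i).symm (tmul (ptens as') (xs i))) = tmul r z' := by
      intro as' e0
      obtain ⟨zs, hzs⟩ : ∃ zs : κ → W, zs = fun l => if e : l = i then xs i else as' ⟨l, e⟩ := ⟨_, rfl⟩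
      have e1 : (spV i).symm (tmul (ptens as') (xs i)) = ptens zs := by
        rw [LinearEquiv.symm_apply_eq, spV_ptens, hzs]
        simp only [dif_pos]
        congr 2
        funext l
        rw [dif_neg l.2]
      rw [e1, wgl_mulVec, spV_ptens]
      simp only [hσ, hzs, dif_neg j.2]
      rw [show as' ⟨j.1, j.2⟩ = z from e0, ← hz']
      exact ⟨_, rfl⟩
    obtain ⟨r₁, hr₁⟩ := hline as haj
    obtain ⟨r₂, hr₂⟩ := hline bs hbj
    refine ⟨tf c h s (ptens as) • r₂ - tf c h s (ptens bs) • r₁, ?_, fun e0 => ?_⟩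
    · rw [h2, hw, Matrix.mulVec_sub, Matrix.mulVec_smul, Matrix.mulVec_smul, map_sub, map_smul, map_smul, hr₁, hr₂,
        tmul_sub_left, tmul_smul_left, tmul_smul_left]
    · have hxj : h (xs j.1) z = 0 := by
        rw [← hgs i, ← hz', show (gs i : Mb) *ᵥ xs j.1 = ys i from ?_, e0]
        simp only [hxs, ← hσ, Equiv.symm_apply_apply, mulVec_inv_cancel]
      rw [← sub_eq_zero, h2, hw, hs', hzero _ as (by rw [haj]; exact hxj), hzero _ bs (by rw [hbj]; exact hxj)]
      simp
  obtain ⟨φ, hφ⟩ := exists_dual hz'0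
  obtain ⟨N, hN⟩ : ∃ N : ((Rst i → β) × β → F) →ₗ[F] ((Rst i → β) × β → F),
      N = Matrix.toLin' ((sp i g : Matrix ((Rst i → β) × β) ((Rst i → β) × β) F) - 1) := ⟨_, rfl⟩
  obtain ⟨D, hD⟩ : ∃ D : ((Rst i → β) → F) →ₗ[F] ((Rst i → β) → F),
      D = (slice φ).comp (N.comp (fac u')) := ⟨_, rfl⟩
  have hNt : ∀ t : V, N (spV i t) = spV i ((g : Mn) *ᵥ t - t) := fun t => by
    rw [hN, Matrix.toLin'_apply, Matrix.sub_mulVec, Matrix.one_mulVec, sp_mulVec, map_sub]
  have hroot : ∀ t, N t = tmul (D (slice (fn h z') t)) z' := by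
    have e1 : N.comp (spV i).toLinearMap = ((fac z').comp (D.comp (slice (fn h z')))).comp (spV i).toLinearMap :=
      ext_ptens fun ys => by
        simp only [LinearMap.comp_apply, LinearEquiv.coe_coe, fac_apply]
        rw [spV_ptens, slice_tmul, fn_dot hs.sesq]
        obtain ⟨r, hr⟩ : ∃ r, r = (ptens fun l : Rst i => ys l.1 : (Rst i → β) → F) := ⟨_, rfl⟩
        rw [← hr]
        have hupd : ∀ v : W, spV i (ptens (Function.update ys i v)) = tmul r v := fun v => by
          rw [spV_ptens, Function.update_self, hr]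
          congr 2
          funext l
          rw [Function.update_of_ne l.2]
        have k0 : N (tmul r (ys i - h (ys i) z' • u')) = 0 := by
          rw [← hupd, hNt, (hpt _).choose_spec.2 (by
            rw [Function.update_self, hs.sub_left, hs.smul_left, hu', mul_one, sub_self]), sub_self, map_zero]
        obtain ⟨r₁, hr₁, -⟩ := hpt (Function.update ys i u')
        rw [← hNt, hupd] at hr₁
        rw [tmul_sub_right, tmul_smul_right, map_sub, map_smul, sub_eq_zero] at k0
        rw [k0, map_smul, hD, LinearMap.comp_apply, LinearMap.comp_apply, fac_apply, hr₁, slice_tmul, hφ, one_smul,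
          tmul_smul_left]
    intro t
    obtain ⟨t, rfl⟩ := (spV i).surjective t
    exact LinearMap.congr_fun e1 t
  intro hN0
  have hD0 : ∀ x, D x = 0 := hN0 z' hz'z hz'0 D ⟨sp i g, Subgroup.mem_map_of_mem _ hgM, fun t => by
    have := hroot t
    rw [hN, Matrix.toLin'_apply, Matrix.sub_mulVec, Matrix.one_mulVec, sub_eq_iff_eq_add'] at this
    rw [rootMap_apply]
    exact this⟩
  refine hT1 ?_
  have hg1 : g = 1 := Units.ext (Matrix.toLin'.injective (LinearMap.ext fun t => by
    rw [Matrix.toLin'_apply, Matrix.toLin'_apply, Units.val_one, Matrix.one_mulVec, ← sub_eq_zero]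
    exact (spV i).map_eq_zero_iff.1 (by rw [← hNt, hroot, hD0, tmul_zero_left])))
  rw [hg, conj_eq_one_iff] at hg1
  have h1 := congrArg (sp i) hg1
  rw [sp_emb, map_one] at h1
  refine Units.ext (Matrix.toLin'.injective (LinearMap.ext fun x => ?_))
  obtain ⟨ξ, hξ⟩ := exists_dual hz0
  have h3 := congrArg (fun k : GL ((Rst i → β) × β) F => slice ξ ((k : Matrix ((Rst i → β) × β) ((Rst i → β) × β) F) *ᵥ tmul x z)) h1
  simp only [k2_mulVec, Units.val_one, Matrix.one_mulVec, slice_tmul, hξ, one_smul] at h3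
  rw [Matrix.toLin'_apply, Matrix.toLin'_apply, Units.val_one, Matrix.one_mulVec]
  exact h3

/-- With all of the derived group of the other factors, everything. -/
theorem not_rich {i : κ} (ht : 3 ≤ Fintype.card κ) : ¬ ∀ A ∈ GT (κ := Rst i) c h, emb i A ∈ M := by
  classical
  intro hR
  rcases Nat.even_or_odd (Fintype.card β) with hev | hodd
  swap
  · exact hM.not_rich_odd hodd ht hR
  have hT := hM.data
  have hk : 4 ≤ Fintype.card β := by
    have := hT.three
    obtain ⟨r, hr⟩ := hev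
    omega
  have hcr := card_rst_one i
  have hbig : 4 * 4 ≤ Fintype.card (Rst i → β) := by
    rw [card_rst]
    refine le_trans (Nat.mul_le_mul hk hk) ?_
    rw [← pow_two]
    exact Nat.pow_le_pow_right (by omega) (by omega)
  have hO := hM.ovr0 ht hR
  refine hM.proper fun g hg => ?_
  have hfull : ⁅iso (tfs c h i), iso (tfs c h i)⁆ ≤ M.map (sp i).toMonoidHom :=
    comm_le_of_full (hT.sym_tfs i) hT.two (by
      rw [Fintype.card_prod]
      nlinarith)
      fun v hv => hO.full (hM.root_rich hev ht hR) (fun h4 => absurd h4 (by omega))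
        (fun h3 => absurd h3 (by omega)) hv
  have hg' : (sp i).toMonoidHom g ∈ ⁅iso (tfs c h i), iso (tfs c h i)⁆ := by
    have h1 : (GT (κ := κ) c h).map (sp i).toMonoidHom ≤ ⁅iso (tfs c h i), iso (tfs c h i)⁆ := by
      rw [GT, Subgroup.map_commutator]
      refine Subgroup.commutator_mono ?_ ?_ <;>
      · rintro _ ⟨a, ha, rfl⟩
        exact (hT.sp_iso i).2 ha
    exact h1 ⟨g, hg, rfl⟩
  exact (Subgroup.mem_map_iff_mem (sp i).injective).1 (hfull hg')

/-- An element of the derived group of the other factors in the overgroup stabilises their decomposition. -/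
theorem rest_mem {i : κ} {A : GL (Rst i → β) F} (hA : A ∈ GT (κ := Rst i) c h) (hAM : emb i A ∈ M) :
    A ∈ Wr F (Rst i) β := by
  classical
  have hT := hM.data
  have hcr := card_rst_one i
  by_cases h3 : Fintype.card κ = 2
  · obtain ⟨j, hj⟩ := Fintype.card_eq_one_iff.1 (show Fintype.card (Rst i) = 1 by omega)
    exact one_of_subsingleton hj A
  have ht : 3 ≤ Fintype.card κ := by have := hM.ht; omega
  have hle := hM.ih i (by omega) (M.comap (emb i) ⊓ GT c h) inf_le_right
    (fun x hx => ⟨hM.mem ⟨emb_mem_Wr hx.1, hT.emb_GT hx.2⟩, hx.2⟩)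
    fun hall => hM.not_rich (i := i) ht fun x hx => (hall hx).1
  exact hle ⟨hAM, hA⟩

/-- An element of product shape at a factor is in the stabiliser, in odd dimension. -/
theorem kron_mem_odd (hodd : Odd (Fintype.card β)) {i : κ} {g : GL X F} (hg : g ∈ M) (hk : IsKron (sp i g)) : g ∈ Wr F κ β := by
  classical
  have hT := hM.data
  have hs := hT.hh
  obtain ⟨b⟩ : Nonempty β := Fintype.card_pos_iff.1 (by have := hT.three; omega)
  obtain ⟨v, -, hv⟩ := hs.exists_aniso hT.two hs.ndOn_top ⟨Pi.single b 1, trivial, by simp⟩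
  obtain ⟨j⟩ := nonempty_rst hM.ht i
  obtain ⟨A, B, hA, -, hAB⟩ := hT.split_iso hodd (hM.iso_mem hg) hk
  obtain ⟨C, -, -, hAC⟩ := hT.exists_fix_vec hodd j hv hA
  have hw : (emb i (A * pe j C))⁻¹ * g ∈ Wr F κ β := by
    refine mem_Wr_of_sp (A := (pe j C)⁻¹) (B := B) ?_ ((Wr F (Rst i) β).inv_mem (TensorPow.pe_mem _ _))
    rw [map_mul, map_inv, sp_emb, hAB, inv_mul_eq_iff_eq_mul, k2_mul, mul_inv_cancel_right, one_mul]
  have hwM : (emb i (A * pe j C))⁻¹ * g ∈ M := hM.mem (Subgroup.mem_inf.2 ⟨hw, mul_mem (inv_mem (hT.emb_GT hAC)) (hM.le hg)⟩)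
  have he : emb i (A * pe j C) ∈ M := by
    have := mul_mem hg (inv_mem hwM)
    rwa [_root_.mul_inv_rev, inv_inv, mul_inv_cancel_left] at this
  have := mul_mem (emb_mem_Wr (hM.rest_mem hAC he)) hw
  rwa [mul_inv_cancel_left] at this

/-- An element of product shape at a factor is in the stabiliser. -/
theorem kron_mem {i : κ} {g : GL X F} (hg : g ∈ M) (hk : IsKron (sp i g)) : g ∈ Wr F κ β := by
  classical
  rcases Nat.even_or_odd (Fintype.card β) with hev | hodd
  swap
  · exact hM.kron_mem_odd hodd hg hk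
  have hT := hM.data
  obtain ⟨A, B, hAB⟩ := isKron_iff.1 hk
  have hcr := card_rst_one i
  haveI := nonempty_rst hM.ht i
  refine mem_Wr_of_sp hAB ?_
  by_cases h3 : Fintype.card κ = 2
  · obtain ⟨j, hj⟩ := Fintype.card_eq_one_iff.1 (show Fintype.card (Rst i) = 1 by omega)
    exact one_of_subsingleton hj A
  obtain ⟨μ, hμ0, hA, -⟩ := hT.kron_simil (hM.iso_mem hg) hAB
  have hnorm : ∀ x ∈ iso (tf (κ := Rst i) c h), A * x * A⁻¹ ∈ iso (tf (κ := Rst i) c h) := fun x hx s t => by
    obtain ⟨s, rfl⟩ : ∃ s', (A : Matrix (Rst i → β) (Rst i → β) F) *ᵥ s' = s := ⟨_, mulVec_inv_cancel A s⟩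
    obtain ⟨t, rfl⟩ : ∃ t', (A : Matrix (Rst i → β) (Rst i → β) F) *ᵥ t' = t := ⟨_, mulVec_inv_cancel A t⟩
    simp only [Units.val_mul, ← Matrix.mulVec_mulVec, inv_mulVec_cancel]
    rw [hA, hA, hx]
  refine hT.mem_Wr_of_norm (by
    have := hT.three
    obtain ⟨r, hr⟩ := hev
    omega) fun j B hB => ?_
  have hGT : A * pe j B * A⁻¹ ∈ GT (κ := Rst i) c h := by
    have h1 : (GT (κ := Rst i) c h).map (MulAut.conj A).toMonoidHom ≤ GT (κ := Rst i) c h := by
      rw [GT, Subgroup.map_commutator]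
      refine Subgroup.commutator_mono ?_ ?_ <;>
      · rintro _ ⟨a, ha, rfl⟩
        exact hnorm a ha
    exact h1 ⟨pe j B, hT.pe_siegGrp hB, rfl⟩
  refine ⟨hM.rest_mem hGT ?_, hT.gt_le_iso hGT⟩
  have e : emb i (A * pe j B * A⁻¹) = g * pe j.1 B * g⁻¹ := (sp i).injective (by
    rw [← emb_pe, map_mul (sp i), map_mul (sp i), map_inv, hAB, sp_emb, sp_emb, k2_mul, mul_one, eq_mul_inv_iff_mul_eq, k2_mul, one_mul, inv_mul_cancel_right])
  rw [e]
  exact mul_mem (mul_mem hg (hM.pe_mem (emb_pe i j B ▸ hT.emb_GT (hT.pe_siegGrp hB)))) (inv_mem hg)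

end Px

end Cfsg.Agent.Classical.TensorPowOrth
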