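import Cfsg.Agent.Lib.Classical.TensorPowOrth.Un

/-!
A proper overgroup of the stabiliser contains no root element supported on one singular line of a factor.
-/

set_option autoImplicit false
set_option linter.unusedSectionVars false
set_option linter.unusedSimpArgs false
set_option linter.style.haveILetI false

open scoped Kronecker

namespace Cfsg.Agent.Classical.TensorPowOrth

open Matrix Module MaxTv TensorMax TensorPow Overfield
open Cfsg.Agent.Classical.TensorOrth (Sym NdOn iso cj IsSieg wd Ovr NoRoot ext_pure ext_kron)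

variable {F : Type*} [Field F] [Fintype F] {κ β : Type} [Fintype κ] [DecidableEq κ] [Fintype β] [DecidableEq β]
  {c : F} {h : (β → F) → (β → F) → F}

local notation "X" => (κ → β)
local notation "V" => ((κ → β) → F)
local notation "Mn" => Matrix (κ → β) (κ → β) F
local notation "Mb" => Matrix β β F
local notation "W" => (β → F)

/-- With one factor of dimension four the form is of minus type. -/
theorem TData.four_single (hT : TData c h) (h1 : Fintype.card κ = 1) (h4 : Fintype.card β = 4) (a b : V) :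
    ¬ TensorOrth.TSP (tf c h) a b := by
  classical
  obtain ⟨j, hj⟩ := Fintype.card_eq_one_iff.1 h1
  have hu : (Finset.univ : Finset κ) = {j} := Finset.ext fun l => by simp [hj l]
  have hp : ∀ v : V, v = ptens fun _ : κ => (fun y => v fun _ => y) := fun v => funext fun x => by
    simp only [ptens, hu, Finset.prod_singleton]
    exact congrArg v (funext fun l => by rw [hj l])
  have hv : ∀ v w : V, tf c h v w = c * h (fun y => v fun _ => y) (fun y => w fun _ => y) := fun v w => by
    conv_lhs => rw [hp v, hp w]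
    rw [hT.tf_ptens, hu, Finset.prod_singleton]
  rintro ⟨ha, hb, hab, hind⟩
  rw [hv] at ha hb hab
  refine hT.four h4 _ _ ⟨(mul_eq_zero.1 ha).resolve_left hT.hc, (mul_eq_zero.1 hb).resolve_left hT.hc,
    (mul_eq_zero.1 hab).resolve_left hT.hc, fun s t hst => hind s t (funext fun x => ?_)⟩
  have h2 := congrFun hst (x j)
  rw [show x = fun _ => x j from funext fun l => by rw [hj l]]
  exact h2

/-- The nilpotent part of a kind at a hyperbolic pair. -/
def NK (hs : Sym h) (a u : β → F) (T : Matrix β β F) : Prop :=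
  ∃ e ∈ hs.perp2 u a, h e e ≠ 0 ∧ T = rk hs e a - rk hs a e

/-- An elementary component, as a matrix. -/
def Knd (hs : Sym h) (a u : β → F) (T : Matrix β β F) : Prop := T = 1 ∨ T = rk hs a a ∨ NK hs a u T

theorem knd_of_kind {hs : Sym h} {a u : W} {T : (β → F) →ₗ[F] (β → F)} (hT : Kind hs a u T) :
    Knd hs a u (LinearMap.toMatrix' T) := by
  rcases hT with rfl | rfl | ⟨e, he, hee, rfl⟩
  · exact Or.inl LinearMap.toMatrix'_id
  · exact Or.inr (Or.inl (toMatrix_AE hs a))
  · exact Or.inr (Or.inr ⟨e, he, hee, toMatrix_wd hs a e⟩)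

section products

variable {hs : Sym h} {a u : β → F} (haa : h a a = 0)
include haa

theorem AA : rk hs a a * rk hs a a = 0 := by rw [rk_mul, haa, zero_smul]

theorem NK.mulA {T : Mb} (hT : NK hs a u T) : T * rk hs a a = 0 := by
  obtain ⟨e, he, -, rfl⟩ := hT
  rw [sub_mul, rk_mul, rk_mul, haa, hs.symm a e, (show h e a = 0 from he.2), zero_smul, zero_smul, sub_zero]

theorem NK.sq {T : Mb} (hT : NK hs a u T) : ∃ g : F, g ≠ 0 ∧ T * T = g • rk hs a a := by
  obtain ⟨e, he, hee, rfl⟩ := hT
  refine ⟨-h e e, neg_ne_zero.2 hee, ?_⟩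
  simp only [sub_mul, mul_sub, rk_mul, haa, hs.symm a e, (show h e a = 0 from he.2), zero_smul, zero_sub, sub_zero,
    neg_smul]

theorem NK.cube {T : Mb} (hT : NK hs a u T) : T * T * T = 0 := by
  obtain ⟨g, -, hg⟩ := hT.sq haa
  obtain ⟨e, he, -, rfl⟩ := hT
  rw [hg, Matrix.smul_mul, mul_sub, rk_mul, rk_mul, hs.symm a a, (show h e a = 0 from he.2), haa, zero_smul,
    zero_smul, sub_zero, smul_zero]

end products

namespace Px

variable {M : Subgroup (GL (κ → β) F)} (hM : Px c h M)
include hM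

/-- An element acting trivially at a factor with square zero displacement is in the stabiliser. -/
theorem split_mem {l : κ} {Y : Mn} {D : Matrix (Rst l → β) (Rst l → β) F} (hY : Y = kx l D 1) (hY2 : Y * Y = 0)
    {g : GL X F} (hg : g ∈ M) (hgY : (g : Mn) = 1 + Y) : g ∈ Wr F κ β := by
  classical
  have hT := hM.data
  have hsp : (sp l g : Matrix _ _ F) = (1 + D) ⊗ₖ (1 : Mb) := by
    rw [sp_val, hgY]
    show rX l (1 + Y) = _
    rw [rX_add, rX_one, hY, rX_kx, Matrix.add_kronecker, Matrix.one_kronecker_one]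
  have hD2 : D * D = 0 := by
    obtain ⟨b⟩ : Nonempty β := Fintype.card_pos_iff.1 (by have := hT.three; omega)
    have h1 := congrArg (rX l) hY2
    rw [hY, rX_mul, rX_kx, ← Matrix.mul_kronecker_mul, mul_one] at h1
    ext p q
    have h2 := congrFun (congrFun h1 (p, b)) (q, b)
    simpa [rX] using h2
  obtain ⟨A, hA⟩ : ∃ A : GL (Rst l → β) F, (A : Matrix (Rst l → β) (Rst l → β) F) = 1 + D :=
    ⟨⟨1 + D, 1 - D, by noncomm_ring; rw [hD2]; simp, by noncomm_ring; rw [hD2]; simp⟩, rfl⟩
  have hg' : g = emb l A := (sp l).injective (Units.ext (by rw [sp_emb, hsp, k2_val, hA, Units.val_one]))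
  have hiso : A ∈ iso (tf (κ := Rst l) c h) := fun x x' => by
    obtain ⟨b⟩ : Nonempty β := Fintype.card_pos_iff.1 (by have := hT.three; omega)
    obtain ⟨v, -, hv⟩ := hT.hh.exists_aniso hT.two hT.hh.ndOn_top ⟨Pi.single b 1, trivial, by simp⟩
    have h1 := (hT.sp_iso l).2 (hM.iso_mem hg) (tmul x v) (tmul x' v)
    rw [hg', sp_emb, k2_mulVec, k2_mulVec, Units.val_one, Matrix.one_mulVec, hT.tfs_tmul, hT.tfs_tmul] at h1
    exact mul_right_cancel₀ hv h1
  have hAG : A ∈ GT c h := hT.cube_mem hiso fun x => by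
    rw [hA, add_sub_cancel_left]
    simp [Matrix.mulVec_mulVec, hD2]
  rw [hg']
  exact emb_mem_Wr (hM.rest_mem hAG (hg' ▸ hg))

section pairs

variable {a u : β → F} (haa : h a a = 0) (huu : h u u = 0) (hua : h u a = 1)
include haa huu hua

/-- Pure self-adjoint displacements do not occur. -/
theorem no_self_adj {gs : κ → Mb} {r : F} (hr : r ≠ 0)
    (hgs : ∀ l, gs l = 1 ∨ gs l = rk hM.data.hh a a) (hA : ∃ l, gs l = rk hM.data.hh a a)
    (hU : Un M (r • wm 1 gs)) : False := by
  classical
  have hT := hM.data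
  have hs := hT.hh
  obtain ⟨g, hg, hgY⟩ := hU
  obtain ⟨b⟩ : Nonempty β := Fintype.card_pos_iff.1 (by have := hT.three; omega)
  obtain ⟨v, -, hv⟩ := hs.exists_aniso hT.two hs.ndOn_top ⟨Pi.single b 1, trivial, by simp⟩
  have hau : rk hs a a *ᵥ u = a := by rw [rk_mulVec, hua, one_smul]
  obtain ⟨xs, hxs⟩ : ∃ xs : κ → β → F, xs = fun l => if gs l = rk hs a a then u else v := ⟨_, rfl⟩
  have h1 := hM.iso_mem hg (ptens xs) (ptens xs)
  have hs' := hT.sym (κ := κ)
  rw [hgY, Matrix.add_mulVec, Matrix.one_mulVec, Matrix.smul_mulVec, wm_ptens, hs'.add_left, hs'.add_right,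
    hs'.add_right, hs'.smul_left, hs'.smul_right, hs'.smul_left, hs'.smul_right] at h1
  simp only [hT.tf_ptens] at h1
  have hsy : ∏ l, h (gs l *ᵥ xs l) (xs l) = ∏ l, h (xs l) (gs l *ᵥ xs l) :=
    Finset.prod_congr rfl fun l _ => hs.symm _ _
  rw [hsy] at h1
  obtain ⟨l₀, hl₀⟩ := hA
  rw [Finset.prod_eq_zero (s := Finset.univ) (f := fun l => h (gs l *ᵥ xs l) (gs l *ᵥ xs l)) (Finset.mem_univ l₀)
    (by rw [hl₀, hxs]; simp only [hl₀, if_true, hau, haa]), mul_zero, mul_zero, mul_zero, add_zero] at h1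
  have hne : c * ∏ l, h (xs l) (gs l *ᵥ xs l) ≠ 0 := mul_ne_zero hT.hc (Finset.prod_ne_zero_iff.2 fun l _ => by
    rw [hxs]
    by_cases e : gs l = rk hs a a
    · simp only [e, if_true, hau, hua]; exact one_ne_zero
    · simp only [if_neg e]; rw [(hgs l).resolve_right e, Matrix.one_mulVec]; exact hv)
  exact hne ((mul_eq_zero.1 (show (2 * r) * (c * ∏ l, h (xs l) (gs l *ᵥ xs l)) = 0 by linear_combination h1))
    |>.resolve_left (mul_ne_zero hT.two hr))

/-- A pure root element trivial at one factor does not occur. -/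
theorem no_split {gs : κ → Mb} {r : F} (hr : r ≠ 0) (hgs : ∀ l, Knd hM.data.hh a u (gs l))
    {j k l : κ} (hjk : j ≠ k) (hj : gs j = rk hM.data.hh a a) (hk : gs k ≠ 1) (hl : gs l = 1)
    (hU : Un M (r • wm 1 gs)) : False := by
  classical
  have hT := hM.data
  have hs := hT.hh
  obtain ⟨g, hg, hgY⟩ := hU
  have hau : h a u = 1 := by rw [hs.symm, hua]
  refine absurd (hM.split_mem (l := l) (D := r • wm 1 fun m : Rst l => gs m.1) ?_ ?_ hg hgY) ?_
  · rw [kx_smul, ← hl, kx_wm]
  · rw [Matrix.smul_mul, Matrix.mul_smul, wm_mul_zero gs gs (l := j) (by rw [hj, AA haa]), smul_zero, smul_zero]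
  obtain ⟨b⟩ : Nonempty β := Fintype.card_pos_iff.1 (by have := hT.three; omega)
  obtain ⟨v, -, hv⟩ := hs.exists_aniso hT.two hs.ndOn_top ⟨Pi.single b 1, trivial, by simp⟩
  have hsel : ∀ m, ∃ (x ξ ξ' : β → F), ξ ⬝ᵥ x = 1 ∧ ξ' ⬝ᵥ (gs m *ᵥ x) = 1 ∧
      (gs m ≠ 1 → ξ ⬝ᵥ (gs m *ᵥ x) = 0 ∧ ξ' ⬝ᵥ x = 0) := fun m => by
    rcases hgs m with e | e | ⟨w, hw, hww, e⟩
    · refine ⟨v, fn h ((h v v)⁻¹ • v), fn h ((h v v)⁻¹ • v), ?_, ?_, fun hne => absurd e hne⟩
      all_goals simp only [e, Matrix.one_mulVec, fn_dot hs.sesq, hs.smul_right, inv_mul_cancel₀ hv]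
    · refine ⟨u, fn h a, fn h u, ?_, ?_, fun _ => ⟨?_, ?_⟩⟩
      all_goals simp only [e, rk_mulVec, hua, one_smul, fn_dot hs.sesq, hau, huu, haa]
    · refine ⟨u, fn h a, fn h ((h w w)⁻¹ • w), ?_, ?_, fun _ => ⟨?_, ?_⟩⟩
      all_goals simp only [e, Matrix.sub_mulVec, rk_mulVec, hua, hs.symm u w, (show h w u = 0 from hw.1), zero_smul,
        sub_zero, one_smul, fn_dot hs.sesq, hs.smul_right, inv_mul_cancel₀ hww, (show h w a = 0 from hw.2), mul_zero]
  choose x ξ ξ' h1 h2 h3 using hsel
  have hj1 : gs j ≠ 1 := fun e => by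
    have h0 := AA (hs := hs) haa
    rw [← hj, e] at h0
    rw [one_mul] at h0
    simpa using congrFun (congrFun h0 b) b
  refine not_mem_Wr_of_two (a := x) (b := fun m => gs m *ᵥ x m) hr ?_ ξ ξ' h1 h2 hjk (h3 j hj1).1 (h3 j hj1).2
    (h3 k hk).2
  rw [hgY, Matrix.add_mulVec, Matrix.one_mulVec, Matrix.smul_mulVec, wm_ptens]

/-- Two factors of the first kind. -/
theorem no_two {gs : κ → Mb} {r : F} (hr : r ≠ 0)
    (hgs : ∀ l, gs l = rk hM.data.hh a a ∨ NK hM.data.hh a u (gs l)) {l l' : κ} (hll : l ≠ l')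
    (hl : gs l = rk hM.data.hh a a) (hl' : gs l' = rk hM.data.hh a a) (hU : Un M (r • wm 1 gs)) : False := by
  classical
  have hT := hM.data
  have hs := hT.hh
  have hau : h a u = 1 := by rw [hs.symm, hua]
  obtain ⟨e, he, hee⟩ := hs.exists_aniso hT.two (hs.ndOn_perp2 huu haa hua)
    (Submodule.exists_mem_ne_zero_of_ne_bot fun h0 => by
      have := hs.finrank_perp2 u a; have := hT.three; rw [h0, finrank_bot] at *; omega)
  have hea : h e a = 0 := he.2
  have heu : h e u = 0 := he.1
  -- a factor of the second kind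
  obtain ⟨m, hm⟩ : ∃ m, gs m ≠ rk hs a a := by
    by_contra hc
    push Not at hc
    exact hM.no_self_adj haa huu hua hr (fun l => Or.inr (hc l)) ⟨l, hl⟩ hU
  -- the flipped element
  have hsw : ∀ q : κ, ∃ w : F, w ≠ 0 ∧ ∃ B : GL β F, B ∈ iso h ∧ pe q B ∈ GT (κ := κ) c h ∧
      (B : Mb) *ᵥ a = w • u ∧ (B : Mb) *ᵥ u = w⁻¹ • a := fun q => by
    obtain ⟨w, hw, B, hB, hBG, hBa, hBu, -, -⟩ := hT.exists_swap q haa huu hua hea heu hee
    exact ⟨w, hw, B, hB, hBG, hBa, hBu⟩
  choose w hw B hB hBG hBa hBu using hsw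
  have hBA : ∀ q, (B q : Mb) * rk hs a a * (((B q)⁻¹ : GL β F) : Mb) = (w q * w q) • rk hs u u := fun q => by
    rw [rk_conj hs (hB q), hBa, rk_smul_left, rk_smul_right, smul_smul]
  obtain ⟨gu, hgu⟩ : ∃ gu : κ → Mb, gu = fun q => if gs q = rk hs a a then rk hs u u else gs q := ⟨_, rfl⟩
  have hflip : ∀ s : Finset κ, ∃ r' : F, r' ≠ 0 ∧ Un M (r' • wm 1 fun q => if q ∈ s then gu q else gs q) := by
    intro s
    induction s using Finset.induction_on with
    | empty => exact ⟨r, hr, by simpa using hU⟩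
    | insert q s hq ih =>
      obtain ⟨r', hr', hU'⟩ := ih
      by_cases hqA : gs q = rk hs a a
      swap
      · refine ⟨r', hr', ?_⟩
        convert hU' using 2
        refine wm_congr rfl fun p => ?_
        by_cases e : p = q
        · subst e; simp [hq, hgu, hqA]
        · simp [e]
      refine ⟨r' * (w q * w q), mul_ne_zero hr' (mul_ne_zero (hw q) (hw q)), ?_⟩
      have h1 := hU'.conj (hM.pe_mem (hBG q))
      rw [Matrix.mul_smul, Matrix.smul_mul, wm_conj _ _ _ _ (by rw [← Units.val_mul, mul_inv_cancel, Units.val_one]),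
        if_neg hq, hqA, hBA, wm_update_smul, smul_smul] at h1
      convert h1 using 2
      refine wm_congr rfl fun p => ?_
      by_cases e : p = q
      · subst e; simp [hgu, hqA]
      · simp [e]
  obtain ⟨r', hr', hU'⟩ := hflip Finset.univ
  simp only [Finset.mem_univ, if_true] at hU'
  -- the commutator
  obtain ⟨P, hP⟩ : ∃ P, P = rk hs a u := ⟨_, rfl⟩
  obtain ⟨Q, hQ⟩ : ∃ Q, Q = rk hs u a := ⟨_, rfl⟩
  obtain ⟨wP, hwP⟩ : ∃ wP : κ → Mb, wP = fun q => if gs q = rk hs a a then P else rk hs a a := ⟨_, rfl⟩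
  obtain ⟨wQ, hwQ⟩ : ∃ wQ : κ → Mb, wQ = fun q => if gs q = rk hs a a then Q else rk hs a a := ⟨_, rfl⟩
  have hNm : NK hs a u (gs m) := (hgs m).resolve_left hm
  have hgum : gu m = gs m := by rw [hgu]; exact if_neg hm
  have hgul : gu l = rk hs u u := by rw [hgu]; exact if_pos hl
  choose γ hγ0 hγ using fun q => (show ∃ g : F, g ≠ 0 ∧ gs q * gu q = g • wP q ∧ gu q * gs q = g • wQ q by
    by_cases e : gs q = rk hs a a
    · refine ⟨1, one_ne_zero, ?_⟩
      simp only [hgu, hwP, hwQ, if_pos e, one_smul]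
      rw [e, rk_mul, rk_mul, hua, hau, one_smul, one_smul, hP, hQ]
      exact ⟨rfl, rfl⟩
    · obtain ⟨g, hg, hgg⟩ := ((hgs q).resolve_left e).sq haa
      exact ⟨g, hg, by simp only [hgu, hwP, hwQ, if_neg e, hgg, and_self]⟩)
  obtain ⟨s, hs_def⟩ : ∃ s, s = r * r' * ∏ q, γ q := ⟨_, rfl⟩
  have hs0 : s ≠ 0 := hs_def ▸ mul_ne_zero (mul_ne_zero hr hr') (Finset.prod_ne_zero_iff.2 fun q _ => hγ0 q)
  have hsmul : ∀ (ws vs : κ → Mb), (∀ q, ws q = γ q • vs q) →
      wm (1 : Equiv.Perm κ) ws = (∏ q, γ q) • wm 1 vs := fun ws vs hwv => by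
    ext x y
    simp only [Matrix.smul_apply, wm, Matrix.of_apply, hwv, smul_eq_mul, Finset.prod_mul_distrib]
  have hZ : Un M (s • (wm 1 wP - wm 1 wQ)) := by
    have h1 := hU.comm hU' (by rw [Matrix.smul_mul, Matrix.mul_smul, wm_mul_zero gs gs (l := l) (by rw [hl, AA haa]),
        smul_zero, smul_zero])
      (by rw [Matrix.smul_mul, Matrix.mul_smul, wm_mul_zero gu gu (l := l) (by rw [hgul, AA (a := u) huu]),
        smul_zero, smul_zero])
      (by simp only [Matrix.smul_mul, Matrix.mul_smul, wm1_mul]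
          rw [← wm1_mul, wm_mul_zero _ _ (l := m) (by rw [Pi.mul_apply, hgum, hNm.cube haa])]
          simp)
      (by simp only [Matrix.smul_mul, Matrix.mul_smul, wm1_mul]
          rw [← wm1_mul, wm_mul_zero _ _ (l := m) (by rw [Pi.mul_apply, hgum, hNm.cube haa])]
          simp)
    rw [Matrix.smul_mul, Matrix.mul_smul, Matrix.smul_mul, Matrix.mul_smul, wm1_mul, wm1_mul,
      hsmul (gs * gu) wP fun q => (hγ q).1, hsmul (gu * gs) wQ fun q => (hγ q).2] at h1
    convert h1 using 1
    rw [hs_def]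
    module
  -- the elements with the other factors fixed
  obtain ⟨K, hK⟩ : ∃ K : Mb → Mn,
      K = fun T => wm 1 (Function.update wP l T) - wm 1 (Function.update wQ l T) := ⟨_, rfl⟩
  have hKadd : ∀ S T, K (S + T) = K S + K T := fun S T => by rw [hK]; simp only [wm_update_add]; abel
  have hKsm : ∀ (t : F) T, K (t • T) = t • K T := fun t T => by rw [hK]; simp only [wm_update_smul, smul_sub]
  have hwm : wP m = rk hs a a ∧ wQ m = rk hs a a := by simp [hwP, hwQ, hm]
  have hlm : l ≠ m := fun e0 => hm (e0 ▸ hl)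
  have hKK : ∀ S T, K S * K T = 0 := fun S T => by
    rw [hK]
    simp only [sub_mul, mul_sub]
    rw [wm_mul_zero _ _ (l := m), wm_mul_zero _ _ (l := m), wm_mul_zero _ _ (l := m), wm_mul_zero _ _ (l := m)]
    · simp
    all_goals simp [Function.update_of_ne hlm.symm, hwm.1, hwm.2, AA haa]
  let PT : AddSubgroup Mb :=
    { carrier := {T | Un M (s • K T)}
      zero_mem' := by
        show Un M (s • K 0)
        have : K 0 = 0 := by simpa using hKsm 0 0
        rw [this, smul_zero]
        exact un_zero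
      add_mem' := fun {S T} hS hT' => by
        show Un M (s • K (S + T))
        rw [hKadd, smul_add]
        exact hS.add hT' (by rw [Matrix.smul_mul, Matrix.mul_smul, hKK, smul_zero, smul_zero])
      neg_mem' := fun {T} hT' => by
        show Un M (s • K (-T))
        rw [← neg_one_smul F T, hKsm, neg_one_smul, smul_neg]
        exact hT'.neg (by rw [Matrix.smul_mul, Matrix.mul_smul, hKK, smul_zero, smul_zero]) }
  have hconj : ∀ {g : GL β F}, pe l g ∈ GT c h → ∀ T ∈ PT, (g : Mb) * T * ((g⁻¹ : GL β F) : Mb) ∈ PT :=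
    fun {g} hg T hT' => by
      show Un M (s • K _)
      have h1 := Un.conj hT' (hM.pe_mem hg)
      rw [Matrix.mul_smul, Matrix.smul_mul, hK, mul_sub, sub_mul, wm_conj _ _ _ _ (by
        rw [← Units.val_mul, mul_inv_cancel, Units.val_one]), wm_conj _ _ _ _ (by
        rw [← Units.val_mul, mul_inv_cancel, Units.val_one])] at h1
      simp only [Function.update_idem, Function.update_self] at h1
      rw [hK]
      exact h1
  have hS0 : P + Q ∈ PT := by
    show Un M (s • K (P + Q))
    have hl1 : wP l = P ∧ wQ l = Q := by simp [hwP, hwQ, hl]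
    have hPc : (B l : Mb) * P * (((B l)⁻¹ : GL β F) : Mb) = Q ∧ (B l : Mb) * Q * (((B l)⁻¹ : GL β F) : Mb) = P := by
      constructor <;>
      · rw [hP, hQ, rk_conj hs (hB l), hBa, hBu, rk_smul_left, rk_smul_right, smul_smul]
        simp [hw l]
    have h1 := hZ.conj (hM.pe_mem (hBG l))
    rw [Matrix.mul_smul, Matrix.smul_mul, mul_sub, sub_mul, wm_conj _ _ _ _ (by
        rw [← Units.val_mul, mul_inv_cancel, Units.val_one]), wm_conj _ _ _ _ (by
        rw [← Units.val_mul, mul_inv_cancel, Units.val_one]), hl1.1, hl1.2, hPc.1, hPc.2] at h1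
    have h2 := hZ.add h1 (by
      rw [Matrix.smul_mul, Matrix.mul_smul]
      simp only [sub_mul, mul_sub]
      rw [wm_mul_zero _ _ (l := m), wm_mul_zero _ _ (l := m), wm_mul_zero _ _ (l := m), wm_mul_zero _ _ (l := m)]
      · simp
      all_goals simp [Function.update_of_ne hlm.symm, hwm.1, hwm.2, AA haa])
    convert h2 using 1
    rw [← smul_add]
    congr 1
    rw [hKadd, hK]
    conv_rhs => rw [← Function.update_eq_self l wP, ← Function.update_eq_self l wQ, hl1.1, hl1.2]
    simp only [Function.update_idem]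
    abel
  -- every multiple of a singular rank one map
  have hdel : ∀ x : W, h x a = 0 → h x u = 0 → h x x • rk hs a a ∈ PT ∧ (2 * h x x) • rk hs a a ∈ PT := by
    intro x hxa hxu
    have hc : ∀ y : W, h y a = 0 → h y u = 0 →
        P + Q + (rk hs a y + rk hs y a) - h y y • rk hs a a ∈ PT := fun y hya hyu => by
      obtain ⟨g, hg, hgx⟩ := hs.exists_sieg hT.two haa hya
      have h1 := hconj (hT.pe_sieg hgx haa hya) _ hS0
      rw [mul_add, add_mul, hP, hQ, rk_conj hs hg, rk_conj hs hg, hgx, hgx, hua, haa, hs.symm a y, hya, hs.symm u y,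
        hyu] at h1
      convert h1 using 1
      have h2 := hT.two
      simp only [hP, hQ, zero_smul, one_smul, sub_zero, mul_zero, mul_one, add_zero, sub_eq_add_neg, neg_zero, ← neg_smul,
        rk_add_left, rk_add_right, rk_smul_left, rk_smul_right]
      match_scalars <;> field_simp <;> ring
    have h1 := add_mem (hc x hxa hxu) (hc (-x) (by rw [hs.neg_left, hxa, neg_zero]) (by rw [hs.neg_left, hxu, neg_zero]))
    have h2 := neg_mem (sub_mem (sub_mem h1 hS0) hS0)
    have e2 : ∀ y : W, rk hs a (-y) + rk hs (-y) a = -(rk hs a y + rk hs y a) := fun y => by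
      rw [← neg_one_smul F y, rk_smul_left, rk_smul_right]; module
    rw [e2, hs.neg_left, hs.neg_right, neg_neg] at h2
    have h3 : (2 * h x x) • rk hs a a ∈ PT := by
      convert h2 using 1
      module
    refine ⟨?_, h3⟩
    obtain ⟨p, hp⟩ := CharP.exists F
    haveI : Fact p.Prime := ⟨CharP.char_is_prime F p⟩
    have hodd : p % 2 = 1 := (Fact.out (p := p.Prime)).eq_two_or_odd.resolve_left fun h' => by
      subst h'; exact hT.two CharTwo.two_eq_zero
    have hh : ((p + 1) / 2 : ℕ) * (2 : F) = 1 := by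
      rw [show (2 : F) = ((2 : ℕ) : F) by norm_num, ← Nat.cast_mul, show (p + 1) / 2 * 2 = p + 1 by omega,
        Nat.cast_add, CharP.cast_eq_zero, zero_add, Nat.cast_one]
    have h4 := PT.nsmul_mem h3 ((p + 1) / 2)
    rwa [← Nat.cast_smul_eq_nsmul F, smul_smul, ← mul_assoc, hh, one_mul] at h4
  have hA : ∀ t : F, t • rk hs a a ∈ PT := fun t => by
    obtain ⟨x, y, hxy⟩ := TensorOrth.exists_sq_sq hT.two hee hee (-t)
    have hq : ∀ z : F, (h e e * (z * z)) • rk hs a a ∈ PT := fun z => by
      have := (hdel (z • e) (by rw [hs.smul_left, hea, mul_zero]) (by rw [hs.smul_left, heu, mul_zero])).1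
      convert this using 2
      rw [hs.smul_left, hs.smul_right]; ring
    have h1 := add_mem (hq x) (hq y)
    rw [← add_smul] at h1
    convert h1 using 2
    linear_combination -hxy
  have hAE : ∀ v : W, h v v = 0 → ∀ t : F, t • rk hs v v ∈ PT := fun v hv t => by
    rcases eq_or_ne v 0 with rfl | hv0
    · have : rk hs (0 : W) 0 = 0 := Matrix.ext_iff_mulVec.2 fun z => by rw [rk_mulVec, smul_zero, Matrix.zero_mulVec]
      rw [this, smul_zero]; exact zero_mem _
    obtain ⟨g, hg, k, hk, hgk⟩ : ∃ g ∈ TensorOrth.siegGrp h, ∃ k : F, k ≠ 0 ∧ (g : Mb) *ᵥ a = k • v := by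
      have ha0 : a ≠ 0 := fun e0 => one_ne_zero (by rw [← hua, e0, hs.zero_right])
      by_cases h3 : Fintype.card β = 3
      · exact hs.exists_move_line hT.two h3 ha0 haa hv0 hv
      · obtain ⟨g, hg, hgv⟩ := hs.exists_move hT.two (by have := hT.three; omega) ha0 haa hv0 hv
        exact ⟨g, hg, 1, one_ne_zero, by rw [hgv, one_smul]⟩
    have h1 := hconj (hT.pe_siegGrp hg) _ (hA (t / (k * k)))
    rw [Matrix.mul_smul, Matrix.smul_mul, rk_conj hs (hs.siegGrp_le hT.two hg), hgk, rk_smul_left, rk_smul_right,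
      smul_smul, smul_smul, mul_assoc (t / (k * k)), div_mul_cancel₀ _ (mul_ne_zero hk hk)] at h1
    exact h1
  have hone : (1 : Mb) ∈ PT := by
    obtain ⟨b₀, b₁, f, hf⟩ := hT.exists_midFrame haa huu hua
    obtain ⟨S, hS⟩ : ∃ S, S = (Finset.univ.erase b₀).erase b₁ := ⟨_, rfl⟩
    have hSm : ∀ b ∈ S, h (f b) (f b) ≠ 0 ∧ h (f b) a = 0 ∧ h (f b) u = 0 := fun b hb => by
      simp only [hS, Finset.mem_erase, Finset.mem_univ, and_true] at hb
      exact ⟨hf.vne b hb.2 hb.1, hf.perp b hb.2 hb.1⟩
    have hX : ∀ b ∈ S, (h (f b) (f b))⁻¹ • rk hs (f b) (f b) - (2 : F)⁻¹ • (P + Q) ∈ PT := fun b hb => by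
      obtain ⟨hg0', hba, hbu⟩ := hSm b hb
      obtain ⟨g, hbb⟩ : ∃ g, h (f b) (f b) = g := ⟨_, rfl⟩
      have hg0 : g ≠ 0 := hbb ▸ hg0'
      rw [hbb]
      have h2 := hT.two
      have h4 : (4 : F) ≠ 0 := by rw [show (4 : F) = 2 * 2 by norm_num]; exact mul_ne_zero h2 h2
      have hz : ∀ σ : F, σ * σ = 1 → h (a + σ • f b + (-(g / 2)) • u) (a + σ • f b + (-(g / 2)) • u) = 0 :=
        fun σ hσ => by
          simp only [hs.add_left, hs.add_right, hs.smul_left, hs.smul_right, haa, huu, hua, hau, hs.symm a (f b),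
            hs.symm u (f b), hba, hbu, hbb]
          linear_combination (norm := skip) g * hσ
          field_simp
          ring
      have hT1 := add_mem (hAE _ (hz 1 (one_mul 1)) (2 * g)⁻¹) (hAE _ (hz (-1) (by ring)) (2 * g)⁻¹)
      have h1 := sub_mem (sub_mem hT1 (hA g⁻¹)) (hAE u huu (g / 4))
      convert h1 using 1
      simp only [hP, hQ, rk_add_left, rk_add_right, rk_smul_left, rk_smul_right]
      match_scalars <;> field_simp <;> ring
    have h1 : (1 : Mb) = P + Q + ∑ b ∈ S, (h (f b) (f b))⁻¹ • rk hs (f b) (f b) := Matrix.ext_iff_mulVec.2 fun x => by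
      rw [Matrix.one_mulVec, Matrix.add_mulVec, Matrix.add_mulVec, hP, hQ, rk_mulVec, rk_mulVec, Matrix.sum_mulVec]
      conv_lhs => rw [hf.expand hT haa huu hua x]
      rw [hS]
      congr 1
      refine Finset.sum_congr rfl fun b _ => ?_
      rw [Matrix.smul_mulVec, rk_mulVec, smul_smul, hs.symm (f b) x, div_eq_inv_mul]
    obtain ⟨p, hp⟩ := CharP.exists F
    haveI : Fact p.Prime := ⟨CharP.char_is_prime F p⟩
    have hodd : p % 2 = 1 := (Fact.out (p := p.Prime)).eq_two_or_odd.resolve_left fun h' => by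
      subst h'; exact hT.two CharTwo.two_eq_zero
    have hh : ((p + 1) / 2 : ℕ) * (2 : F) = 1 := by
      rw [show (2 : F) = ((2 : ℕ) : F) by norm_num, ← Nat.cast_mul, show (p + 1) / 2 * 2 = p + 1 by omega,
        Nat.cast_add, CharP.cast_eq_zero, zero_add, Nat.cast_one]
    have h2 := add_mem (AddSubgroup.sum_mem PT hX) (PT.nsmul_mem hS0 ((2 + S.card) * ((p + 1) / 2)))
    convert h2 using 1
    rw [h1, Finset.sum_sub_distrib, Finset.sum_const, ← Nat.cast_smul_eq_nsmul F, ← Nat.cast_smul_eq_nsmul F,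
      smul_smul, Nat.cast_mul, Nat.cast_add, Nat.cast_ofNat]
    have h3 : ((2 : F) + (S.card : F)) * ((p + 1) / 2 : ℕ) = 1 + (S.card : F) * (2 : F)⁻¹ := by
      have h2' := hT.two
      field_simp
      linear_combination (2 + (S.card : F)) * hh
    rw [h3]
    module
  -- the identity at the factor is not possible
  obtain ⟨g, hg, hgY⟩ := (hone : Un M (s • K 1))
  refine absurd (hM.split_mem (l := l) (D := s • (wm 1 (fun q : Rst l => wP q.1) - wm 1 fun q : Rst l => wQ q.1))
    ?_ ?_ hg hgY) ?_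
  · rw [hK]
    apply rX_inj l
    rw [rX_smul, rX_sub, rX_wm, rX_wm, rX_kx, Matrix.smul_kronecker, sub_kron,
      Function.update_self, Function.update_self]
    congr 4 <;>
    · funext q
      rw [Function.update_of_ne q.2]
  · rw [Matrix.smul_mul, Matrix.mul_smul, hKK, smul_zero, smul_zero]
  have hml' : l' ≠ m := fun e0 => hm (e0 ▸ hl')
  by_cases hmore : ∃ q, q ≠ l ∧ q ≠ l' ∧ gs q = rk hs a a
  · obtain ⟨q, hql, hql', hq⟩ := hmore
    refine not_mem_Wr_of_two (a := fun p => if p = l then e else if p = l' then a + u else if gs p = rk hs a a then a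
      else u) (b := fun p => if p = l then e else a) hs0 ?_
      (fun p => if p = l then fn h ((h e e)⁻¹ • e) else if p = l' then fn h a else if gs p = rk hs a a then fn h u
        else fn h a)
      (fun p => if p = l then fn h ((h e e)⁻¹ • e) else if p = l' then fn h (u - a) else fn h u)
      (fun p => ?_) (fun p => ?_) hml' ?_ ?_ ?_
    · rw [hgY, Matrix.add_mulVec, Matrix.one_mulVec, Matrix.smul_mulVec, hK, Matrix.sub_mulVec, wm_ptens, wm_ptens]
      congr 1
      congr 1
      have hB0 : (ptens fun p => Function.update wQ l 1 p *ᵥ if p = l then e else if p = l' then a + u else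
          if gs p = rk hs a a then a else u) = 0 := by
        funext z
        exact Finset.prod_eq_zero (Finset.mem_univ q) (by
          simp [Function.update_of_ne hql, hwQ, hq, hql, hql', hQ, rk_mulVec, haa])
      rw [hB0, sub_zero]
      refine congrArg ptens (funext fun p => ?_)
      by_cases e1 : p = l
      · subst e1; simp
      · simp only [Function.update_of_ne e1, if_neg e1, hwP]
        by_cases e2 : gs p = rk hs a a <;> by_cases e3 : p = l' <;>
          simp [e2, e3, hl', hP, rk_mulVec, hs.add_left, hau, hua, huu, haa]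
    all_goals
      first
      | by_cases e1 : p = l <;> by_cases e3 : p = l' <;> by_cases e2 : gs p = rk hs a a <;>
          simp [e1, e2, e3, fn_dot hs.sesq, hs.add_left, hs.smul_right, hs.sub_right, hau, hua, huu, haa, hee,
            hll.symm]
      | simp [hlm.symm, hml', hml'.symm, hll.symm, hm, fn_dot hs.sesq, hs.add_left, hs.smul_right, hs.sub_right, hau,
          hua, huu, haa]
  · push Not at hmore
    have hN : ∀ p, p ≠ l → p ≠ l' → gs p ≠ rk hs a a := hmore
    refine not_mem_Wr_of_two (a := fun p => if p = l then e else if p = l' then a + u else u)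
      (b := fun p => if p = l then e else if p = l' then a - u else a) hs0 ?_
      (fun p => if p = l then fn h ((h e e)⁻¹ • e) else if p = l' then fn h ((2 : F)⁻¹ • (a + u)) else fn h a)
      (fun p => if p = l then fn h ((h e e)⁻¹ • e) else if p = l' then fn h ((-(2 : F)⁻¹) • (a - u)) else fn h u)
      (fun p => ?_) (fun p => ?_) hml' ?_ ?_ ?_
    · rw [hgY, Matrix.add_mulVec, Matrix.one_mulVec, Matrix.smul_mulVec, hK, Matrix.sub_mulVec, wm_ptens, wm_ptens]
      congr 1
      congr 1
      have key : ∀ (w : κ → Mb) (x : W), w m = rk hs a a → (∀ p, p ≠ l → p ≠ l' → w p = rk hs a a) →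
          w l' *ᵥ (a + u) = x → (fun p => Function.update w l 1 p *ᵥ
            if p = l then e else if p = l' then a + u else u) =
            Function.update (fun p => if p = l then e else a) l' x := fun w x _ hw hx => funext fun p => by
        by_cases e1 : p = l
        · subst e1; simp [hll]
        · by_cases e3 : p = l'
          · subst e3; simp [e1, hx]
          · simp [e1, e3, hw p e1 e3, rk_mulVec, hua]
      rw [key wP a hwm.1 (fun p h1 h2 => by simp [hwP, hN p h1 h2])
          (by simp [hwP, hl', hP, rk_mulVec, hs.add_left, hau, huu]),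
        key wQ u hwm.2 (fun p h1 h2 => by simp [hwQ, hN p h1 h2])
          (by simp [hwQ, hl', hQ, rk_mulVec, hs.add_left, hua, haa])]
      funext z
      simp only [Pi.sub_apply, ptens_update]
      rw [show (fun p => if p = l then e else if p = l' then a - u else a) =
        Function.update (fun p => if p = l then e else a) l' (a - u) from funext fun p => by
          by_cases e3 : p = l'
          · subst e3; simp [hll.symm]
          · simp [e3]]
      rw [ptens_update, Pi.sub_apply]
      ring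
    all_goals
      have h2 := hT.two
      first
      | by_cases e1 : p = l <;> by_cases e3 : p = l' <;>
          simp [e1, e3, fn_dot hs.sesq, hs.add_left, hs.sub_left, hs.smul_right, hs.add_right, hs.sub_right, hs.neg_right, hau, hua,
            huu, haa, hee, hll.symm] <;> field_simp <;> ring
      | simp [hlm.symm, hml', hml'.symm, hll.symm, fn_dot hs.sesq, hs.add_left, hs.sub_left, hs.smul_right,
          hs.add_right, hs.sub_right, hs.neg_right, hau, hua, huu, haa]

/-- No pure root element. -/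
theorem no_pure (h3 : 3 ≤ Fintype.card κ) {gs : κ → Mb} {r : F} (hr : r ≠ 0) (hgs : ∀ l, Knd hM.data.hh a u (gs l))
    {j k : κ} (hjk : j ≠ k) (hj : gs j = rk hM.data.hh a a) (hk : gs k ≠ 1) (hU : Un M (r • wm 1 gs)) : False := by
  classical
  have hT := hM.data
  have hs := hT.hh
  by_cases hone : ∃ l, gs l = 1
  · obtain ⟨l, hl⟩ := hone
    exact hM.no_split haa huu hua hr hgs hjk hj hk hl hU
  push Not at hone
  have hgs' : ∀ l, gs l = rk hs a a ∨ NK hs a u (gs l) := fun l => (hgs l).resolve_left (hone l)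
  by_cases htwo : ∃ l, l ≠ j ∧ gs l = rk hs a a
  · obtain ⟨l, hlj, hl⟩ := htwo
    exact hM.no_two haa huu hua hr hgs' hlj hl hj hU
  push Not at htwo
  have hNk : ∀ l, l ≠ j → NK hs a u (gs l) := fun l hl => (hgs' l).resolve_left (htwo l hl)
  obtain ⟨e, he, hee⟩ := hs.exists_aniso hT.two (hs.ndOn_perp2 huu haa hua)
    (Submodule.exists_mem_ne_zero_of_ne_bot fun h0 => by
      have := hs.finrank_perp2 u a; have := hT.three; rw [h0, finrank_bot] at *; omega)
  have hau : h a u = 1 := by rw [hs.symm, hua]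
  -- exchange the two kinds
  obtain ⟨w, hw, B, hB, hBG, hBa, hBu, -, -⟩ := hT.exists_swap j haa huu hua (show h e a = 0 from he.2)
    (show h e u = 0 from he.1) hee
  have h1 := hU.conj (hM.pe_mem hBG)
  rw [Matrix.mul_smul, Matrix.smul_mul, wm_conj _ _ _ _ (by rw [← Units.val_mul, mul_inv_cancel, Units.val_one]), hj,
    rk_conj hs hB, hBa, rk_smul_left, rk_smul_right, smul_smul, wm_update_smul, smul_smul] at h1
  obtain ⟨gu, hgu⟩ : ∃ gu, gu = Function.update gs j (rk hs u u) := ⟨_, rfl⟩
  rw [← hgu] at h1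
  have hguj : gu j = rk hs u u := by rw [hgu, Function.update_self]
  have hguk : ∀ l, l ≠ j → gu l = gs l := fun l hl => by rw [hgu, Function.update_of_ne hl]
  choose γ hγ0 hγ using fun l => (show ∃ g : F, g ≠ 0 ∧
      gs l * gu l = g • (if l = j then rk hs a u else rk hs a a) ∧
      gu l * gs l = g • (if l = j then rk hs u a else rk hs a a) by
    by_cases e0 : l = j
    · subst e0
      refine ⟨1, one_ne_zero, ?_⟩
      rw [hguj, hj, rk_mul, rk_mul, hua, hau, one_smul, one_smul, if_pos rfl, if_pos rfl]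
      exact ⟨rfl, rfl⟩
    · obtain ⟨g, hg, hgg⟩ := (hNk l e0).sq haa
      exact ⟨g, hg, by rw [hguk l e0, if_neg e0, if_neg e0]; exact ⟨hgg, hgg⟩⟩)
  have h2 := hU.comm h1
    (by rw [Matrix.smul_mul, Matrix.mul_smul, wm_mul_zero gs gs (l := j) (by rw [hj, AA haa]), smul_zero, smul_zero])
    (by rw [Matrix.smul_mul, Matrix.mul_smul, wm_mul_zero gu gu (l := j) (by rw [hguj, AA (a := u) huu]),
      smul_zero, smul_zero])
    (by simp only [Matrix.smul_mul, Matrix.mul_smul, wm1_mul]
        rw [← wm1_mul, wm_mul_zero _ _ (l := k) (by rw [Pi.mul_apply, hguk k hjk.symm, (hNk k hjk.symm).cube haa])]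
        simp)
    (by simp only [Matrix.smul_mul, Matrix.mul_smul, wm1_mul]
        rw [← wm1_mul, wm_mul_zero _ _ (l := k) (by rw [Pi.mul_apply, hguk k hjk.symm, (hNk k hjk.symm).cube haa])]
        simp)
  have hsmul : ∀ (ws vs : κ → Mb), (∀ q, ws q = γ q • vs q) →
      wm (1 : Equiv.Perm κ) ws = (∏ q, γ q) • wm 1 vs := fun ws vs hwv => by
    ext x y
    simp only [Matrix.smul_apply, wm, Matrix.of_apply, hwv, smul_eq_mul, Finset.prod_mul_distrib]
  rw [Matrix.smul_mul, Matrix.mul_smul, Matrix.smul_mul, Matrix.mul_smul, wm1_mul, wm1_mul,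
    hsmul (gs * gu) _ (fun l => (hγ l).1), hsmul (gu * gs) _ (fun l => (hγ l).2)] at h2
  obtain ⟨G, hG⟩ : ∃ G : Mb → Mn, G = fun T => wm 1 (Function.update (fun _ => rk hs a a) j T) := ⟨_, rfl⟩
  have hGs : ∀ T : Mb, wm (1 : Equiv.Perm κ) (fun l => if l = j then T else rk hs a a) = G T := fun T => by
    rw [hG]
    refine wm_congr rfl fun l => ?_
    by_cases e0 : l = j
    · subst e0; simp
    · simp [e0]
  obtain ⟨s, hs', h3⟩ : ∃ s : F, s ≠ 0 ∧ Un M (s • G (rk hs a u - rk hs u a)) := by
    refine ⟨r * (r * (w * w)) * ∏ l, γ l, mul_ne_zero (mul_ne_zero hr (mul_ne_zero hr (mul_ne_zero hw hw)))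
      (Finset.prod_ne_zero_iff.2 fun l _ => hγ0 l), ?_⟩
    convert h2 using 1
    rw [hGs, hGs]
    simp only [hG]
    rw [sub_eq_add_neg (rk hs a u), wm_update_add, ← neg_one_smul F (rk hs u a), wm_update_smul]
    module
  have hGG : ∀ S T, G S * G T = 0 := fun S T => by
    rw [hG]
    exact wm_mul_zero _ _ (l := k) (by simp [Function.update_of_ne hjk.symm, AA haa])
  obtain ⟨g, hg, hgx⟩ := hs.exists_sieg hT.two haa (show h e a = 0 from he.2)
  have h4 := h3.conj (hM.pe_mem (hT.pe_sieg (i := j) hgx haa (show h e a = 0 from he.2)))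
  rw [Matrix.mul_smul, Matrix.smul_mul, hG, wm_conj _ _ _ _ (by rw [← Units.val_mul, mul_inv_cancel, Units.val_one]),
    Function.update_self, Function.update_idem, mul_sub, sub_mul, rk_conj hs hg, rk_conj hs hg, hgx, hgx, hua, haa,
    hs.symm u e, hs.symm a e, (show h e u = 0 from he.1), (show h e a = 0 from he.2)] at h4
  have h5 := h4.add (h3.neg (by rw [Matrix.smul_mul, Matrix.mul_smul, hGG, smul_zero, smul_zero]))
    (by rw [hG, mul_neg, Matrix.smul_mul, Matrix.mul_smul, wm_mul_zero _ _ (l := k)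
      (by simp [Function.update_of_ne hjk.symm, AA haa]), smul_zero, smul_zero, neg_zero])
  have h6 : Un M ((-s) • G (rk hs e a - rk hs a e)) := by
    convert h5 using 1
    rw [hG, ← sub_eq_add_neg, ← smul_sub, neg_smul, ← smul_neg]
    congr 1
    rw [eq_sub_iff_add_eq, ← neg_one_smul F (wm _ _), ← wm_update_smul, ← wm_update_add]
    refine congrArg (fun T => wm 1 (Function.update _ j T)) ?_
    simp only [zero_smul, one_smul, sub_zero, mul_zero, mul_one, add_zero, sub_eq_add_neg, neg_zero, ← neg_smul, rk_add_left,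
      rk_add_right, rk_smul_left, rk_smul_right]
    module
  rw [hG] at h6
  obtain ⟨l, hlj, hlk⟩ : ∃ l, l ≠ j ∧ l ≠ k := by
    by_contra hc
    push Not at hc
    have h7 := Finset.card_le_card (show (Finset.univ : Finset κ) ⊆ {j, k} from fun l _ => by
      rw [Finset.mem_insert, Finset.mem_singleton]
      exact or_iff_not_imp_left.2 (hc l))
    rw [Finset.card_univ, Finset.card_pair hjk] at h7
    omega
  refine hM.no_two haa huu hua (neg_ne_zero.2 hs') (fun q => ?_) hlk ?_ ?_ h6
  · by_cases e0 : q = j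
    · subst e0; rw [Function.update_self]; exact Or.inr ⟨e, he, hee, rfl⟩
    · rw [Function.update_of_ne e0]; exact Or.inl rfl
  · rw [Function.update_of_ne hlj]
  · rw [Function.update_of_ne hjk.symm]

end pairs

/-- Two factors: the split group is an overgroup of two tensor factors. -/
theorem ovr_two (h2κ : Fintype.card κ = 2) (i : κ) :
    Ovr (tf (κ := Rst i) c h) h (tfs c h i) ((GT c h).map (sp i).toMonoidHom) (Mi M i) := by
  classical
  have hT := hM.data
  have hcr := card_rst_one i
  obtain ⟨j, hj⟩ := Fintype.card_eq_one_iff.1 (show Fintype.card (Rst i) = 1 by omega)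
  have hcard : Fintype.card (Rst i → β) = Fintype.card β := by
    rw [Fintype.card_fun, show Fintype.card (Rst i) = 1 by omega, pow_one]
  exact
    { two := hT.two
      hA := hT.sym
      hB := hT.hh
      hV := hT.sym_tfs i
      ten := fun x x' y y' => hT.tfs_tmul i x x' y y'
      sq := fun g hg => by
        obtain ⟨g₀, rfl⟩ := (sp i).surjective g
        exact ⟨g₀ * g₀, hT.sq_mem ((hT.sp_iso i).1 hg), map_mul _ _ _⟩
      gIso := by
        rintro _ ⟨g, hg, rfl⟩
        exact (hT.sp_iso i).2 (hT.gt_le_iso hg)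
      le := Subgroup.map_mono hM.le
      mem := by
        rintro _ ⟨g, hg, rfl⟩ hk
        obtain ⟨A, B, hAB⟩ := isKron_iff.1 hk
        exact mem_Mi.2 (hM.mem ⟨mem_Wr_of_sp hAB (one_of_subsingleton hj A), hg⟩)
      ha := by rw [hcard]; exact hT.three
      hb := hT.three
      hB4 := hT.four
      hex := by rw [hcard]; exact hM.hex }

/-- Two factors: a root element gives everything. -/
theorem noRoot_two (h2κ : Fintype.card κ = 2) (i : κ) : NoRoot h (Mi M i) := by
  classical
  by_contra hN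
  have hT := hM.data
  haveI := hM.nontrivial
  have hcr := card_rst_one i
  have hcard : Fintype.card (Rst i → β) = Fintype.card β := by
    rw [Fintype.card_fun, show Fintype.card (Rst i) = 1 by omega, pow_one]
  have hO := hM.ovr_two h2κ i
  refine hM.proper fun g hg => ?_
  have hfull : ⁅iso (tfs c h i), iso (tfs c h i)⁆ ≤ Mi M i :=
    comm_le_of_full (hT.sym_tfs i) hT.two (by rw [Fintype.card_prod, hcard]; have := hT.three; nlinarith)
      fun v hv => hO.full hN (fun h4 => hT.four_single (by omega) (hcard ▸ h4))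
        (fun h3 => hcard.trans h3) hv
  have h1 : (GT (κ := κ) c h).map (sp i).toMonoidHom ≤ ⁅iso (tfs c h i), iso (tfs c h i)⁆ := by
    rw [GT, Subgroup.map_commutator]
    refine Subgroup.commutator_mono ?_ ?_ <;>
    · rintro _ ⟨a, ha, rfl⟩
      exact (hT.sp_iso i).2 ha
  exact mem_Mi.1 (hfull (h1 ⟨g, hg, rfl⟩))

/-- No root element supported on one singular line of a factor. -/
theorem noRoot (i : κ) : NoRoot h (Mi M i) := by
  classical
  by_cases h2κ : Fintype.card κ = 2
  · exact hM.noRoot_two h2κ i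
  have h3κ : 3 ≤ Fintype.card κ := by have := hM.ht; omega
  intro z hz hz0 D hD x
  by_contra hDx
  have hT := hM.data
  have hs := hT.hh
  obtain ⟨u, huu, huz⟩ := hs.exists_partner hT.two hz hz0
  obtain ⟨A, hA⟩ : ∃ A, A = rk hs z z := ⟨_, rfl⟩
  have hAA : A * A = 0 := hA ▸ AA hz
  obtain ⟨D₀, hD₀⟩ : ∃ D₀, D₀ = LinearMap.toMatrix' D := ⟨_, rfl⟩
  have hU : Un M (kx i D₀ A) := by
    obtain ⟨_, ⟨g, hg, rfl⟩, hgx⟩ := hD
    refine ⟨g, hg, rX_inj i ?_⟩
    rw [rX_add, rX_one, rX_kx]
    refine Matrix.ext_iff_mulVec.2 fun t => ?_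
    refine LinearMap.congr_fun (f := Matrix.toLin' (rX i (g : Mn)))
      (g := Matrix.toLin' (1 + D₀ ⊗ₖ A)) (ext_pure fun a b => ?_) t
    rw [Matrix.toLin'_apply, Matrix.toLin'_apply, Matrix.add_mulVec, Matrix.one_mulVec, kronecker_mulVec, hD₀,
      LinearMap.toMatrix'_mulVec, hA, rk_mulVec]
    refine (hgx (tmul a b)).trans ?_
    rw [rootMap_apply, slice_tmul, fn_dot hs.sesq, map_smul, tmul_smul_left, tmul_smul_right]
  by_cases hsc : ∃ r : F, D₀ = r • 1
  · obtain ⟨r, hr⟩ := hsc
    have hr0 : r ≠ 0 := fun e => hDx (by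
      rw [← LinearMap.toMatrix'_mulVec, ← hD₀, hr, e, zero_smul, Matrix.zero_mulVec])
    rw [hr, kx_smul, kx_one, et] at hU
    refine hM.no_self_adj hz huu huz hr0 (gs := Function.update (1 : κ → Mb) i A) (fun l => ?_) ⟨i, ?_⟩ hU
    · by_cases e : l = i
      · subst e; exact Or.inr (by rw [Function.update_self, hA])
      · exact Or.inl (by rw [Function.update_of_ne e]; rfl)
    · rw [Function.update_self, hA]
  have hns : NonSc D₀ := fun r e => hsc ⟨r, e⟩
  let P : AddSubgroup (Matrix (Rst i → β) (Rst i → β) F) :=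
    { carrier := {E | Un M (kx i E A)}
      zero_mem' := by
        show Un M (kx i 0 A)
        rw [show kx i (0 : Matrix (Rst i → β) (Rst i → β) F) A = 0 by
          simpa using kx_smul i (0 : F) (0 : Matrix (Rst i → β) (Rst i → β) F) A]
        exact un_zero
      add_mem' := fun {E E'} hE hE' => by
        show Un M (kx i (E + E') A)
        rw [kx_add]
        exact Un.add hE hE' (by rw [kx_mul, hAA, kx_zero])
      neg_mem' := fun {E} hE => by
        show Un M (kx i (-E) A)
        rw [← neg_one_smul F E, kx_smul, neg_one_smul]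
        exact Un.neg hE (by rw [kx_mul, hAA, kx_zero]) }
  have hP : SlotInv c h P :=
    { refl := fun hev l v hv B hB hBx E hE => by
        show Un M (kx i _ A)
        rw [kx_conj]
        exact Un.conj hE (hM.pe_mem (hT.refl_mem hev h3κ l.1 hv hB hBx))
      conj := fun l B _ hB E hE => by
        show Un M (kx i _ A)
        rw [kx_conj]
        have h1 : pe l.1 B ∈ GT c h := by
          have := hT.emb_GT hB
          rwa [emb_pe] at this
        exact Un.conj hE (hM.pe_mem h1)
      sc := fun r E hE => by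
        show Un M (kx i _ A)
        rcases eq_or_ne r 0 with rfl | hr
        · rw [kx_smul]; simp only [mul_zero, zero_smul]; exact un_zero
        obtain ⟨B, hB, hBz, -, -, hGB, -⟩ := hT.exists_torus i hz huu huz (mul_ne_zero hr hr)
        have hBG : pe i B ∈ GT c h := hGB (Or.inr ⟨r, rfl⟩)
        have h1 := Un.conj hE (hM.pe_mem hBG)
        rw [kx_conj_self, hA, rk_conj hs hB, hBz, rk_smul_left, rk_smul_right, smul_smul, kx_smul', ← hA,
          ← mul_assoc, ← kx_smul] at h1
        exact h1 }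
  obtain ⟨r, gsR, hr, hk, ⟨l, hl⟩, hmem⟩ := hT.pattern hM.hex (by have := card_rst_one i; omega) hP hz huu huz (show D₀ ∈ P from hU) hns
  obtain ⟨gs, hgs⟩ : ∃ gs : κ → Mb,
      gs = fun m => if hm : m = i then A else LinearMap.toMatrix' (gsR ⟨m, hm⟩) := ⟨_, rfl⟩
  have hmi : gs i = A := by rw [hgs]; exact dif_pos rfl
  have hU' : Un M (r • wm 1 gs) := by
    have h1 : Un M (kx i (r • wm 1 fun m : Rst i => LinearMap.toMatrix' (gsR m)) A) := hmem
    rw [kx_smul, show (fun m : Rst i => LinearMap.toMatrix' (gsR m)) = fun m : Rst i => gs m.1 from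
      funext fun m => by simp only [hgs, dif_neg m.2], ← hmi, kx_wm] at h1
    exact h1
  refine hM.no_pure hz huu huz h3κ hr (fun m => ?_) (j := i) (k := l.1) (fun e => l.2 e.symm) (hmi.trans hA) ?_ hU'
  · rw [hgs]
    by_cases hm : m = i
    · exact Or.inr (Or.inl ((dif_pos hm).trans hA))
    · simp only [dif_neg hm]; exact knd_of_kind (hk _)
  · rw [hgs]
    simp only [dif_neg l.2]
    exact fun e => hl (LinearMap.toMatrix'.injective (e.trans LinearMap.toMatrix'_id.symm))

end Px

end Cfsg.Agent.Classical.TensorPowOrth
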