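import Cfsg.Agent.Lib.Classical.TensorPowOrth.Sl

/-!
Lines and totally singular planes of tensors in an overgroup with scalar coefficients.
-/

set_option autoImplicit false
set_option linter.unusedSectionVars false

open scoped Kronecker

namespace Cfsg.Agent.Classical.TensorPowOrth

open Matrix Module MaxTv TensorMax Overfield
open Cfsg.Agent.Classical.TensorOrth (Sym NdOn iso sl IsEich Rad NoRoot TSP ext_pure ext_kron cj neg_tmul tmul_neg
  slice_lslice scalar_of_lines mem_of_cube)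
open Cfsg.Agent.Classical.TensorRoot (kg kg_apply kg_isKron)

variable {F : Type*} [Field F] [Fintype F] {α β : Type} [Fintype α] [DecidableEq α] [Fintype β] [DecidableEq β]

local notation "V" => (α × β → F)
local notation "Mn" => Matrix (α × β) (α × β) F
local notation "Ma" => Matrix α α F
local notation "Mb" => Matrix β β F
local notation "Ea" => ((α → F) →ₗ[F] (α → F))

/-- A product which together with a radical element is a member is itself a member. -/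
def Kmem (fB : (β → F) → (β → F) → F) (G M : Subgroup (GL (α × β) F)) : Prop :=
  ∀ k ∈ G, IsKron k → ∀ r ∈ G, ∀ z : β → F, fB z z = 0 → z ≠ 0 → Rad fB r z → k * r ∈ M → k ∈ M

variable {fA : (α → F) → (α → F) → F} {fB : (β → F) → (β → F) → F}
  {f : (α × β → F) → (α × β → F) → F} {G M : Subgroup (GL (α × β) F)}

variable (hO : Sl fA fB f G M)
include hO

theorem Sl.five_of_tsp {z₁ z₂ : β → F} (p : TSP fB z₁ z₂) : 5 ≤ Fintype.card β := by
  by_contra h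
  by_cases h4 : Fintype.card β = 4
  · exact hO.hB4 h4 _ _ p
  have hs := hO.hB
  obtain ⟨u₁, u₂, e1, e2, e12, a11, a12, a21, a22⟩ := p.dual hs hO.two
  have hli : LinearIndependent F ![z₁, z₂, u₁, u₂] := by
    refine Fintype.linearIndependent_iff.2 fun g hg i => ?_
    rw [Fin.sum_univ_four] at hg
    have k0 := congrArg (fun v => fB v u₁) hg
    have k1 := congrArg (fun v => fB v u₂) hg
    have k2 := congrArg (fun v => fB v z₁) hg
    have k3 := congrArg (fun v => fB v z₂) hg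
    simp only [Matrix.cons_val_zero, Matrix.cons_val_one, Matrix.cons_val, hs.add_left, hs.smul_left,
      hs.zero_left, p.iso₁, p.iso₂, p.orth, hs.symm z₂ z₁, e1, e2, e12, hs.symm u₂ u₁, a11, a12, a21, a22,
      hs.symm z₁ u₁, hs.symm z₁ u₂, hs.symm z₂ u₁, hs.symm z₂ u₂, mul_zero, mul_one, add_zero, zero_add] at k0 k1 k2 k3
    fin_cases i <;> assumption
  have := hli.fintype_card_le_finrank
  rw [Fintype.card_fin, Module.finrank_fintype_fun_eq_card] at this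
  omega

/-- A vector orthogonal to a plane and its dual, of non-zero value. -/
theorem Sl.exists_perp_plane {z₁ z₂ u₁ u₂ : β → F} (p : TSP fB z₁ z₂) (e1 : fB u₁ u₁ = 0) (e2 : fB u₂ u₂ = 0)
    (e12 : fB u₁ u₂ = 0) (a11 : fB u₁ z₁ = 1) (a12 : fB u₁ z₂ = 0) (a21 : fB u₂ z₁ = 0) (a22 : fB u₂ z₂ = 1) :
    ∃ w, fB w z₁ = 0 ∧ fB w z₂ = 0 ∧ fB w w ≠ 0 := by
  have hs := hO.hB
  obtain ⟨W, hW⟩ : ∃ W, W = hs.perp2 u₁ z₁ ⊓ LinearMap.ker (hs.lin u₂) ⊓ LinearMap.ker (hs.lin z₂) := ⟨_, rfl⟩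
  have hd : Fintype.card β ≤ finrank F W + 4 := by
    have h1 := hs.finrank_perp2 u₁ z₁
    have h3 := finrank_le_inf_ker_add_one (hs.perp2 u₁ z₁) (hs.lin u₂)
    have h4 := finrank_le_inf_ker_add_one (hs.perp2 u₁ z₁ ⊓ LinearMap.ker (hs.lin u₂)) (hs.lin z₂)
    rw [hW]; omega
  have hnd : NdOn fB W := by
    intro w hw hw0
    rw [hW] at hw
    obtain ⟨⟨⟨hw1, hw2⟩, hw3⟩, hw4⟩ := hw
    change fB w u₁ = 0 at hw1
    change fB w z₁ = 0 at hw2
    change fB w u₂ = 0 at hw3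
    change fB w z₂ = 0 at hw4
    obtain ⟨y, hy⟩ := hs.sesq.exists_left hw0
    refine ⟨y - fB y z₁ • u₁ - fB y u₁ • z₁ - fB y z₂ • u₂ - fB y u₂ • z₂, ?_, ?_⟩
    · rw [hW]
      refine ⟨⟨⟨?_, ?_⟩, ?_⟩, ?_⟩
      · show fB _ u₁ = 0
        simp only [hs.sub_left, hs.smul_left, e1, hs.symm z₁ u₁, a11, hs.symm u₂ u₁, e12, hs.symm z₂ u₁, a12]; ring
      · show fB _ z₁ = 0
        simp only [hs.sub_left, hs.smul_left, a11, p.iso₁, a21, hs.symm z₂ z₁, p.orth]; ring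
      · show fB _ u₂ = 0
        simp only [hs.sub_left, hs.smul_left, e12, hs.symm z₁ u₂, a21, e2, hs.symm z₂ u₂, a22]; ring
      · show fB _ z₂ = 0
        simp only [hs.sub_left, hs.smul_left, a12, p.orth, a22, p.iso₂]; ring
    · simp only [hs.sub_right, hs.smul_right, hw1, hw2, hw3, hw4, mul_zero, sub_zero]
      rwa [hs.symm]
  obtain ⟨w, hw, hww⟩ := hs.exists_aniso hO.two hnd (Submodule.exists_mem_ne_zero_of_ne_bot fun h => by
    have := hO.five_of_tsp p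
    rw [h, finrank_bot] at hd; omega)
  rw [hW] at hw
  exact ⟨w, hw.1.1.2, hw.2, hww⟩

/-- A plane through a given singular vector. -/
theorem Sl.exists_plane (h5 : 5 ≤ Fintype.card β) {z : β → F} (hz : fB z z = 0) (hz0 : z ≠ 0) : ∃ z', TSP fB z z' := by
  have hs := hO.hB
  obtain ⟨u, huu, hu⟩ := hs.exists_partner hO.two hz hz0
  obtain ⟨b, hb, hb0, hbb⟩ := hs.exists_iso_in hO.two (hs.ndOn_perp2 huu hz hu)
    (by have := hs.finrank_perp2 u z; omega)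
  refine ⟨b, hz, hbb, by rw [hs.symm]; exact hb.2, fun s t h => ?_⟩
  have h1 := congrArg (fun v => fB v u) h
  simp only [hs.add_left, hs.smul_left, hs.zero_left, hs.symm z u, hu, (show fB b u = 0 from hb.1)] at h1
  obtain rfl : s = 0 := by linear_combination h1
  rw [zero_smul, zero_add] at h
  exact ⟨rfl, (smul_eq_zero.1 h).resolve_right hb0⟩

/-- Two vectors spanning a plane give an injective pair of insertions. -/
theorem Sl.coprod_injective {z₁ z₂ : β → F} (p : TSP fB z₁ z₂) :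
    Function.Injective ((fac (α := α) z₁).coprod (fac z₂)) := by
  have hs := hO.hB
  obtain ⟨u₁, u₂, -, -, -, a11, a12, a21, a22⟩ := p.dual hs hO.two
  refine (injective_iff_map_eq_zero _).2 fun s hs' => ?_
  have h1 : tmul s.1 z₁ + tmul s.2 z₂ = 0 := hs'
  have k1 := congrArg (sl fB u₁) h1
  have k2 := congrArg (sl fB u₂) h1
  simp only [map_add, hO.sl_tmul, hs.symm z₁ u₁, a11, hs.symm z₂ u₁, a12, hs.symm z₁ u₂, a21, hs.symm z₂ u₂,
    a22, one_smul, zero_smul, add_zero, zero_add, map_zero] at k1 k2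
  exact Prod.ext k1 k2

variable (hN : NoRoot fB M) (hSc : Scal fB M) (hKm : Kmem fB G M)
include hN hSc hKm

/-- A member which is of product shape up to a radical element is of product shape. -/
theorem Sl.kron_fin {g k h : GL (α × β) F} {z : β → F} (hg : g ∈ M) (hkk : IsKron k) (hhG : h ∈ G)
    (hz : fB z z = 0) (hz0 : z ≠ 0) (hR : Rad fB h z) (e : k * h = g) : IsKron g := by
  have hkG : k ∈ G := by
    rw [show k = g * h⁻¹ by rw [← e, mul_inv_cancel_right]]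
    exact mul_mem (hO.le hg) (inv_mem hhG)
  have hkM : k ∈ M := hKm k hkG hkk h hhG z hz hz0 hR (e ▸ hg)
  have hhM : h ∈ M := by
    rw [show h = k⁻¹ * g by rw [← e, inv_mul_cancel_left]]
    exact mul_mem (inv_mem hkM) hg
  rw [← e]
  exact IsKron.mul hkk (hO.rad_eich hN hSc hR hhM hz hz0).1

/-- A line of tensors mapped to a line: product shape. -/
theorem Sl.line_kron' {M' : Subgroup (GL (α × β) F)} (hO' : Sl fA fB f G M') {g : GL (α × β) F}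
    (hgi : g ∈ iso f) (hback : ∀ y ∈ M', g⁻¹ * y * g ∈ M)
    (hfin : ∀ (k h : GL (α × β) F) (z : β → F), IsKron k → k ∈ iso f → h ∈ G → fB z z = 0 → z ≠ 0 →
      Rad fB h z → k * h = g → IsKron g)
    {z v : β → F} (hz : fB z z = 0) (hz0 : z ≠ 0)
    (hline : ∀ x, ∃ x', (g : Mn) *ᵥ tmul x z = tmul x' v) : IsKron g := by
  classical
  have hA := hO.hA
  have hs := hO.hB
  obtain ⟨i⟩ := hO.nonempty
  have hne : ∀ x : α → F, x ≠ 0 → (g : Mn) *ᵥ tmul x z ≠ 0 := fun x hx e => tmul_ne_zero hx hz0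
    (gl_mulVec_injective g (e.trans (Matrix.mulVec_zero _).symm))
  choose G₀ hG₀ using hline
  have hv0 : v ≠ 0 := fun e => hne (Pi.single i 1) (by simp) (by rw [hG₀, e, tmul_zero_right])
  have hvv : fB v v = 0 := by
    obtain ⟨a₁, a₂, -, -, ha⟩ := hA.exists_hyp hO.two hO.ha
    by_contra hvv
    have hsurj : Function.Surjective G₀ := Finite.injective_iff_surjective.1 fun a b e =>
      fac_injective hz0 (gl_mulVec_injective g (by
        show (g : Mn) *ᵥ tmul a z = (g : Mn) *ᵥ tmul b z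
        rw [hG₀, hG₀, e]))
    obtain ⟨x, hx⟩ := hsurj a₂
    obtain ⟨x', hx'⟩ := hsurj a₁
    have := hgi (tmul x z) (tmul x' z)
    rw [hG₀, hG₀, hO.ten, hO.ten, hz, mul_zero, hx, hx', ha, one_mul] at this
    exact hvv this
  obtain ⟨u, huu, hu⟩ := hs.exists_partner hO.two hz hz0
  have hzu : fB z u = 1 := by rw [hs.symm, hu]
  obtain ⟨u', huu', hu'⟩ := hs.exists_partner hO.two hvv hv0
  have hvu' : fB v u' = 1 := by rw [hs.symm, hu']
  have hψ : fn fB u' ⬝ᵥ v = 1 := by rw [fn_dot hs.sesq, hvu']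
  have hψ' : fn fB u ⬝ᵥ z = 1 := by rw [fn_dot hs.sesq, hzu]
  obtain ⟨Gm, hGx⟩ := exists_gl_of_injective ((slice (fn fB u')).comp ((Matrix.toLin' (g : Mn)).comp (fac z)))
    fun a b hab => fac_injective hz0 (gl_mulVec_injective g (by
      simp only [LinearMap.comp_apply, Matrix.toLin'_apply, fac_apply, hG₀, slice_tmul, hψ, one_smul] at hab
      show (g : Mn) *ᵥ tmul a z = (g : Mn) *ᵥ tmul b z
      rw [hG₀, hG₀, hab]))
  have hG : ∀ x, (g : Mn) *ᵥ tmul x z = tmul ((Gm : Ma) *ᵥ x) v := fun x => by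
    rw [hGx, LinearMap.comp_apply, LinearMap.comp_apply, fac_apply, Matrix.toLin'_apply, hG₀, slice_tmul, hψ,
      one_smul]
  have hslv : ∀ t x, fA (sl fB v ((g : Mn) *ᵥ t)) ((Gm : Ma) *ᵥ x) = fA (sl fB z t) x := fun t x => by
    rw [← hO.f_sl, ← hG, hgi, hO.f_sl]
  have hsl0 : ∀ t, sl fB z t = 0 → sl fB v ((g : Mn) *ᵥ t) = 0 := fun t ht => hA.eq_of_forall fun y => by
    obtain ⟨x, rfl⟩ : ∃ x, (Gm : Ma) *ᵥ x = y := ⟨_, mulVec_inv_cancel Gm y⟩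
    rw [hslv, ht, hA.zero_left, hA.zero_left]
  -- the middle part
  have hmidscal : ∀ y', fB y' v = 0 → ∃ y, ∀ x w, fB w z = 0 →
      sl fB y' ((g : Mn) *ᵥ tmul x w) = fB w y • (Gm : Ma) *ᵥ x := by
    intro y' hy'
    obtain ⟨e', he', -, hex'⟩ := hO'.exists_eichB hvv hy'
    obtain ⟨k, hk⟩ : ∃ k, k = g⁻¹ * e' * g := ⟨_, rfl⟩
    have hkM : k ∈ M := hk ▸ hback e' he'
    have hkx : ∀ t, (k : Mn) *ᵥ t = ((g⁻¹ : GL (α × β) F) : Mn) *ᵥ ((e' : Mn) *ᵥ ((g : Mn) *ᵥ t)) := fun t => by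
      rw [hk, Units.val_mul, Units.val_mul, ← Matrix.mulVec_mulVec, ← Matrix.mulVec_mulVec]
    have hgi : ∀ X, ((g⁻¹ : GL (α × β) F) : Mn) *ᵥ tmul X v = tmul (((Gm⁻¹ : GL α F) : Ma) *ᵥ X) z := fun X =>
      gl_mulVec_injective g (by
        show (g : Mn) *ᵥ _ = (g : Mn) *ᵥ _
        rw [mulVec_inv_cancel, hG, mulVec_inv_cancel])
    have hperp : ∀ t, sl fB z t = 0 →
        (k : Mn) *ᵥ t = t - tmul (((Gm⁻¹ : GL α F) : Ma) *ᵥ sl fB y' ((g : Mn) *ᵥ t)) z := fun t ht => by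
      rw [hkx, hO.eich_perp hex' (hsl0 t ht), Matrix.mulVec_sub, inv_mulVec_cancel, hgi]
    have hR : Rad fB k z := by
      refine ⟨fun x => ?_, fun t ht => ⟨-(((Gm⁻¹ : GL α F) : Ma) *ᵥ sl fB y' ((g : Mn) *ᵥ t)), ?_⟩⟩
      · rw [hkx, hG, hO.eich_fix_tmul hex' hvv (by rw [hs.symm, hy']), ← hG, inv_mulVec_cancel]
      · rw [hperp t ht, neg_tmul]; abel
    obtain ⟨-, y, -, hy⟩ := hO.rad_eich hN hSc hR hkM hz hz0
    refine ⟨y, fun x w hw => ?_⟩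
    have ht : sl fB z (tmul x w) = 0 := by rw [hO.sl_tmul, hw, zero_smul]
    have h1 := hperp _ ht
    rw [hO.eich_perp hy ht, sub_right_inj, hO.sl_tmul] at h1
    have h3 := congrArg (fun a => (Gm : Ma) *ᵥ a) (fac_injective hz0 h1)
    simp only [mulVec_inv_cancel, Matrix.mulVec_smul] at h3
    exact h3.symm
  obtain ⟨x₀, hx₀⟩ : ∃ x₀ : α → F, (Gm : Ma) *ᵥ x₀ ≠ 0 := ⟨Pi.single i 1, fun h0 => by
    have := gl_mulVec_injective Gm (h0.trans (Matrix.mulVec_zero _).symm)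
    simpa using congrFun this i⟩
  obtain ⟨ξ, hξ⟩ := exists_dual hx₀
  let K : (β → F) →ₗ[F] (β → F) :=
    { toFun := fun w => lslice ξ ((g : Mn) *ᵥ tmul x₀ w)
      map_add' := fun a b => by rw [tmul_add_right, Matrix.mulVec_add, map_add]
      map_smul' := fun c a => by rw [tmul_smul_right, Matrix.mulVec_smul, map_smul, RingHom.id_apply] }
  have hKv : ∀ w, fB w z = 0 → fB (K w) v = 0 := fun w hw => by
    rw [← fn_dot hs.sesq]
    show fn fB v ⬝ᵥ lslice ξ _ = 0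
    rw [slice_lslice]
    show ξ ⬝ᵥ sl fB v _ = 0
    rw [hsl0 _ (by rw [hO.sl_tmul, hw, zero_smul]), dotProduct_zero]
  have hmid : ∀ x w, fB w z = 0 →
      ∃ X, (g : Mn) *ᵥ tmul x w - tmul ((Gm : Ma) *ᵥ x) (K w) = tmul X v := fun x w hw => by
    refine ⟨_, eq_tmul_of_slices hψ fun φ hφ => ?_⟩
    obtain ⟨y', rfl⟩ := fn_surjective hs.sesq φ
    rw [fn_dot hs.sesq, hs.symm] at hφ
    obtain ⟨y, hy⟩ := hmidscal y' hφ
    have hK : fn fB y' ⬝ᵥ K w = fB w y := by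
      show fn fB y' ⬝ᵥ lslice ξ _ = _
      rw [slice_lslice]
      show ξ ⬝ᵥ sl fB y' _ = _
      rw [hy x₀ w hw, dotProduct_smul, hξ, smul_eq_mul, mul_one]
    rw [map_sub, slice_tmul, hK]
    show sl fB y' _ - _ = 0
    rw [hy x w hw, sub_self]
  have hmid_iso : ∀ x x' w w', fB w z = 0 → fB w' z = 0 →
      fA ((Gm : Ma) *ᵥ x) ((Gm : Ma) *ᵥ x') * fB (K w) (K w') = fA x x' * fB w w' := fun x x' w w' hw hw' => by
    obtain ⟨X, hX⟩ := hmid x w hw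
    obtain ⟨X', hX'⟩ := hmid x' w' hw'
    have := hgi (tmul x w) (tmul x' w')
    rw [eq_add_of_sub_eq hX, eq_add_of_sub_eq hX', hO.ten, hO.hV.add_left, hO.hV.add_right, hO.hV.add_right,
      hO.ten, hO.ten, hO.ten, hO.ten, hvv, hKv w hw, hs.symm v (K w'), hKv w' hw', mul_zero, mul_zero, mul_zero,
      zero_add, zero_add] at this
    simpa using this
  obtain ⟨w₁, hw₁, hn₁⟩ := hs.exists_aniso hO.two (hs.ndOn_perp2 huu hz hu)
    (Submodule.exists_mem_ne_zero_of_ne_bot fun h => by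
      have := hs.finrank_perp2 u z; have := hO.hb; rw [h, finrank_bot] at *; omega)
  have hw₁z : fB w₁ z = 0 := hw₁.2
  obtain ⟨a₁, a₂, -, -, ha₁₂⟩ := hA.exists_hyp hO.two hO.ha
  have hk₁ : fB (K w₁) (K w₁) ≠ 0 := fun h0 => hn₁ (by
    have := hmid_iso a₂ a₁ w₁ w₁ hw₁z hw₁z
    rw [h0, mul_zero, ha₁₂, one_mul] at this
    exact this.symm)
  obtain ⟨μ, hμ⟩ : ∃ μ, μ = fB w₁ w₁ / fB (K w₁) (K w₁) := ⟨_, rfl⟩
  have hμ0 : μ ≠ 0 := hμ ▸ div_ne_zero hn₁ hk₁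
  have hGiso : ∀ x x', fA ((Gm : Ma) *ᵥ x) ((Gm : Ma) *ᵥ x') = μ * fA x x' := fun x x' => by
    rw [hμ, div_mul_eq_mul_div, eq_div_iff hk₁, hmid_iso x x' w₁ w₁ hw₁z hw₁z, mul_comm]
  have hKiso : ∀ w w', fB w z = 0 → fB w' z = 0 → μ * fB (K w) (K w') = fB w w' := fun w w' hw hw' => by
    have := hmid_iso a₂ a₁ w w' hw hw'
    rwa [hGiso, ha₁₂, mul_one, one_mul] at this
  -- the second factor
  let pp : (β → F) →ₗ[F] (β → F) := LinearMap.id - (hs.lin z).smulRight u - (hs.lin u).smulRight z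
  have hpp : ∀ y, pp y = y - fB y z • u - fB y u • z := fun y => rfl
  have hppz : ∀ y, fB (pp y) z = 0 := fun y => by
    rw [hpp, hs.sub_left, hs.sub_left, hs.smul_left, hs.smul_left, hu, hz]; ring
  have hppu : ∀ y, fB (pp y) u = 0 := fun y => by
    rw [hpp, hs.sub_left, hs.sub_left, hs.smul_left, hs.smul_left, huu, hzu]; ring
  let R : (β → F) →ₗ[F] (β → F) := K.comp pp - ((hs.lin u').comp (K.comp pp)).smulRight v
  have hR : ∀ y, R y = K (pp y) - fB (K (pp y)) u' • v := fun y => rfl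
  have hRv : ∀ y, fB (R y) v = 0 := fun y => by
    rw [hR, hs.sub_left, hs.smul_left, hvv, hKv _ (hppz y), mul_zero, sub_zero]
  have hRu : ∀ y, fB (R y) u' = 0 := fun y => by
    rw [hR, hs.sub_left, hs.smul_left, hvu', mul_one, sub_self]
  have hRR : ∀ y y', μ * fB (R y) (R y') = fB (pp y) (pp y') := fun y y' => by
    rw [← hKiso _ _ (hppz y) (hppz y'), hR, hR]
    simp only [hs.sub_left, hs.sub_right, hs.smul_left, hs.smul_right, hvv, hKv _ (hppz y), hs.symm v (K (pp y')),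
      hKv _ (hppz y'), mul_zero, sub_zero]
  let BL : (β → F) →ₗ[F] (β → F) :=
    (hs.lin z).smulRight (μ⁻¹ • u') + (hs.lin u).smulRight v + R
  have hBL : ∀ y, BL y = fB y z • μ⁻¹ • u' + fB y u • v + R y := fun y => rfl
  have hBiso : ∀ y y', fB (BL y) (BL y') = μ⁻¹ * fB y y' := fun y y' => by
    have e : ∀ y, y = fB y z • u + fB y u • z + pp y := fun y => by rw [hpp]; abel
    conv_rhs => rw [e y, e y']
    rw [hBL, hBL]
    simp only [hs.add_left, hs.add_right, hs.smul_left, hs.smul_right, huu', hvv, hu', hvu', hu, hzu, huu, hz,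
      hppz, hppu, hs.symm z (pp y'), hs.symm u (pp y'), hRv, hRu, hs.symm v (R y'), hs.symm u' (R y'),
      ← hRR, mul_zero, mul_one, add_zero, zero_add]
    field_simp
  obtain ⟨B, hB⟩ := exists_gl_of_injective BL fun a b hab => hs.eq_of_forall fun y => by
    have h1 := hBiso a y
    rw [hab, hBiso] at h1
    exact (mul_left_cancel₀ (inv_ne_zero hμ0) h1).symm
  obtain ⟨k, hk⟩ : ∃ k, k = kg Gm B := ⟨_, rfl⟩
  have hkiso : k ∈ iso f :=
    hk ▸ hO.kg_iso (mul_inv_cancel₀ hμ0) hGiso (fun y y' => by rw [hB, hB, hBiso])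
  have hBz : BL z = v := by
    rw [hBL, hz, hzu, hR, show pp z = 0 by rw [hpp, hz, hzu]; simp, map_zero, hs.zero_left]
    simp
  have hkz : ∀ x, (k : Mn) *ᵥ tmul x z = tmul ((Gm : Ma) *ᵥ x) v := fun x => by
    rw [hk, kg_apply, hB, hBz]
  have hkmid : ∀ x y, fB y z = 0 → ∃ X, (g : Mn) *ᵥ tmul x y - (k : Mn) *ᵥ tmul x y = tmul X v := fun x y hy => by
    obtain ⟨X, hX⟩ := hmid x (pp y) (hppz y)
    have ey : y = fB y u • z + pp y := by rw [hpp, hy]; simp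
    refine ⟨X + fB (K (pp y)) u' • (Gm : Ma) *ᵥ x, ?_⟩
    rw [hk, kg_apply, hB, hBL, hy, hR]
    conv_lhs => arg 1; rw [ey, tmul_add_right, tmul_smul_right, Matrix.mulVec_add, Matrix.mulVec_smul, hG,
      eq_add_of_sub_eq hX]
    simp only [zero_smul, zero_add, tmul_add_right, tmul_sub_right, tmul_smul_right, tmul_smul_left, tmul_add_left]
    module
  obtain ⟨h, hh⟩ : ∃ h, h = k⁻¹ * g := ⟨_, rfl⟩
  have hhfix : ∀ x, (h : Mn) *ᵥ tmul x z = tmul x z := fun x => by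
    rw [hh, Units.val_mul, ← Matrix.mulVec_mulVec, hG, ← hkz, inv_mulVec_cancel]
  have hkiz : ∀ X, ∃ X', ((k⁻¹ : GL (α × β) F) : Mn) *ᵥ tmul X v = tmul X' z := fun X =>
    ⟨_, gl_mulVec_injective k (by
      show (k : Mn) *ᵥ _ = (k : Mn) *ᵥ _
      rw [mulVec_inv_cancel, hkz, mulVec_inv_cancel Gm X])⟩
  have hhact : ∀ t, sl fB z t = 0 → ∃ x, (h : Mn) *ᵥ t - t = tmul x z := by
    let π : V →ₗ[F] V := LinearMap.id - (fac u).comp (sl fB z)
    let N : V →ₗ[F] V := (Matrix.toLin' (h : Mn) - LinearMap.id).comp π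
    let S : Submodule F V := (LinearMap.range (fac z)).comap N
    have hall : ∀ t, t ∈ S := fun t => by
      rw [sum_tmul_basis t]
      refine S.sum_mem fun p _ => S.smul_mem _ ?_
      obtain ⟨y, hy⟩ : ∃ y, y = (Pi.single p.2 1 : β → F) - fB (Pi.single p.2 1) z • u := ⟨_, rfl⟩
      have e : π (tmul (Pi.single p.1 1) (Pi.single p.2 1)) = tmul (Pi.single p.1 1) y := by
        simp only [π, hy, LinearMap.sub_apply, LinearMap.id_apply, LinearMap.comp_apply, hO.sl_tmul, fac_apply,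
          tmul_sub_right, tmul_smul_left, tmul_smul_right]
      have hyz : fB y z = 0 := by rw [hy, hs.sub_left, hs.smul_left, hu, mul_one, sub_self]
      obtain ⟨X, hX⟩ := hkmid (Pi.single p.1 1) y hyz
      obtain ⟨X', hX'⟩ := hkiz X
      show N _ ∈ LinearMap.range (fac z)
      refine ⟨X', ?_⟩
      rw [LinearMap.comp_apply, e, fac_apply, LinearMap.sub_apply, LinearMap.id_apply, Matrix.toLin'_apply, hh,
        Units.val_mul, ← Matrix.mulVec_mulVec, eq_add_of_sub_eq hX, Matrix.mulVec_add, hX', inv_mulVec_cancel,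
        add_sub_cancel_right]
    intro t ht
    obtain ⟨X, hX⟩ := hall t
    refine ⟨X, ?_⟩
    rw [fac_apply] at hX
    rw [hX]
    simp [N, π, ht, tmul_zero_left]
  have hhiso : h ∈ iso f := hh ▸ mul_mem (inv_mem hkiso) hgi
  have hhsl : ∀ t, sl fB z ((h : Mn) *ᵥ t) = sl fB z t := fun t => hA.eq_of_forall fun x => by
    rw [← hO.f_sl, ← hO.f_sl]
    conv_lhs => rw [← hhfix x]
    exact hhiso _ _
  have hhG : h ∈ G := mem_of_cube hO.sq hO.two hhiso fun t => by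
    have e1 : sl fB z (((h : Mn) - 1) *ᵥ t) = 0 := by
      rw [Matrix.sub_mulVec, Matrix.one_mulVec, map_sub, hhsl, sub_self]
    obtain ⟨X, hX⟩ := hhact _ e1
    rw [Matrix.sub_mulVec (h : Mn) 1 (((h : Mn) - 1) *ᵥ t), Matrix.one_mulVec, hX, Matrix.sub_mulVec,
      Matrix.one_mulVec, hhfix, sub_self]
  exact hfin k h z (hk ▸ kg_isKron _ _) hkiso hhG hz hz0 ⟨hhfix, hhact⟩ (by rw [hh, mul_inv_cancel_left])

/-- A line of tensors mapped to a line by a member: product shape. -/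
theorem Sl.line_kron {g : GL (α × β) F} (hg : g ∈ M) {z v : β → F} (hz : fB z z = 0) (hz0 : z ≠ 0)
    (hline : ∀ x, ∃ x', (g : Mn) *ᵥ tmul x z = tmul x' v) : IsKron g :=
  hO.line_kron' hN hSc hKm hO (hO.isoM hg) (fun _ hy => mul_mem (mul_mem (inv_mem hg) hy) hg)
    (fun _ _ _ hkk _ hhG hw hw0 hR e => hO.kron_fin hN hSc hKm hg hkk hhG hw hw0 hR e) hz hz0 hline

/-- The coefficient of a plane element at one dual vector is scalar. -/
theorem Sl.plane_coeff {k : GL (α × β) F} (hk : k ∈ M) {z₁ z₂ u₁ u₂ : β → F} (p : TSP fB z₁ z₂)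
    (e1 : fB u₁ u₁ = 0) (e12 : fB u₁ u₂ = 0) (e2 : fB u₂ u₂ = 0)
    (a11 : fB u₁ z₁ = 1) (a12 : fB u₁ z₂ = 0) (a21 : fB u₂ z₁ = 0) (a22 : fB u₂ z₂ = 1)
    (hf₁ : ∀ x, (k : Mn) *ᵥ tmul x z₁ = tmul x z₁) (hf₂ : ∀ x, (k : Mn) *ᵥ tmul x z₂ = tmul x z₂)
    (hact : ∀ t, sl fB z₁ t = 0 → sl fB z₂ t = 0 → ∃ X Y, (k : Mn) *ᵥ t - t = tmul X z₁ + tmul Y z₂)
    {y : β → F} (hy₁ : fB y z₁ = 0) (hy₂ : fB y z₂ = 0) :
    ∃ ν : F, ∀ x, sl fB y ((k : Mn) *ᵥ tmul x u₂ - tmul x u₂) = ν • x := by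
  have hs := hO.hB
  have hz21 : fB z₂ z₁ = 0 := by rw [hs.symm]; exact p.orth
  obtain ⟨i⟩ := hO.nonempty
  have hsl : ∀ t, sl fB z₁ ((k : Mn) *ᵥ t) = sl fB z₁ t := hO.sl_eq (hO.gIso (hO.le hk)) hf₁
  obtain ⟨e, he, -, hex⟩ := hO.exists_eichB p.iso₁ hy₁
  have hez₁ := hO.eich_fix_tmul hex p.iso₁ (by rw [hs.symm, hy₁])
  obtain ⟨c, hc⟩ : ∃ c, c = k * e * (e * k)⁻¹ := ⟨_, rfl⟩
  have hcM : c ∈ M := hc ▸ mul_mem (mul_mem hk he) (inv_mem (mul_mem he hk))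
  have hke : ∀ t, (c : Mn) *ᵥ ((e : Mn) *ᵥ ((k : Mn) *ᵥ t)) = (k : Mn) *ᵥ ((e : Mn) *ᵥ t) := fun t => by
    rw [hc, Units.val_mul, ← Matrix.mulVec_mulVec, Matrix.mulVec_mulVec (v := t) (M := (e : Mn)), ← Units.val_mul,
      inv_mulVec_cancel, Units.val_mul, ← Matrix.mulVec_mulVec]
  have hdiff : ∀ s, sl fB z₁ s = 0 → (c : Mn) *ᵥ ((e : Mn) *ᵥ ((k : Mn) *ᵥ s)) - (e : Mn) *ᵥ ((k : Mn) *ᵥ s) =
      tmul (sl fB y ((k : Mn) *ᵥ s - s)) z₁ := fun s hs' => by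
    rw [hke, hO.eich_perp hex hs', hO.eich_perp hex (by rw [hsl, hs']), Matrix.mulVec_sub, hf₁, map_sub,
      tmul_sub_left]
    abel
  have hR : Rad fB c z₁ := by
    refine ⟨fun x => ?_, fun t ht => ?_⟩
    · have h1 := hke (tmul x z₁)
      rwa [hf₁, hez₁, hf₁] at h1
    · obtain ⟨s, rfl⟩ : ∃ s, (e : Mn) *ᵥ ((k : Mn) *ᵥ s) = t :=
        ⟨((k⁻¹ : GL _ F) : Mn) *ᵥ (((e⁻¹ : GL _ F) : Mn) *ᵥ t), by rw [mulVec_inv_cancel, mulVec_inv_cancel]⟩
      rw [hO.sl_eq (hO.gIso (hO.le he)) hez₁, hsl] at ht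
      exact ⟨_, hdiff s ht⟩
  obtain ⟨-, y₀, hy₀, hcy⟩ := hO.rad_eich hN hSc hR hcM p.iso₁ p.ne₁
  have key : ∀ s, sl fB z₁ s = 0 →
      sl fB y ((k : Mn) *ᵥ s - s) = -sl fB y₀ ((e : Mn) *ᵥ ((k : Mn) *ᵥ s)) := fun s hs' => by
    have h1 := hdiff s hs'
    rw [hO.eich_perp hcy (by rw [hO.sl_eq (hO.gIso (hO.le he)) hez₁, hsl, hs']), sub_sub_cancel_left, ← neg_tmul] at h1
    exact (fac_injective p.ne₁ h1).symm
  have hx : (Pi.single i 1 : α → F) ≠ 0 := by simp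
  have hy₀₂ : fB y₀ z₂ = 0 := by
    have h1 := key (tmul (Pi.single i 1) z₂) (by rw [hO.sl_tmul, hz21, zero_smul])
    rw [hf₂, sub_self, map_zero, hO.eich_fix_tmul hex hz21 (by rw [hs.symm, hy₂]), hO.sl_tmul, eq_comm,
      neg_eq_zero, smul_eq_zero] at h1
    rw [hs.symm]
    exact h1.resolve_right hx
  have hy₀w : ∀ w, fB w z₁ = 0 → fB w z₂ = 0 → fB w y₀ = 0 := fun w hw₁ hw₂ => by
    obtain ⟨X, Y, hXY⟩ := hact (tmul (Pi.single i 1) w) (by rw [hO.sl_tmul, hw₁, zero_smul])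
      (by rw [hO.sl_tmul, hw₂, zero_smul])
    have h1 := key (tmul (Pi.single i 1) w) (by rw [hO.sl_tmul, hw₁, zero_smul])
    rw [hXY, hO.eich_perp hex (by rw [hsl, hO.sl_tmul, hw₁, zero_smul]), eq_add_of_sub_eq hXY] at h1
    simp only [map_add, map_sub, hO.sl_tmul, hs.symm z₁ y, hy₁, hs.symm z₂ y, hy₂, hs.symm z₁ y₀, hy₀,
      hs.symm z₂ y₀, hy₀₂, zero_smul, add_zero, zero_add, sub_zero] at h1
    exact (smul_eq_zero.1 (neg_eq_zero.1 h1.symm)).resolve_right hx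
  have hy₀L : y₀ = fB y₀ u₁ • z₁ + fB y₀ u₂ • z₂ := hs.eq_of_forall fun w => by
    obtain ⟨w', hw'⟩ : ∃ w', w' = w - fB w z₁ • u₁ - fB w z₂ • u₂ := ⟨_, rfl⟩
    have h1 := hy₀w w' (by rw [hw']; simp only [hs.sub_left, hs.smul_left, a11, a21]; ring)
      (by rw [hw']; simp only [hs.sub_left, hs.smul_left, a12, a22]; ring)
    rw [hw', hs.sub_left, hs.sub_left, hs.smul_left, hs.smul_left] at h1
    rw [hs.symm y₀ w, hs.add_left, hs.smul_left, hs.smul_left, hs.symm z₁ w, hs.symm z₂ w, hs.symm y₀ u₁,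
      hs.symm y₀ u₂]
    linear_combination h1
  refine ⟨-(fB y₀ u₂), fun x => ?_⟩
  have hs1 : sl fB z₁ (tmul x u₂) = 0 := by rw [hO.sl_tmul, a21, zero_smul]
  rw [key _ hs1, hO.eich_perp hex (by rw [hsl, hs1]), hy₀L, hO.sl_add, hO.sl_smul, hO.sl_smul, map_sub, map_sub,
    hsl, hs1, hO.sl_eq (hO.gIso (hO.le hk)) hf₂, hO.sl_tmul, hO.sl_tmul, hO.sl_tmul, a22, p.iso₁, p.orth, hs.add_left, hs.smul_left,
    hs.smul_left, hs.symm z₁ u₂, a21, hs.symm z₂ u₂, a22]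
  simp

/-- Elements trivial on a plane of tensors and modulo it on the orthogonal space are of product shape. -/
theorem Sl.plane_rad {k : GL (α × β) F} (hk : k ∈ M) {z₁ z₂ : β → F} (p : TSP fB z₁ z₂)
    (hf₁ : ∀ x, (k : Mn) *ᵥ tmul x z₁ = tmul x z₁) (hf₂ : ∀ x, (k : Mn) *ᵥ tmul x z₂ = tmul x z₂)
    (hact : ∀ t, sl fB z₁ t = 0 → sl fB z₂ t = 0 → ∃ X Y, (k : Mn) *ᵥ t - t = tmul X z₁ + tmul Y z₂) :
    IsKron k := by
  classical
  have hs := hO.hB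
  have hA := hO.hA
  obtain ⟨u₁, u₂, e1, e2, e12, a11, a12, a21, a22⟩ := p.dual hs hO.two
  have hz21 : fB z₂ z₁ = 0 := by rw [hs.symm]; exact p.orth
  have e21 : fB u₂ u₁ = 0 := by rw [hs.symm]; exact e12
  obtain ⟨i⟩ := hO.nonempty
  obtain ⟨x₀, hx₀⟩ : ∃ x₀ : α → F, x₀ ≠ 0 := ⟨Pi.single i 1, by simp⟩
  obtain ⟨ξ, hξ⟩ := exists_dual hx₀
  let Lu : (β → F) → ((β → F) →ₗ[F] F) := fun u =>
    { toFun := fun y => ξ ⬝ᵥ sl fB y ((k : Mn) *ᵥ tmul x₀ u - tmul x₀ u)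
      map_add' := fun a b => by rw [hO.sl_add, dotProduct_add]
      map_smul' := fun c a => by rw [hO.sl_smul, dotProduct_smul, RingHom.id_apply] }
  obtain ⟨w₁, hw₁⟩ := hs.exists_dual_vec (Lu u₁)
  obtain ⟨w₂, hw₂⟩ := hs.exists_dual_vec (Lu u₂)
  have hwz : ∀ u w, (∀ y, Lu u y = fB y w) → fB w z₁ = 0 ∧ fB w z₂ = 0 := fun u w hw => by
    constructor <;>
    · rw [hs.symm, ← hw]
      show ξ ⬝ᵥ sl fB _ _ = 0
      rw [map_sub]
      first
        | rw [hO.sl_eq (hO.gIso (hO.le hk)) hf₁, sub_self, dotProduct_zero]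
        | rw [hO.sl_eq (hO.gIso (hO.le hk)) hf₂, sub_self, dotProduct_zero]
  obtain ⟨hw11, hw12⟩ := hwz u₁ w₁ hw₁
  obtain ⟨hw21, hw22⟩ := hwz u₂ w₂ hw₂
  have hc₁ : ∀ y, fB y z₁ = 0 → fB y z₂ = 0 → ∀ x,
      sl fB y ((k : Mn) *ᵥ tmul x u₁ - tmul x u₁) = fB y w₁ • x := fun y h1 h1' x => by
    obtain ⟨ν, hν⟩ := hO.plane_coeff hN hSc hKm hk (p.swap hs) e2 e21 e1 a22 a21 a12 a11 hf₂ hf₁
      (fun t h h' => by obtain ⟨X, Y, hXY⟩ := hact t h' h; exact ⟨Y, X, by rw [hXY, add_comm]⟩) h1' h1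
    have : ν = fB y w₁ := by
      rw [← hw₁]
      show ν = ξ ⬝ᵥ sl fB y _
      rw [hν, dotProduct_smul, hξ, smul_eq_mul, mul_one]
    rw [hν, this]
  have hc₂ : ∀ y, fB y z₁ = 0 → fB y z₂ = 0 → ∀ x,
      sl fB y ((k : Mn) *ᵥ tmul x u₂ - tmul x u₂) = fB y w₂ • x := fun y h1 h1' x => by
    obtain ⟨ν, hν⟩ := hO.plane_coeff hN hSc hKm hk p e1 e12 e2 a11 a12 a21 a22 hf₁ hf₂ hact h1 h1'
    have : ν = fB y w₂ := by
      rw [← hw₂]
      show ν = ξ ⬝ᵥ sl fB y _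
      rw [hν, dotProduct_smul, hξ, smul_eq_mul, mul_one]
    rw [hν, this]
  have hn11 : fB (-w₁) z₁ = 0 := by rw [hs.neg_left, hw11, neg_zero]
  have hn22 : fB (-w₂) z₂ = 0 := by rw [hs.neg_left, hw22, neg_zero]
  obtain ⟨d₁, hd₁, hd₁k, hd₁x⟩ := hO.exists_eichB p.iso₁ hn11
  obtain ⟨d₂, hd₂, hd₂k, hd₂x⟩ := hO.exists_eichB p.iso₂ hn22
  have hd11 := hO.eich_fix_tmul hd₁x p.iso₁ (by rw [hs.neg_right, hs.symm, hw11, neg_zero])
  have hd12 := hO.eich_fix_tmul hd₁x hz21 (by rw [hs.neg_right, hs.symm, hw12, neg_zero])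
  have hd21 := hO.eich_fix_tmul hd₂x p.orth (by rw [hs.neg_right, hs.symm, hw21, neg_zero])
  have hd22 := hO.eich_fix_tmul hd₂x p.iso₂ (by rw [hs.neg_right, hs.symm, hw22, neg_zero])
  obtain ⟨k', hk'⟩ : ∃ k', k' = k * d₁ * d₂ := ⟨_, rfl⟩
  have hk'M : k' ∈ M := hk' ▸ mul_mem (mul_mem hk hd₁) hd₂
  have hk'x : ∀ t, (k' : Mn) *ᵥ t = (k : Mn) *ᵥ ((d₁ : Mn) *ᵥ ((d₂ : Mn) *ᵥ t)) := fun t => by
    rw [hk', Units.val_mul, Units.val_mul, ← Matrix.mulVec_mulVec, ← Matrix.mulVec_mulVec]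
  have hf₁' : ∀ x, (k' : Mn) *ᵥ tmul x z₁ = tmul x z₁ := fun x => by rw [hk'x, hd21, hd11, hf₁]
  have hf₂' : ∀ x, (k' : Mn) *ᵥ tmul x z₂ = tmul x z₂ := fun x => by rw [hk'x, hd22, hd12, hf₂]
  -- the duals move inside the plane
  have hru : ∀ u, (u = u₁ ∨ u = u₂) → ∀ x, ∃ X Y, (k' : Mn) *ᵥ tmul x u - tmul x u = tmul X z₁ + tmul Y z₂ := by
    intro u hu x
    obtain ⟨r, hr⟩ : ∃ r, r = (k' : Mn) *ᵥ tmul x u - tmul x u := ⟨_, rfl⟩
    rw [← hr]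
    have hrz₁ : sl fB z₁ r = 0 := by rw [hr, map_sub, hO.sl_eq (hO.gIso (hO.le hk'M)) hf₁', sub_self]
    have hrz₂ : sl fB z₂ r = 0 := by rw [hr, map_sub, hO.sl_eq (hO.gIso (hO.le hk'M)) hf₂', sub_self]
    have hry : ∀ y, fB y z₁ = 0 → fB y z₂ = 0 → sl fB y r = 0 := fun y h1 h1' => by
      have hy1 : fB z₁ y = 0 := by rw [hs.symm, h1]
      have hy2 : fB z₂ y = 0 := by rw [hs.symm, h1']
      have hkz : ∀ X w, w = z₁ ∨ w = z₂ → sl fB y ((k : Mn) *ᵥ tmul X w) = 0 := by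
        rintro X w (rfl | rfl)
        · rw [hf₁, hO.sl_tmul, hy1, zero_smul]
        · rw [hf₂, hO.sl_tmul, hy2, zero_smul]
      have hkw : ∀ X w, fB w z₁ = 0 → fB w z₂ = 0 → sl fB y ((k : Mn) *ᵥ tmul X w) = fB w y • X := by
        intro X w hwa hwb
        obtain ⟨P, Q, hPQ⟩ := hact (tmul X w) (by rw [hO.sl_tmul, hwa, zero_smul])
          (by rw [hO.sl_tmul, hwb, zero_smul])
        rw [eq_add_of_sub_eq hPQ, map_add, map_add, hO.sl_tmul, hO.sl_tmul, hO.sl_tmul, hy1, hy2, zero_smul,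
          zero_smul, add_zero, zero_add]
      rcases hu with hu | hu <;> rw [hu] at hr
      · rw [hr, hk'x, hO.eich_perp hd₂x (by rw [hO.sl_tmul, a12, zero_smul]), Matrix.mulVec_sub, hd12, hd₁x,
          hO.sl_tmul, a11, one_smul]
        simp only [Matrix.mulVec_add, Matrix.mulVec_sub, Matrix.mulVec_smul, tmul_neg, Matrix.mulVec_neg, map_sub,
          map_add, map_neg, map_smul, hkz _ _ (Or.inl rfl), hkz _ _ (Or.inr rfl), hkw _ _ hw11 hw12, smul_zero,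
          sub_zero]
        have h3 := hc₁ y h1 h1' x
        rw [map_sub] at h3
        rw [hs.symm w₁ y]
        linear_combination (norm := module) h3
      · rw [hr, hk'x, hd₂x, hO.sl_tmul, a22, one_smul]
        simp only [Matrix.mulVec_add, Matrix.mulVec_sub, Matrix.mulVec_smul, tmul_neg, Matrix.mulVec_neg, hd12,
          hO.eich_perp hd₁x (show sl fB z₁ (tmul x u₂) = 0 by rw [hO.sl_tmul, a21, zero_smul]),
          hO.eich_perp hd₁x (show sl fB z₁ (tmul x w₂) = 0 by rw [hO.sl_tmul, hw21, zero_smul]), map_sub, map_add,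
          map_neg, map_smul, hkz _ _ (Or.inl rfl), hkz _ _ (Or.inr rfl), hkw _ _ hw21 hw22, smul_zero, sub_zero]
        have h3 := hc₂ y h1 h1' x
        rw [map_sub] at h3
        rw [hs.symm w₂ y]
        linear_combination (norm := module) h3
    refine ⟨sl fB u₁ r, sl fB u₂ r, hO.hV.eq_of_forall fun s => ?_⟩
    have h : hO.hV.lin r = hO.hV.lin (tmul (sl fB u₁ r) z₁ + tmul (sl fB u₂ r) z₂) := ext_pure fun a b => by
      rw [Sym.lin_apply, Sym.lin_apply, hO.hV.add_right, hO.ten, hO.ten, hO.f_sl']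
      obtain ⟨b', hb'⟩ : ∃ b', b' = b - fB b z₁ • u₁ - fB b z₂ • u₂ := ⟨_, rfl⟩
      have hb : b = b' + fB b z₁ • u₁ + fB b z₂ • u₂ := by rw [hb']; abel
      have h0 := hry b' (by rw [hb']; simp only [hs.sub_left, hs.smul_left, a11, a21]; ring)
        (by rw [hb']; simp only [hs.sub_left, hs.smul_left, a12, a22]; ring)
      conv_lhs => rw [hb]
      rw [hO.sl_add, hO.sl_add, hO.sl_smul, hO.sl_smul, h0, zero_add, hA.add_right, hA.smul_right, hA.smul_right]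
      ring
    rw [hO.hV.symm r s, hO.hV.symm _ s]
    exact LinearMap.congr_fun h s
  have hperp : ∀ t, sl fB z₁ t = 0 → sl fB z₂ t = 0 → (k' : Mn) *ᵥ t = t := fun t ht₁ ht₂ => by
    have hd2 := hO.eich_perp hd₂x ht₂
    have hs2 : sl fB z₁ ((d₂ : Mn) *ᵥ t) = 0 := by rw [hO.sl_eq (hO.gIso (hO.le hd₂)) hd21, ht₁]
    have hd1 := hO.eich_perp hd₁x hs2
    obtain ⟨X, Y, hXY⟩ := hact ((d₁ : Mn) *ᵥ ((d₂ : Mn) *ᵥ t)) (by rw [hO.sl_eq (hO.gIso (hO.le hd₁)) hd11, hs2])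
      (by rw [hO.sl_eq (hO.gIso (hO.le hd₁)) hd12, hO.sl_eq (hO.gIso (hO.le hd₂)) hd22, ht₂])
    obtain ⟨X', Y', hk't⟩ : ∃ X' Y', (k' : Mn) *ᵥ t - t = tmul X' z₁ + tmul Y' z₂ := by
      refine ⟨X - sl fB (-w₁) ((d₂ : Mn) *ᵥ t), Y - sl fB (-w₂) t, ?_⟩
      rw [hk'x, eq_add_of_sub_eq hXY, hd1, tmul_sub_left, tmul_sub_left]
      nth_rw 1 [hd2]
      abel
    have hz : ∀ u, (u = u₁ ∨ u = u₂) → ∀ x, f ((k' : Mn) *ᵥ t - t) (tmul x u) = 0 := fun u hu x => by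
      obtain ⟨P, Q, hPQ⟩ := hru u hu x
      have h1 := hO.isoM hk'M t (tmul x u)
      rw [eq_add_of_sub_eq hPQ, hO.hV.add_right, hO.hV.add_right, hO.f_sl _ P, hO.f_sl _ Q, hO.sl_eq (hO.gIso (hO.le hk'M)) hf₁',
        hO.sl_eq (hO.gIso (hO.le hk'M)) hf₂', ht₁, ht₂, hA.zero_left, hA.zero_left, zero_add, zero_add] at h1
      rw [hO.hV.sub_left, h1, sub_self]
    have hX' : X' = 0 := hA.eq_zero _ fun x => by
      have := hz u₁ (Or.inl rfl) x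
      rw [hk't, hO.hV.add_left, hO.ten, hO.ten, hs.symm z₁ u₁, a11, hs.symm z₂ u₁, a12, mul_one, mul_zero,
        add_zero] at this
      rw [hA.symm, this]
    have hY' : Y' = 0 := hA.eq_zero _ fun x => by
      have := hz u₂ (Or.inr rfl) x
      rw [hk't, hO.hV.add_left, hO.ten, hO.ten, hs.symm z₁ u₂, a21, hs.symm z₂ u₂, a22, mul_one, mul_zero,
        zero_add] at this
      rw [hA.symm, this]
    rw [hX', hY', tmul_zero_left, tmul_zero_left, add_zero, sub_eq_zero] at hk't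
    exact hk't
  -- the central part
  obtain ⟨τ, hτ, -, hτx⟩ := hO.exists_eichB p.iso₁ a21
  have hτ₁ := hO.eich_fix_tmul hτx p.iso₁ (by rw [hs.symm, a21])
  obtain ⟨c, hc⟩ : ∃ c, c = τ * k' * (k' * τ)⁻¹ := ⟨_, rfl⟩
  have hcM : c ∈ M := hc ▸ mul_mem (mul_mem hτ hk'M) (inv_mem (mul_mem hk'M hτ))
  have hke : ∀ t, (c : Mn) *ᵥ ((k' : Mn) *ᵥ ((τ : Mn) *ᵥ t)) = (τ : Mn) *ᵥ ((k' : Mn) *ᵥ t) := fun t => by
    rw [hc, Units.val_mul, ← Matrix.mulVec_mulVec, Matrix.mulVec_mulVec (v := t) (M := (k' : Mn)), ← Units.val_mul,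
      inv_mulVec_cancel, Units.val_mul, ← Matrix.mulVec_mulVec]
  have hdiff : ∀ s, sl fB z₁ s = 0 → (c : Mn) *ᵥ ((k' : Mn) *ᵥ ((τ : Mn) *ᵥ s)) - (k' : Mn) *ᵥ ((τ : Mn) *ᵥ s) =
      tmul (-sl fB u₂ ((k' : Mn) *ᵥ s - s)) z₁ := fun s hs' => by
    rw [hke, hO.eich_perp hτx hs', hO.eich_perp hτx (by rw [hO.sl_eq (hO.gIso (hO.le hk'M)) hf₁', hs']), Matrix.mulVec_sub, hf₁',
      neg_tmul, map_sub, tmul_sub_left]
    abel
  have hR : Rad fB c z₁ := by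
    refine ⟨fun x => ?_, fun t ht => ?_⟩
    · have h1 := hke (tmul x z₁)
      rwa [hτ₁, hf₁', hτ₁] at h1
    · obtain ⟨s, rfl⟩ : ∃ s, (k' : Mn) *ᵥ ((τ : Mn) *ᵥ s) = t :=
        ⟨((τ⁻¹ : GL _ F) : Mn) *ᵥ (((k'⁻¹ : GL _ F) : Mn) *ᵥ t), by rw [mulVec_inv_cancel, mulVec_inv_cancel]⟩
      rw [hO.sl_eq (hO.gIso (hO.le hk'M)) hf₁', hO.sl_eq (hO.gIso (hO.le hτ)) hτ₁] at ht
      exact ⟨_, hdiff s ht⟩
  obtain ⟨-, y₀, hy₀, hcy⟩ := hO.rad_eich hN hSc hR hcM p.iso₁ p.ne₁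
  have key : ∀ s, sl fB z₁ s = 0 →
      sl fB u₂ ((k' : Mn) *ᵥ s - s) = sl fB y₀ ((k' : Mn) *ᵥ ((τ : Mn) *ᵥ s)) := fun s hs' => by
    have h1 := hdiff s hs'
    rw [hO.eich_perp hcy (by rw [hO.sl_eq (hO.gIso (hO.le hk'M)) hf₁', hO.sl_eq (hO.gIso (hO.le hτ)) hτ₁, hs']), sub_sub_cancel_left, ← neg_tmul] at h1
    exact (neg_injective (fac_injective p.ne₁ h1)).symm
  have hy₀₂ : fB y₀ z₂ = 0 := by
    have h1 := key (tmul x₀ z₂) (by rw [hO.sl_tmul, hz21, zero_smul])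
    rw [hf₂', sub_self, map_zero, hO.eich_perp hτx (by rw [hO.sl_tmul, hz21, zero_smul]), hO.sl_tmul,
      hs.symm z₂ u₂, a22, one_smul, Matrix.mulVec_sub, hf₁', hf₂', map_sub, hO.sl_tmul, hO.sl_tmul,
      hs.symm z₁ y₀, hy₀, zero_smul, sub_zero, eq_comm, smul_eq_zero] at h1
    rw [hs.symm]
    exact h1.resolve_right hx₀
  have hD : ∀ x, ∃ X, (k' : Mn) *ᵥ tmul x u₂ - tmul x u₂ = tmul X z₁ := by
    choose P Q hPQ using hru u₂ (Or.inr rfl)
    obtain ⟨ν, hν⟩ : ∃ ν, ν = fB u₂ y₀ := ⟨_, rfl⟩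
    have hQ : ∀ x, Q x = ν • x := fun x => by
      have h1 := key (tmul x u₂) (by rw [hO.sl_tmul, a21, zero_smul])
      rw [hPQ, hO.eich_fix_tmul hτx a21 e2, eq_add_of_sub_eq (hPQ x)] at h1
      simp only [map_add, hO.sl_tmul, hs.symm z₁ u₂, a21, hs.symm z₂ u₂, a22, hs.symm z₁ y₀, hy₀, hs.symm z₂ y₀,
        hy₀₂, zero_smul, one_smul, zero_add, add_zero, ← hν] at h1
      exact h1
    have hν0 : ν = 0 := by
      obtain ⟨a₁, a₂, -, -, ha⟩ := hA.exists_hyp hO.two hO.ha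
      have h1 := hO.isoM hk'M (tmul a₂ u₂) (tmul a₁ u₂)
      rw [eq_add_of_sub_eq (hPQ a₂), eq_add_of_sub_eq (hPQ a₁), hQ, hQ] at h1
      simp only [hO.hV.add_left, hO.hV.add_right, hO.ten, hA.smul_left, hA.smul_right, e2, a21, a22, p.iso₁,
        p.iso₂, p.orth, hz21, hs.symm z₁ u₂, hs.symm z₂ u₂, ha] at h1
      exact (mul_eq_zero.1 (show (2 : F) * ν = 0 by linear_combination h1)).resolve_left hO.two
    exact fun x => ⟨P x, by rw [hPQ, hQ, hν0, zero_smul, tmul_zero_left, add_zero]⟩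
  have hR' : Rad fB k' z₁ := ⟨hf₁', fun t ht => by
    obtain ⟨X, hX⟩ := hD (sl fB z₂ t)
    refine ⟨X, ?_⟩
    have h1 := hperp (t - tmul (sl fB z₂ t) u₂) (by rw [map_sub, hO.sl_tmul, a21, zero_smul, ht, sub_zero])
      (by rw [map_sub, hO.sl_tmul, a22, one_smul, sub_self])
    rw [Matrix.mulVec_sub] at h1
    rw [← hX]
    linear_combination (norm := abel) h1⟩
  have hk'k := (hO.rad_eich hN hSc hR' hk'M p.iso₁ p.ne₁).1
  have := IsKron.mul (IsKron.mul hk'k hd₂k.inv) hd₁k.inv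
  rwa [hk', mul_inv_cancel_right, mul_inv_cancel_right] at this

/-- A plane of tensors mapped into one: product shape. -/
theorem Sl.plane_kron' {M' : Subgroup (GL (α × β) F)} (hO' : Sl fA fB f G M') (hN' : NoRoot fB M') (hSc' : Scal fB M')
    (hKm' : Kmem fB G M') {g : GL (α × β) F} (hgi : g ∈ iso f) (hto : ∀ y ∈ M, g * y * g⁻¹ ∈ M')
    (hback : ∀ y ∈ M', g⁻¹ * y * g ∈ M)
    (hfin : ∀ (k h : GL (α × β) F) (z : β → F), IsKron k → k ∈ iso f → h ∈ G → fB z z = 0 → z ≠ 0 →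
      Rad fB h z → k * h = g → IsKron g)
    {z₁ z₂ v₁ v₂ : β → F} (p : TSP fB z₁ z₂)
    (q : TSP fB v₁ v₂) (h₁ : ∀ x, ∃ a b, (g : Mn) *ᵥ tmul x z₁ = tmul a v₁ + tmul b v₂)
    (h₂ : ∀ x, ∃ a b, (g : Mn) *ᵥ tmul x z₂ = tmul a v₁ + tmul b v₂) : IsKron g := by
  classical
  have hs := hO.hB
  have hA := hO.hA
  obtain ⟨u₁, u₂, e1, e2, e12, a11, a12, a21, a22⟩ := p.dual hs hO.two
  obtain ⟨w, hw₁, hw₂, hww⟩ := hO.exists_perp_plane p e1 e2 e12 a11 a12 a21 a22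
  choose A₁ B₁ hAB₁ using h₁
  choose A₂ B₂ hAB₂ using h₂
  have hz21 : fB z₂ z₁ = 0 := by rw [hs.symm]; exact p.orth
  have hsurj : ∀ a b, ∃ x y, (g : Mn) *ᵥ (tmul x z₁ + tmul y z₂) = tmul a v₁ + tmul b v₂ := by
    let J : (α → F) × (α → F) → (α → F) × (α → F) := fun xy => (A₁ xy.1 + A₂ xy.2, B₁ xy.1 + B₂ xy.2)
    have hJ : ∀ xy : (α → F) × (α → F),
        (g : Mn) *ᵥ (tmul xy.1 z₁ + tmul xy.2 z₂) = tmul (J xy).1 v₁ + tmul (J xy).2 v₂ := fun xy => by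
      rw [Matrix.mulVec_add, hAB₁, hAB₂, tmul_add_left, tmul_add_left]; abel
    have hinj : Function.Injective J := fun s t e => by
      have h1 : tmul s.1 z₁ + tmul s.2 z₂ = tmul t.1 z₁ + tmul t.2 z₂ := gl_mulVec_injective g (by
        show (g : Mn) *ᵥ _ = (g : Mn) *ᵥ _
        rw [hJ, hJ, e])
      have k1 := congrArg (sl fB u₁) h1
      have k2 := congrArg (sl fB u₂) h1
      simp only [map_add, hO.sl_tmul, hs.symm z₁ u₁, a11, hs.symm z₂ u₁, a12, hs.symm z₁ u₂, a21, hs.symm z₂ u₂,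
        a22, one_smul, zero_smul, add_zero, zero_add] at k1 k2
      exact Prod.ext k1 k2
    intro a b
    obtain ⟨xy, hxy⟩ := Finite.injective_iff_surjective.1 hinj (a, b)
    exact ⟨xy.1, xy.2, by rw [hJ, hxy]⟩
  have hw₁' : fB z₁ w = 0 := by rw [hs.symm, hw₁]
  have hw₂' : fB z₂ w = 0 := by rw [hs.symm, hw₂]
  obtain ⟨e, he, -, hex⟩ := hO.exists_eichB p.iso₁ hw₁
  obtain ⟨e', he'⟩ : ∃ e', e' = g * e * g⁻¹ := ⟨_, rfl⟩
  have he'x : ∀ t, (e' : Mn) *ᵥ t = (g : Mn) *ᵥ ((e : Mn) *ᵥ (((g⁻¹ : GL (α × β) F) : Mn) *ᵥ t)) := fun t => by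
    rw [he', Units.val_mul, Units.val_mul, ← Matrix.mulVec_mulVec, ← Matrix.mulVec_mulVec]
  have hfixL : ∀ a b, (e' : Mn) *ᵥ (tmul a v₁ + tmul b v₂) = tmul a v₁ + tmul b v₂ := fun a b => by
    obtain ⟨x, y, hxy⟩ := hsurj a b
    rw [← hxy, he'x, inv_mulVec_cancel, Matrix.mulVec_add (e : Mn), hO.eich_fix_tmul hex p.iso₁ hw₁',
      hO.eich_fix_tmul hex hz21 hw₂']
  have hk' : IsKron e' := by
    refine hO'.plane_rad hN' hSc' hKm' (he' ▸ hto e he) q (fun x => ?_) (fun x => ?_) fun t ht ht' => ?_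
    · simpa [tmul_zero_left] using hfixL x 0
    · simpa [tmul_zero_left] using hfixL 0 x
    · obtain ⟨s, rfl⟩ : ∃ s, (g : Mn) *ᵥ s = t := ⟨_, mulVec_inv_cancel g t⟩
      have hs1 : sl fB z₁ s = 0 := hA.eq_of_forall fun x => by
        rw [← hO.f_sl, ← hgi, hAB₁, hO.hV.add_right, hO.f_sl, hO.f_sl, ht, ht', hA.zero_left, hA.zero_left,
          hA.zero_left, add_zero]
      refine ⟨A₁ (-sl fB w s), B₁ (-sl fB w s), ?_⟩
      rw [← hAB₁, neg_tmul, he'x, inv_mulVec_cancel, hO.eich_perp hex hs1, Matrix.mulVec_sub, Matrix.mulVec_neg]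
      abel
  obtain ⟨P, Q, hPQ⟩ := hk'
  have hap : ∀ x y, (e' : Mn) *ᵥ tmul x y = tmul ((P : Ma) *ᵥ x) ((Q : Mb) *ᵥ y) := fun x y => by
    rw [hPQ, kronecker_mulVec]
  obtain ⟨ψ, hψ⟩ := exists_dual q.ne₁
  have hPs : ∀ x, (ψ ⬝ᵥ (Q : Mb) *ᵥ v₁) • (P : Ma) *ᵥ x = x := fun x => by
    have h1 := hfixL x 0
    rw [tmul_zero_left, add_zero, hap] at h1
    have := congrArg (slice ψ) h1
    rwa [slice_tmul, slice_tmul, hψ, one_smul] at this
  obtain ⟨c, hc⟩ : ∃ c, c = ψ ⬝ᵥ (Q : Mb) *ᵥ v₁ := ⟨_, rfl⟩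
  rw [← hc] at hPs
  have hc0 : c ≠ 0 := fun e0 => by
    obtain ⟨i⟩ := hO.nonempty
    have := hPs (Pi.single i 1)
    rw [e0, zero_smul] at this
    simpa using congrFun this i
  obtain ⟨T, hT⟩ : ∃ T : Mb, T = c⁻¹ • (Q : Mb) - 1 := ⟨_, rfl⟩
  have hsub : ∀ x y, (e' : Mn) *ᵥ tmul x y - tmul x y = tmul x (T *ᵥ y) := fun x y => by
    conv_rhs => rw [← hPs x, hT]
    rw [hap, Matrix.sub_mulVec, Matrix.one_mulVec, Matrix.smul_mulVec, tmul_sub_right, tmul_smul_right,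
      tmul_smul_left, tmul_smul_left, smul_smul, inv_mul_cancel₀ hc0, one_smul]
    conv_lhs => arg 2; rw [← hPs x, tmul_smul_left]
  have hsq : ∀ t, (e' : Mn) *ᵥ ((e' : Mn) *ᵥ t - t) - ((e' : Mn) *ᵥ t - t) =
      (g : Mn) *ᵥ tmul ((-fB w w) • sl fB z₁ (((g⁻¹ : GL (α × β) F) : Mn) *ᵥ t)) z₁ := fun t => by
    obtain ⟨s, rfl⟩ : ∃ s, (g : Mn) *ᵥ s = t := ⟨_, mulVec_inv_cancel g t⟩
    rw [Matrix.mulVec_sub (e' : Mn), he'x ((e' : Mn) *ᵥ _), he'x, inv_mulVec_cancel, inv_mulVec_cancel,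
      ← Matrix.mulVec_sub, ← Matrix.mulVec_sub]
    simp only [hex _, map_add, map_sub, map_smul, hO.sl_tmul, p.iso₁, hw₁, hw₁']
    rw [show tmul ((-fB w w) • sl fB z₁ s) z₁ = (-fB w w) • tmul (sl fB z₁ s) z₁ from tmul_smul_left _ _ _]
    simp only [tmul_zero_left, zero_smul, smul_zero, tmul_smul_left, tmul_add_left, tmul_sub_left, sub_zero,
      add_zero, zero_sub, neg_tmul, Matrix.mulVec_add, Matrix.mulVec_sub, Matrix.mulVec_smul]
    have := hO.two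
    match_scalars <;> field_simp <;> ring
  obtain ⟨y, hy⟩ : ∃ y, T *ᵥ (T *ᵥ y) ≠ 0 := by
    by_contra hc'
    push Not at hc'
    obtain ⟨i⟩ := hO.nonempty
    have hT0 : (Matrix.toLin' (e' : Mn) - LinearMap.id).comp (Matrix.toLin' (e' : Mn) - LinearMap.id) =
        (0 : V →ₗ[F] V) := ext_pure fun a b => by
      simp only [LinearMap.comp_apply, LinearMap.sub_apply, LinearMap.id_apply, Matrix.toLin'_apply, hsub, hc',
        tmul_zero_right, LinearMap.zero_apply]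
    have h1 := hsq ((g : Mn) *ᵥ tmul (Pi.single i 1) u₁)
    rw [inv_mulVec_cancel, hO.sl_tmul, a11, one_smul] at h1
    have h0 := LinearMap.congr_fun hT0 ((g : Mn) *ᵥ tmul (Pi.single i 1) u₁)
    simp only [LinearMap.comp_apply, LinearMap.sub_apply, LinearMap.id_apply, Matrix.toLin'_apply,
      LinearMap.zero_apply] at h0
    rw [h0] at h1
    exact tmul_ne_zero (smul_ne_zero (neg_ne_zero.2 hww) (by simp)) p.ne₁
      (gl_mulVec_injective g (h1.symm.trans (Matrix.mulVec_zero _).symm))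
  let J : (α → F) → (α → F) := fun x =>
    (-fB w w) • sl fB z₁ (((g⁻¹ : GL (α × β) F) : Mn) *ᵥ tmul x y)
  have hJ : ∀ x, (g : Mn) *ᵥ tmul (J x) z₁ = tmul x (T *ᵥ (T *ᵥ y)) := fun x => by
    rw [← hsq, hsub, hsub]
  have hJs : Function.Surjective J := Finite.injective_iff_surjective.1 fun a b e0 => fac_injective hy (by
    show tmul a _ = tmul b _
    rw [← hJ, ← hJ, e0])
  refine hO.line_kron' hN hSc hKm hO' hgi hback hfin p.iso₁ p.ne₁ (v := T *ᵥ (T *ᵥ y)) fun x => ?_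
  obtain ⟨x', rfl⟩ := hJs x
  exact ⟨x', hJ x'⟩

/-- A plane of tensors mapped into one by a member: product shape. -/
theorem Sl.plane_kron {g : GL (α × β) F} (hg : g ∈ M) {z₁ z₂ v₁ v₂ : β → F} (p : TSP fB z₁ z₂)
    (q : TSP fB v₁ v₂) (h₁ : ∀ x, ∃ a b, (g : Mn) *ᵥ tmul x z₁ = tmul a v₁ + tmul b v₂)
    (h₂ : ∀ x, ∃ a b, (g : Mn) *ᵥ tmul x z₂ = tmul a v₁ + tmul b v₂) : IsKron g :=
  hO.plane_kron' hN hSc hKm hO hN hSc hKm (hO.isoM hg) (fun _ hy => mul_mem (mul_mem hg hy) (inv_mem hg))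
    (fun _ hy => mul_mem (mul_mem (inv_mem hg) hy) hg)
    (fun _ _ _ hkk _ hhG hw hw0 hR e => hO.kron_fin hN hSc hKm hg hkk hhG hw hw0 hR e) p q h₁ h₂

/-- An element conjugating a long root element to a map of the second factor is of product shape. -/
theorem Sl.conj_kron' {M' : Subgroup (GL (α × β) F)} (hO' : Sl fA fB f G M') (hN' : NoRoot fB M') (hSc' : Scal fB M')
    (hKm' : Kmem fB G M') {g X : GL (α × β) F} (hgi : g ∈ iso f) (hto : ∀ y ∈ M, g * y * g⁻¹ ∈ M')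
    (hback : ∀ y ∈ M', g⁻¹ * y * g ∈ M)
    (hfin : ∀ (k h : GL (α × β) F) (z : β → F), IsKron k → k ∈ iso f → h ∈ G → fB z z = 0 → z ≠ 0 →
      Rad fB h z → k * h = g → IsKron g)
    {z₁ z₂ : β → F} (p : TSP fB z₁ z₂)
    (hX : IsEich fB X z₁ z₂)
    (hk : ∃ Q : GL β F, ∀ x y, ((g * X * g⁻¹ : GL (α × β) F) : Mn) *ᵥ tmul x y = tmul x ((Q : Mb) *ᵥ y)) :
    IsKron g := by
  classical
  have hs := hO.hB
  have hA := hO.hA
  obtain ⟨u₁, u₂, e1, e2, e12, a11, a12, a21, a22⟩ := p.dual hs hO.two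
  have hz21 : fB z₂ z₁ = 0 := by rw [hs.symm]; exact p.orth
  obtain ⟨i⟩ := hO.nonempty
  have hXsub : ∀ t, (X : Mn) *ᵥ t - t = tmul (sl fB z₁ t) z₂ - tmul (sl fB z₂ t) z₁ := fun t => by
    rw [hX, p.iso₂, zero_div, zero_smul, sub_zero]; abel
  obtain ⟨Y, hY⟩ : ∃ Y, Y = g * X * g⁻¹ := ⟨_, rfl⟩
  rw [← hY] at hk
  have hYsub : ∀ s, (Y : Mn) *ᵥ ((g : Mn) *ᵥ s) - (g : Mn) *ᵥ s =
      (g : Mn) *ᵥ (tmul (sl fB z₁ s) z₂ - tmul (sl fB z₂ s) z₁) := fun s => by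
    rw [← hXsub, hY, Units.val_mul, Units.val_mul, ← Matrix.mulVec_mulVec, ← Matrix.mulVec_mulVec,
      inv_mulVec_cancel, Matrix.mulVec_sub]
  have hYsq : ∀ t, (Y : Mn) *ᵥ ((Y : Mn) *ᵥ t - t) - ((Y : Mn) *ᵥ t - t) = 0 := fun t => by
    obtain ⟨s, rfl⟩ : ∃ s, (g : Mn) *ᵥ s = t := ⟨_, mulVec_inv_cancel g t⟩
    rw [hYsub, hYsub]
    simp [map_sub, hO.sl_tmul, p.iso₁, p.iso₂, p.orth, hz21, tmul_zero_left]
  have hYin : ∀ t, ∃ a b, (Y : Mn) *ᵥ t - t = (g : Mn) *ᵥ (tmul a z₁ + tmul b z₂) := fun t => by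
    obtain ⟨s, rfl⟩ : ∃ s, (g : Mn) *ᵥ s = t := ⟨_, mulVec_inv_cancel g t⟩
    exact ⟨-sl fB z₂ s, sl fB z₁ s, by rw [hYsub, neg_tmul]; congr 1; abel⟩
  obtain ⟨Q, hQ⟩ := hk
  have hap : ∀ x y, (Y : Mn) *ᵥ tmul x y = tmul x ((Q : Mb) *ᵥ y) := hQ
  have hne : ∃ x y, (Y : Mn) *ᵥ tmul x y ≠ tmul x y := by
    by_contra hc
    push Not at hc
    have h1 := hYsub (tmul (Pi.single i 1) u₁)
    rw [show Y = 1 from ext_kron fun x y => by rw [hc, Units.val_one, Matrix.one_mulVec], Units.val_one,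
      Matrix.one_mulVec, sub_self, hO.sl_tmul, hO.sl_tmul, a11, a12, one_smul, zero_smul, tmul_zero_left,
      sub_zero] at h1
    exact tmul_ne_zero (by simp) p.ne₂ (gl_mulVec_injective g (h1.symm.trans (Matrix.mulVec_zero _).symm))
  obtain ⟨T, hT⟩ : ∃ T : Mb, T = (Q : Mb) - 1 := ⟨_, rfl⟩
  have hsub : ∀ x y, (Y : Mn) *ᵥ tmul x y - tmul x y = tmul x (T *ᵥ y) := fun x y => by
    rw [hap, hT, Matrix.sub_mulVec, Matrix.one_mulVec, tmul_sub_right]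
  obtain ⟨x, y, hxy⟩ := hne
  have hy : T *ᵥ y ≠ 0 := fun e => hxy (by rw [← sub_eq_zero, hsub, e, tmul_zero_right])
  obtain ⟨v₁, hv₁⟩ : ∃ v, v = T *ᵥ y := ⟨_, rfl⟩
  rw [← hv₁] at hy
  obtain ⟨y', hy'⟩ : ∃ y', ∀ r : F, T *ᵥ y' ≠ r • v₁ := by
    by_contra hc
    push Not at hc
    choose r hr using hc
    have hab := hO.ha
    let Φ : (α → F) × (α → F) →ₗ[F] V := (Matrix.toLin' (g : Mn)).comp
      ((fac (α := α) z₁).coprod (fac z₂))
    have hΦ : Function.Injective Φ := by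
      refine (injective_iff_map_eq_zero Φ).2 fun s hs' => ?_
      have h1 : tmul s.1 z₁ + tmul s.2 z₂ = 0 :=
        gl_mulVec_injective g (hs'.trans (Matrix.mulVec_zero _).symm)
      have k1 := congrArg (sl fB u₁) h1
      have k2 := congrArg (sl fB u₂) h1
      simp only [map_add, hO.sl_tmul, hs.symm z₁ u₁, a11, hs.symm z₂ u₁, a12, hs.symm z₁ u₂, a21, hs.symm z₂ u₂,
        a22, one_smul, zero_smul, add_zero, zero_add, map_zero] at k1 k2
      exact Prod.ext k1 k2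
    have hle : LinearMap.range Φ ≤ LinearMap.range (fac (α := α) v₁) := by
      rintro _ ⟨⟨b, c⟩, rfl⟩
      let L : V →ₗ[F] V := Matrix.toLin' (Y : Mn) - LinearMap.id
      have hL : ∀ t, L t ∈ LinearMap.range (fac (α := α) v₁) := fun t => by
        rw [sum_tmul_basis t, map_sum]
        refine Submodule.sum_mem _ fun q _ => ?_
        rw [map_smul]
        refine Submodule.smul_mem _ _ ⟨r (Pi.single q.2 1) • Pi.single q.1 1, ?_⟩
        rw [LinearMap.sub_apply, Matrix.toLin'_apply, LinearMap.id_apply, hsub, hr, fac_apply, tmul_smul_left, tmul_smul_right]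
      have h1 := hL ((g : Mn) *ᵥ (tmul c u₁ - tmul b u₂))
      have h3 : L ((g : Mn) *ᵥ (tmul c u₁ - tmul b u₂)) = Φ (b, c) := by
        show _ = (g : Mn) *ᵥ (tmul b z₁ + tmul c z₂)
        rw [LinearMap.sub_apply, Matrix.toLin'_apply, LinearMap.id_apply, hYsub]
        simp only [map_sub, hO.sl_tmul, a11, a12, a21, a22, one_smul, zero_smul, sub_zero, zero_sub, neg_tmul]
        congr 1
        abel
      rwa [h3] at h1
    have h3 := Submodule.finrank_mono hle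
    rw [LinearMap.finrank_range_of_inj hΦ, Module.finrank_prod, finrank_range_fac hy,
      Module.finrank_fintype_fun_eq_card] at h3
    omega
  obtain ⟨v₂, hv₂⟩ : ∃ v, v = T *ᵥ y' := ⟨_, rfl⟩
  rw [← hv₂] at hy'
  have hind : ∀ s t : F, s • v₁ + t • v₂ = 0 → s = 0 ∧ t = 0 := fun s t h => by
    by_cases ht : t = 0
    · rw [ht, zero_smul, add_zero] at h
      exact ⟨(smul_eq_zero.1 h).resolve_right hy, ht⟩
    · refine absurd ?_ (hy' (-s / t))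
      linear_combination (norm := skip) t⁻¹ • h
      match_scalars <;> field_simp <;> ring
  have hmemW : ∀ (b : α → F) (y : β → F), ∃ c d, tmul b (T *ᵥ y) = (g : Mn) *ᵥ (tmul c z₁ + tmul d z₂) :=
    fun b y => by rw [← hsub]; exact hYin _
  have horth : ∀ b y c y', fA b c * fB (T *ᵥ y) (T *ᵥ y') = 0 := fun b y c y' => by
    obtain ⟨c₁, d₁, h1⟩ := hmemW b y
    obtain ⟨c₂, d₂, h1'⟩ := hmemW c y'
    rw [← hO.ten, h1, h1', hgi]
    simp only [hO.hV.add_left, hO.hV.add_right, hO.ten, p.iso₁, p.iso₂, p.orth, hz21, mul_zero, add_zero]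
  obtain ⟨a₁, a₂, -, -, ha₁₂⟩ := hA.exists_hyp hO.two hO.ha
  have hq : TSP fB v₁ v₂ := by
    refine ⟨?_, ?_, ?_, hind⟩
    all_goals simp only [hv₁, hv₂]
    · simpa [ha₁₂] using horth a₂ y a₁ y
    · simpa [ha₁₂] using horth a₂ y' a₁ y'
    · simpa [ha₁₂] using horth a₂ y a₁ y'
  choose C₁ D₁ hCD₁ using fun b => hmemW b y
  choose C₂ D₂ hCD₂ using fun b => hmemW b y'
  obtain ⟨w₁, w₂, -, -, -, b11, b12, b21, b22⟩ := hq.dual hs hO.two
  let J : (α → F) × (α → F) → (α → F) × (α → F) := fun bc => (C₁ bc.1 + C₂ bc.2, D₁ bc.1 + D₂ bc.2)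
  have hJ : ∀ bc : (α → F) × (α → F),
      (g : Mn) *ᵥ (tmul (J bc).1 z₁ + tmul (J bc).2 z₂) = tmul bc.1 v₁ + tmul bc.2 v₂ := fun bc => by
    rw [hv₁, hv₂, hCD₁, hCD₂, ← Matrix.mulVec_add, tmul_add_left, tmul_add_left]
    congr 1
    abel
  have hJs : Function.Surjective J := Finite.injective_iff_surjective.1 fun s t e => by
    have h1 : tmul s.1 v₁ + tmul s.2 v₂ = tmul t.1 v₁ + tmul t.2 v₂ := by rw [← hJ, ← hJ, e]
    have k1 := congrArg (sl fB w₁) h1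
    have k2 := congrArg (sl fB w₂) h1
    simp only [map_add, hO.sl_tmul, hs.symm v₁ w₁, b11, hs.symm v₂ w₁, b12, hs.symm v₁ w₂, b21, hs.symm v₂ w₂,
      b22, one_smul, zero_smul, add_zero, zero_add] at k1 k2
    exact Prod.ext k1 k2
  refine hO.plane_kron' hN hSc hKm hO' hN' hSc' hKm' hgi hto hback hfin p hq (fun b => ?_) fun b => ?_
  · obtain ⟨bc, hbc⟩ := hJs (b, 0)
    exact ⟨bc.1, bc.2, by rw [← hJ, hbc, tmul_zero_left, add_zero]⟩
  · obtain ⟨bc, hbc⟩ := hJs (0, b)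
    exact ⟨bc.1, bc.2, by rw [← hJ, hbc, tmul_zero_left, zero_add]⟩

/-- A member conjugating a long root element to a map of the second factor is of product shape. -/
theorem Sl.conj_kron {g X : GL (α × β) F} (hg : g ∈ M) {z₁ z₂ : β → F} (p : TSP fB z₁ z₂)
    (hX : IsEich fB X z₁ z₂)
    (hk : ∃ Q : GL β F, ∀ x y, ((g * X * g⁻¹ : GL (α × β) F) : Mn) *ᵥ tmul x y = tmul x ((Q : Mb) *ᵥ y)) :
    IsKron g :=
  hO.conj_kron' hN hSc hKm hO hN hSc hKm (hO.isoM hg) (fun _ hy => mul_mem (mul_mem hg hy) (inv_mem hg))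
    (fun _ hy => mul_mem (mul_mem (inv_mem hg) hy) hg)
    (fun _ _ _ hkk _ hhG hw hw0 hR e => hO.kron_fin hN hSc hKm hg hkk hhG hw hw0 hR e) p hX hk

end Cfsg.Agent.Classical.TensorPowOrth
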