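import Cfsg.Agent.Lib.Classical.TensorPowOrth.Root
import Cfsg.Agent.Lib.Classical.TensorPowOrth.SlPlane

/-!
In a proper overgroup of the stabiliser the coefficients of radical members are scalars, and a product which with a
radical element is a member is itself a member.
-/

set_option autoImplicit false
set_option linter.unusedSectionVars false
set_option linter.unusedSimpArgs false
set_option linter.style.haveILetI false

open scoped Kronecker

namespace Cfsg.Agent.Classical.TensorPowOrth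

open Matrix Module MaxTv TensorMax TensorPow Overfield
open Cfsg.Agent.Classical.TensorOrth (Sym NdOn iso cj sl IsEich IsSieg Rad NoRoot TSP wd ext_pure ext_kron mem_of_cube)

section general

variable {F : Type*} [Field F] [Fintype F] {α β : Type} [Fintype α] [DecidableEq α] [Fintype β] [DecidableEq β]
  {fA : (α → F) → (α → F) → F} {fB : (β → F) → (β → F) → F}
  {f : (α × β → F) → (α × β → F) → F} {G M : Subgroup (GL (α × β) F)}

local notation "Mn" => Matrix (α × β) (α × β) F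
local notation "Ea" => ((α → F) →ₗ[F] (α → F))

/-- The element adds the image under `D` at a singular vector. -/
def RootEl (fB : (β → F) → (β → F) → F) (g : GL (α × β) F) (z : β → F) (D : (α → F) →ₗ[F] (α → F)) : Prop :=
  ∀ t, (g : Matrix (α × β) (α × β) F) *ᵥ t = t + rootMap z (fn fB z) D t

variable (hO : Sl fA fB f G M)
include hO

theorem Sl.root_mul {g g' : GL (α × β) F} {z : β → F} {D D' : Ea} (hz : fB z z = 0) (hg : RootEl fB g z D)
    (hg' : RootEl fB g' z D') : RootEl fB (g * g') z (D + D') := fun t => by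
  rw [Units.val_mul, ← Matrix.mulVec_mulVec, hg', hg, map_add,
    rootMap_sq (by rw [fn_dot hO.hB.sesq, hz]), add_zero, rootMap_apply, rootMap_apply, rootMap_apply,
    LinearMap.add_apply, tmul_add_left]
  abel

theorem Sl.root_inv {g : GL (α × β) F} {z : β → F} {D : Ea} (hz : fB z z = 0) (hg : RootEl fB g z D) :
    RootEl fB g⁻¹ z (-D) := fun t => by
  refine gl_mulVec_injective g ?_
  show (g : Mn) *ᵥ _ = (g : Mn) *ᵥ _
  rw [mulVec_inv_cancel, hg, map_add, rootMap_sq (by rw [fn_dot hO.hB.sesq, hz]), add_zero, rootMap_apply,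
    rootMap_apply, LinearMap.neg_apply, TensorOrth.neg_tmul]
  abel

theorem Sl.root_conj {g : GL (α × β) F} {z : β → F} {D : Ea} (hg : RootEl fB g z D) {k : GL (α × β) F}
    {A : GL α F} (hk : k = k2 A 1) : RootEl fB (k * g * k⁻¹) z (cj A D) := fun t => by
  subst hk
  obtain ⟨s, rfl⟩ : ∃ s, (k2 A (1 : GL β F) : Mn) *ᵥ s = t := ⟨_, mulVec_inv_cancel _ t⟩
  have e : (sl fB z).comp (Matrix.toLin' (k2 A (1 : GL β F) : Mn)) =
      (Matrix.toLin' (A : Matrix α α F)).comp (sl fB z) := ext_pure fun x y => by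
    simp only [LinearMap.comp_apply, Matrix.toLin'_apply, k2_mulVec, Units.val_one, Matrix.one_mulVec, hO.sl_tmul,
      Matrix.mulVec_smul]
  have e' : sl fB z ((k2 A (1 : GL β F) : Mn) *ᵥ s) = (A : Matrix α α F) *ᵥ sl fB z s := LinearMap.congr_fun e s
  rw [Units.val_mul, Units.val_mul, ← Matrix.mulVec_mulVec, ← Matrix.mulVec_mulVec, inv_mulVec_cancel, hg,
    Matrix.mulVec_add, rootMap_apply, rootMap_apply, k2_mulVec, Units.val_one, Matrix.one_mulVec,
    show slice (fn fB z) ((k2 A (1 : GL β F) : Mn) *ᵥ s) = (A : Matrix α α F) *ᵥ sl fB z s from e',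
    TensorOrth.cj_apply, inv_mulVec_cancel]
  rfl

theorem Sl.root_skew {g : GL (α × β) F} {z : β → F} {D : Ea} (hg : RootEl fB g z D) (hgi : g ∈ iso f)
    (hz : fB z z = 0) {u : β → F} (huu : fB u u = 0) (hu : fB u z = 1) (x y : α → F) :
    fA (D x) y = -fA x (D y) := by
  have h1 := hgi (tmul x u) (tmul y u)
  have e : ∀ a : α → F, slice (fn fB z) (tmul a u) = a := fun a => by
    rw [slice_tmul, fn_dot hO.hB.sesq, hu, one_smul]
  rw [hg, hg, rootMap_apply, rootMap_apply, e, e, hO.hV.add_left, hO.hV.add_right, hO.hV.add_right,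
    hO.ten, hO.ten, hO.ten, hO.ten, huu, hu, hz, hO.hB.symm z u, hu] at h1
  linear_combination h1

/-- A radical element moved by an isometry carrying the line to a line. -/
theorem Sl.rad_move {g k : GL (α × β) F} {z z' : β → F} (h : Rad fB g z) (hk : k ∈ iso f)
    (hkz : ∀ x, ∃ x', (k : Mn) *ᵥ tmul x z = tmul x' z') (hkz' : ∀ x, ∃ x', (k : Mn) *ᵥ tmul x' z = tmul x z') :
    Rad fB (k * g * k⁻¹) z' := by
  constructor
  · intro x
    obtain ⟨x', hx'⟩ := hkz' x
    rw [← hx', Units.val_mul, Units.val_mul, ← Matrix.mulVec_mulVec, ← Matrix.mulVec_mulVec, inv_mulVec_cancel,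
      h.fix]
  · intro t ht
    have ht' : sl fB z (((k⁻¹ : GL (α × β) F) : Mn) *ᵥ t) = 0 := hO.hA.eq_of_forall fun x => by
      obtain ⟨x', hx'⟩ := hkz x
      rw [← hO.f_sl, ← hk, mulVec_inv_cancel, hx', hO.f_sl, ht, hO.hA.zero_left, hO.hA.zero_left]
    obtain ⟨a, ha⟩ := h.act _ ht'
    obtain ⟨a', ha'⟩ := hkz a
    refine ⟨a', ?_⟩
    rw [← ha', ← ha, Units.val_mul, Units.val_mul, ← Matrix.mulVec_mulVec, ← Matrix.mulVec_mulVec,
      Matrix.mulVec_sub, mulVec_inv_cancel]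

end general

variable {F : Type*} [Field F] [Fintype F] {κ β : Type} [Fintype κ] [DecidableEq κ] [Fintype β] [DecidableEq β]
  {c : F} {h : (β → F) → (β → F) → F}

local notation "X" => (κ → β)
local notation "V" => ((κ → β) → F)
local notation "Mn" => Matrix (κ → β) (κ → β) F
local notation "Mb" => Matrix β β F
local notation "W" => (β → F)

namespace Px

variable {M : Subgroup (GL (κ → β) F)} (hM : Px c h M)
include hM

/-- The group in split coordinates has the Siegel maps of the factor. -/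
theorem sl' (i : κ) : Sl (tf (κ := Rst i) c h) h (tfs c h i) ((GT c h).map (sp i).toMonoidHom) (Mi M i) := by
  have hT := hM.data
  have hcard : 3 ≤ Fintype.card (Rst i → β) := by
    obtain ⟨j⟩ := nonempty_rst hM.ht i
    rw [Fintype.card_fun]
    exact le_trans hT.three (Nat.le_self_pow (by have := card_rst_one i; have := hM.ht; omega) _)
  refine
    { two := hT.two
      hA := hT.sym
      hB := hT.hh
      hV := hT.sym_tfs i
      ten := fun x x' y y' => hT.tfs_tmul i x x' y y'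
      sq := fun g hg => by
        obtain ⟨g₀, rfl⟩ := (sp i).surjective g
        exact ⟨g₀ * g₀, hT.sq_mem ((hT.sp_iso i).1 hg), map_mul _ _ _⟩
      gIso := by
        rintro _ ⟨g, hg, rfl⟩
        exact (hT.sp_iso i).2 (hT.gt_le_iso hg)
      le := Subgroup.map_mono hM.le
      ha := hcard
      hb := hT.three
      hB4 := hT.four
      exists_eichB := fun {z y} hz hy => ?_ }
  have hs := hT.hh
  obtain ⟨B, hB, hBx⟩ := hs.exists_sieg hT.two hz hy
  refine ⟨sp i (pe i B), mem_Mi.2 (hM.pe_mem (hT.pe_sieg hBx hz hy)), isKron_iff.2 ⟨1, B, sp_pe i B⟩, fun t => ?_⟩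
  have hsl : ∀ (w : W) (a : (Rst i → β) → F) (b : W), sl h w (tmul a b) = h b w • a := fun w a b => by
    rw [sl, slice_tmul, fn_dot hs.sesq]
  let L : ((Rst i → β) × β → F) →ₗ[F] ((Rst i → β) × β → F) := LinearMap.id + (fac y).comp (sl h z) -
    (fac z).comp (sl h y) - (h y y / 2) • (fac z).comp (sl h z)
  have h1 : Matrix.toLin' (sp i (pe i B) : Matrix ((Rst i → β) × β) ((Rst i → β) × β) F) = L :=
    ext_pure fun a b => by
      simp only [L, Matrix.toLin'_apply, sp_pe, k2_mulVec, Units.val_one, Matrix.one_mulVec, hBx b,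
        LinearMap.add_apply, LinearMap.sub_apply, LinearMap.smul_apply, LinearMap.comp_apply, LinearMap.id_apply,
        fac_apply, hsl, tmul_add_right, tmul_sub_right, tmul_smul_right, tmul_smul_left, smul_smul]
  have := LinearMap.congr_fun h1 t
  simpa only [L, Matrix.toLin'_apply, LinearMap.add_apply, LinearMap.sub_apply, LinearMap.smul_apply,
    LinearMap.comp_apply, LinearMap.id_apply, fac_apply] using this

/-- Conjugation by an element of the factor `i` changes the coefficients by signs. -/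
theorem coef_pe {i : κ} {g : GL ((Rst i → β) × β) F} {u y : W} {B : GL β F} (hB : B ∈ iso h) {σ : F}
    (hσ : σ * σ = 1) (hu : (B : Mb) *ᵥ u = u) (hy : (B : Mb) *ᵥ y = σ • y) (x : (Rst i → β) → F) :
    coef h u y (sp i (pe i B) * g * (sp i (pe i B))⁻¹) x = σ • coef h u y g x := by
  have hO := hM.sl' i
  refine hO.coef_conj (y' := y) id (fun v => σ • v) (fun a => ?_) (fun t => ?_) x
  · rw [sp_pe, k2_mulVec, Units.val_one, Matrix.one_mulVec, hu]; rfl
  · refine LinearMap.congr_fun (f := (sl h y).comp (Matrix.toLin' _)) (g := σ • sl h y) (ext_pure fun a b => ?_) t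
    rw [LinearMap.comp_apply, Matrix.toLin'_apply, sp_pe, k2_mulVec, Units.val_one, Matrix.one_mulVec, hO.sl_tmul,
      LinearMap.smul_apply, hO.sl_tmul, smul_smul]
    congr 1
    conv_rhs => rw [← hB b y, hy, hM.data.hh.smul_right, ← mul_assoc, hσ, one_mul]

set_option maxHeartbeats 2000000 in
/-- The coefficients of radical members are scalars. -/
theorem scal (i : κ) : Scal h (Mi M i) := by
  classical
  intro g hg z u hz hz0 huu hu hR y hy
  have hT := hM.data
  have hs := hT.hh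
  have hA : Sym (tf (κ := Rst i) c h) := hT.sym
  have hO := hM.sl' i
  have hN := hM.noRoot i
  have hiso : ∀ {k : GL ((Rst i → β) × β) F}, k ∈ Mi M i → k ∈ iso (tfs c h i) := fun hk => hO.gIso (hO.le hk)
  obtain ⟨b₀, b₁, e, he⟩ := hT.exists_midFrame hz huu hu
  by_cases h2κ : Fintype.card κ = 2
  · obtain ⟨μ, hμ⟩ := TensorOrth.Rad.scal (hM.ovr_two h2κ i) hN hR hg hz hz0 huu hu hy
    exact ⟨μ, fun x => by rw [coef_apply]; exact hμ x⟩
  have h3κ : 3 ≤ Fintype.card κ := by have := hM.ht; omega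
  have hκR : 2 ≤ Fintype.card (Rst i) := by have := card_rst_one i; omega
  obtain ⟨S, hS⟩ : ∃ S, S = (Finset.univ.erase b₀).erase b₁ := ⟨_, rfl⟩
  have hSm : ∀ a, a ∈ S ↔ a ≠ b₁ ∧ a ≠ b₀ := fun a => by simp [hS]
  have hev : ∀ a ∈ S, h (e a) (e a) ≠ 0 ∧ h (e a) z = 0 ∧ h (e a) u = 0 := fun a ha =>
    ⟨he.vne a ((hSm a).1 ha).2 ((hSm a).1 ha).1, he.perp a ((hSm a).1 ha).2 ((hSm a).1 ha).1⟩
  have hexp : ∀ w : W, w = h w u • z + h w z • u + ∑ a ∈ S, (h (e a) w / h (e a) (e a)) • e a := fun w =>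
    hS ▸ he.expand hT hz huu hu w
  -- the form on the orthogonal space of the line
  have hform : ∀ s t, sl h z s = 0 → sl h z t = 0 →
      tfs c h i s t = ∑ a ∈ S, (h (e a) (e a))⁻¹ * tf c h (sl h (e a) s) (sl h (e a) t) := by
    intro s t hs' ht
    let L : ((Rst i → β) × β → F) →ₗ[F] ((Rst i → β) × β → F) :=
      (fac z).comp (sl h u) + (fac u).comp (sl h z) + ∑ a ∈ S, (h (e a) (e a))⁻¹ • (fac (e a)).comp (sl h (e a))
    have hL : L = LinearMap.id := ext_pure fun x w => by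
      simp only [L, LinearMap.add_apply, LinearMap.comp_apply, LinearMap.coe_sum, Finset.sum_apply,
        LinearMap.smul_apply, fac_apply, hO.sl_tmul, LinearMap.id_apply]
      conv_rhs => rw [hexp w]
      simp only [← fac_apply]
      funext p
      simp only [fac_apply, Pi.add_apply, Finset.sum_apply, Pi.smul_apply, tmul, smul_eq_mul, div_eq_inv_mul,
        mul_add, Finset.mul_sum, hs.symm (e _) w]
      congr 1
      · ring
      · exact Finset.sum_congr rfl fun a _ => by ring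
    conv_lhs => rw [← LinearMap.id_apply (R := F) t, ← hL]
    simp only [L, LinearMap.add_apply, LinearMap.comp_apply, LinearMap.coe_sum, Finset.sum_apply,
      LinearMap.smul_apply, fac_apply, ht, tmul_zero_left, add_zero, (hT.sym_tfs i).add_right, hO.f_sl, hs',
      hA.zero_left, zero_add]
    rw [(hT.sym_tfs i).symm, ← (hT.sym_tfs i).lin_apply, map_sum]
    simp only [map_smul, (hT.sym_tfs i).lin_apply]
    refine Finset.sum_congr rfl fun a _ => ?_
    rw [(hT.sym_tfs i).smul_left, hO.f_sl', hA.symm]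
  have hpair : ∀ {k k' : GL ((Rst i → β) × β) F}, k ∈ Mi M i → Rad h k z → k' ∈ Mi M i → Rad h k' z → ∀ x x',
      ∑ a ∈ S, (h (e a) (e a))⁻¹ * tf c h (coef h u (e a) k x) (coef h u (e a) k' x') =
        ∑ a ∈ S, (h (e a) (e a))⁻¹ * tf c h (coef h u (e a) k' x) (coef h u (e a) k x') := by
    intro k k' hk hkR hk' hk'R x x'
    have h0 : ∀ {k : GL ((Rst i → β) × β) F}, k ∈ Mi M i → Rad h k z → ∀ x,
        sl h z ((k : Matrix ((Rst i → β) × β) ((Rst i → β) × β) F) *ᵥ tmul x u - tmul x u) = 0 :=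
      fun hk hkR x => hO.coef_self (hiso hk) hkR u x
    have := hO.rad_pair hN hkR hk hk'R hk' hz hz0 hu x x'
    rw [hform _ _ (h0 hk hkR x) (h0 hk' hk'R x'), hform _ _ (h0 hk' hk'R x) (h0 hk hkR x')] at this
    exact this
  -- one component
  let Sup : β → GL ((Rst i → β) × β) F → (((Rst i → β) → F) →ₗ[F] ((Rst i → β) → F)) → Prop := fun b k D =>
    k ∈ Mi M i ∧ Rad h k z ∧ ∀ a ∈ S, ∀ x, coef h u (e a) k x = if a = b then D x else 0
  let P : β → AddSubgroup (Matrix (Rst i → β) (Rst i → β) F) := fun b =>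
    { carrier := {D | ∃ k, Sup b k (Matrix.toLin' D)}
      zero_mem' := ⟨1, one_mem _, ⟨fun x => by simp, fun t ht => ⟨0, by simp [tmul_zero_left]⟩⟩, fun a _ x => by
        simp [coef_apply]⟩
      add_mem' := by
        rintro D D' ⟨k, hk, hkR, hkc⟩ ⟨k', hk', hk'R, hk'c⟩
        refine ⟨k * k', mul_mem hk hk', hO.rad_mul hkR hk'R (hiso hk'), fun a ha x => ?_⟩
        rw [hO.coef_mul hkR hk'R (hiso hk') (hev a ha).2.1, hkc a ha, hk'c a ha]
        by_cases hab : a = b <;> simp [hab, Matrix.add_mulVec]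
      neg_mem' := by
        rintro D ⟨k, hk, hkR, hkc⟩
        refine ⟨k⁻¹, inv_mem hk, hO.rad_inv hkR (hiso hk), fun a ha x => ?_⟩
        rw [hO.coef_inv hkR (hiso hk) (hev a ha).2.1, hkc a ha]
        by_cases hab : a = b <;> simp [hab, Matrix.neg_mulVec] }
  have heich : ∀ b ∈ S, ∃ k, Sup b k (h (e b) (e b) • LinearMap.id) := fun b hb => by
    obtain ⟨k, hk, -, hkx⟩ := hO.exists_eichB hz (hev b hb).2.1
    refine ⟨k, hk, hO.eich_rad hz (hev b hb).2.1 hkx, fun a ha x => ?_⟩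
    rw [hO.coef_eich hkx hu (hev a ha).2.1 x]
    by_cases hab : a = b
    · subst hab; rw [if_pos rfl]; rfl
    · rw [if_neg hab, he.orth b a (Ne.symm hab), zero_smul]
  have hsup : ∀ {b}, b ∈ S → ∀ {k k' D D'}, Sup b k D → Sup b k' D' → ∀ x x',
      tf c h (D x) (D' x') = tf c h (D' x) (D x') := by
    intro b hb k k' D D' hk hk' x x'
    have h1 := hpair hk.1 hk.2.1 hk'.1 hk'.2.1 x x'
    rw [Finset.sum_eq_single b (fun a ha hab => by rw [hk.2.2 a ha, if_neg hab, hA.zero_left, mul_zero])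
        (fun hn => absurd hb hn),
      Finset.sum_eq_single b (fun a ha hab => by rw [hk'.2.2 a ha, if_neg hab, hA.zero_left, mul_zero])
        (fun hn => absurd hb hn),
      hk.2.2 b hb, hk.2.2 b hb, hk'.2.2 b hb, hk'.2.2 b hb, if_pos rfl, if_pos rfl, if_pos rfl, if_pos rfl] at h1
    exact mul_left_cancel₀ (inv_ne_zero (hev b hb).1) h1
  have hcj : ∀ (b : β) (l : Rst i) (B : GL β F), pe l.1 B ∈ GT (κ := κ) c h → ∀ D ∈ P b,
      et l (B : Mb) * D * et l ((B⁻¹ : GL β F) : Mb) ∈ P b := by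
    rintro b l B hB D ⟨k, hk, hkR, hkc⟩
    obtain ⟨K, hK⟩ : ∃ K, K = sp i (pe l.1 B) := ⟨_, rfl⟩
    have hKM : K ∈ Mi M i := hK ▸ mem_Mi.2 (hM.pe_mem hB)
    have hKv : ∀ x w, (K : Matrix ((Rst i → β) × β) ((Rst i → β) × β) F) *ᵥ tmul x w =
        tmul ((pe l B : Matrix (Rst i → β) (Rst i → β) F) *ᵥ x) w := fun x w => by
      rw [hK, sp_pe_ne l.2, k2_mulVec, Units.val_one, Matrix.one_mulVec]
    refine ⟨K * k * K⁻¹, mul_mem (mul_mem hKM hk) (inv_mem hKM),
      hO.rad_conj hkR (hiso hKM) fun x => ⟨_, hKv x z⟩, fun a ha x => ?_⟩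
    rw [hO.coef_conj (y' := e a) (fun v => (((pe l B)⁻¹ : GL (Rst i → β) F) : Matrix _ _ F) *ᵥ v)
      (fun v => (pe l B : Matrix (Rst i → β) (Rst i → β) F) *ᵥ v) (fun x => by rw [hKv, mulVec_inv_cancel])
      (fun t => LinearMap.congr_fun (f := (sl h (e a)).comp (Matrix.toLin' (K : Matrix ((Rst i → β) × β) ((Rst i → β) × β) F)))
        (g := (Matrix.toLin' (pe l B : Matrix (Rst i → β) (Rst i → β) F)).comp (sl h (e a)))
        (ext_pure fun v w => by
          simp only [LinearMap.comp_apply, Matrix.toLin'_apply, hKv, hO.sl_tmul, Matrix.mulVec_smul]) t),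
      hkc a ha, et_val, et_val, map_inv, Matrix.toLin'_apply, Matrix.toLin'_apply, ← Matrix.mulVec_mulVec,
      ← Matrix.mulVec_mulVec]
    split_ifs
    · rfl
    · rw [Matrix.mulVec_zero]
  have hinv : ∀ b, SlotInv c h (P b) := fun b => by
    constructor
    · exact fun l B _ hB D hD => hcj b l B (emb_pe i l B ▸ hT.emb_GT hB) D hD
    · exact fun hev' l v hv B hB hBx D hD => hcj b l B (hT.refl_mem hev' h3κ l.1 hv hB hBx) D hD
    · rintro r D ⟨k, hk, hkR, hkc⟩
      rcases eq_or_ne r 0 with rfl | hr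
      · simp only [mul_zero, zero_smul]
        exact (P b).zero_mem
      obtain ⟨B, hB, hBz, hBu, hBw, hGB, -⟩ := hT.exists_torus i hz huu hu
        (mul_ne_zero (mul_ne_zero (mul_ne_zero hr hr) hr) hr)
      have hBG : pe i B ∈ GT c h := hGB (Or.inr ⟨r * r, by ring⟩)
      obtain ⟨K, hK⟩ : ∃ K, K = sp i (pe i B) := ⟨_, rfl⟩
      have hKM : K ∈ Mi M i := hK ▸ mem_Mi.2 (hM.pe_mem hBG)
      have hKv : ∀ x w, (K : Matrix ((Rst i → β) × β) ((Rst i → β) × β) F) *ᵥ tmul x w = tmul x ((B : Mb) *ᵥ w) := fun x w => by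
        rw [hK, sp_pe, k2_mulVec, Units.val_one, Matrix.one_mulVec]
      have hl0 : r * r * r * r ≠ 0 := mul_ne_zero (mul_ne_zero (mul_ne_zero hr hr) hr) hr
      refine ⟨K * k * K⁻¹, mul_mem (mul_mem hKM hk) (inv_mem hKM),
        hO.rad_conj hkR (hiso hKM) fun x => ⟨(r * r * r * r) • x, by
          rw [hKv, hBz, tmul_smul_right, tmul_smul_left]⟩, fun a ha x => ?_⟩
      rw [hO.coef_conj (y' := e a) (fun v => (r * r * r * r) • v) id (fun x => by
          rw [hKv, hBu, tmul_smul_left, tmul_smul_right, smul_smul, mul_inv_cancel₀ hl0, one_smul])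
        (fun t => LinearMap.congr_fun (f := (sl h (e a)).comp (Matrix.toLin' (K : Matrix ((Rst i → β) × β) ((Rst i → β) × β) F)))
          (g := sl h (e a)) (ext_pure fun v w => by
            rw [LinearMap.comp_apply, Matrix.toLin'_apply, hKv, hO.sl_tmul, hO.sl_tmul]
            conv_rhs => rw [← hB w (e a), hBw _ (hev a ha).2.1 (hev a ha).2.2]) t),
        id, hkc a ha, map_smul (Matrix.toLin') (r * r * r * r) D, LinearMap.smul_apply, map_smul]
  have hscal : ∀ b ∈ S, ∀ D ∈ P b, ∃ r : F, D = r • 1 := by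
    intro b hb D₀ hD₀
    by_contra hns
    have hpc : ∀ D ∈ P b, ∀ D' ∈ P b, D * D' = D' * D := by
      rintro D ⟨k, hk⟩ D' ⟨k', hk'⟩
      have hsa : ∀ {k D}, Sup b k D → ∀ x x', tf c h (D x) x' = tf c h x (D x') := by
        intro k D hk x x'
        obtain ⟨k', hk'⟩ := heich b hb
        have h1 := hsup hb hk hk' x x'
        simp only [LinearMap.smul_apply, LinearMap.id_apply, hA.smul_left, hA.smul_right] at h1
        exact mul_left_cancel₀ (hev b hb).1 h1
      refine Matrix.ext_iff_mulVec.2 fun x => hA.eq_of_forall fun x' => ?_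
      rw [← Matrix.mulVec_mulVec, ← Matrix.mulVec_mulVec, ← Matrix.toLin'_apply D, ← Matrix.toLin'_apply D',
        ← Matrix.toLin'_apply D', ← Matrix.toLin'_apply D, hsa hk (Matrix.toLin' D' x) x',
        hsa hk' (Matrix.toLin' D x) x']
      exact hsup hb hk' hk x x'
    obtain ⟨a, v, haa, hvv, hva⟩ := hs.exists_hyp hT.two hT.three
    obtain ⟨r, gs, hr, hkind, ⟨l₀, hl₀⟩, hmem⟩ :=
      hT.pattern hM.hex hκR (hinv b) haa hvv hva hD₀ fun r e0 => hns ⟨r, e0⟩
    obtain ⟨Gs, hGs⟩ : ∃ Gs : Rst i → Mb, Gs = fun l => LinearMap.toMatrix' (gs l) := ⟨_, rfl⟩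
    have hk : ∀ l, Knd hs a v (Gs l) := fun l => hGs ▸ knd_of_kind (hkind l)
    rw [← hGs] at hmem
    have hav : h a v = 1 := by rw [hs.symm, hva]
    have hflip : ∀ l : Rst i, ∃ B : GL β F, B ∈ iso h ∧ pe l B ∈ GT c h ∧
        Gs l *ᵥ (((B : Mb) * Gs l * ((B⁻¹ : GL β F) : Mb)) *ᵥ a) ≠ 0 ∧ (Gs l ≠ 1 → Gs l *ᵥ a = 0) := by
      intro l
      obtain ⟨f₀, hf, hff⟩ := hs.exists_aniso hT.two (hs.ndOn_perp2 hvv haa hva)
        (Submodule.exists_mem_ne_zero_of_ne_bot fun h0 => by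
          have := hs.finrank_perp2 v a; have := hT.three; rw [h0, finrank_bot] at *; omega)
      have ha0 : a ≠ 0 := fun e0 => one_ne_zero (by rw [← hva, e0, hs.zero_right])
      rcases hk l with e1 | e1 | ⟨w, hw, hww, e1⟩
      · obtain ⟨-, -, B, hB, hBG, -⟩ := hT.exists_swap l haa hvv hva (show h f₀ a = 0 from hf.2)
          (show h f₀ v = 0 from hf.1) hff
        refine ⟨B, hB, hBG, ?_, fun hne => absurd e1 hne⟩
        rw [e1, mul_one, ← Units.val_mul, mul_inv_cancel, Units.val_one, Matrix.one_mulVec, Matrix.one_mulVec]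
        exact ha0
      · obtain ⟨s, hs0, B, hB, hBG, hBa, -⟩ := hT.exists_swap l haa hvv hva (show h f₀ a = 0 from hf.2)
          (show h f₀ v = 0 from hf.1) hff
        refine ⟨B, hB, hBG, ?_, fun _ => by rw [e1, rk_mulVec, haa, zero_smul]⟩
        rw [e1, rk_conj hs hB, hBa, rk_mulVec hs (s • v) (s • v) a, hs.smul_right, hav, mul_one, smul_smul, Matrix.mulVec_smul, rk_mulVec,
          hva, one_smul]
        exact smul_ne_zero (mul_ne_zero hs0 hs0) ha0
      · obtain ⟨s, hs0, B, hB, hBG, hBa, -, hBe, -⟩ := hT.exists_swap l haa hvv hva (show h w a = 0 from hw.2)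
          (show h w v = 0 from hw.1) hww
        refine ⟨B, hB, hBG, ?_, fun _ => by
          rw [e1, Matrix.sub_mulVec, rk_mulVec, rk_mulVec, haa, hs.symm a w, (show h w a = 0 from hw.2), zero_smul,
            zero_smul, sub_zero]⟩
        have hin : ((B : Mb) * Gs l * ((B⁻¹ : GL β F) : Mb)) *ᵥ a = (-s) • w := by
          rw [e1, mul_sub, sub_mul, rk_conj hs hB, rk_conj hs hB, hBa, hBe, Matrix.sub_mulVec, rk_mulVec, rk_mulVec,
            hs.smul_right, hav, hs.neg_right, hs.symm a w, (show h w a = 0 from hw.2)]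
          simp
        rw [hin, e1, Matrix.mulVec_smul, Matrix.sub_mulVec, rk_mulVec, rk_mulVec, (show h w a = 0 from hw.2),
          zero_smul, zero_sub]
        exact smul_ne_zero (neg_ne_zero.2 hs0) (neg_ne_zero.2 (smul_ne_zero hww ha0))
    choose B hB hBG hne hzero using hflip
    obtain ⟨Gs', hGs'⟩ : ∃ Gs' : Rst i → Mb, Gs' = fun l => (B l : Mb) * Gs l * (((B l)⁻¹ : GL β F) : Mb) := ⟨_, rfl⟩
    have hall : ∀ s : Finset (Rst i), r • wm 1 (fun l => if l ∈ s then Gs' l else Gs l) ∈ P b := by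
      intro s
      induction s using Finset.induction_on with
      | empty => simpa using hmem
      | insert q s hq ih =>
        have h1 := (hinv b).conj q (B q) (hB q) (hBG q) _ ih
        rw [Matrix.mul_smul, Matrix.smul_mul,
          wm_conj _ _ _ _ (by rw [← Units.val_mul, mul_inv_cancel, Units.val_one]), if_neg hq] at h1
        convert h1 using 2
        refine wm_congr rfl fun p => ?_
        by_cases e0 : p = q
        · subst e0; simp [hGs']
        · simp [e0]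
    have hX' := hall Finset.univ
    simp only [Finset.mem_univ, if_true] at hX'
    have h1 := congrArg (fun A : Matrix (Rst i → β) (Rst i → β) F => A *ᵥ ptens fun _ : Rst i => a)
      (hpc _ hmem _ hX')
    simp only [← Matrix.mulVec_mulVec, Matrix.smul_mulVec, wm_ptens, Matrix.mulVec_smul, smul_smul] at h1
    rw [show (ptens fun l : Rst i => Gs' l *ᵥ (Gs l *ᵥ a)) = 0 from funext fun p => Finset.prod_eq_zero
        (Finset.mem_univ l₀) (by
          show (Gs' l₀ *ᵥ (Gs l₀ *ᵥ a)) (p l₀) = 0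
          rw [hzero l₀ fun e0 => hl₀ (LinearMap.toMatrix'.injective
            (((congrFun hGs l₀).symm.trans e0).trans LinearMap.toMatrix'_id.symm)), Matrix.mulVec_zero]
          rfl), smul_zero, smul_eq_zero] at h1
    exact ptens_ne_zero (fun l => by rw [hGs']; exact hne l) (h1.resolve_left (mul_ne_zero hr hr))
  -- extracting one component
  obtain ⟨p, hp⟩ := CharP.exists F
  haveI : Fact p.Prime := ⟨CharP.char_is_prime F p⟩
  have hodd : p % 2 = 1 := (Fact.out (p := p.Prime)).eq_two_or_odd.resolve_left fun h' => by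
    subst h'; exact hT.two CharTwo.two_eq_zero
  have hh : ((p + 1) / 2 : ℕ) * (2 : F) = 1 := by
    rw [show (2 : F) = ((2 : ℕ) : F) by norm_num, ← Nat.cast_mul, show (p + 1) / 2 * 2 = p + 1 by omega,
      Nat.cast_add, CharP.cast_eq_zero, zero_add, Nat.cast_one]
  have hcomp : ∀ b ∈ S, LinearMap.toMatrix' (coef h u (e b) g) ∈ P b := by
    intro b hb
    by_cases h3 : Fintype.card β = 3
    · refine ⟨g, hg, hR, fun a ha x => ?_⟩
      have hcard : S.card ≤ 1 := by
        rw [hS, Finset.card_erase_of_mem (Finset.mem_erase.2 ⟨he.ne.symm, Finset.mem_univ _⟩),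
          Finset.card_erase_of_mem (Finset.mem_univ _), Finset.card_univ]
        omega
      rw [if_pos (Finset.card_le_one.1 hcard a ha b hb), Matrix.toLin'_toMatrix',
        Finset.card_le_one.1 hcard a ha b hb]
    have move : ∀ (T : β → Prop) [DecidablePred T] (B : GL β F), B ∈ iso h → pe i B ∈ GT (κ := κ) c h →
        (B : Mb) *ᵥ z = z → (B : Mb) *ᵥ u = u →
        (∀ a ∈ S, (B : Mb) *ᵥ e a = (if T a then -1 else 1 : F) • e a) →
        ∀ (k : GL ((Rst i → β) × β) F), k ∈ Mi M i → Rad h k z → ∃ k', k' ∈ Mi M i ∧ Rad h k' z ∧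
          ∀ a ∈ S, ∀ x, coef h u (e a) k' x = (if T a then (2 : F) else 0) • coef h u (e a) k x := by
      intro T _ B hB hBG hBz hBu hBe k hk hkR
      obtain ⟨K, hK⟩ : ∃ K, K = sp i (pe i B) := ⟨_, rfl⟩
      have hKM : K ∈ Mi M i := hK ▸ mem_Mi.2 (hM.pe_mem hBG)
      have hR' : Rad h (K * k * K⁻¹) z := hO.rad_conj hkR (hiso hKM) fun x => ⟨x, by
        rw [hK, sp_pe, k2_mulVec, Units.val_one, Matrix.one_mulVec, hBz]⟩
      have hk'M : K * k * K⁻¹ ∈ Mi M i := mul_mem (mul_mem hKM hk) (inv_mem hKM)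
      refine ⟨k * (K * k * K⁻¹)⁻¹, mul_mem hk (inv_mem hk'M),
        hO.rad_mul hkR (hO.rad_inv hR' (hiso hk'M)) (inv_mem (hiso hk'M)), fun a ha x => ?_⟩
      rw [hO.coef_mul hkR (hO.rad_inv hR' (hiso hk'M)) (inv_mem (hiso hk'M)) (hev a ha).2.1,
        hO.coef_inv hR' (hiso hk'M) (hev a ha).2.1, hK,
        hM.coef_pe hB (σ := if T a then -1 else 1) (by split_ifs <;> ring) hBu (hBe a ha)]
      split_ifs <;> module
    have hfour : ∀ k, k ∈ Mi M i → Rad h k z →
        (∀ a ∈ S, ∀ x, coef h u (e a) k x = (if a = b then (4 : F) else 0) • coef h u (e a) g x) →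
        LinearMap.toMatrix' (coef h u (e b) g) ∈ P b := by
      intro k hk hkR hc
      have h4 : (4 : F) • LinearMap.toMatrix' (coef h u (e b) g) ∈ P b := by
        refine ⟨k, hk, hkR, fun a ha x => ?_⟩
        rw [hc a ha]
        by_cases h1 : a = b
        · subst h1
          rw [if_pos rfl, if_pos rfl, map_smul, Matrix.toLin'_toMatrix', LinearMap.smul_apply]
        · rw [if_neg h1, if_neg h1, zero_smul]
      have h5 := (P b).nsmul_mem h4 ((p + 1) / 2 * ((p + 1) / 2))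
      rwa [← Nat.cast_smul_eq_nsmul F, smul_smul, Nat.cast_mul,
        show ((((p + 1) / 2 : ℕ) : F) * (((p + 1) / 2 : ℕ) : F)) * 4 = 1 by
          linear_combination ((((p + 1) / 2 : ℕ) : F) * 2 + 1) * hh, one_smul] at h5
    rcases Nat.even_or_odd (Fintype.card β) with hevk | hoddk
    · obtain ⟨B, hB, hBx⟩ := hT.exists_hrefl (hev b hb).1
      have hmv := move (· = b) B hB (hT.refl_mem hevk h3κ i (hev b hb).1 hB hBx)
        (by rw [hBx, hs.symm z (e b), (hev b hb).2.1]; simp)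
        (by rw [hBx, hs.symm u (e b), (hev b hb).2.2]; simp) fun a ha => by
          by_cases h1 : a = b
          · subst h1
            rw [if_pos rfl, hBx]
            have := (hev a hb).1
            match_scalars <;> field_simp <;> ring
          · rw [if_neg h1, hBx, he.orth _ _ h1]; simp
      obtain ⟨k₁, hk₁, hk₁R, hc₁⟩ := hmv g hg hR
      obtain ⟨k₂, hk₂, hk₂R, hc₂⟩ := hmv k₁ hk₁ hk₁R
      refine hfour k₂ hk₂ hk₂R fun a ha x => ?_
      rw [hc₂ a ha, hc₁ a ha, smul_smul]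
      split_ifs <;> norm_num
    obtain ⟨b', hb', hbb', b'', hb'', hbb'', hb'b''⟩ : ∃ b' ∈ S, b ≠ b' ∧ ∃ b'' ∈ S, b ≠ b'' ∧ b' ≠ b'' := by
      have hc : 3 ≤ S.card := by
        rw [hS, Finset.card_erase_of_mem (Finset.mem_erase.2 ⟨he.ne.symm, Finset.mem_univ _⟩),
          Finset.card_erase_of_mem (Finset.mem_univ _), Finset.card_univ]
        obtain ⟨r, hr⟩ := hoddk
        have := hT.three
        omega
      obtain ⟨b', hb', b'', hb'', hne⟩ := Finset.one_lt_card.1
        (show 1 < (S.erase b).card by rw [Finset.card_erase_of_mem hb]; omega)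
      exact ⟨b', (Finset.mem_erase.1 hb').2, fun e0 => (Finset.mem_erase.1 hb').1 e0.symm, b'',
        (Finset.mem_erase.1 hb'').2, fun e0 => (Finset.mem_erase.1 hb'').1 e0.symm, hne⟩
    have step : ∀ {k : GL ((Rst i → β) × β) F}, k ∈ Mi M i → Rad h k z → ∀ a' ∈ S, b ≠ a' →
        ∃ k', k' ∈ Mi M i ∧ Rad h k' z ∧ ∀ a ∈ S, ∀ x,
          coef h u (e a) k' x = (if a = b ∨ a = a' then (2 : F) else 0) • coef h u (e a) k x := by
      intro k hk hkR a' ha' hba'
      obtain ⟨B, hB, hBG, hBx⟩ := hT.exists_pair i (v := e b) (w := e a') (hev b hb).1 (hev a' ha').1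
        ((he.pair b a' ((hSm b).1 hb).2 ((hSm b).1 hb).1 ((hSm a').1 ha').2 ((hSm a').1 ha').1).imp
          (fun h' => ⟨h', hM.ht⟩) id) (he.orth _ _ hba')
      refine move (fun a => a = b ∨ a = a') B hB hBG ?_ ?_ (fun a ha => ?_) k hk hkR
      · rw [hBx, hs.symm z (e b), hs.symm z (e a'), (hev b hb).2.1, (hev a' ha').2.1]; simp
      · rw [hBx, hs.symm u (e b), hs.symm u (e a'), (hev b hb).2.2, (hev a' ha').2.2]; simp
      · by_cases h1 : a = b
        · subst h1
          rw [if_pos (Or.inl rfl), hBx, he.orth _ _ hba']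
          have := (hev a ha).1
          match_scalars <;> field_simp <;> ring
        by_cases h2 : a = a'
        · subst h2
          rw [if_pos (Or.inr rfl), hBx, he.orth _ _ (Ne.symm hba')]
          have := (hev a ha).1
          match_scalars <;> field_simp <;> ring
        rw [if_neg (by simp [h1, h2]), hBx, he.orth _ _ h1, he.orth _ _ h2]
        simp
    obtain ⟨k₁, hk₁, hk₁R, hc₁⟩ := step hg hR b' hb' hbb'
    obtain ⟨k₂, hk₂, hk₂R, hc₂⟩ := step hk₁ hk₁R b'' hb'' hbb''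
    refine hfour k₂ hk₂ hk₂R fun a ha x => ?_
    rw [hc₂ a ha, hc₁ a ha, smul_smul]
    by_cases h1 : a = b
    · subst h1; simp only [true_or, if_true]; norm_num
    · by_cases h2 : a = b'
      · subst h2; simp [h1, hb'b'']
      · simp [h1, h2]
  -- all vectors
  let Y : Submodule F W :=
    { carrier := {w | ∃ μ : F, ∀ x, coef h u w g x = μ • x}
      add_mem' := fun {v w} ⟨μ, hv⟩ ⟨ν, hw⟩ => ⟨μ + ν, fun x => by rw [hO.coef_add, hv, hw, add_smul]⟩
      zero_mem' := ⟨0, fun x => by rw [← zero_smul F (0 : W), hO.coef_smul, zero_smul, zero_smul]⟩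
      smul_mem' := fun r w ⟨μ, hw⟩ => ⟨r * μ, fun x => by rw [hO.coef_smul, hw, mul_smul]⟩ }
  show y ∈ Y
  rw [hexp y, hy, zero_smul, add_zero]
  refine add_mem (Y.smul_mem _ ⟨0, fun x => by rw [hO.coef_self (hiso hg) hR, zero_smul]⟩)
    (Y.sum_mem fun b hb => Y.smul_mem _ ?_)
  obtain ⟨r, hr⟩ := hscal b hb _ (hcomp b hb)
  refine ⟨r, fun x => ?_⟩
  rw [← Matrix.toLin'_toMatrix' (coef h u (e b) g), hr, map_smul, Matrix.toLin'_one]
  rfl

set_option maxHeartbeats 1000000 in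
/-- An element of the derived group, diagonal on a frame and outside the stabiliser, is not a member times a radical
element. -/
theorem no_diag (i : κ) {z : W} (hz : h z z = 0) (hz0 : z ≠ 0) (hκR : 2 ≤ Fintype.card (Rst i)) {e : β → W} (he : Orth h e)
    {A : GL (Rst i → β) F} (hA : A ∈ GT (κ := Rst i) c h) (hAW : A ∉ Wr F (Rst i) β)
    (hAd : ∀ y : Rst i → β, ∃ s : F, (A : Matrix (Rst i → β) (Rst i → β) F) *ᵥ ptens (fun l => e (y l)) =
      s • ptens (fun l => e (y l)))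
    {r : GL X F} (hr : r ∈ GT (κ := κ) c h) (hrR : Rad h (sp i r) z) (hM' : emb i A * r ∈ M) : False := by
  classical
  have hT := hM.data
  have hs := hT.hh
  have hO := hM.sl' i
  have hN := hM.noRoot i
  have hiso : ∀ {k : GL ((Rst i → β) × β) F}, k ∈ Mi M i → k ∈ iso (tfs c h i) := fun hk => hO.gIso (hO.le hk)
  obtain ⟨u, huu, hu⟩ := hs.exists_partner hT.two hz hz0
  obtain ⟨R, hR⟩ : ∃ R, R = sp i r := ⟨_, rfl⟩
  rw [← hR] at hrR
  have hRi : R ∈ iso (tfs c h i) := hR ▸ (hT.sp_iso i).2 (hT.gt_le_iso hr)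
  obtain ⟨KA, hKA⟩ : ∃ KA, KA = k2 A (1 : GL β F) := ⟨_, rfl⟩
  have hKAR : KA * R ∈ Mi M i := by
    rw [hKA, ← sp_emb, hR, ← map_mul]; exact mem_Mi.2 hM'
  have hKAi : KA ∈ iso (tfs c h i) := by
    rw [hKA, ← sp_emb]; exact (hT.sp_iso i).2 (hT.emb_iso (hT.gt_le_iso hA))
  have hKv : ∀ x w, (KA : Matrix ((Rst i → β) × β) ((Rst i → β) × β) F) *ᵥ tmul x w =
      tmul ((A : Matrix (Rst i → β) (Rst i → β) F) *ᵥ x) w := fun x w => by
    rw [hKA, k2_mulVec, Units.val_one, Matrix.one_mulVec]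
  -- coefficients are scalars where an element of the factor acts by a sign or a multiple
  have key : ∀ (B : GL β F), pe i B ∈ GT c h → ∀ s l : F, (B : Mb) *ᵥ u = s • u → s * l = 1 →
      ∀ zc : F, (B : Mb) *ᵥ z = zc • z → ∀ y, h y z = 0 → ∀ σ : F, (∀ w, h ((B : Mb) *ᵥ w) y = σ * h w y) →
        σ * l ≠ 1 → ∃ μ : F, ∀ x, coef h u y R x = μ • x := by
    intro B hBG s l hBu hsl zc hBz y hy σ hσ hne
    obtain ⟨K, hK⟩ : ∃ K, K = sp i (pe i B) := ⟨_, rfl⟩
    have hKM : K ∈ Mi M i := hK ▸ mem_Mi.2 (hM.pe_mem hBG)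
    have hK' : ∀ x w, (K : Matrix ((Rst i → β) × β) ((Rst i → β) × β) F) *ᵥ tmul x w = tmul x ((B : Mb) *ᵥ w) :=
      fun x w => by rw [hK, sp_pe, k2_mulVec, Units.val_one, Matrix.one_mulVec]
    have hcom : K * KA = KA * K := by
      rw [hK, hKA, sp_pe, k2_mul, k2_mul, one_mul, mul_one, mul_one, one_mul]
    obtain ⟨Q, hQ⟩ : ∃ Q, Q = K * R * K⁻¹ * R⁻¹ := ⟨_, rfl⟩
    have hcM : KA * Q * KA⁻¹ ∈ Mi M i := by
      have h1 := mul_mem (mul_mem (mul_mem hKM hKAR) (inv_mem hKM)) (inv_mem hKAR)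
      convert h1 using 1
      rw [hQ, _root_.mul_inv_rev, ← mul_assoc K KA R, hcom]
      simp only [mul_assoc]
    have hR1 : Rad h (K * R * K⁻¹) z := hO.rad_conj hrR (hiso hKM) fun x => ⟨zc • x, by
      rw [hK', hBz, tmul_smul_right, tmul_smul_left]⟩
    have hRi1 : K * R * K⁻¹ ∈ iso (tfs c h i) := mul_mem (mul_mem (hiso hKM) hRi) (inv_mem (hiso hKM))
    have hQR : Rad h Q z := hQ ▸ hO.rad_mul hR1 (hO.rad_inv hrR hRi) (inv_mem hRi)
    obtain ⟨μ, hμ⟩ := hM.scal i _ hcM z u hz hz0 huu hu (hO.rad_conj hQR hKAi fun x => ⟨_, hKv x z⟩) y hy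
    refine ⟨μ / (σ * l - 1), fun x => ?_⟩
    have h1 := hμ ((A : Matrix (Rst i → β) (Rst i → β) F) *ᵥ x)
    rw [hO.coef_conj (y' := y) (fun v => ((A⁻¹ : GL (Rst i → β) F) : Matrix (Rst i → β) (Rst i → β) F) *ᵥ v)
      (fun v => (A : Matrix (Rst i → β) (Rst i → β) F) *ᵥ v) (fun v => by rw [hKv, mulVec_inv_cancel])
      (fun t => LinearMap.congr_fun (f := (sl h y).comp (Matrix.toLin' (KA : Matrix _ _ F)))
        (g := (Matrix.toLin' (A : Matrix (Rst i → β) (Rst i → β) F)).comp (sl h y))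
        (ext_pure fun v w => by
          simp only [LinearMap.comp_apply, Matrix.toLin'_apply, hKv, hO.sl_tmul, Matrix.mulVec_smul]) t),
      inv_mulVec_cancel, ← Matrix.mulVec_smul] at h1
    have h2 := gl_mulVec_injective A h1
    rw [hQ, hO.coef_mul hR1 (hO.rad_inv hrR hRi) (inv_mem hRi) hy, hO.coef_inv hrR hRi hy,
      hO.coef_conj (y' := y) (fun v => l • v) (fun v => σ • v) (fun v => by
        rw [hK', hBu, tmul_smul_left, tmul_smul_right, smul_smul, mul_comm, hsl, one_smul])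
      (fun t => LinearMap.congr_fun (f := (sl h y).comp (Matrix.toLin' (K : Matrix _ _ F))) (g := σ • sl h y)
        (ext_pure fun v w => by
          rw [LinearMap.comp_apply, Matrix.toLin'_apply, hK', hO.sl_tmul, LinearMap.smul_apply, hO.sl_tmul,
            smul_smul, hσ]) t), map_smul, smul_smul] at h2
    rw [div_eq_inv_mul, mul_smul, ← h2, ← sub_eq_add_neg]
    have e : ∀ v : (Rst i → β) → F, (σ * l) • v - v = (σ * l - 1) • v := fun v => by rw [sub_smul, one_smul]
    rw [e, smul_smul, inv_mul_cancel₀ (sub_ne_zero.2 hne), one_smul]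
  obtain ⟨b₀, b₁, f, hf⟩ := hT.exists_midFrame hz huu hu
  have hscal : ∀ y, h y z = 0 → ∃ μ : F, ∀ x, coef h u y R x = μ • x := by
    have hmid : ∀ a, a ≠ b₀ → a ≠ b₁ → ∃ μ : F, ∀ x, coef h u (f a) R x = μ • x := by
      intro a ha0 ha1
      by_cases h3 : Fintype.card β = 3
      · obtain ⟨m, hm0, hm⟩ : ∃ m : F, m ≠ 0 ∧ m * m ≠ 1 := by
          have hq := five_le_card hT.two fun e0 => hM.hex ⟨e0, h3⟩
          by_contra hc
          push Not at hc
          have h1 := Finset.card_le_card (show (Finset.univ : Finset F) ⊆ ({0, 1, -1} : Finset F) from fun m _ => by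
            simp only [Finset.mem_insert, Finset.mem_singleton]
            by_cases hm : m = 0
            · exact Or.inl hm
            · exact Or.inr (mul_self_eq_one_iff.1 (hc m hm)))
          rw [Finset.card_univ] at h1
          have := h1.trans Finset.card_le_three
          omega
        obtain ⟨B, hB, hBz, hBu, hBw, hGB, -⟩ := hT.exists_torus i hz huu hu (mul_ne_zero hm0 hm0)
        have hBG : pe i B ∈ GT c h := hGB (Or.inr ⟨m, rfl⟩)
        refine key B hBG (m * m)⁻¹ (m * m) hBu (inv_mul_cancel₀ (mul_ne_zero hm0 hm0)) (m * m) hBz (f a)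
          (hf.perp a ha0 ha1).1 1 (fun w => ?_) (by rwa [one_mul])
        rw [one_mul]
        conv_rhs => rw [← hB w (f a), hBw _ (hf.perp a ha0 ha1).1 (hf.perp a ha0 ha1).2]
      · obtain ⟨a', ha', hne⟩ : ∃ a', (a' ≠ b₀ ∧ a' ≠ b₁) ∧ a ≠ a' := by
          obtain ⟨a', ha', hne⟩ := Finset.exists_mem_ne
            (show 1 < ((Finset.univ.erase b₀).erase b₁).card by
              rw [Finset.card_erase_of_mem (Finset.mem_erase.2 ⟨hf.ne.symm, Finset.mem_univ _⟩),
                Finset.card_erase_of_mem (Finset.mem_univ _), Finset.card_univ]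
              have := hT.three
              omega) a
          simp only [Finset.mem_erase, Finset.mem_univ, and_true] at ha'
          exact ⟨a', ⟨ha'.2, ha'.1⟩, hne.symm⟩
        have hva := hf.vne a ha0 ha1
        have hva' := hf.vne a' ha'.1 ha'.2
        obtain ⟨B, hB, hBG, hBx⟩ := hT.exists_pair i (v := f a) (w := f a') hva hva'
          ((hf.pair a a' ha0 ha1 ha'.1 ha'.2).imp (fun h' => ⟨h', hM.ht⟩) id) (hf.orth _ _ hne)
        have hfix : ∀ v, h v (f a) = 0 → h v (f a') = 0 → (B : Mb) *ᵥ v = v := fun v h1 h2 => by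
          rw [hBx, h1, h2]; simp
        have hneg : (B : Mb) *ᵥ f a = (-1 : F) • f a := by
          rw [hBx, hf.orth _ _ hne]
          match_scalars <;> field_simp <;> ring
        refine key B hBG 1 1 (by rw [one_smul, hfix u (by rw [hs.symm]; exact (hf.perp a ha0 ha1).2)
            (by rw [hs.symm]; exact (hf.perp a' ha'.1 ha'.2).2)]) (one_mul 1) 1
          (by rw [one_smul, hfix z (by rw [hs.symm]; exact (hf.perp a ha0 ha1).1)
            (by rw [hs.symm]; exact (hf.perp a' ha'.1 ha'.2).1)]) (f a) (hf.perp a ha0 ha1).1 (-1) (fun w => ?_)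
          fun e0 => hT.two (by linear_combination -e0)
        conv_rhs => rw [← hB w (f a), hneg, hs.smul_right]
        ring
    intro y hy
    let Y : Submodule F W :=
      { carrier := {w | ∃ μ : F, ∀ x, coef h u w R x = μ • x}
        add_mem' := fun {v w} ⟨μ, hv⟩ ⟨ν, hw⟩ => ⟨μ + ν, fun x => by rw [hO.coef_add, hv, hw, add_smul]⟩
        zero_mem' := ⟨0, fun x => by rw [← zero_smul F (0 : W), hO.coef_smul, zero_smul, zero_smul]⟩
        smul_mem' := fun t w ⟨μ, hw⟩ => ⟨t * μ, fun x => by rw [hO.coef_smul, hw, mul_smul]⟩ }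
    show y ∈ Y
    rw [hf.expand hT hz huu hu y, hy, zero_smul, add_zero]
    refine add_mem (Y.smul_mem _ ⟨0, fun x => by rw [hO.coef_self hRi hrR, zero_smul]⟩)
      (Y.sum_mem fun b hb => Y.smul_mem _ ?_)
    simp only [Finset.mem_erase, Finset.mem_univ, and_true] at hb
    exact hmid b hb.2 hb.1
  -- the root element
  obtain ⟨y, -, g, hg, -, -, D, hD⟩ := hO.rad_root hrR hRi hz hu hscal
  obtain ⟨Z, hZ⟩ : ∃ Z, Z = R * g⁻¹ := ⟨_, rfl⟩
  rw [← hZ] at hD
  have hZM : KA * Z ∈ Mi M i := by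
    rw [hZ, ← mul_assoc]; exact mul_mem hKAR (inv_mem hg)
  have hZi : Z ∈ iso (tfs c h i) := hZ ▸ mul_mem hRi (inv_mem (hiso hg))
  have hroot : RootEl h Z z D := hD
  have hcomm : ∀ (l : Rst i) (B : GL β F), B ∈ iso h → pe l B ∈ GT (κ := Rst i) c h →
      (∀ a, ∃ s : F, (B : Mb) *ᵥ e a = s • e a) → cj (pe l B) D = D := by
    intro l B _ hBG hBd
    choose t ht using hBd
    choose s hsA using hAd
    have hpe : ∀ y : Rst i → β, (pe l B : Matrix (Rst i → β) (Rst i → β) F) *ᵥ ptens (fun m => e (y m)) =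
        t (y l) • ptens (fun m => e (y m)) := fun y => by
      rw [pe_mulVec, ht]
      funext x
      rw [Pi.smul_apply, ptens_update, Pi.smul_apply, smul_eq_mul, smul_eq_mul, ptens,
        ← Finset.mul_prod_erase _ _ (Finset.mem_univ l), mul_assoc]
    have hAP : A * pe l B = pe l B * A := Units.ext (Matrix.toLin'.injective (hT.ext_frame he fun y => by
      simp only [Units.val_mul, Matrix.toLin'_apply, ← Matrix.mulVec_mulVec, hsA, hpe, Matrix.mulVec_smul]
      rw [smul_comm]))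
    obtain ⟨P, hP⟩ : ∃ P, P = k2 (pe l B) (1 : GL β F) := ⟨_, rfl⟩
    have hPM : P ∈ Mi M i := by
      rw [hP, ← sp_emb]; exact mem_Mi.2 (emb_pe i l B ▸ hM.pe_mem (emb_pe i l B ▸ hT.emb_GT hBG))
    have hPA : P * KA = KA * P := by rw [hP, hKA, k2_mul, k2_mul, hAP]
    have hcM : KA * (P * Z * P⁻¹ * Z⁻¹) * KA⁻¹ ∈ Mi M i := by
      have h1 := mul_mem (mul_mem (mul_mem hPM hZM) (inv_mem hPM)) (inv_mem hZM)
      convert h1 using 1
      rw [_root_.mul_inv_rev, ← mul_assoc P KA Z, hPA]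
      simp only [mul_assoc]
    have h2 := hO.root_conj (hO.root_mul hz (hO.root_conj hroot hP) (hO.root_inv hz hroot)) hKA
    refine LinearMap.ext fun x => ?_
    have h3 := hN z hz hz0 _ ⟨_, hcM, h2⟩ ((A : Matrix (Rst i → β) (Rst i → β) F) *ᵥ x)
    rw [TensorOrth.cj_apply, inv_mulVec_cancel] at h3
    have h4 := gl_mulVec_injective A (h3.trans (Matrix.mulVec_zero _).symm)
    rwa [LinearMap.add_apply, LinearMap.neg_apply, add_neg_eq_zero] at h4
  have hD0 : D = 0 := hT.eq_zero_of_comm_diag hκR he (fun a b => hO.root_skew hroot hZi hz huu hu a b) hcomm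
  have hZ1 : Z = 1 := ext_kron fun x w => by
    rw [hroot, hD0, rootMap_apply, LinearMap.zero_apply, tmul_zero_left, add_zero, Units.val_one, Matrix.one_mulVec]
  rw [hZ1, mul_one, hKA, ← sp_emb] at hZM
  exact hAW (hM.rest_mem hA (mem_Mi.1 hZM))

/-- A product of the other factors which together with a radical element is a member, is a member. -/
theorem emb_mem (i : κ) {z : W} (hz : h z z = 0) (hz0 : z ≠ 0) {A : GL (Rst i → β) F}
    (hA : A ∈ GT (κ := Rst i) c h) {r : GL X F} (hr : r ∈ GT (κ := κ) c h) (hrR : Rad h (sp i r) z)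
    (hM' : emb i A * r ∈ M) : emb i A ∈ M := by
  classical
  have hT := hM.data
  refine hM.mem ⟨emb_mem_Wr ?_, hT.emb_GT hA⟩
  by_cases h1 : Fintype.card (Rst i) ≤ 1
  · obtain ⟨j⟩ := nonempty_rst hM.ht i
    exact one_of_subsingleton (fun l => Fintype.card_le_one_iff.1 h1 l j) A
  have hO := hM.sl' i
  have hiso : ∀ {r : GL X F}, r ∈ GT c h → sp i r ∈ iso (tfs c h i) := fun hr =>
    (hT.sp_iso i).2 (hT.gt_le_iso hr)
  have hconj : ∀ {A : GL (Rst i → β) F}, A ∈ GT (κ := Rst i) c h → ∀ {r : GL X F}, Rad h (sp i r) z →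
      Rad h (sp i (emb i A * r * (emb i A)⁻¹)) z := fun {A} hA {r} hrR => by
    rw [map_mul, map_mul, map_inv, sp_emb]
    exact hO.rad_conj hrR (sp_emb i A ▸ hiso (hT.emb_GT hA)) fun x => ⟨(A : Matrix _ _ F) *ᵥ x, by
      rw [k2_mulVec, Units.val_one, Matrix.one_mulVec]⟩
  let G0 : Subgroup (GL (Rst i → β) F) :=
    { carrier := {A | A ∈ GT (κ := Rst i) c h ∧ ∃ r ∈ GT (κ := κ) c h, Rad h (sp i r) z ∧ emb i A * r ∈ M}
      one_mem' := ⟨one_mem _, 1, one_mem _, by
        rw [map_one]; exact ⟨fun x => by simp, fun t ht => ⟨0, by simp [tmul_zero_left]⟩⟩,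
        by rw [map_one, one_mul]; exact one_mem M⟩
      mul_mem' := fun {A A'} ⟨hA, r, hr, hrR, hm⟩ ⟨hA', r', hr', hr'R, hm'⟩ => by
        refine ⟨mul_mem hA hA', emb i A'⁻¹ * r * (emb i A'⁻¹)⁻¹ * r',
          mul_mem (mul_mem (mul_mem (hT.emb_GT (inv_mem hA')) hr) (inv_mem (hT.emb_GT (inv_mem hA')))) hr', ?_, ?_⟩
        · rw [map_mul]; exact hO.rad_mul (hconj (inv_mem hA') hrR) hr'R (hiso hr')
        · have := mul_mem hm hm'
          rw [map_mul, map_inv, inv_inv]
          convert this using 1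
          group
      inv_mem' := fun {A} ⟨hA, r, hr, hrR, hm⟩ => by
        refine ⟨inv_mem hA, emb i A * r⁻¹ * (emb i A)⁻¹,
          mul_mem (mul_mem (hT.emb_GT hA) (inv_mem hr)) (inv_mem (hT.emb_GT hA)), hconj hA ?_, ?_⟩
        · rw [map_inv]; exact hO.rad_inv hrR (hiso hr)
        · have := inv_mem hm
          rw [map_inv]
          convert this using 1
          group }
  have hle : G0 ≤ Wr F (Rst i) β := by
    refine hM.ih i (by omega) G0 (fun x hx => hx.1) (fun x hx => ?_) fun hall => ?_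
    · refine ⟨hx.2, 1, one_mem _, ?_, ?_⟩
      · rw [map_one]; exact ⟨fun x => by simp, fun t ht => ⟨0, by simp [tmul_zero_left]⟩⟩
      · rw [mul_one]; exact hM.mem ⟨emb_mem_Wr hx.1, hT.emb_GT hx.2⟩
    obtain ⟨e, A₀, he, hA₀, hAn, hAd⟩ := hT.exists_diag (κ := Rst i) (by omega)
    obtain ⟨-, r₀, hr₀, hr₀R, hm₀⟩ := hall hA₀
    exact hM.no_diag i hz hz0 (by omega) he hA₀ hAn hAd hr₀ hr₀R hm₀
  exact hle ⟨hA, r, hr, hrR, hM'⟩

/-- A product which with a radical element is a member, is a member, in odd dimension. -/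
theorem kmem_odd (hodd : Odd (Fintype.card β)) (i : κ) : Kmem h ((GT c h).map (sp i).toMonoidHom) (Mi M i) := by
  classical
  rintro _ ⟨k, hk, rfl⟩ hkk _ ⟨r, hr, rfl⟩ z hz hz0 hrR hM'
  simp only [MulEquiv.coe_toMonoidHom] at hkk hrR hM' ⊢
  rw [← map_mul, mem_Mi] at hM'
  refine mem_Mi.2 ?_
  have hT := hM.data
  have hs := hT.hh
  obtain ⟨b⟩ : Nonempty β := Fintype.card_pos_iff.1 (by have := hT.three; omega)
  obtain ⟨v, -, hv⟩ := hs.exists_aniso hT.two hs.ndOn_top ⟨Pi.single b 1, trivial, by simp⟩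
  obtain ⟨j⟩ := nonempty_rst hM.ht i
  obtain ⟨A, B, hA, hB, hAB⟩ := hT.split_iso hodd (hT.gt_le_iso hk) hkk
  obtain ⟨C, -, -, hAC⟩ := hT.exists_fix_vec hodd j hv hA
  obtain ⟨w, hw⟩ : ∃ w, w = (emb i (A * pe j C))⁻¹ * k := ⟨_, rfl⟩
  have hsw : sp i w = k2 (pe j C)⁻¹ B := by
    rw [hw, map_mul, map_inv, sp_emb, hAB, inv_mul_eq_iff_eq_mul, k2_mul, mul_inv_cancel_right, one_mul]
  have hwG : w ∈ GT c h := hw ▸ mul_mem (inv_mem (hT.emb_GT hAC)) hk
  have hwM : w ∈ M := hM.mem ⟨mem_Wr_of_sp hsw ((Wr F (Rst i) β).inv_mem (TensorPow.pe_mem _ _)), hwG⟩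
  have hkw : k = emb i (A * pe j C) * w := by rw [hw, mul_inv_cancel_left]
  have hR' : Rad h (sp i (w * r * w⁻¹)) ((B : Mb) *ᵥ z) := by
    rw [map_mul, map_mul, map_inv]
    refine (hM.sl' i).rad_move hrR ((hT.sp_iso i).2 (hT.gt_le_iso hwG)) (fun x => ⟨_, by rw [hsw, k2_mulVec]⟩)
      fun x => ⟨(pe j C : Matrix (Rst i → β) (Rst i → β) F) *ᵥ x, by rw [hsw, k2_mulVec, inv_mulVec_cancel]⟩
  have h1 := hM.emb_mem i (z := (B : Mb) *ᵥ z) (by rw [hB, hz]) (gl_mulVec_ne_zero B hz0) hAC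
    (r := w * r * w⁻¹) (mul_mem (mul_mem hwG hr) (inv_mem hwG)) hR' (by
      have := mul_mem hM' (inv_mem hwM)
      convert this using 1
      rw [hkw]; group)
  rw [hkw]
  exact mul_mem h1 hwM

/-- A product which with a radical element is a member, is a member. -/
theorem kmem (i : κ) : Kmem h ((GT c h).map (sp i).toMonoidHom) (Mi M i) := by
  classical
  rcases Nat.even_or_odd (Fintype.card β) with hev | hodd
  swap
  · exact hM.kmem_odd hodd i
  rintro _ ⟨k, hk, rfl⟩ hkk _ ⟨r, hr, rfl⟩ z hz hz0 hrR hM'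
  simp only [MulEquiv.coe_toMonoidHom] at hkk hrR hM' ⊢
  rw [← map_mul, mem_Mi] at hM'
  refine mem_Mi.2 (hM.mem ⟨?_, hk⟩)
  have hT := hM.data
  obtain ⟨A, B, hAB⟩ := isKron_iff.1 hkk
  refine mem_Wr_of_sp hAB ?_
  haveI := nonempty_rst hM.ht i
  have hcr := card_rst_one i
  by_cases h3 : Fintype.card κ = 2
  · obtain ⟨j, hj⟩ := Fintype.card_eq_one_iff.1 (show Fintype.card (Rst i) = 1 by omega)
    exact one_of_subsingleton hj A
  obtain ⟨μ, hμ0, hA, hB⟩ := hT.kron_simil (hT.gt_le_iso hk) hAB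
  have hnorm : ∀ x ∈ iso (tf (κ := Rst i) c h), A * x * A⁻¹ ∈ iso (tf (κ := Rst i) c h) := fun x hx s t => by
    obtain ⟨s, rfl⟩ : ∃ s', (A : Matrix (Rst i → β) (Rst i → β) F) *ᵥ s' = s := ⟨_, mulVec_inv_cancel A s⟩
    obtain ⟨t, rfl⟩ : ∃ t', (A : Matrix (Rst i → β) (Rst i → β) F) *ᵥ t' = t := ⟨_, mulVec_inv_cancel A t⟩
    simp only [Units.val_mul, ← Matrix.mulVec_mulVec, inv_mulVec_cancel]
    rw [hA, hA, hx]
  have hO := hM.sl' i
  have hiso : ∀ {g : GL X F}, g ∈ GT (κ := κ) c h → sp i g ∈ iso (tfs c h i) := fun hg =>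
    (hT.sp_iso i).2 (hT.gt_le_iso hg)
  refine hT.mem_Wr_of_norm (by
    have := hT.three
    obtain ⟨q, hq⟩ := hev
    omega) fun j B' hB' => ?_
  have hy : A * pe j B' * A⁻¹ ∈ GT (κ := Rst i) c h := by
    have h1 : (GT (κ := Rst i) c h).map (MulAut.conj A).toMonoidHom ≤ GT (κ := Rst i) c h := by
      rw [GT, Subgroup.map_commutator]
      refine Subgroup.commutator_mono ?_ ?_ <;>
      · rintro _ ⟨a, ha, rfl⟩
        exact hnorm a ha
    exact h1 ⟨pe j B', hT.pe_siegGrp hB', rfl⟩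
  refine ⟨hM.rest_mem hy ?_, hT.gt_le_iso hy⟩
  obtain ⟨x, hx⟩ : ∃ x, x = emb i (pe j B') := ⟨_, rfl⟩
  have hxG : x ∈ GT (κ := κ) c h := hx ▸ hT.emb_GT (hT.pe_siegGrp hB')
  have hxM : x ∈ M := by rw [hx, emb_pe] at hxG ⊢; exact hM.pe_mem hxG
  have hxs : sp i x = k2 (pe j B') 1 := by rw [hx, sp_emb]
  obtain ⟨q, hq⟩ : ∃ q, q = x⁻¹ * r * x * r⁻¹ := ⟨_, rfl⟩
  have hqG : q ∈ GT (κ := κ) c h := hq ▸ mul_mem (mul_mem (mul_mem (inv_mem hxG) hr) hxG) (inv_mem hr)
  have hqR : Rad h (sp i q) z := by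
    have h1 : Rad h ((sp i x)⁻¹ * sp i r * ((sp i x)⁻¹)⁻¹) z := by
      refine hO.rad_conj hrR (inv_mem (hiso hxG)) fun a => ?_
      rw [← map_inv, show x⁻¹ = emb i (pe j B')⁻¹ by rw [hx, map_inv], sp_emb]
      exact ⟨_, by rw [k2_mulVec, Units.val_one, Matrix.one_mulVec]⟩
    rw [inv_inv] at h1
    rw [hq, map_mul, map_mul, map_mul, map_inv, map_inv]
    exact hO.rad_mul h1 (hO.rad_inv hrR (hiso hr)) (inv_mem (hiso hr))
  have hR' : Rad h (sp i (k * q * k⁻¹)) ((B : Mb) *ᵥ z) := by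
    rw [map_mul, map_mul, map_inv]
    refine hO.rad_move hqR (hiso hk) (fun a => ⟨_, by rw [hAB, k2_mulVec]⟩)
      fun a => ⟨((A⁻¹ : GL (Rst i → β) F) : Matrix (Rst i → β) (Rst i → β) F) *ᵥ a, by
        rw [hAB, k2_mulVec, mulVec_inv_cancel]⟩
  have e : emb i (A * pe j B' * A⁻¹) = k * x * k⁻¹ := (sp i).injective (by
    rw [map_mul (sp i), map_mul (sp i), map_inv, hAB, hxs, sp_emb, k2_mul, mul_one, eq_mul_inv_iff_mul_eq, k2_mul,
      one_mul, inv_mul_cancel_right])
  refine hM.emb_mem i (z := (B : Mb) *ᵥ z) ?_ (gl_mulVec_ne_zero B hz0) hy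
    (r := k * q * k⁻¹) (mul_mem (mul_mem hk hqG) (inv_mem hk)) hR' ?_
  · exact (mul_eq_zero.1 ((hB z z).trans hz)).resolve_left hμ0
  · have := mul_mem (mul_mem hM' hxM) (inv_mem hM')
    convert this using 1
    rw [e, hq]; group

end Px

end Cfsg.Agent.Classical.TensorPowOrth
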