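import Cfsg.Agent.Lib.Classical.MaxTensorOrthPair

/-!
Radical elements in an overgroup which contains the Siegel maps of the second factor, but not necessarily the isometries
of the first one.
-/

set_option autoImplicit false
set_option linter.unusedSectionVars false

open scoped Kronecker

namespace Cfsg.Agent.Classical.TensorPowOrth

open Matrix Module MaxTv TensorMax Overfield
open Cfsg.Agent.Classical.TensorOrth (Sym NdOn iso sl IsEich Rad NoRoot TSP ext_pure ext_kron cj neg_tmul tmul_neg)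
open Cfsg.Agent.Classical.TensorRoot (kg kg_apply kg_isKron)

variable {F : Type*} [Field F] [Fintype F] {α β : Type} [Fintype α] [DecidableEq α] [Fintype β] [DecidableEq β]

local notation "V" => (α × β → F)
local notation "Mn" => Matrix (α × β) (α × β) F
local notation "Ma" => Matrix α α F
local notation "Mb" => Matrix β β F
local notation "Ea" => ((α → F) →ₗ[F] (α → F))

/-- An overgroup inside `G` with the Siegel maps of the second factor. -/
structure Sl (fA : (α → F) → (α → F) → F) (fB : (β → F) → (β → F) → F)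
    (f : (α × β → F) → (α × β → F) → F) (G M : Subgroup (GL (α × β) F)) : Prop where
  two : (2 : F) ≠ 0
  hA : Sym fA
  hB : Sym fB
  hV : Sym f
  ten : ∀ x x' y y', f (tmul x y) (tmul x' y') = fA x x' * fB y y'
  sq : ∀ g ∈ iso f, g * g ∈ G
  gIso : G ≤ iso f
  le : M ≤ G
  ha : 3 ≤ Fintype.card α
  hb : 3 ≤ Fintype.card β
  hB4 : Fintype.card β = 4 → ∀ z z', ¬ TSP fB z z'
  exists_eichB : ∀ {z y : β → F}, fB z z = 0 → fB y z = 0 → ∃ e ∈ M, IsKron e ∧ IsEich fB e z y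

/-- The coefficient at `y` of a map on the tensors with `u`. -/
def coef (fB : (β → F) → (β → F) → F) (u y : β → F) (g : GL (α × β) F) : (α → F) →ₗ[F] (α → F) :=
  (sl fB y).comp ((Matrix.toLin' (g : Matrix (α × β) (α × β) F) - LinearMap.id).comp (fac u))

variable {fA : (α → F) → (α → F) → F} {fB : (β → F) → (β → F) → F}
  {f : (α × β → F) → (α × β → F) → F} {G M : Subgroup (GL (α × β) F)}

theorem coef_apply (u y : β → F) (g : GL (α × β) F) (x : α → F) :
    coef fB u y g x = sl fB y ((g : Mn) *ᵥ tmul x u - tmul x u) := rfl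

variable (hO : Sl fA fB f G M)
include hO

theorem Sl.nonempty : Nonempty α := Fintype.card_pos_iff.1 (by have := hO.ha; omega)

theorem Sl.sl_tmul (u : β → F) (x : α → F) (y : β → F) : sl fB u (tmul x y) = fB y u • x := by
  rw [sl, slice_tmul, fn_dot hO.hB.sesq]

theorem Sl.sl_zero (t : V) : sl fB (0 : β → F) t = 0 := by
  rw [sl, fn_zero hO.hB.sesq, ← zero_smul F (0 : β → F), slice_smul, zero_smul]

theorem Sl.sl_neg (u : β → F) (t : V) : sl fB (-u) t = -sl fB u t := by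
  rw [sl, sl, ← neg_one_smul F u, fn_smul hO.hB.sesq, RingEquiv.refl_apply, slice_smul, neg_one_smul]

theorem Sl.sl_smul (c : F) (u : β → F) (t : V) : sl fB (c • u) t = c • sl fB u t := by
  rw [sl, sl, fn_smul hO.hB.sesq, RingEquiv.refl_apply, slice_smul]

theorem Sl.sl_add (u v : β → F) (t : V) : sl fB (u + v) t = sl fB u t + sl fB v t := by
  rw [sl, sl, sl, fn_add hO.hB.sesq, slice_add]

theorem Sl.f_sl (t : V) (x : α → F) (u : β → F) : f t (tmul x u) = fA (sl fB u t) x := by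
  have h : hO.hV.lin (tmul x u) = (hO.hA.lin x).comp (sl fB u) :=
    ext_pure fun a b => by
      simp only [LinearMap.comp_apply, Sym.lin_apply, hO.ten, hO.sl_tmul, hO.hA.smul_left, mul_comm]
  have := LinearMap.congr_fun h t
  rwa [LinearMap.comp_apply, Sym.lin_apply, Sym.lin_apply] at this

theorem Sl.f_sl' (t : V) (x : α → F) (u : β → F) : f (tmul x u) t = fA x (sl fB u t) := by
  rw [hO.hV.symm, hO.f_sl, hO.hA.symm]

theorem Sl.isoM {g : GL (α × β) F} (hg : g ∈ M) (s t : V) : f ((g : Mn) *ᵥ s) ((g : Mn) *ᵥ t) = f s t :=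
  hO.gIso (hO.le hg) s t

theorem Sl.kg_iso {A : GL α F} {B : GL β F} {μ ν : F} (hμν : μ * ν = 1)
    (hA : ∀ x x', fA ((A : Ma) *ᵥ x) ((A : Ma) *ᵥ x') = μ * fA x x')
    (hB : ∀ y y', fB ((B : Mb) *ᵥ y) ((B : Mb) *ᵥ y') = ν * fB y y') : kg A B ∈ iso f := by
  have hpure : ∀ s x y, f ((kg A B : Mn) *ᵥ s) ((kg A B : Mn) *ᵥ tmul x y) = f s (tmul x y) := fun s x y => by
    have h : (hO.hV.lin ((kg A B : Mn) *ᵥ tmul x y)).comp (Matrix.toLin' (kg A B : Mn)) =
        hO.hV.lin (tmul x y) := ext_pure fun a b => by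
      simp only [LinearMap.comp_apply, Matrix.toLin'_apply, Sym.lin_apply, kg_apply, hO.ten, hA, hB]
      linear_combination (fA a x * fB b y) * hμν
    have := LinearMap.congr_fun h s
    rwa [LinearMap.comp_apply, Sym.lin_apply, Sym.lin_apply, Matrix.toLin'_apply] at this
  intro s t
  have h : (hO.hV.lin ((kg A B : Mn) *ᵥ s)).comp (Matrix.toLin' (kg A B : Mn)) = hO.hV.lin s :=
    ext_pure fun a b => by
      simp only [LinearMap.comp_apply, Matrix.toLin'_apply, Sym.lin_apply]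
      rw [hO.hV.symm _ ((kg A B : Mn) *ᵥ s), hpure, hO.hV.symm]
  have := LinearMap.congr_fun h t
  rw [LinearMap.comp_apply, Sym.lin_apply, Sym.lin_apply, Matrix.toLin'_apply] at this
  rw [hO.hV.symm, this, hO.hV.symm]

theorem Sl.eich_fix {e : GL (α × β) F} {z y : β → F} (he : IsEich fB e z y) {t : V} (h1 : sl fB z t = 0)
    (h1' : sl fB y t = 0) : (e : Mn) *ᵥ t = t := by
  rw [he, h1, h1']; simp [tmul_zero_left]

theorem Sl.eich_fix_tmul {e : GL (α × β) F} {z y w : β → F} (he : IsEich fB e z y) (h1 : fB w z = 0)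
    (h1' : fB w y = 0) (x : α → F) : (e : Mn) *ᵥ tmul x w = tmul x w :=
  hO.eich_fix he (by rw [hO.sl_tmul, h1, zero_smul]) (by rw [hO.sl_tmul, h1', zero_smul])

theorem Sl.eich_perp {e : GL (α × β) F} {z y : β → F} (he : IsEich fB e z y) {t : V} (h : sl fB z t = 0) :
    (e : Mn) *ᵥ t = t - tmul (sl fB y t) z := by
  rw [he, h]; simp [tmul_zero_left]

theorem Sl.eich_cancel {e e' : GL (α × β) F} {z y : β → F} (hz : fB z z = 0) (hy : fB y z = 0)
    (he : IsEich fB e z y) (he' : IsEich fB e' z (-y)) : e * e' = 1 := by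
  refine ext_kron fun x w => ?_
  rw [Units.val_mul, ← Matrix.mulVec_mulVec, he', he, Units.val_one, Matrix.one_mulVec]
  simp only [hO.sl_neg, map_add, map_sub, map_smul, hO.sl_tmul, hO.hB.neg_left, hO.hB.neg_right, hz, hy,
    hO.hB.symm z y, tmul_smul_left, tmul_add_left, tmul_sub_left, neg_neg, zero_smul, smul_zero, smul_neg]
  have hn : ∀ (a : α → F) (b : β → F), tmul (-a) b = -tmul a b := fun a b => (fac b).map_neg a
  have hn' : ∀ (a : α → F) (b : β → F), tmul a (-b) = -tmul a b := fun a b => by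
    rw [← neg_one_smul F b, tmul_smul_right, neg_one_smul]
  simp only [hn, hn', tmul_smul_left]
  have := hO.two
  match_scalars <;> field_simp <;> ring

theorem Sl.sl_eq {g : GL (α × β) F} (hg : g ∈ iso f) {z : β → F} (h : ∀ x, (g : Mn) *ᵥ tmul x z = tmul x z) (t : V) :
    sl fB z ((g : Mn) *ᵥ t) = sl fB z t :=
  hO.hA.eq_of_forall fun x => by
    rw [← hO.f_sl, ← hO.f_sl]
    conv_lhs => rw [← h x]
    exact hg _ _

theorem Sl.rad_conj {g k : GL (α × β) F} {z : β → F} (h : Rad fB g z) (hk : k ∈ iso f)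
    (hkz : ∀ x, ∃ x', (k : Mn) *ᵥ tmul x z = tmul x' z) :
    Rad fB (k * g * k⁻¹) z := by
  have hki : ∀ x, ∃ x', (k : Mn) *ᵥ tmul x' z = tmul x z := by
    intro x
    rcases eq_or_ne z 0 with rfl | hz0
    · exact ⟨0, by rw [tmul_zero_right, tmul_zero_right, Matrix.mulVec_zero]⟩
    choose K hK using hkz
    obtain ⟨x', rfl⟩ := (Finite.injective_iff_surjective.1 fun a b e => fac_injective hz0 (gl_mulVec_injective k (by
      show (k : Mn) *ᵥ tmul a z = (k : Mn) *ᵥ tmul b z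
      rw [hK, hK, e])) : Function.Surjective K) x
    exact ⟨x', hK x'⟩
  constructor
  · intro x
    obtain ⟨x', hx'⟩ := hki x
    rw [← hx', Units.val_mul, Units.val_mul, ← Matrix.mulVec_mulVec, ← Matrix.mulVec_mulVec, inv_mulVec_cancel, h.fix]
  · intro t ht
    have ht' : sl fB z (((k⁻¹ : GL (α × β) F) : Mn) *ᵥ t) = 0 := hO.hA.eq_of_forall fun x => by
      obtain ⟨x', hx'⟩ := hkz x
      rw [← hO.f_sl, ← hk, mulVec_inv_cancel, hx', hO.f_sl, ht, hO.hA.zero_left, hO.hA.zero_left]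
    obtain ⟨X, hX⟩ := h.act _ ht'
    obtain ⟨X', hX'⟩ := hkz X
    refine ⟨X', ?_⟩
    rw [← hX', ← hX, Units.val_mul, Units.val_mul, ← Matrix.mulVec_mulVec, ← Matrix.mulVec_mulVec,
      Matrix.mulVec_sub, mulVec_inv_cancel]

/-- A Siegel map is radical, with scalar coefficients. -/
theorem Sl.eich_rad {e : GL (α × β) F} {z y : β → F} (hz : fB z z = 0) (hy : fB y z = 0)
    (he : IsEich fB e z y) : Rad fB e z :=
  ⟨hO.eich_fix_tmul he hz (by rw [hO.hB.symm, hy]), fun t ht => ⟨-sl fB y t, by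
    rw [hO.eich_perp he ht, show ∀ a : α → F, tmul (-a) z = -tmul a z from fun a => (fac z).map_neg a]
    abel⟩⟩

theorem Sl.coef_eich {e : GL (α × β) F} {z y u v : β → F} (he : IsEich fB e z y) (hu : fB u z = 1)
    (hv : fB v z = 0) (x : α → F) : coef fB u v e x = fB y v • x := by
  rw [coef_apply, he, hO.sl_tmul, hO.sl_tmul, hu, one_smul, map_sub, map_sub, map_sub, map_add, map_smul,
    hO.sl_tmul, hO.sl_tmul, hO.sl_tmul, hO.sl_tmul, hO.hB.symm z v, hv, zero_smul, zero_smul, smul_zero, sub_zero,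
    sub_zero, add_sub_cancel_left]

theorem Sl.coef_add (u y y' : β → F) (g : GL (α × β) F) (x : α → F) :
    coef fB u (y + y') g x = coef fB u y g x + coef fB u y' g x := hO.sl_add _ _ _

theorem Sl.coef_smul (u : β → F) (r : F) (y : β → F) (g : GL (α × β) F) (x : α → F) :
    coef fB u (r • y) g x = r • coef fB u y g x := hO.sl_smul _ _ _

theorem Sl.coef_self {g : GL (α × β) F} {z : β → F} (hgi : g ∈ iso f) (hg : Rad fB g z) (u : β → F) (x : α → F) :
    coef fB u z g x = 0 := by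
  rw [coef_apply, map_sub, hO.sl_eq hgi hg.fix, sub_self]

theorem Sl.rad_mul {g g' : GL (α × β) F} {z : β → F} (hg : Rad fB g z) (hg' : Rad fB g' z) (hg'i : g' ∈ iso f) :
    Rad fB (g * g') z := by
  refine ⟨fun x => by rw [Units.val_mul, ← Matrix.mulVec_mulVec, hg'.fix, hg.fix], fun t ht => ?_⟩
  obtain ⟨X, hX⟩ := hg'.act t ht
  obtain ⟨Y, hY⟩ := hg.act t ht
  refine ⟨Y + X, ?_⟩
  rw [Units.val_mul, ← Matrix.mulVec_mulVec, eq_add_of_sub_eq hX, Matrix.mulVec_add, hg.fix, eq_add_of_sub_eq hY,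
    tmul_add_left]
  abel

theorem Sl.rad_inv {g : GL (α × β) F} {z : β → F} (hg : Rad fB g z) (hgi : g ∈ iso f) : Rad fB g⁻¹ z := by
  refine ⟨fun x => ?_, fun t ht => ?_⟩
  · conv_lhs => rw [← hg.fix x]
    rw [inv_mulVec_cancel]
  · obtain ⟨s, rfl⟩ : ∃ s, (g : Mn) *ᵥ s = t := ⟨_, mulVec_inv_cancel g t⟩
    rw [hO.sl_eq hgi hg.fix] at ht
    obtain ⟨X, hX⟩ := hg.act s ht
    exact ⟨-X, by rw [inv_mulVec_cancel, neg_tmul, ← hX, neg_sub]⟩

theorem Sl.coef_mul {g g' : GL (α × β) F} {z u y : β → F} (hg : Rad fB g z) (hg' : Rad fB g' z)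
    (hg'i : g' ∈ iso f) (hy : fB y z = 0) (x : α → F) :
    coef fB u y (g * g') x = coef fB u y g x + coef fB u y g' x := by
  obtain ⟨r, hr⟩ : ∃ r, r = (g' : Mn) *ᵥ tmul x u - tmul x u := ⟨_, rfl⟩
  obtain ⟨X, hX⟩ := hg.act r (by rw [hr, map_sub, hO.sl_eq hg'i hg'.fix, sub_self])
  simp only [coef_apply]
  rw [Units.val_mul, ← Matrix.mulVec_mulVec, ← hr, show (g' : Mn) *ᵥ tmul x u = tmul x u + r by rw [hr, add_sub_cancel],
    Matrix.mulVec_add, eq_add_of_sub_eq hX, map_sub, map_sub, map_add, map_add, hO.sl_tmul, hO.hB.symm z y, hy, zero_smul]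
  abel

theorem Sl.coef_inv {g : GL (α × β) F} {z u y : β → F} (hg : Rad fB g z) (hgi : g ∈ iso f) (hy : fB y z = 0)
    (x : α → F) : coef fB u y g⁻¹ x = -coef fB u y g x := by
  have h1 := hO.coef_mul hg (hO.rad_inv hg hgi) (inv_mem hgi) hy (u := u) x
  rw [mul_inv_cancel, coef_apply u y 1, Units.val_one, Matrix.one_mulVec, sub_self, map_zero] at h1
  linear_combination (norm := module) -h1

theorem Sl.coef_conj {g k : GL (α × β) F} {u y y' : β → F} (L Φ : (α → F) → (α → F))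
    (hu : ∀ x, (k : Mn) *ᵥ tmul (L x) u = tmul x u) (hy : ∀ t, sl fB y ((k : Mn) *ᵥ t) = Φ (sl fB y' t))
    (x : α → F) : coef fB u y (k * g * k⁻¹) x = Φ (coef fB u y' g (L x)) := by
  rw [coef_apply, coef_apply, ← hy, Matrix.mulVec_sub, hu]
  congr 2
  rw [Units.val_mul, Units.val_mul, ← Matrix.mulVec_mulVec, ← Matrix.mulVec_mulVec]
  nth_rw 1 [← hu x]
  rw [inv_mulVec_cancel]

/-- A radical isometry with scalar coefficients is a Siegel map times a root element. -/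
theorem Sl.rad_root {g : GL (α × β) F} {z u : β → F} (h : Rad fB g z) (hgi : g ∈ iso f) (hz : fB z z = 0)
    (hu : fB u z = 1) (hsc : ∀ y, fB y z = 0 → ∃ μ : F, ∀ x, coef fB u y g x = μ • x) :
    ∃ y, fB y z = 0 ∧ ∃ e ∈ M, IsKron e ∧ IsEich fB e z y ∧
      ∃ D : Ea, ∀ t, ((g * e⁻¹ : GL (α × β) F) : Mn) *ᵥ t = t + rootMap z (fn fB z) D t := by
  classical
  have hs := hO.hB
  have hzu : fB z u = 1 := by rw [hs.symm, hu]
  obtain ⟨x₀, hx₀⟩ : ∃ x₀ : α → F, x₀ ≠ 0 := by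
    obtain ⟨i⟩ := hO.nonempty
    exact ⟨Pi.single i 1, by simp⟩
  obtain ⟨ξ, hξ⟩ := exists_dual hx₀
  let L : (β → F) →ₗ[F] F :=
    { toFun := fun y => ξ ⬝ᵥ sl fB y ((g : Mn) *ᵥ tmul x₀ u - tmul x₀ u)
      map_add' := fun a b => by rw [hO.sl_add, dotProduct_add]
      map_smul' := fun c a => by rw [hO.sl_smul, dotProduct_smul, RingHom.id_apply] }
  obtain ⟨y₀, hy₀⟩ := hs.exists_dual_vec L
  have hy₀z : fB y₀ z = 0 := by
    rw [hs.symm, ← hy₀]
    show ξ ⬝ᵥ sl fB z _ = 0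
    rw [map_sub, hO.sl_eq hgi h.fix, sub_self, dotProduct_zero]
  have hy₀z' : fB (-y₀) z = 0 := by rw [hs.neg_left, hy₀z, neg_zero]
  obtain ⟨e, he, hek, hex⟩ := hO.exists_eichB hz hy₀z
  obtain ⟨e', he', -, hex'⟩ := hO.exists_eichB hz hy₀z'
  obtain ⟨g', hg'⟩ : ∃ g', g' = g * e' := ⟨_, rfl⟩
  have hg'i : g' ∈ iso f := hg' ▸ mul_mem hgi (hO.gIso (hO.le he'))
  have hfix : ∀ x, (g' : Mn) *ᵥ tmul x z = tmul x z := fun x => by
    rw [hg', Units.val_mul, ← Matrix.mulVec_mulVec, hO.eich_fix_tmul hex' hz (by rw [hs.symm, hy₀z']), h.fix]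
  have hr : ∀ x, ∃ X, (g' : Mn) *ᵥ tmul x u - tmul x u = tmul X z := fun x => by
    have hψ : fn fB u ⬝ᵥ z = 1 := by rw [fn_dot hs.sesq, hzu]
    refine ⟨_, eq_tmul_of_slices hψ fun φ hφ => ?_⟩
    obtain ⟨y, rfl⟩ := fn_surjective hs.sesq φ
    rw [fn_dot hs.sesq, hs.symm] at hφ
    show sl fB y _ = 0
    obtain ⟨μ, hμ⟩ := hsc y hφ
    simp only [coef_apply] at hμ
    have hμy : μ = fB y y₀ := by
      rw [← hy₀]
      show μ = ξ ⬝ᵥ sl fB y _
      rw [hμ, dotProduct_smul, hξ, smul_eq_mul, mul_one]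
    obtain ⟨X, hX⟩ := h.act (tmul x y₀) (by rw [hO.sl_tmul, hy₀z, zero_smul])
    rw [hg', Units.val_mul, ← Matrix.mulVec_mulVec, hex', hO.sl_tmul, hO.sl_tmul, hu, one_smul,
      show tmul x (-y₀) = -tmul x y₀ by rw [← neg_one_smul F y₀, tmul_smul_right, neg_one_smul],
      Matrix.mulVec_sub, Matrix.mulVec_sub, Matrix.mulVec_add, Matrix.mulVec_neg, Matrix.mulVec_smul, h.fix, h.fix,
      eq_add_of_sub_eq hX]
    have e1 := hμ x
    rw [map_sub, hO.sl_tmul] at e1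
    simp only [map_sub, map_add, map_neg, map_smul, hO.sl_tmul, hs.symm z y, hφ, hs.symm y₀ y, ← hμy, zero_smul,
      smul_zero, sub_zero, zero_add]
    linear_combination (norm := module) e1
  have hperp : ∀ t, sl fB z t = 0 → (g' : Mn) *ᵥ t = t := fun t ht => by
    obtain ⟨X₁, hX₁⟩ := h.act _ (show sl fB z ((e' : Mn) *ᵥ t) = 0 by
      rw [hO.sl_eq (hO.gIso (hO.le he')) (hO.eich_fix_tmul hex' hz (by rw [hs.symm, hy₀z'])), ht])
    have hX' : (g' : Mn) *ᵥ t - t = tmul (X₁ - sl fB (-y₀) t) z := by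
      rw [hg', Units.val_mul, ← Matrix.mulVec_mulVec, eq_add_of_sub_eq hX₁, hO.eich_perp hex' ht, tmul_sub_left]
      abel
    have h0 : X₁ - sl fB (-y₀) t = 0 := hO.hA.eq_zero _ fun x => by
      obtain ⟨X₂, hX₂⟩ := hr x
      have h1 := hg'i t (tmul x u)
      rw [eq_add_of_sub_eq hX', eq_add_of_sub_eq hX₂, hO.hV.add_left, hO.hV.add_right, hO.hV.add_right,
        hO.f_sl t X₂ z, ht, hO.hA.zero_left, hO.ten, hz, mul_zero, hO.ten, hzu, mul_one, zero_add, zero_add,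
        add_eq_right] at h1
      rw [hO.hA.symm]
      exact h1
    rw [eq_add_of_sub_eq hX', h0, tmul_zero_left, zero_add]
  let D : Ea := (sl fB u).comp ((Matrix.toLin' (g' : Mn) - LinearMap.id).comp (fac u))
  refine ⟨y₀, hy₀z, e, he, hek, hex, D, fun t => ?_⟩
  have hee : g * e⁻¹ = g' := by rw [hg', inv_eq_of_mul_eq_one_right (hO.eich_cancel hz hy₀z hex hex')]
  rw [hee]
  have h1 := hperp (t - tmul (sl fB z t) u) (by rw [map_sub, hO.sl_tmul, hu, one_smul, sub_self])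
  rw [Matrix.mulVec_sub] at h1
  obtain ⟨X, hX⟩ := hr (sl fB z t)
  have hDX : D (sl fB z t) = X := by
    show sl fB u _ = X
    rw [LinearMap.comp_apply, LinearMap.sub_apply, LinearMap.id_apply, Matrix.toLin'_apply, fac_apply, hX,
      hO.sl_tmul, hzu, one_smul]
  rw [rootMap_apply, show slice (fn fB z) t = sl fB z t from rfl, hDX, ← hX]
  linear_combination (norm := abel) h1

variable (hN : NoRoot fB M)
include hN

/-- The commutator of two radical elements vanishes. -/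
theorem Sl.rad_pair {g h : GL (α × β) F} {z : β → F} (hg : Rad fB g z) (hgM : g ∈ M) (hh : Rad fB h z) (hhM : h ∈ M)
    (hz : fB z z = 0) (hz0 : z ≠ 0) {u : β → F} (hu : fB u z = 1) (x x' : α → F) :
    f ((g : Mn) *ᵥ tmul x u - tmul x u) ((h : Mn) *ᵥ tmul x' u - tmul x' u) =
      f ((h : Mn) *ᵥ tmul x u - tmul x u) ((g : Mn) *ᵥ tmul x' u - tmul x' u) := by
  have hs := hO.hB
  have hzu : fB z u = 1 := by rw [hs.symm, hu]
  have hT : ∀ {g : GL (α × β) F}, Rad fB g z → ∀ t, sl fB z t = 0 →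
      (g : Mn) *ᵥ t = t + tmul (sl fB u ((g : Mn) *ᵥ t - t)) z := fun {g} hg t ht => by
    obtain ⟨X, hX⟩ := hg.act t ht
    rw [hX, hO.sl_tmul, hzu, one_smul, ← hX, add_sub_cancel]
  have hr : ∀ {g : GL (α × β) F}, Rad fB g z → g ∈ M → ∀ x, sl fB z ((g : Mn) *ᵥ tmul x u - tmul x u) = 0 :=
    fun {g} hg hgM x => by rw [map_sub, hO.sl_eq (hO.gIso (hO.le hgM)) hg.fix, sub_self]
  obtain ⟨k, hk⟩ : ∃ k, k = g * h * (h * g)⁻¹ := ⟨_, rfl⟩
  have hkM : k ∈ M := hk ▸ mul_mem (mul_mem hgM hhM) (inv_mem (mul_mem hhM hgM))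
  have hke : ∀ t, (k : Mn) *ᵥ ((h : Mn) *ᵥ ((g : Mn) *ᵥ t)) = (g : Mn) *ᵥ ((h : Mn) *ᵥ t) := fun t => by
    rw [hk, Units.val_mul, ← Matrix.mulVec_mulVec, Matrix.mulVec_mulVec (v := t) (M := (h : Mn)), ← Units.val_mul,
      inv_mulVec_cancel, Units.val_mul, ← Matrix.mulVec_mulVec]
  have hfixp : ∀ t, sl fB z t = 0 → (k : Mn) *ᵥ t = t := fun t ht => by
    obtain ⟨t', rfl⟩ : ∃ t', (h : Mn) *ᵥ ((g : Mn) *ᵥ t') = t :=
      ⟨((g⁻¹ : GL _ F) : Mn) *ᵥ (((h⁻¹ : GL _ F) : Mn) *ᵥ t), by rw [mulVec_inv_cancel, mulVec_inv_cancel]⟩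
    rw [hO.sl_eq (hO.gIso (hO.le hhM)) hh.fix, hO.sl_eq (hO.gIso (hO.le hgM)) hg.fix] at ht
    obtain ⟨X, hX⟩ := hg.act t' ht
    obtain ⟨Y, hY⟩ := hh.act t' ht
    rw [hke, eq_add_of_sub_eq hX, eq_add_of_sub_eq hY, Matrix.mulVec_add, Matrix.mulVec_add, hg.fix, hh.fix,
      eq_add_of_sub_eq hX, eq_add_of_sub_eq hY]
    abel
  let D : Ea := (sl fB u).comp ((Matrix.toLin' (g : Mn)).comp ((Matrix.toLin' (h : Mn)).comp (fac u)) -
    (Matrix.toLin' (h : Mn)).comp ((Matrix.toLin' (g : Mn)).comp (fac u)))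
  have hdiff : ∀ x, (g : Mn) *ᵥ ((h : Mn) *ᵥ tmul x u) - (h : Mn) *ᵥ ((g : Mn) *ᵥ tmul x u) =
      ((g : Mn) *ᵥ ((h : Mn) *ᵥ tmul x u - tmul x u) - ((h : Mn) *ᵥ tmul x u - tmul x u)) -
      ((h : Mn) *ᵥ ((g : Mn) *ᵥ tmul x u - tmul x u) - ((g : Mn) *ᵥ tmul x u - tmul x u)) := fun x => by
    simp only [Matrix.mulVec_sub]; abel
  have hD : ∀ x, (g : Mn) *ᵥ ((h : Mn) *ᵥ tmul x u) - (h : Mn) *ᵥ ((g : Mn) *ᵥ tmul x u) = tmul (D x) z := by
    intro x
    obtain ⟨X₁, h1⟩ := hg.act _ (hr hh hhM x)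
    obtain ⟨X₂, h1'⟩ := hh.act _ (hr hg hgM x)
    have e : (g : Mn) *ᵥ ((h : Mn) *ᵥ tmul x u) - (h : Mn) *ᵥ ((g : Mn) *ᵥ tmul x u) = tmul (X₁ - X₂) z := by
      rw [hdiff, h1, h1', tmul_sub_left]
    have : D x = sl fB u ((g : Mn) *ᵥ ((h : Mn) *ᵥ tmul x u) - (h : Mn) *ᵥ ((g : Mn) *ᵥ tmul x u)) := rfl
    rw [this, e, hO.sl_tmul, hzu, one_smul]
  have hDin : In M (rootMap z (fn fB z) D) := by
    refine ⟨k, hkM, fun t => ?_⟩
    obtain ⟨a, ha⟩ : ∃ a, a = sl fB z t := ⟨_, rfl⟩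
    have hP : (k : Mn) *ᵥ tmul a u - tmul a u = tmul (D a) z := by
      obtain ⟨r, hr'⟩ : ∃ r, r = (h : Mn) *ᵥ ((g : Mn) *ᵥ tmul a u) - tmul a u := ⟨_, rfl⟩
      have hr0 : sl fB z r = 0 := by
        rw [hr', map_sub, hO.sl_eq (hO.gIso (hO.le hhM)) hh.fix, hO.sl_eq (hO.gIso (hO.le hgM)) hg.fix, sub_self]
      have e1 : (k : Mn) *ᵥ tmul a u + r = (g : Mn) *ᵥ ((h : Mn) *ᵥ tmul a u) := by
        rw [← hfixp r hr0, ← Matrix.mulVec_add, hr', add_sub_cancel, hke]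
      rw [← hD, eq_sub_of_add_eq e1, hr']
      abel
    have hfx := hfixp (t - tmul a u) (by rw [map_sub, hO.sl_tmul, hu, one_smul, ha, sub_self])
    rw [Matrix.mulVec_sub] at hfx
    rw [rootMap_apply, show slice (fn fB z) t = a from ha.symm, ← hP]
    linear_combination (norm := abel) hfx
  have hrel : ∀ {g : GL (α × β) F}, Rad fB g z → g ∈ M → ∀ t, sl fB z t = 0 →
      f ((g : Mn) *ᵥ t - t) (tmul x' u) = -f t ((g : Mn) *ᵥ tmul x' u - tmul x' u) := fun {g} hg hgM t ht => by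
    obtain ⟨X, hX⟩ := hg.act t ht
    have e1 : f ((g : Mn) *ᵥ t - t) ((g : Mn) *ᵥ tmul x' u - tmul x' u) = 0 := by
      rw [hX, hO.f_sl', hr hg hgM, hO.hA.zero_right]
    have e2 := hO.isoM hgM t (tmul x' u)
    rw [hO.hV.sub_left, hO.hV.sub_right, hO.hV.sub_right] at e1
    rw [hO.hV.sub_left, hO.hV.sub_right]
    linear_combination e2 - e1
  have h0 : f (tmul (D x) z) (tmul x' u) = 0 := by
    rw [hN z hz hz0 D hDin x, tmul_zero_left, hO.hV.zero_left]
  rw [← hD, hdiff, hO.hV.sub_left, hrel hg hgM _ (hr hh hhM x), hrel hh hhM _ (hr hg hgM x)] at h0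
  linear_combination h0

omit hN in
/-- The coefficients of radical members are scalars. -/
def Scal (fB : (β → F) → (β → F) → F) (M : Subgroup (GL (α × β) F)) : Prop :=
  ∀ g ∈ M, ∀ z u : β → F, fB z z = 0 → z ≠ 0 → fB u u = 0 → fB u z = 1 → Rad fB g z →
    ∀ y, fB y z = 0 → ∃ μ : F, ∀ x, coef fB u y g x = μ • x

/-- A radical member is a Siegel map of the second factor. -/
theorem Sl.rad_eich (hS : Scal fB M) {g : GL (α × β) F} {z : β → F} (h : Rad fB g z) (hg : g ∈ M) (hz : fB z z = 0)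
    (hz0 : z ≠ 0) : IsKron g ∧ ∃ y, fB y z = 0 ∧ IsEich fB g z y := by
  obtain ⟨u, huu, hu⟩ := hO.hB.exists_partner hO.two hz hz0
  obtain ⟨y, hy, e, he, hek, hex, D, hD⟩ := hO.rad_root h (hO.gIso (hO.le hg)) hz hu (hS g hg z u hz hz0 huu hu h)
  have h1 : g * e⁻¹ = 1 := ext_kron fun x w => by
    rw [hD, rootMap_apply, hN z hz hz0 D ⟨_, mul_mem hg (inv_mem he), hD⟩, tmul_zero_left, add_zero, Units.val_one,
      Matrix.one_mulVec]
  rw [mul_inv_eq_one] at h1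
  subst h1
  exact ⟨hek, y, hy, hex⟩

end Cfsg.Agent.Classical.TensorPowOrth
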