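import Cfsg.Agent.Lib.Classical.TensorPowOrth.Basic

/-!
The signs of isometries of a tensor power: determinant and spinor norm, the reflections at a factor, and elements
at one factor correcting a sign.
-/

set_option autoImplicit false
set_option linter.unusedSectionVars false
set_option linter.unusedSimpArgs false

open scoped Kronecker commutatorElement

namespace Cfsg.Agent.Classical.TensorPowOrth

open Matrix Module MaxTv TensorMax TensorPow
open Cfsg.Agent.Classical.TensorOrth (Sym NdOn iso exists_sq_sq)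
open Cfsg.Agent.Classical.OrthAut (sqSign)

variable {F : Type*} [Field F] [Fintype F]

section

variable {ι : Type} [Fintype ι] [DecidableEq ι] {f : (ι → F) → (ι → F) → F}

local notation "Vi" => (ι → F)

/-- Isometries of the form are those of its quadratic form. -/
theorem iso_eq_isometry (hs : Sym f) (h2 : (2 : F) ≠ 0) : iso f = isometryGroup F ⇑hs.quad := by
  ext g
  rw [mem_isometryGroup]
  refine ⟨fun hg x => by rw [hs.quad_apply, hs.quad_apply, hg], fun hg x y => ?_⟩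
  rw [← hs.quad_polar h2, ← hs.quad_polar h2, QuadraticMap.polar, QuadraticMap.polar, ← Matrix.mulVec_add, hg, hg,
    hg]

/-- Determinant and spinor norm. -/
noncomputable def sgn (hs : Sym f) (h2 : (2 : F) ≠ 0) (g : GL ι F) : ℤˣ × ℤˣ :=
  haveI := Classical.dec (g ∈ isometryGroup F ⇑hs.quad)
  if hg : g ∈ isometryGroup F ⇑hs.quad then
    OrthAut.invHom (hs.quad_nondeg h2) (OrthAut.genQ_odd (hs.quad_nondeg h2) h2) ⟨g, hg⟩
  else 1

theorem sgn_mul (hs : Sym f) (h2 : (2 : F) ≠ 0) {g g' : GL ι F} (hg : g ∈ iso f) (hg' : g' ∈ iso f) :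
    sgn hs h2 (g * g') = sgn hs h2 g * sgn hs h2 g' := by
  rw [iso_eq_isometry hs h2] at hg hg'
  rw [sgn, sgn, sgn, dif_pos hg, dif_pos hg', dif_pos (mul_mem hg hg'), ← map_mul]
  rfl

theorem sgn_sq (hs : Sym f) (h2 : (2 : F) ≠ 0) (g : GL ι F) : sgn hs h2 g * sgn hs h2 g = 1 :=
  Prod.ext (Int.units_mul_self _) (Int.units_mul_self _)

/-- The derived group of the isometries. -/
theorem mem_comm_iso (hs : Sym f) (h2 : (2 : F) ≠ 0) (g : GL ι F) :
    g ∈ ⁅iso f, iso f⁆ ↔ g ∈ iso f ∧ sgn hs h2 g = 1 := by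
  have he := iso_eq_isometry hs h2
  have h1 : ⁅iso f, iso f⁆ = (Omega F ⇑hs.quad).map (isometryGroup F ⇑hs.quad).subtype := by
    rw [show Omega F ⇑hs.quad = commutator _ from rfl, commutator_def, Subgroup.map_commutator,
      ← MonoidHom.range_eq_map, Subgroup.range_subtype, he]
  rw [h1, OrthAut.omega_eq_ker (hs.quad_nondeg h2) (OrthAut.genQ_odd (hs.quad_nondeg h2) h2), he]
  constructor
  · rintro ⟨k, hk, rfl⟩
    exact ⟨k.2, (dif_pos k.2).trans (MonoidHom.mem_ker.1 hk)⟩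
  · rintro ⟨hg, hs1⟩
    rw [sgn, dif_pos hg] at hs1
    exact ⟨⟨g, hg⟩, hs1, rfl⟩

theorem sgn_inv (hs : Sym f) (h2 : (2 : F) ≠ 0) {g : GL ι F} (hg : g ∈ iso f) : sgn hs h2 g⁻¹ = sgn hs h2 g := by
  have h1 := sgn_mul hs h2 hg (inv_mem hg)
  rw [mul_inv_cancel] at h1
  have h0 : sgn hs h2 (1 : GL ι F) = 1 := by
    have := sgn_mul hs h2 (one_mem (iso f)) (one_mem (iso f))
    rwa [mul_one, left_eq_mul] at this
  rw [h0] at h1
  calc sgn hs h2 g⁻¹ = (sgn hs h2 g * sgn hs h2 g) * sgn hs h2 g⁻¹ := by rw [sgn_sq, one_mul]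
    _ = sgn hs h2 g := by rw [mul_assoc, ← h1, mul_one]

/-- A product of reflections in pairwise orthogonal vectors. -/
theorem sgn_refl_prod (hs : Sym f) (h2 : (2 : F) ≠ 0) {g : GL ι F} {π : Type} [Fintype π] (p : π → Vi)
    (hp : ∀ y, f (p y) (p y) ≠ 0) (horth : ∀ y y', y ≠ y' → f (p y) (p y') = 0)
    (hg : ∀ x, (g : Matrix ι ι F) *ᵥ x = x - ∑ y, (2 * f (p y) x / f (p y) (p y)) • p y) :
    g ∈ iso f ∧ sgn hs h2 g = ((-1) ^ Fintype.card π, ∏ y, sqSign (f (p y) (p y) / 2)) := by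
  classical
  let e := Fintype.equivFin π
  have hQ : ∀ y, hs.quad (p y) = f (p y) (p y) / 2 := fun y => hs.quad_apply _
  obtain ⟨g₀, hg₀, hg₀x⟩ := TensorOrth.exists_refl_prod (hs.quad_nondeg h2)
    (OrthAut.genQ_odd (hs.quad_nondeg h2) h2) _ (fun i => p (e.symm i))
    (fun i => by rw [hQ]; exact div_ne_zero (hp _) h2)
    (fun i j hij => by rw [hs.quad_polar h2]; exact horth _ _ fun e0 => hij (e.symm.injective e0))
  have heq : (g₀ : GL ι F) = g := Units.ext (Matrix.ext_iff_mulVec.2 fun x => by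
    show OrthAut.ogVal g₀ *ᵥ x = _
    rw [hg₀x, hg, ← Equiv.sum_comp e.symm fun y => (2 * f (p y) x / f (p y) (p y)) • p y]
    congr 1
    refine Finset.sum_congr rfl fun i _ => ?_
    rw [hQ, hs.quad_polar h2, inv_div, div_mul_eq_mul_div])
  subst heq
  refine ⟨by rw [iso_eq_isometry hs h2]; exact g₀.2, ?_⟩
  rw [sgn, dif_pos g₀.2]
  refine hg₀.trans ?_
  rw [Equiv.prod_comp e.symm fun y => sqSign (hs.quad (p y))]
  simp only [hQ]

end

variable {κ β : Type} [Fintype κ] [DecidableEq κ] [Fintype β] [DecidableEq β] {c : F} {h : (β → F) → (β → F) → F}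

local notation "X" => (κ → β)
local notation "Mn" => Matrix (κ → β) (κ → β) F
local notation "Mb" => Matrix β β F
local notation "W" => (β → F)

theorem sqSign_prod {π : Type*} (t : Finset π) (f : π → F) (hf : ∀ y ∈ t, f y ≠ 0) :
    sqSign (∏ y ∈ t, f y) = ∏ y ∈ t, sqSign (f y) := by
  classical
  induction t using Finset.induction_on with
  | empty => rw [Finset.prod_empty, Finset.prod_empty]; exact OrthAut.sqSign_of_isSquare IsSquare.one
  | insert y t hy ih =>
    have h1 : ∀ z ∈ t, f z ≠ 0 := fun z hz => hf z (Finset.mem_insert_of_mem hz)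
    rw [Finset.prod_insert hy, Finset.prod_insert hy, OrthAut.sqSign_mul (hf y (Finset.mem_insert_self y t))
      (Finset.prod_ne_zero_iff.2 h1), ih h1]

theorem unit_pow_even (u : ℤˣ) {m : ℕ} (hm : Even m) : u ^ m = 1 := by
  obtain ⟨r, rfl⟩ := hm
  rw [← two_mul, pow_mul, pow_two, Int.units_mul_self, one_pow]

/-- A product over tuples of a function of one coordinate. -/
theorem prod_coord (j : κ) {M : Type*} [CommMonoid M] (f : β → M) :
    ∏ y : κ → β, f (y j) = (∏ a, f a) ^ (Fintype.card β ^ (Fintype.card κ - 1)) := by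
  rw [← Equiv.prod_comp (Equiv.funSplitAt j β).symm fun y => f (y j), Fintype.prod_prod_type,
    ← Finset.prod_pow]
  refine Finset.prod_congr rfl fun a _ => ?_
  simp [Finset.prod_const, Finset.card_univ, Fintype.card_subtype_compl, Fintype.card_subtype_eq]

/-- The spinor sign of a reflection at one of an even number of tensors. -/
noncomputable def zeta (h : (β → F) → (β → F) → F) (κ : Type) [Fintype κ] : ℤˣ :=
  if Fintype.card κ = 2 then sqSign (gram h).det else 1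

theorem zeta_one (h : (β → F) → (β → F) → F) (hκ : Fintype.card κ ≠ 2) : zeta h κ = 1 := if_neg hκ

theorem unit_pow_odd (u : ℤˣ) {m : ℕ} (hm : Odd m) : u ^ m = u := by
  obtain ⟨r, rfl⟩ := hm
  rw [pow_succ, pow_mul, pow_two, Int.units_mul_self, one_pow, one_mul]

variable (hT : TData c h)
include hT

theorem TData.gt_le_iso : GT (κ := κ) c h ≤ iso (tf c h) :=
  Subgroup.commutator_le.2 fun _ ha _ hb => by
    rw [commutatorElement_def]; exact mul_mem (mul_mem (mul_mem ha hb) (inv_mem ha)) (inv_mem hb)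

theorem TData.mem_GT {g : GL X F} : g ∈ GT c h ↔ g ∈ iso (tf c h) ∧ sgn hT.sym hT.two g = 1 :=
  mem_comm_iso hT.sym hT.two g

theorem TData.sq_mem {g : GL X F} (hg : g ∈ iso (tf c h)) : g * g ∈ GT c h :=
  hT.mem_GT.2 ⟨mul_mem hg hg, by rw [sgn_mul hT.sym hT.two hg hg, sgn_sq]⟩

theorem TData.comm_mem {g g' : GL X F} (hg : g ∈ iso (tf c h)) (hg' : g' ∈ iso (tf c h)) :
    g * g' * g⁻¹ * g'⁻¹ ∈ GT c h := by
  rw [← commutatorElement_def]; exact Subgroup.commutator_mem_commutator hg hg'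

theorem TData.conj_mem {g x : GL X F} (hg : g ∈ iso (tf c h)) (hx : x ∈ GT c h) : g * x * g⁻¹ ∈ GT c h := by
  have := mul_mem (hT.comm_mem hg (hT.gt_le_iso hx)) hx
  simpa [mul_assoc] using this

theorem TData.pe_cube {i : κ} {B : GL β F} (hB : B ∈ iso h)
    (h3 : ∀ x, ((B : Mb) - 1) *ᵥ (((B : Mb) - 1) *ᵥ (((B : Mb) - 1) *ᵥ x)) = 0) : pe i B ∈ GT c h := by
  obtain ⟨p, hp⟩ := CharP.exists F
  haveI := hp
  haveI : Fact p.Prime := ⟨(CharP.char_is_prime_or_zero F p).resolve_right (CharP.char_ne_zero_of_finite F p)⟩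
  have h0 : ((B : Mb) - 1) ^ 3 = 0 := Matrix.ext_iff_mulVec.2 fun x => by
    rw [pow_succ, pow_two, ← Matrix.mulVec_mulVec, ← Matrix.mulVec_mulVec, h3, Matrix.zero_mulVec]
  have hBp : B ^ p = 1 := TensorOrth.pow_char_eq_one hT.two h0
  have hodd : p % 2 = 1 := (Fact.out (p := p.Prime)).eq_two_or_odd.resolve_left fun h' => by
    subst h'; exact hT.two CharTwo.two_eq_zero
  have h1 := hT.sq_mem (hT.pe_iso (κ := κ) i (pow_mem hB ((p + 1) / 2)))
  rwa [← map_mul, ← pow_add, show (p + 1) / 2 + (p + 1) / 2 = p + 1 by omega, pow_succ, hBp, one_mul] at h1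

theorem TData.cube_mem {g : GL X F} (hg : g ∈ iso (tf c h))
    (h3 : ∀ x, ((g : Mn) - 1) *ᵥ (((g : Mn) - 1) *ᵥ (((g : Mn) - 1) *ᵥ x)) = 0) : g ∈ GT c h :=
  TensorOrth.mem_of_cube (fun _ hk => hT.sq_mem hk) hT.two hg h3

/-- Siegel maps at a factor. -/
theorem TData.pe_sieg {i : κ} {B : GL β F} {a w : W} (hB : TensorOrth.IsSieg h B a w) (ha : h a a = 0)
    (hw : h w a = 0) : pe i B ∈ GT c h := by
  obtain ⟨B', hB', hB''⟩ := hT.hh.exists_sieg hT.two ha hw
  rw [hT.hh.sieg_unique hB hB'']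
  exact hT.pe_cube hB' fun x => hT.hh.sieg_cube hT.two hB'' ha hw x

theorem TData.pe_siegGrp {i : κ} {B : GL β F} (hB : B ∈ TensorOrth.siegGrp h) : pe i B ∈ GT c h := by
  induction hB using Subgroup.closure_induction with
  | mem x hx => obtain ⟨a, w, ha, hw, hx⟩ := hx; exact hT.pe_sieg hx ha hw
  | one => rw [map_one]; exact one_mem _
  | mul x y _ _ hx hy => rw [map_mul]; exact mul_mem hx hy
  | inv x _ hx => rw [map_inv]; exact inv_mem hx

/-- The scalar of the spinor norms of reflections at a factor. -/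
def spK (c : F) (h : (β → F) → (β → F) → F) (κ : Type) [Fintype κ] : F :=
  c * (gram h).det ^ (Fintype.card κ - 1) / 2

theorem TData.spK_ne : spK c h κ ≠ 0 :=
  div_ne_zero (mul_ne_zero hT.hc (pow_ne_zero _ hT.gram_det_ne)) hT.two

/-- The signs of a reflection at a factor, along an orthogonal basis. -/
theorem TData.sgn_pe_refl' (i : κ) {e : β → W} (he : Orth h e) {v : W} (hv : h v v ≠ 0) {B : GL β F}
    (hB : ∀ x, (B : Mb) *ᵥ x = x - (2 * h x v / h v v) • v) :
    sgn (hT.sym (κ := κ)) hT.two (pe i B) = ((-1) ^ Fintype.card (Rst i → β),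
      ∏ y : Rst i → β, sqSign (c * (∏ j, h (e (y j)) (e (y j))) * h v v / 2)) := by
  classical
  obtain ⟨p, hp⟩ : ∃ p : (Rst i → β) → (X → F),
      ∀ y, p y = ptens (fun l : κ => if hl : l = i then v else e (y ⟨l, hl⟩)) := ⟨_, fun _ => rfl⟩
  have hspV : ∀ y, spV i (p y) = tmul (ptens fun j : Rst i => e (y j)) v := fun y => by
    rw [hp, spV_ptens, dif_pos rfl]
    congr 2
    funext j
    rw [dif_neg j.2]
  have hval : ∀ y y', tf c h (p y) (p y') = tf c h (ptens fun j : Rst i => e (y j)) (ptens fun j : Rst i => e (y' j)) * h v v :=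
    fun y y' => by
      rw [← hT.tfs_tmul i, ← hspV, ← hspV, tfs, LinearEquiv.symm_apply_apply, LinearEquiv.symm_apply_apply]
  have hpp : ∀ y, tf c h (p y) (p y) = c * (∏ j, h (e (y j)) (e (y j))) * h v v := fun y => by
    rw [hval, hT.tf_ptens]
  have hpn : ∀ y, tf c h (p y) (p y) ≠ 0 := fun y => by
    rw [hpp]; exact mul_ne_zero (mul_ne_zero hT.hc (Finset.prod_ne_zero_iff.2 fun j _ => he.ne _)) hv
  have horth : ∀ y y', y ≠ y' → tf c h (p y) (p y') = 0 := fun y y' hne => by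
    obtain ⟨j, hj⟩ := Function.ne_iff.1 hne
    rw [hval, hT.tf_ptens, Finset.prod_eq_zero (Finset.mem_univ j) (he.orth _ _ hj), mul_zero, zero_mul]
  have hform : ∀ x, (pe i B : Mn) *ᵥ x = x - ∑ y, (2 * tf c h (p y) x / tf c h (p y) (p y)) • p y := by
    have hL : Matrix.toLin' (pe i B : Mn) = LinearMap.id -
        ∑ y, ((2 / tf c h (p y) (p y)) • (hT.sym (κ := κ)).lin (p y)).smulRight (p y) := ext_ptens fun xs => by
      simp only [Matrix.toLin'_apply, LinearMap.sub_apply, LinearMap.id_apply, LinearMap.coe_sum, Finset.sum_apply,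
        LinearMap.smulRight_apply, LinearMap.smul_apply, (hT.sym (κ := κ)).lin_apply, smul_eq_mul]
      refine (spV i).injective ?_
      rw [← sp_mulVec, sp_pe, map_sub, map_sum, spV_ptens, k2_mulVec, Units.val_one, Matrix.one_mulVec, hB,
        tmul_sub_right]
      congr 1
      have hexp : (ptens fun j : Rst i => xs j.1) =
          ∑ y : Rst i → β, (∏ j, (h (e (y j)) (xs j.1) / h (e (y j)) (e (y j)))) •
            ptens fun j : Rst i => e (y j) := by
        conv_lhs => rw [funext fun j : Rst i => he.expand hT (xs j.1)]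
        exact ptens_sum (fun (j : Rst i) a => h (e a) (xs j.1) / h (e a) (e a)) (fun _ a => e a)
      rw [hexp, ← fac_apply, map_sum]
      refine Finset.sum_congr rfl fun y _ => ?_
      have hpx : tf c h (ptens xs) (p y) = c * (∏ j : Rst i, h (xs j.1) (e (y j))) * h (xs i) v := by
        have h1 : tf c h (ptens xs) (p y) = tfs c h i (spV i (ptens xs)) (spV i (p y)) := by
          rw [tfs, LinearEquiv.symm_apply_apply, LinearEquiv.symm_apply_apply]
        rw [h1, spV_ptens, hspV, hT.tfs_tmul, hT.tf_ptens]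
      rw [map_smul, map_smul, hspV, fac_apply, hpx, tmul_smul_right, smul_smul]
      congr 1
      rw [hpp, Finset.prod_div_distrib, Finset.prod_congr rfl fun (j : Rst i) _ => hT.hh.symm (e (y j)) (xs j.1)]
      have := hT.hc
      have : ∏ j : Rst i, h (e (y j)) (e (y j)) ≠ 0 := Finset.prod_ne_zero_iff.2 fun j _ => he.ne _
      field_simp
    intro x
    have h1 := LinearMap.congr_fun hL x
    simp only [Matrix.toLin'_apply, LinearMap.sub_apply, LinearMap.id_apply, LinearMap.coe_sum, Finset.sum_apply,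
      LinearMap.smulRight_apply, LinearMap.smul_apply, (hT.sym (κ := κ)).lin_apply, smul_eq_mul] at h1
    rw [h1]
    congr 1
    refine Finset.sum_congr rfl fun y _ => ?_
    rw [(hT.sym (κ := κ)).symm (p y) x, div_mul_eq_mul_div]
  rw [(sgn_refl_prod hT.sym hT.two p hpn horth hform).2]
  congr 1
  exact Finset.prod_congr rfl fun y _ => by rw [hpp]

/-- The signs of a reflection at a factor, in odd dimension. -/
theorem TData.sgn_pe_refl (hodd : Odd (Fintype.card β)) (i : κ) {v : W} (hv : h v v ≠ 0) {B : GL β F}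
    (hB : ∀ x, (B : Mb) *ᵥ x = x - (2 * h x v / h v v) • v) :
    sgn (hT.sym (κ := κ)) hT.two (pe i B) = (-1, sqSign (h v v * spK c h κ)) := by
  obtain ⟨e, he⟩ := hT.exists_frame hodd
  rw [hT.sgn_pe_refl' i (he.toOrth hT.gram_det_ne) hv hB]
  simp only [he.val, Finset.prod_const, Finset.card_univ, Fintype.card_subtype_compl, Fintype.card_subtype_eq]
  have ho : Odd (Fintype.card (Rst i → β)) := by rw [Fintype.card_fun]; exact hodd.pow
  rw [ho.neg_one_pow, unit_pow_odd _ ho, spK]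
  congr 2
  ring

/-- The signs of a reflection at a factor, in even dimension. -/
theorem TData.sgn_pe_refl_even (hev : Even (Fintype.card β)) (hκ : 2 ≤ Fintype.card κ) (i : κ) {v : W}
    (hv : h v v ≠ 0) {B : GL β F} (hB : ∀ x, (B : Mb) *ᵥ x = x - (2 * h x v / h v v) • v) :
    sgn (hT.sym (κ := κ)) hT.two (pe i B) = (1, zeta h κ) := by
  classical
  obtain ⟨e, he⟩ := hT.exists_orth
  have hr : Fintype.card (Rst i) + 1 = Fintype.card κ := by
    rw [Fintype.card_subtype_compl, Fintype.card_subtype_eq]; omega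
  have hN : Even (Fintype.card (Rst i → β)) := by
    rw [Fintype.card_fun]; exact hev.pow_of_ne_zero (by omega)
  rw [hT.sgn_pe_refl' i he hv hB, hN.neg_one_pow]
  obtain ⟨K, hK⟩ : ∃ K, K = c * h v v / 2 := ⟨_, rfl⟩
  have hK0 : K ≠ 0 := hK ▸ div_ne_zero (mul_ne_zero hT.hc hv) hT.two
  have h1 : ∀ y : Rst i → β, sqSign (c * (∏ j, h (e (y j)) (e (y j))) * h v v / 2) =
      sqSign K * ∏ j, sqSign (h (e (y j)) (e (y j))) := fun y => by
    rw [← sqSign_prod _ _ (fun j _ => he.ne _), ← OrthAut.sqSign_mul hK0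
      (Finset.prod_ne_zero_iff.2 fun j _ => he.ne _), hK]
    congr 1
    ring
  rw [Finset.prod_congr rfl fun y _ => h1 y, Finset.prod_mul_distrib, Finset.prod_const, Finset.card_univ,
    unit_pow_even _ hN, one_mul, Finset.prod_comm, Finset.prod_congr rfl fun j _ =>
      prod_coord j fun a => sqSign (h (e a) (e a)), Finset.prod_const, Finset.card_univ]
  congr 1
  rw [zeta]
  split_ifs with h2
  · have h0 : Fintype.card (Rst i) = 1 := by omega
    have hg := gram_det_sq hT.hh e he.orth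
    have hne : ∏ a, h (e a) (e a) ≠ 0 := Finset.prod_ne_zero_iff.2 fun a _ => he.ne a
    rw [h0, Nat.sub_self, pow_zero, pow_one, pow_one, ← sqSign_prod _ _ (fun a _ => he.ne a), ← hg]
    obtain ⟨D, hD⟩ : ∃ D, D = (Matrix.of fun a b => e b a : Mb).det := ⟨_, rfl⟩
    rw [← hD] at hg ⊢
    have hD0 : D ≠ 0 := fun e0 => hne (by rw [← hg, e0]; ring)
    rw [OrthAut.sqSign_mul (mul_ne_zero hD0 hD0) hT.gram_det_ne, OrthAut.sqSign_of_isSquare ⟨D, rfl⟩, one_mul]
  · rw [← pow_mul, unit_pow_even _ ((hev.pow_of_ne_zero (by omega)).mul_right _)]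

/-- A product of two reflections at a factor of one class. -/
theorem TData.sgn_pe_refl_two (hodd : Odd (Fintype.card β)) (i : κ) {v w : W} (hv : h v v ≠ 0) (hw : h w w ≠ 0)
    {B B' : GL β F} (hBi : B ∈ iso h) (hB'i : B' ∈ iso h)
    (hB : ∀ x, (B : Mb) *ᵥ x = x - (2 * h x v / h v v) • v)
    (hB' : ∀ x, (B' : Mb) *ᵥ x = x - (2 * h x w / h w w) • w) :
    sgn (hT.sym (κ := κ)) hT.two (pe i (B * B')) = (1, sqSign (h v v * h w w)) := by
  rw [map_mul, sgn_mul hT.sym hT.two (hT.pe_iso i hBi) (hT.pe_iso i hB'i), hT.sgn_pe_refl hodd i hv hB,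
    hT.sgn_pe_refl hodd i hw hB', Prod.mk_mul_mk, Int.units_mul_self, OrthAut.sqSign_mul hv hT.spK_ne,
    OrthAut.sqSign_mul hw hT.spK_ne, OrthAut.sqSign_mul hv hw, mul_mul_mul_comm, Int.units_mul_self, mul_one]

/-- A product of two reflections at a factor, in the derived group. -/
theorem TData.pair_mem (i : κ) {v w : W} (hv : h v v ≠ 0) (hw : h w w ≠ 0)
    (hsq : (Even (Fintype.card β) ∧ 2 ≤ Fintype.card κ) ∨ IsSquare (h v v * h w w))
    {B B' : GL β F} (hBi : B ∈ iso h) (hB'i : B' ∈ iso h)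
    (hB : ∀ x, (B : Mb) *ᵥ x = x - (2 * h x v / h v v) • v)
    (hB' : ∀ x, (B' : Mb) *ᵥ x = x - (2 * h x w / h w w) • w) : pe i (B * B') ∈ GT (κ := κ) c h := by
  refine hT.mem_GT.2 ⟨hT.pe_iso i (mul_mem hBi hB'i), ?_⟩
  rw [map_mul, sgn_mul hT.sym hT.two (hT.pe_iso i hBi) (hT.pe_iso i hB'i)]
  rcases hsq with ⟨hev, hκ⟩ | hsq
  · rw [hT.sgn_pe_refl_even hev hκ i hv hB, hT.sgn_pe_refl_even hev hκ i hw hB', Prod.mk_mul_mk, one_mul,
      Int.units_mul_self]
    rfl
  obtain ⟨e, he⟩ := hT.exists_orth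
  rw [hT.sgn_pe_refl' i he hv hB, hT.sgn_pe_refl' i he hw hB', Prod.mk_mul_mk, ← Finset.prod_mul_distrib,
    Int.units_mul_self, Finset.prod_eq_one]
  · rfl
  intro y _
  have hP : ∏ j : Rst i, h (e (y j)) (e (y j)) ≠ 0 := Finset.prod_ne_zero_iff.2 fun j _ => he.ne _
  obtain ⟨s, hs⟩ := hsq
  rw [← OrthAut.sqSign_mul (div_ne_zero (mul_ne_zero (mul_ne_zero hT.hc hP) hv) hT.two)
    (div_ne_zero (mul_ne_zero (mul_ne_zero hT.hc hP) hw) hT.two), OrthAut.sqSign_of_isSquare]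
  refine ⟨c * (∏ j : Rst i, h (e (y j)) (e (y j))) * s / 2, ?_⟩
  linear_combination (c * (∏ j : Rst i, h (e (y j)) (e (y j))) / 2) ^ 2 * hs

/-- A reflection at one of at least three factors, in even dimension, in the derived group. -/
theorem TData.refl_mem (hev : Even (Fintype.card β)) (h3 : 3 ≤ Fintype.card κ) (i : κ) {v : W} (hv : h v v ≠ 0)
    {B : GL β F} (hBi : B ∈ iso h) (hB : ∀ x, (B : Mb) *ᵥ x = x - (2 * h x v / h v v) • v) :
    pe i B ∈ GT (κ := κ) c h :=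
  hT.mem_GT.2 ⟨hT.pe_iso i hBi, by
    rw [hT.sgn_pe_refl_even hev (by omega) i hv hB, zeta_one h (by omega)]; rfl⟩

/-- A pair of reflections at a factor in the derived group. -/
theorem TData.exists_pair (i : κ) {v w : W} (hv : h v v ≠ 0) (hw : h w w ≠ 0)
    (hsq : (Even (Fintype.card β) ∧ 2 ≤ Fintype.card κ) ∨ IsSquare (h v v * h w w)) (hvw : h v w = 0) :
    ∃ B ∈ iso h, pe i B ∈ GT c h ∧
      ∀ x, (B : Mb) *ᵥ x = x - (2 * h x v / h v v) • v - (2 * h x w / h w w) • w := by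
  obtain ⟨A, hA, hAx⟩ := hT.exists_hrefl hv
  obtain ⟨A', hA', hA'x⟩ := hT.exists_hrefl hw
  refine ⟨A * A', mul_mem hA hA', hT.pair_mem i hv hw hsq hA hA' hAx hA'x, fun x => ?_⟩
  rw [Units.val_mul, ← Matrix.mulVec_mulVec, hA'x, hAx, hT.hh.sub_left, hT.hh.smul_left, hT.hh.symm w v, hvw,
    mul_zero, sub_zero]
  abel

/-- A torus at a factor. -/
theorem TData.exists_torus (i : κ) {z u : W} (hz : h z z = 0) (hu : h u u = 0) (huz : h u z = 1) {l : F}
    (hl : l ≠ 0) : ∃ B ∈ iso h, (B : Mb) *ᵥ z = l • z ∧ (B : Mb) *ᵥ u = l⁻¹ • u ∧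
      (∀ x, h x z = 0 → h x u = 0 → (B : Mb) *ᵥ x = x) ∧
      ((Even (Fintype.card β) ∧ 2 ≤ Fintype.card κ) ∨ IsSquare l → pe i B ∈ GT (κ := κ) c h) ∧
      (Odd (Fintype.card β) → sgn (hT.sym (κ := κ)) hT.two (pe i B) = (1, sqSign l)) := by
  have hs := hT.hh
  have h2 := hT.two
  have hv : h (z - u) (z - u) = -2 := by
    simp only [hs.sub_left, hs.sub_right, hz, hu, huz, hs.symm z u]; ring
  have hw : h (z - l • u) (z - l • u) = -2 * l := by
    simp only [hs.sub_left, hs.sub_right, hs.smul_left, hs.smul_right, hz, hu, huz, hs.symm z u]; ring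
  have hvn : h (z - u) (z - u) ≠ 0 := by rw [hv]; exact neg_ne_zero.2 h2
  have hwn : h (z - l • u) (z - l • u) ≠ 0 := by rw [hw]; exact mul_ne_zero (neg_ne_zero.2 h2) hl
  obtain ⟨A, hA, hAx⟩ := hT.exists_hrefl hvn
  obtain ⟨A', hA', hA'x⟩ := hT.exists_hrefl hwn
  refine ⟨A * A', mul_mem hA hA', ?_, ?_, fun x h1 h2' => ?_, fun hsq => ?_, fun hodd => ?_⟩
  · rw [Units.val_mul, ← Matrix.mulVec_mulVec, hA'x, hAx, hv, hw]
    simp only [hs.sub_left, hs.sub_right, hs.smul_left, hs.smul_right, hz, hu, huz, hs.symm z u]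
    match_scalars <;> field_simp <;> ring
  · rw [Units.val_mul, ← Matrix.mulVec_mulVec, hA'x, hAx, hv, hw]
    simp only [hs.sub_left, hs.sub_right, hs.smul_left, hs.smul_right, hz, hu, huz, hs.symm z u]
    match_scalars <;> field_simp <;> ring
  · have e : ∀ a : F, h x (z - a • u) = 0 := fun a => by
      rw [hs.sub_right, hs.smul_right, h1, h2', mul_zero, sub_zero]
    rw [Units.val_mul, ← Matrix.mulVec_mulVec, hA'x, e, mul_zero, zero_div, zero_smul, sub_zero, hAx,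
      show z - u = z - (1 : F) • u by rw [one_smul], e, mul_zero, zero_div, zero_smul, sub_zero]
  · refine hT.pair_mem i hvn hwn (hsq.imp id fun ⟨s, hs'⟩ => ⟨2 * s, ?_⟩) hA hA' hAx hA'x
    rw [hv, hw, hs']
    ring
  · rw [hT.sgn_pe_refl_two hodd i hvn hwn hA hA' hAx hA'x, hv, hw,
      show (-2 : F) * (-2 * l) = (-2) * (-2) * l by ring,
      OrthAut.sqSign_mul (mul_ne_zero (neg_ne_zero.2 h2) (neg_ne_zero.2 h2)) hl,
      OrthAut.sqSign_of_isSquare ⟨-2, rfl⟩, one_mul]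

/-- Exchanging a hyperbolic pair, in the derived group. -/
theorem TData.exists_swap (i : κ) {a u e : W} (ha : h a a = 0) (hu : h u u = 0) (hua : h u a = 1) (hea : h e a = 0)
    (heu : h e u = 0) (hee : h e e ≠ 0) :
    ∃ r : F, r ≠ 0 ∧ ∃ B ∈ iso h, pe i B ∈ GT c h ∧ (B : Mb) *ᵥ a = r • u ∧ (B : Mb) *ᵥ u = r⁻¹ • a ∧
      (B : Mb) *ᵥ e = -e ∧ ∀ x, h x a = 0 → h x u = 0 → h x e = 0 → (B : Mb) *ᵥ x = x := by
  have hs := hT.hh
  have h2 := hT.two
  obtain ⟨r, hr⟩ : ∃ r, r = -(h e e / 2) := ⟨_, rfl⟩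
  have hr0 : r ≠ 0 := hr ▸ neg_ne_zero.2 (div_ne_zero hee h2)
  obtain ⟨v, hv'⟩ : ∃ v, v = a - r • u := ⟨_, rfl⟩
  have hv : h v v = h e e := by
    simp only [hv', hs.sub_left, hs.sub_right, hs.smul_left, hs.smul_right, ha, hu, hua, hs.symm a u]
    rw [hr]; field_simp; ring
  have hev : h e v = 0 := by rw [hv', hs.sub_right, hs.smul_right, hea, heu, mul_zero, sub_zero]
  obtain ⟨B, hB, hBG, hBx⟩ := hT.exists_pair i (v := v) (w := e) (by rw [hv]; exact hee) hee
    (Or.inr ⟨h e e, by rw [hv]⟩) (by rw [hs.symm]; exact hev)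
  have hav : h a v = -r := by rw [hv', hs.sub_right, hs.smul_right, ha, hs.symm a u, hua, mul_one, zero_sub]
  have huv : h u v = 1 := by rw [hv', hs.sub_right, hs.smul_right, hua, hu, mul_zero, sub_zero]
  refine ⟨r, hr0, B, hB, hBG, ?_, ?_, ?_, fun x h1 h2' h3 => ?_⟩
  · rw [hBx, hav, hv, hs.symm a e, hea, mul_zero, zero_div, zero_smul, sub_zero,
      show 2 * -r / h e e = 1 by rw [hr]; field_simp, one_smul, hv', sub_sub_cancel]
  · rw [hBx, huv, hv, hs.symm u e, heu, mul_zero, zero_div, zero_smul, sub_zero, hv',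
      show (2 : F) * 1 / h e e = -r⁻¹ by rw [hr]; field_simp]
    match_scalars <;> field_simp <;> ring
  · rw [hBx, hev, mul_zero, zero_div, zero_smul, sub_zero, show 2 * h e e / h e e = (2 : F) by field_simp,
      two_smul, sub_add_cancel_left]
  · rw [hBx, hv', hs.sub_right, hs.smul_right, h1, h2', h3]
    simp

/-- A sign is corrected at a factor by an element preserving a subspace with both classes of values. -/
theorem TData.exists_fix_of (i : κ) {S : Subgroup (GL β F)} (hS : S ≤ iso h)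
    (h1 : ∀ p : ℤˣ, ∃ B ∈ S, sgn (hT.sym (κ := κ)) hT.two (pe i B) = (1, p))
    (h3 : ∃ B ∈ S, ∃ p, sgn (hT.sym (κ := κ)) hT.two (pe i B) = (-1, p)) {g : GL X F}
    (hg : g ∈ iso (tf c h)) : ∃ B ∈ S, g * pe i B ∈ GT c h := by
  have key : ∀ p : ℤˣ × ℤˣ, ∃ B ∈ S, sgn (hT.sym (κ := κ)) hT.two (pe i B) = p := by
    rintro ⟨ε, σ⟩
    rcases Int.units_eq_one_or ε with rfl | rfl
    · exact h1 σ
    obtain ⟨B, hB, p, hp⟩ := h3
    obtain ⟨B', hB', hp'⟩ := h1 (p * σ)
    refine ⟨B * B', mul_mem hB hB', ?_⟩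
    rw [map_mul, sgn_mul hT.sym hT.two (hT.pe_iso i (hS hB)) (hT.pe_iso i (hS hB')), hp, hp', Prod.mk_mul_mk,
      mul_one, ← mul_assoc, Int.units_mul_self, one_mul]
  obtain ⟨B, hB, hp⟩ := key (sgn hT.sym hT.two g)
  exact ⟨B, hB, hT.mem_GT.2 ⟨mul_mem hg (hT.pe_iso i (hS hB)), by
    rw [sgn_mul hT.sym hT.two hg (hT.pe_iso i (hS hB)), hp, sgn_sq]⟩⟩

/-- The isometries keeping a line. -/
def stabLine (h : (β → F) → (β → F) → F) (z : β → F) : Subgroup (GL β F) :=
  iso h ⊓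
    { carrier := {B | ∃ r : F, r ≠ 0 ∧ (B : Mb) *ᵥ z = r • z}
      one_mem' := ⟨1, one_ne_zero, by simp⟩
      mul_mem' := fun {A B} ⟨r, hr, hA⟩ ⟨s, hs, hB⟩ => ⟨r * s, mul_ne_zero hr hs, by
        rw [Units.val_mul, ← Matrix.mulVec_mulVec, hB, Matrix.mulVec_smul, hA, smul_smul, mul_comm]⟩
      inv_mem' := fun {A} ⟨r, hr, hA⟩ => ⟨r⁻¹, inv_ne_zero hr, gl_mulVec_injective A (by
        show (A : Mb) *ᵥ _ = (A : Mb) *ᵥ _
        rw [mulVec_inv_cancel, Matrix.mulVec_smul, hA, smul_smul, inv_mul_cancel₀ hr, one_smul])⟩ }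

/-- A sign is corrected keeping a singular line. -/
theorem TData.exists_fix_line (hodd : Odd (Fintype.card β)) (i : κ) {z : W} (hz : h z z = 0) (hz0 : z ≠ 0) {g : GL X F}
    (hg : g ∈ iso (tf c h)) : ∃ B ∈ stabLine h z, g * pe i B ∈ GT c h := by
  classical
  have hs := hT.hh
  obtain ⟨u, hu, huz⟩ := hs.exists_partner hT.two hz hz0
  obtain ⟨e, he, hee⟩ := hs.exists_aniso hT.two (hs.ndOn_perp2 hu hz huz)
    (Submodule.exists_mem_ne_zero_of_ne_bot fun h0 => by
      have := hs.finrank_perp2 u z; have := hT.three; rw [h0, finrank_bot] at *; omega)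
  refine hT.exists_fix_of i inf_le_left (fun p => ?_) ?_ hg
  · obtain ⟨l, hl, hlp⟩ : ∃ l : F, l ≠ 0 ∧ sqSign l = p := by
      rcases Int.units_eq_one_or p with rfl | rfl
      · exact ⟨1, one_ne_zero, OrthAut.sqSign_of_isSquare IsSquare.one⟩
      · obtain ⟨l, hl⟩ := FiniteField.exists_nonsquare (F := F) fun h => hT.two (by
          haveI := ringChar.of_eq h; exact CharTwo.two_eq_zero)
        exact ⟨l, fun e0 => hl (e0 ▸ IsSquare.zero), OrthAut.sqSign_of_not hl⟩
    obtain ⟨B, hB, hBz, -, -, -, hp⟩ := hT.exists_torus i hz hu huz hl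
    exact ⟨B, ⟨hB, l, hl, hBz⟩, hlp ▸ hp hodd⟩
  · obtain ⟨B, hB, hBx⟩ := hT.exists_hrefl hee
    refine ⟨B, ⟨hB, 1, one_ne_zero, ?_⟩, _, hT.sgn_pe_refl hodd i hee hBx⟩
    rw [hBx, hs.symm z e, (show h e z = 0 from he.2), mul_zero, zero_div, zero_smul, sub_zero, one_smul]

/-- A sign is corrected fixing an anisotropic vector. -/
theorem TData.exists_fix_vec (hodd : Odd (Fintype.card β)) (i : κ) {v : W} (hv : h v v ≠ 0) {g : GL X F}
    (hg : g ∈ iso (tf c h)) : ∃ B ∈ iso h, (B : Mb) *ᵥ v = v ∧ g * pe i B ∈ GT c h := by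
  classical
  have hs := hT.hh
  let S : Subgroup (GL β F) := iso h ⊓
    { carrier := {B | (B : Mb) *ᵥ v = v}
      one_mem' := by simp
      mul_mem' := fun {A B} (hA : (A : Mb) *ᵥ v = v) (hB : (B : Mb) *ᵥ v = v) => by
        show ((A * B : GL β F) : Mb) *ᵥ v = v
        rw [Units.val_mul, ← Matrix.mulVec_mulVec, hB, hA]
      inv_mem' := fun {A} (hA : (A : Mb) *ᵥ v = v) => gl_mulVec_injective A (by
        show (A : Mb) *ᵥ _ = (A : Mb) *ᵥ _
        rw [mulVec_inv_cancel, hA]) }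
  obtain ⟨U, hUdef⟩ : ∃ U, U = (⊤ : Submodule F W) ⊓ LinearMap.ker (hs.lin v) := ⟨_, rfl⟩
  have hU : NdOn h U := hUdef ▸ hs.ndOn_inf_ker hs.ndOn_top trivial hv
  have hUd : 2 ≤ finrank F U := by
    have h1 := finrank_le_inf_ker_add_one (⊤ : Submodule F W) (hs.lin v)
    rw [finrank_top, Module.finrank_pi, ← hUdef] at h1
    have := hT.three; omega
  have hmem : ∀ a, a ∈ U → h a v = 0 := fun a ha => (hUdef ▸ ha : a ∈ (⊤ : Submodule F W) ⊓ _).2
  have hrefl : ∀ l : F, l ≠ 0 → ∃ a B, h a a = l ∧ h a a ≠ 0 ∧ B ∈ S ∧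
      ∀ x, (B : Mb) *ᵥ x = x - (2 * h x a / h a a) • a := fun l hl => by
    obtain ⟨a, ha, hla⟩ := hT.exists_val hU hUd hl
    have ha0 : h a a ≠ 0 := hla ▸ hl
    obtain ⟨B, hB, hBx⟩ := hT.exists_hrefl ha0
    refine ⟨a, B, hla, ha0, ⟨hB, ?_⟩, hBx⟩
    show (B : Mb) *ᵥ v = v
    rw [hBx, hs.symm v a, hmem a ha, mul_zero, zero_div, zero_smul, sub_zero]
  obtain ⟨a, A, hla, ha, hA, hAx⟩ := hrefl 1 one_ne_zero
  suffices h1 : ∀ p : ℤˣ, ∃ B ∈ S, sgn (hT.sym (κ := κ)) hT.two (pe i B) = (1, p) by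
    obtain ⟨B, hBS, hB⟩ := hT.exists_fix_of i (S := S) inf_le_left h1 ⟨A, hA, _, hT.sgn_pe_refl hodd i ha hAx⟩ hg
    exact ⟨B, hBS.1, hBS.2, hB⟩
  intro p
  obtain ⟨l, hl, hlp⟩ : ∃ l : F, l ≠ 0 ∧ sqSign l = p := by
    rcases Int.units_eq_one_or p with rfl | rfl
    · exact ⟨1, one_ne_zero, OrthAut.sqSign_of_isSquare IsSquare.one⟩
    · obtain ⟨l, hl⟩ := FiniteField.exists_nonsquare (F := F) fun h => hT.two (by
        haveI := ringChar.of_eq h; exact CharTwo.two_eq_zero)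
      exact ⟨l, fun e0 => hl (e0 ▸ IsSquare.zero), OrthAut.sqSign_of_not hl⟩
  obtain ⟨b, B, hlb, hb, hB, hBx⟩ := hrefl l hl
  refine ⟨A * B, mul_mem hA hB, ?_⟩
  rw [hT.sgn_pe_refl_two hodd i ha hb hA.1 hB.1 hAx hBx, hla, hlb, one_mul, hlp]

end Cfsg.Agent.Classical.TensorPowOrth
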