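import Cfsg.Agent.Lib.Classical.TensorPowOrth.ThreeKer

/-!
Factors of dimension three: the centraliser of an involution at a factor stabilises the decomposition.
-/

set_option autoImplicit false
set_option linter.unusedSectionVars false
set_option linter.unusedSimpArgs false
set_option linter.style.haveILetI false

open scoped Kronecker

namespace Cfsg.Agent.Classical.TensorPowOrth

open Matrix Module MaxTv TensorMax TensorPow Overfield
open Cfsg.Agent.Classical.TensorOrth (Sym NdOn iso IsSieg ext_pure ext_kron)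

variable {F : Type*} [Field F] [Fintype F] {κ β : Type} [Fintype κ] [DecidableEq κ] [Fintype β] [DecidableEq β]
  {c : F} {h : (β → F) → (β → F) → F}

local notation "X" => (κ → β)
local notation "V" => ((κ → β) → F)
local notation "Mn" => Matrix (κ → β) (κ → β) F
local notation "Mb" => Matrix β β F
local notation "W" => (β → F)

/-- The action on the tensors with `v` at the factor `i`. -/
def Res (i : κ) (v : β → F) (g : GL (κ → β) F) (A : GL (Rst i → β) F) : Prop :=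
  ∀ r, (sp i g : Matrix ((Rst i → β) × β) ((Rst i → β) × β) F) *ᵥ tmul r v =
    tmul ((A : Matrix (Rst i → β) (Rst i → β) F) *ᵥ r) v

section res

variable {i : κ} {v : β → F} {g g' : GL (κ → β) F} {A A' : GL (Rst i → β) F}

theorem Res.mul (hg : Res i v g A) (hg' : Res i v g' A') : Res i v (g * g') (A * A') := fun r => by
  rw [map_mul, Units.val_mul, ← Matrix.mulVec_mulVec, hg', hg, Units.val_mul, ← Matrix.mulVec_mulVec]

theorem Res.one : Res i v (1 : GL X F) 1 := fun r => by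
  rw [map_one, Units.val_one, Matrix.one_mulVec, Units.val_one, Matrix.one_mulVec]

theorem Res.inv (hg : Res i v g A) : Res i v g⁻¹ A⁻¹ := fun r => by
  have h1 := hg (((A⁻¹ : GL (Rst i → β) F) : Matrix (Rst i → β) (Rst i → β) F) *ᵥ r)
  rw [mulVec_inv_cancel] at h1
  conv_lhs => rw [← h1, map_inv, inv_mulVec_cancel]

theorem res_emb (A : GL (Rst i → β) F) : Res i v (emb i A) A := fun r => by
  rw [sp_emb, k2_mulVec, Units.val_one, Matrix.one_mulVec]

theorem res_pe {B : GL β F} (hB : (B : Mb) *ᵥ v = v) : Res i v (pe i B) 1 := fun r => by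
  rw [sp_pe, k2_mulVec, hB]

theorem Res.fx (hg : Res i v g 1) : g ∈ Fx F i v := fun t ht => by
  obtain ⟨r, hr⟩ := mem_line_iff.1 ht
  refine (spV i).injective ?_
  rw [← sp_mulVec, hr, hg, Units.val_one, Matrix.one_mulVec]

theorem res_of_wr [Nontrivial β] (hR : Nonempty (Rst i)) (hv : v ≠ 0) (hg : g ∈ Wr F κ β) (hA : Res i v g A) : A ∈ Wr F (Rst i) β := by
  obtain ⟨σ, gs, rfl⟩ := hg
  have himg : (line i v).map (Matrix.toLin' (wgl σ gs : Mn)) = line i v := by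
    refine map_line_eq_of_le hv hv ?_
    rintro _ ⟨t, ht, rfl⟩
    obtain ⟨r, hr⟩ := mem_line_iff.1 ht
    refine mem_line_iff.2 ⟨(A : Matrix (Rst i → β) (Rst i → β) F) *ᵥ r, ?_⟩
    rw [Matrix.toLin'_apply, ← sp_mulVec, hr, hA]
  rw [wgl_line' σ gs i hv] at himg
  have hσ : σ i = i := by
    have h1 := line_eq_slot (gl_mulVec_ne_zero _ hv) hv himg
    conv_lhs => rw [← h1, perm_apply_inv]
  obtain ⟨φ, hφ⟩ := exists_dual hv
  obtain ⟨A₀, hA₀⟩ : ∃ A₀, A₀ = wgl (rperm σ hσ) fun j : Rst i => gs j.1 := ⟨_, rfl⟩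
  have h1 : ∀ r, (φ ⬝ᵥ ((gs i : Mb) *ᵥ v)) • ((A₀ : Matrix (Rst i → β) (Rst i → β) F) *ᵥ r) =
      (A : Matrix (Rst i → β) (Rst i → β) F) *ᵥ r := fun r => by
    have h2 := congrArg (slice φ) (hA r)
    rwa [sp_wgl σ hσ, ← hA₀, k2_mulVec, slice_tmul, slice_tmul, hφ, one_smul] at h2
  obtain ⟨μ, hμ⟩ : ∃ μ, μ = φ ⬝ᵥ ((gs i : Mb) *ᵥ v) := ⟨_, rfl⟩
  simp only [← hμ] at h1
  obtain ⟨j⟩ : Nonempty (Rst i) := hR
  have hμ0 : μ ≠ 0 := fun e => by
    have h2 := h1 (ptens fun _ : Rst i => v)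
    rw [e, zero_smul] at h2
    exact gl_mulVec_ne_zero A (ptens_ne_zero fun _ => hv) h2.symm
  refine ⟨rperm σ hσ, Function.update (fun j : Rst i => gs j.1) j (scal μ hμ0 (gs j.1)), Units.ext
    (Matrix.toLin'.injective (ext_ptens fun xs => ?_))⟩
  rw [Matrix.toLin'_apply, Matrix.toLin'_apply, ← h1, hA₀, wgl_mulVec, wgl_mulVec]
  funext a
  rw [Pi.smul_apply, smul_eq_mul, ptens, ptens, ← Finset.mul_prod_erase _ _ (Finset.mem_univ j),
    ← Finset.mul_prod_erase _ _ (Finset.mem_univ j), Function.update_self, scal_val, Matrix.smul_mulVec,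
    Pi.smul_apply, smul_eq_mul, ← mul_assoc]
  congr 1
  exact Finset.prod_congr rfl fun k hk => by rw [Function.update_of_ne (Finset.ne_of_mem_erase hk)]

end res

variable (hT : TData c h)
include hT

/-- An element outside the stabiliser commuting with a regular unipotent element at a factor. -/
theorem TData.exists_long (h3 : Fintype.card β = 3) (hκ : 2 ≤ Fintype.card κ) (j : κ) {z w : W} (hz : h z z = 0)
    (hz0 : z ≠ 0) (hwz : h w z = 0) {B : GL β F} (hBi : B ∈ iso h) (hB : IsSieg h B z w) :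
    ∃ T ∈ GT (κ := κ) c h, T ∉ Wr F κ β ∧ T * pe j B = pe j B * T := by
  classical
  haveI : Nontrivial β := Fintype.one_lt_card_iff_nontrivial.1 (by omega)
  haveI : Nonempty κ := ⟨j⟩
  have hs := hT.hh
  have hS := hT.sym (κ := κ)
  obtain ⟨e, he⟩ := hT.exists_frame (odd_of_three h3)
  obtain ⟨b, b', hbb⟩ := exists_pair_ne β
  have hd := hT.gram_det_ne
  obtain ⟨k, hk⟩ : ∃ k, k ≠ j := by
    haveI : Nontrivial κ := Fintype.one_lt_card_iff_nontrivial.1 (by omega)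
    exact exists_ne j
  obtain ⟨u, -, huz⟩ := hs.exists_partner hT.two hz hz0
  obtain ⟨a, ha⟩ : ∃ a : κ → W, a = fun l => if l = j then z else e b := ⟨_, rfl⟩
  obtain ⟨a', ha'⟩ : ∃ a' : κ → W, a' = fun l => if l = j then z else if l = k then e b' else e b := ⟨_, rfl⟩
  obtain ⟨p₁, hp₁⟩ : ∃ p, p = ptens a := ⟨_, rfl⟩
  obtain ⟨p₂, hp₂⟩ : ∃ p, p = ptens a' := ⟨_, rfl⟩
  have hzero : ∀ x y : κ → W, x j = z → y j = z → tf c h (ptens x) (ptens y) = 0 := fun x y hx hy => by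
    rw [hT.tf_ptens, Finset.prod_eq_zero (Finset.mem_univ j) (by rw [hx, hy, hz]), mul_zero]
  have h11 : tf c h p₁ p₁ = 0 := hp₁ ▸ hzero a a (by rw [ha]; simp) (by rw [ha]; simp)
  have h21 : tf c h p₂ p₁ = 0 := hp₁ ▸ hp₂ ▸ hzero a' a (by rw [ha']; simp) (by rw [ha]; simp)
  have h22 : tf c h p₂ p₂ = 0 := hp₂ ▸ hzero a' a' (by rw [ha']; simp) (by rw [ha']; simp)
  obtain ⟨T, hT', hTx⟩ := hS.exists_sieg hT.two h11 h21
  have hTf : ∀ t, (T : Mn) *ᵥ t = t + tf c h t p₁ • p₂ - tf c h t p₂ • p₁ := fun t => by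
    rw [hTx, h22, zero_div, zero_mul, zero_smul, sub_zero]
  refine ⟨T, hT.cube_mem hT' fun x => hS.sieg_cube hT.two hTx h11 h21 x, fun hTW => ?_, ?_⟩
  · have hsq : ((T : Mn) - 1) * ((T : Mn) - 1) = 0 := Matrix.ext_iff_mulVec.2 fun t => by
      simp only [← Matrix.mulVec_mulVec, Matrix.sub_mulVec, Matrix.one_mulVec, hTf, Matrix.zero_mulVec,
        hS.sub_left, hS.add_left, hS.smul_left, h11, h21, h22, hS.symm p₁ p₂, mul_zero, add_zero, sub_zero,
        sub_self]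
      simp
    obtain ⟨m, D, hD⟩ := quad_mem_Wr hT.two hT.three hTW hsq
    have hD1 : D = 1 := eq_one_of_sq hs hT.two h3 (hT.pe_iso_rev m (hD ▸ hT')) (by
      have h1 : et m (((D : Mb) - 1) * ((D : Mb) - 1)) = (0 : Mn) := by
        rw [← et_mul, sub_eq_add_neg, ← neg_one_smul F (1 : Mb), et_add, et_smul, et_one, neg_one_smul, et_val,
          ← sub_eq_add_neg, ← hD, hsq]
      have h2 := congrArg Matrix.rank h1
      rw [rank_et, Matrix.rank_zero, mul_eq_zero] at h2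
      exact (rank_zero_iff _).1 (h2.resolve_left (pow_ne_zero _ (by omega))))
    rw [hD1, map_one] at hD
    obtain ⟨y, hy⟩ : ∃ y : κ → W, y = fun l => if l = j then u else if l = k then e b' else e b := ⟨_, rfl⟩
    obtain ⟨q, hq⟩ : ∃ q : κ → W, q = fun l => if l = j then u else e b := ⟨_, rfl⟩
    have hy1 : tf c h p₁ (ptens y) = 0 := by
      rw [hp₁, hT.tf_ptens, Finset.prod_eq_zero (Finset.mem_univ k) (by rw [ha, hy]; simp [hk, he.orth b b' hbb]),
        mul_zero]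
    have hy2 : tf c h p₂ (ptens y) ≠ 0 := by
      rw [hp₂, hT.tf_ptens]
      refine mul_ne_zero hT.hc (Finset.prod_ne_zero_iff.2 fun l _ => ?_)
      rw [ha', hy]
      by_cases e1 : l = j
      · simp [e1, hs.symm z u, huz]
      · by_cases e2 : l = k <;> simp [e1, e2, hk, he.val, hd]
    have hq1 : tf c h (ptens q) p₁ ≠ 0 := by
      rw [hp₁, hT.tf_ptens]
      refine mul_ne_zero hT.hc (Finset.prod_ne_zero_iff.2 fun l _ => ?_)
      rw [ha, hq]
      by_cases e1 : l = j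
      · simp [e1, huz]
      · simp [e1, he.val, hd]
    have h4 := hTf (ptens q)
    rw [hD, Units.val_one, Matrix.one_mulVec, add_sub_assoc, left_eq_add, sub_eq_zero] at h4
    have h5 := congrArg (tf c h · (ptens y)) h4
    simp only [hS.smul_left, hy1, mul_zero, mul_eq_zero] at h5
    exact h5.elim hq1 hy2
  · have hBz : (B : Mb) *ᵥ z = z := hs.IsSieg_fix hB hz (by rw [hs.symm]; exact hwz)
    have hxp : ∀ x : κ → W, x j = z → (pe j B : Mn) *ᵥ ptens x = ptens x := fun x hx => by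
      rw [pe_mulVec, hx, hBz, ← hx, Function.update_eq_self]
    have hx1 : (pe j B : Mn) *ᵥ p₁ = p₁ := hp₁ ▸ hxp a (by rw [ha]; simp)
    have hx2 : (pe j B : Mn) *ᵥ p₂ = p₂ := hp₂ ▸ hxp a' (by rw [ha']; simp)
    have hBI := hT.pe_iso (κ := κ) j hBi
    refine Units.ext (Matrix.ext_iff_mulVec.2 fun t => ?_)
    have e1 : tf c h ((pe j B : Mn) *ᵥ t) p₁ = tf c h t p₁ := by conv_lhs => rw [← hx1]; rw [hBI]
    have e2 : tf c h ((pe j B : Mn) *ᵥ t) p₂ = tf c h t p₂ := by conv_lhs => rw [← hx2]; rw [hBI]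
    rw [Units.val_mul, Units.val_mul, ← Matrix.mulVec_mulVec, ← Matrix.mulVec_mulVec, hTf, hTf, e1, e2,
      Matrix.mulVec_sub, Matrix.mulVec_add, Matrix.mulVec_smul, Matrix.mulVec_smul, hx1, hx2]

namespace Px

variable {M : Subgroup (GL (κ → β) F)} (hM : Px c h M) (h3 : Fintype.card β = 3)
include hM h3

omit hT in
/-- The centraliser of an involution at a factor stabilises the decomposition. -/
theorem cent_si {i : κ} {s g : GL X F} (hs' : SI c h i s) (hg : g ∈ M) (hcom : g * s = s * g) : g ∈ Wr F κ β := by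
  classical
  have hT := hM.data
  haveI : Nontrivial β := Fintype.one_lt_card_iff_nontrivial.1 (by omega)
  obtain ⟨v, S, hv, hS, hSi, hSG, rfl⟩ := hs'
  have hv0 : v ≠ 0 := fun e => hv (by rw [e, hT.hh.zero_left])
  have hres : ∀ g ∈ M, g * pe i S = pe i S * g →
      ∃ A ∈ iso (tf (κ := Rst i) c h), Res i v g A := by
    intro g hg hcom
    obtain ⟨φ, hφ⟩ := exists_dual hv0
    obtain ⟨L, hL⟩ : ∃ L : ((Rst i → β) → F) →ₗ[F] ((Rst i → β) → F), L = (slice φ).comp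
        ((Matrix.toLin' (sp i g : Matrix ((Rst i → β) × β) ((Rst i → β) × β) F)).comp (fac v)) := ⟨_, rfl⟩
    have hLr : ∀ r, (sp i g : Matrix ((Rst i → β) × β) ((Rst i → β) × β) F) *ᵥ tmul r v = tmul (L r) v := by
      intro r
      have h1 : ((g : Mn) *ᵥ (spV i).symm (tmul r v)) ∈ line i v := by
        refine mem_line_of_fixed hv0 (fun x hx => ⟨_, hT.rot_fixed hv hS hx⟩) ?_
        rw [Matrix.mulVec_mulVec, ← Units.val_mul, ← hcom, Units.val_mul, ← Matrix.mulVec_mulVec,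
          fixed_of_mem_line (hT.rot_fix hv hS) (mem_line_iff.2 ⟨r, LinearEquiv.apply_symm_apply _ _⟩)]
      obtain ⟨r', hr'⟩ := mem_line_iff.1 h1
      rw [← sp_mulVec, LinearEquiv.apply_symm_apply] at hr'
      rw [hr', hL, LinearMap.comp_apply, LinearMap.comp_apply, fac_apply, Matrix.toLin'_apply, hr', slice_tmul, hφ,
        one_smul]
    have hiso : ∀ r r', tf c h (L r) (L r') = tf c h r r' := fun r r' => by
      have h1 := (hT.sp_iso i).2 (hM.iso_mem hg) (tmul r v) (tmul r' v)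
      rw [hLr, hLr, hT.tfs_tmul, hT.tfs_tmul] at h1
      exact mul_right_cancel₀ hv h1
    obtain ⟨A, hA⟩ := exists_gl_of_injective L fun r r' e => (hT.sym (κ := Rst i)).eq_of_forall fun x => by
      rw [← hiso r, ← hiso r', e]
    exact ⟨A, fun r r' => by rw [hA, hA, hiso], fun r => by rw [hA, hLr]⟩
  have hfin : ∀ g ∈ M, ∀ A ∈ iso (tf (κ := Rst i) c h), Res i v g A → A ∈ Wr F (Rst i) β → g ∈ Wr F κ β := by
    intro g hg A hAi hA hAW
    obtain ⟨B, hB, hBv, hG⟩ := hT.exists_fix_vec (odd_of_three h3) i hv (hT.emb_iso hAi)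
    have hk : emb i A * pe i B ∈ M := hM.mem ⟨mul_mem (emb_mem_Wr hAW) (TensorPow.pe_mem _ _), hG⟩
    have h1 : Res i v ((emb i A * pe i B)⁻¹ * g) 1 := by
      have := ((res_emb A).mul (res_pe (i := i) hBv)).inv.mul hA
      rwa [mul_one, inv_mul_cancel] at this
    have h4 := hM.fx_le h3 hv (Subgroup.mem_inf.2 ⟨mul_mem (inv_mem hk) hg, h1.fx⟩)
    have := mul_mem (mul_mem (emb_mem_Wr hAW) (TensorPow.pe_mem i B)) h4
    rwa [mul_inv_cancel_left] at this
  obtain ⟨A, hAi, hA⟩ := hres g hg hcom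
  refine hfin g hg A hAi hA ?_
  obtain ⟨j⟩ := nonempty_rst hM.ht i
  by_cases h1 : Fintype.card (Rst i) = 1
  · exact one_of_subsingleton (i := j) (fun l => (Fintype.card_le_one_iff.1 h1.le) l j) A
  have h2R : 2 ≤ Fintype.card (Rst i) := by
    have : 0 < Fintype.card (Rst i) := Fintype.card_pos_iff.2 ⟨j⟩
    omega
  obtain ⟨G0, hG0⟩ : ∃ G0 : Subgroup (GL (Rst i → β) F), ∀ A, A ∈ G0 ↔
      A ∈ GT (κ := Rst i) c h ∧ ∃ g ∈ M, g * pe i S = pe i S * g ∧ Res i v g A :=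
    ⟨{ carrier := {A | A ∈ GT (κ := Rst i) c h ∧ ∃ g ∈ M, g * pe i S = pe i S * g ∧ Res i v g A}
       one_mem' := ⟨one_mem _, 1, one_mem _, by rw [one_mul, mul_one], Res.one⟩
       mul_mem' := fun {a b} ⟨ha, g, hg, hgc, hga⟩ ⟨hb, g', hg', hgc', hgb⟩ =>
        ⟨mul_mem ha hb, g * g', mul_mem hg hg', by rw [mul_assoc, hgc', ← mul_assoc, hgc, mul_assoc], hga.mul hgb⟩
       inv_mem' := fun {a} ⟨ha, g, hg, hgc, hga⟩ =>
        ⟨inv_mem ha, g⁻¹, inv_mem hg, by rw [inv_mul_eq_iff_eq_mul, ← mul_assoc, hgc, mul_inv_cancel_right],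
          hga.inv⟩ }, fun _ => Iff.rfl⟩
  have hembc : ∀ A : GL (Rst i → β) F, emb i A * pe i S = pe i S * emb i A := fun A =>
    (sp i).injective (by rw [map_mul, map_mul, sp_emb, sp_pe, k2_mul, k2_mul, one_mul, mul_one, one_mul, mul_one])
  have hle0 : Wr F (Rst i) β ⊓ GT c h ≤ G0 := fun A hA =>
    (hG0 A).2 ⟨hA.2, emb i A, hM.mem ⟨emb_mem_Wr hA.1, hT.emb_GT hA.2⟩, hembc A, res_emb A⟩
  obtain ⟨z, w, Sh, hz, hz0, hwz, hww, hSx⟩ := hT.exists_siegHom h3
  obtain ⟨U, hU⟩ : ∃ U, U = Sh (Multiplicative.ofAdd (1 : F)) := ⟨_, rfl⟩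
  have hUs : IsSieg h U z w := by have h4 := hSx 1; rw [one_smul] at h4; exact hU ▸ h4
  have hUG : pe j.1 U ∈ GT (κ := κ) c h := hT.pe_sieg hUs hz hwz
  obtain ⟨p, hp⟩ := CharP.exists F
  haveI := hp
  haveI hpF : Fact p.Prime := ⟨CharP.char_is_prime F p⟩
  have hUi : U ∈ iso h := hT.pe_iso_rev j.1 (hT.gt_le_iso hUG)
  have hUp : U ^ p = 1 := TensorOrth.pow_char_eq_one hT.two (Matrix.ext_iff_mulVec.2 fun x => by
    rw [pow_succ, pow_two, ← Matrix.mulVec_mulVec, ← Matrix.mulVec_mulVec, hT.hh.sieg_cube hT.two hUs hz hwz,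
      Matrix.zero_mulVec])
  obtain ⟨T, hTG, hTW, hTc⟩ := hT.exists_long h3 h2R j hz hz0 hwz hUi hUs
  have hnall : ¬ GT (κ := Rst i) c h ≤ G0 := by
    intro hall
    obtain ⟨-, g0, hg0, hg0c, hg0T⟩ := (hG0 T).1 (hall hTG)
    obtain ⟨x, hx⟩ : ∃ x, x = pe j.1 U := ⟨_, rfl⟩
    have hxres : Res i v x (pe j U) := by rw [hx, ← emb_pe]; exact res_emb _
    have hxM : x ∈ M := hx ▸ hM.pe_mem hUG
    obtain ⟨k, hk⟩ : ∃ k, k = g0 * x * g0⁻¹ * x⁻¹ := ⟨_, rfl⟩
    have hkr : Res i v k 1 := by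
      have := ((hg0T.mul hxres).mul hg0T.inv).mul hxres.inv
      rwa [hTc, mul_inv_cancel_right, mul_inv_cancel, ← hk] at this
    have hkM : k ∈ M := hk ▸ mul_mem (mul_mem (mul_mem hg0 hxM) (inv_mem hg0)) (inv_mem hxM)
    have hkW := hM.fx_le h3 hv (Subgroup.mem_inf.2 ⟨hkM, hkr.fx⟩)
    obtain ⟨D, -, -, hkD⟩ := hT.fx_Wr hv0 hkW (hM.iso_mem hkM) hkr.fx
    have hkx : k * x = x * k := by rw [hkD, hx]; exact pe_comm (fun e => j.2 e.symm) D U
    have hxp : x ^ p = 1 := by rw [hx, ← map_pow, hUp, map_one]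
    have hkp : k ^ p = 1 := by
      have h4 : (k * x) ^ p = 1 := by
        rw [show k * x = g0 * x * g0⁻¹ by rw [hk, inv_mul_cancel_right], conj_pow, hxp, mul_one, mul_inv_cancel]
      rwa [(show Commute k x from hkx).mul_pow, hxp, mul_one] at h4
    have hk1 := hM.fx_fix h3 hv hkM hkW hkr.fx (p := p) (n := 1) (by rw [pow_one]; exact hkp)
    have hgx : g0 * x = x * g0 := by
      rw [hk, mul_inv_eq_one, mul_inv_eq_iff_eq_mul] at hk1
      exact hk1
    exact hTW (res_of_wr ⟨j⟩ hv0 (hM.cent_sieg h3 hg0 hz hz0 hwz hww hUs (hx ▸ hgx)) hg0T)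
  have hG0W : G0 ≤ Wr F (Rst i) β :=
    hM.ih i h2R G0 (fun A hA => ((hG0 A).1 hA).1) hle0 hnall
  obtain ⟨e, he⟩ := hT.exists_frame (odd_of_three h3)
  obtain ⟨b⟩ : Nonempty β := inferInstance
  obtain ⟨C, hC, -, hAC⟩ := hT.exists_fix_vec (odd_of_three h3) j (show h (e b) (e b) ≠ 0 by rw [he.val]; exact hT.gram_det_ne) hAi
  obtain ⟨B, hB, hBv, hG⟩ := hT.exists_fix_vec (odd_of_three h3) i hv (hT.emb_iso (hT.pe_iso (κ := Rst i) j hC))
  have hk : emb i (pe j C) * pe i B ∈ M :=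
    hM.mem ⟨mul_mem (emb_mem_Wr (TensorPow.pe_mem _ _)) (TensorPow.pe_mem _ _), hG⟩
  have hmem : A * pe j C ∈ G0 := (hG0 _).2 ⟨hAC, g * (emb i (pe j C) * pe i B), mul_mem hg hk, by
    have hBS : B * S = S * B := by
      refine Units.ext (Matrix.ext_iff_mulVec.2 fun x => ?_)
      rw [Units.val_mul, Units.val_mul, ← Matrix.mulVec_mulVec, ← Matrix.mulVec_mulVec, hS, hS, Matrix.mulVec_sub,
        Matrix.mulVec_smul, hBv]
      congr 3
      nth_rw 2 [← hBv]
      rw [hB]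
    rw [mul_assoc, mul_assoc, ← map_mul, hBS, map_mul, ← mul_assoc (emb i _), hembc, mul_assoc (pe i S), ← mul_assoc,
      hcom, mul_assoc],
    by simpa using hA.mul ((res_emb (v := v) (pe j C)).mul (res_pe (i := i) hBv))⟩
  have := mul_mem (hG0W hmem) ((Wr F (Rst i) β).inv_mem (TensorPow.pe_mem j C))
  rwa [mul_inv_cancel_right] at this

end Px

end Cfsg.Agent.Classical.TensorPowOrth
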