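import Cfsg.Agent.Lib.Classical.TensorPowOrth.ThreeWt
import Cfsg.Agent.Lib.Classical.TensorPowOrth.ThreeCent

/-!
Factors of dimension three: the fusion of involutions, and a proper overgroup stabilises the decomposition.
-/

set_option autoImplicit false
set_option linter.unusedSectionVars false
set_option linter.unusedSimpArgs false
set_option linter.style.haveILetI false

open scoped Kronecker

namespace Cfsg.Agent.Classical.TensorPowOrth

open Matrix Module MaxTv TensorMax TensorPow Overfield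
open Cfsg.Agent.Classical.TensorOrth (Sym NdOn iso)

variable {F : Type*} [Field F] [Fintype F] {κ β : Type} [Fintype κ] [DecidableEq κ] [Fintype β] [DecidableEq β]
  {c : F} {h : (β → F) → (β → F) → F}

local notation "X" => (κ → β)
local notation "Mn" => Matrix (κ → β) (κ → β) F
local notation "Mb" => Matrix β β F
local notation "W" => (β → F)

/-- The centraliser in `M` stabilises the decomposition. -/
def Cen (M : Subgroup (GL (κ → β) F)) (z : GL (κ → β) F) : Prop :=
  ∀ g ∈ M, g * z = z * g → g ∈ Wr F κ β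

theorem comm_scalar {σ : Equiv.Perm κ} {gs : κ → GL β F} {l : κ} (hσ : σ l = l) {r : F} (hl : (gs l : Mb) = r • 1)
    (A : GL β F) : wgl σ gs * pe l A = pe l A * wgl σ gs := by
  rw [← mul_inv_eq_iff_eq_mul, pe_conj_eq l A hσ]
  congr 1
  rw [mul_inv_eq_iff_eq_mul]
  exact Units.ext (by rw [Units.val_mul, Units.val_mul, hl, Matrix.smul_mul, Matrix.mul_smul, one_mul, mul_one])

variable (hT : TData c h) (h3 : Fintype.card β = 3)
include hT h3

theorem TData.si_slot {j m : κ} {B : GL β F} (ha : SI c h j (pe m B)) : j = m := by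
  haveI : Nontrivial β := Fintype.one_lt_card_iff_nontrivial.1 (by omega)
  obtain ⟨v, A, hv, hA, -, -, he⟩ := ha
  exact (pe_eq (hT.rot_nonscalar hv hA) he.symm).1

theorem TData.si_conj_at {l : κ} {a : GL X F} (ha : SI c h l a) {σ : Equiv.Perm κ} {gs : κ → GL β F}
    (hgi : wgl σ gs ∈ iso (tf c h)) : SI c h (σ⁻¹ l) (wgl σ gs * a * (wgl σ gs)⁻¹) := by
  obtain ⟨j, hj⟩ := hT.si_conj h3 ha (wgl_mem σ gs) hgi
  obtain ⟨v, A, -, -, -, -, rfl⟩ := ha
  rw [conj_pe] at hj ⊢
  rwa [hT.si_slot h3 hj] at hj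

/-- An involution commuting with a rotation, fixing its vector, of determinant one. -/
theorem TData.eq_rot_of {v : W} (hv : h v v ≠ 0) {A α : GL β F} (hA : Rot h v A) (hcom : α * A = A * α)
    (hαv : (α : Mb) *ᵥ v = v) (hdet : (α : Mb).det = 1) (hαα : α * α = 1)
    (hns : ∀ r : F, (α : Mb) ≠ r • 1) : α = A := by
  classical
  have hαm : (α : Mb) * (α : Mb) = 1 := by rw [← Units.val_mul, hαα, Units.val_one]
  have hr := rank_invol hT.two hαm
  rw [h3] at hr
  have n1 : ((α : Mb) - 1).rank ≠ 0 := fun e => hns 1 (by rw [one_smul]; exact sub_eq_zero.1 ((rank_zero_iff _).1 e))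
  have n2 : ((α : Mb) + 1).rank ≠ 0 := fun e => hns (-1) (by
    rw [neg_smul, one_smul]; exact eq_neg_of_add_eq_zero_left ((rank_zero_iff _).1 e))
  rcases (show ((α : Mb) + 1).rank = 1 ∨ ((α : Mb) - 1).rank = 1 by omega) with h1 | h1
  · obtain ⟨u, φ, hu, hφ, hφu, hαe⟩ := sigT_of_rank_one hαα h1
    have hap : ∀ x, (α : Mb) *ᵥ x = (φ ⬝ᵥ x) • u - x := fun x => by
      rw [hαe, Matrix.add_mulVec, Matrix.neg_mulVec, Matrix.one_mulVec, Matrix.vecMulVec_mulVec, op_smul_eq_smul,
        neg_add_eq_sub]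
    have hv0 : v ≠ 0 := fun e => hv (by rw [e, hT.hh.zero_left])
    have hvu : (φ ⬝ᵥ v) • u = (2 : F) • v := by
      have h4 := hap v
      rw [hαv, eq_sub_iff_add_eq, ← two_smul F] at h4
      exact h4.symm
    have hperp : ∀ x, h x v = 0 → φ ⬝ᵥ x = 0 := fun x hx => by
      have h4 : (α : Mb) *ᵥ ((A : Mb) *ᵥ x) = (A : Mb) *ᵥ ((α : Mb) *ᵥ x) := by
        rw [Matrix.mulVec_mulVec, Matrix.mulVec_mulVec, ← Units.val_mul, ← Units.val_mul, hcom]
      have hAu : (A : Mb) *ᵥ u = u := by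
        have h5 : (φ ⬝ᵥ v) ≠ 0 := fun e => hv0 ((smul_eq_zero.1 (by rw [← hvu, e, zero_smul])).resolve_left hT.two)
        have h6 := congrArg ((A : Mb) *ᵥ ·) hvu
        simp only [Matrix.mulVec_smul, hT.rot_fix hv hA] at h6
        rw [← hvu] at h6
        exact smul_right_injective _ h5 h6
      rw [hT.rot_perp hA hx, Matrix.mulVec_neg, hap, Matrix.mulVec_sub, Matrix.mulVec_smul, hAu,
        hT.rot_perp hA hx] at h4
      have h7 : ((2 : F) * (φ ⬝ᵥ x)) • u = 0 := by linear_combination (norm := module) -h4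
      exact (mul_eq_zero.1 ((smul_eq_zero.1 h7).resolve_right hu)).resolve_left hT.two
    refine Units.ext (Matrix.ext_iff_mulVec.2 fun x => ?_)
    have hd : x - (h x v / h v v) • v + (h x v / h v v) • v = x := sub_add_cancel _ _
    have hx0 : h (x - (h x v / h v v) • v) v = 0 := by
      rw [hT.hh.sub_left, hT.hh.smul_left, div_mul_cancel₀ _ hv, sub_self]
    rw [← hd, Matrix.mulVec_add, Matrix.mulVec_add, Matrix.mulVec_smul, Matrix.mulVec_smul, hαv,
      hT.rot_fix hv hA, hT.rot_perp hA hx0, hap, hperp _ hx0, zero_smul, zero_sub]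
  · exfalso
    obtain ⟨N, hN⟩ := exists_gl_of_injective (-Matrix.toLin' (α : Mb)) fun x y e =>
      gl_mulVec_injective α (neg_injective (a₁ := (α : Mb) *ᵥ x) e)
    have hNe : (N : Mb) = -(α : Mb) := Matrix.ext_iff_mulVec.2 fun x => by
      rw [hN, LinearMap.neg_apply, Matrix.toLin'_apply, Matrix.neg_mulVec]
    obtain ⟨u, φ, hw⟩ := sigT_of_rank_one (A := N) (Units.ext (by rw [Units.val_mul, hNe, neg_mul_neg, hαm, Units.val_one]))
      (by rw [hNe, neg_add_eq_sub, ← neg_sub, rank_neg]; exact h1)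
    have h4 := hw.det
    rw [hNe, Matrix.det_neg, hdet, h3] at h4
    norm_num at h4
    exact hT.two (by linear_combination -h4)

namespace Px

variable {M : Subgroup (GL (κ → β) F)} (hM : Px c h M)
include hM

omit hT in
theorem fus_slot {i j : κ} {a b g : GL X F} (ha : SI c h i a) (hb : SI c h j b) (hg : g ∈ M)
    (he : g * a * g⁻¹ = b) : g ∈ Wr F κ β := by
  obtain ⟨k, hk, hkW, hka⟩ := hM.si_trans h3 ha hb
  have h1 : k⁻¹ * g * a = a * (k⁻¹ * g) := by
    rw [show k⁻¹ * g * a = k⁻¹ * (g * a * g⁻¹) * g by group, he, ← hka]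
    group
  have := mul_mem hkW (hM.cent_si h3 ha (mul_mem (inv_mem hk) hg) h1)
  rwa [mul_inv_cancel_left] at this

omit hT in
theorem wt_of_conj {g g' k : GL X F} {n : ℕ} (hgg : g * g = 1) (hk : k * g * k⁻¹ = g') (hg' : g' ∈ Wr F κ β)
    (hn : Wt g n) : Wt g' n := by
  obtain ⟨σ, gs, rfl⟩ := hg'
  exact ⟨σ, gs, rfl, (wt_conj hM.data.two h3 hgg hk hn ⟨σ, gs, rfl, rfl⟩).symm⟩

omit hT in
/-- An element conjugating an involution at a factor into the stabiliser is in the stabiliser. -/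
theorem fus_si {i : κ} {s g : GL X F} (hs : SI c h i s) (hg : g ∈ M) (hgs : g * s * g⁻¹ ∈ Wr F κ β) :
    g ∈ Wr F κ β := by
  classical
  have hT := hM.data
  haveI : Nontrivial β := Fintype.one_lt_card_iff_nontrivial.1 (by omega)
  haveI : Nonempty β := inferInstance
  have hsM := (hM.si_mem h3 hs).1
  have hss := hT.si_sq h3 hs
  obtain ⟨s', hs'd⟩ : ∃ s', s' = g * s * g⁻¹ := ⟨_, rfl⟩
  rw [← hs'd] at hgs
  have hs'M : s' ∈ M := hs'd ▸ mul_mem (mul_mem hg hsM) (inv_mem hg)
  have hs'2 : s' * s' = 1 := by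
    rw [hs'd, show g * s * g⁻¹ * (g * s * g⁻¹) = g * (s * s) * g⁻¹ by group, hss, mul_one, mul_inv_cancel]
  have hback : ∀ x, x * s' = s' * x → g⁻¹ * x * g * s = s * (g⁻¹ * x * g) := fun x hx => by
    rw [show g⁻¹ * x * g * s = g⁻¹ * (x * (g * s * g⁻¹)) * g by group, ← hs'd, hx, hs'd]
    group
  rcases hT.wt_two_cases h3 (hM.le hs'M) hs'2 (hM.wt_of_conj h3 hss hs'd.symm hgs (hT.wt_si h3 hs)) with
    ⟨j, hj⟩ | ⟨σ, gs, hσe, hsw, hfix⟩
  · exact hM.fus_slot h3 hs hj hg hs'd.symm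
  by_cases hl : ∃ l, σ l = l
  · obtain ⟨l, hl⟩ := hl
    obtain ⟨r, hr⟩ := hfix l hl
    obtain ⟨a, ha⟩ := hT.exists_si h3 l
    obtain ⟨b, hb, hab, hne⟩ := hT.si_other h3 ha
    have hab' := (hT.si_mul h3 ha hb hab).resolve_left hne
    by_contra hgW
    have hE : ∀ x, SI c h l x → ∃ τ ts, g⁻¹ * x * g = wgl τ ts ∧ τ.IsSwap := fun x hx => by
      have hxc : x * s' = s' * x := by
        obtain ⟨w, D, -, -, -, -, rfl⟩ := hx
        rw [hσe, comm_scalar hl hr D]
      have heM : g⁻¹ * x * g ∈ M := mul_mem (mul_mem (inv_mem hg) (hM.si_mem h3 hx).1) hg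
      have heW := hM.cent_si h3 hs heM (hback x hxc)
      have hee : g⁻¹ * x * g * (g⁻¹ * x * g) = 1 := by
        rw [show g⁻¹ * x * g * (g⁻¹ * x * g) = g⁻¹ * (x * x) * g by group, hT.si_sq h3 hx, mul_one, inv_mul_cancel]
      rcases hT.wt_two_cases h3 (hM.le heM) hee
        (hM.wt_of_conj h3 (hT.si_sq h3 hx) (k := g⁻¹) (by rw [inv_inv]) heW (hT.wt_si h3 hx)) with
        ⟨j, hj⟩ | ⟨τ, ts, hte, hts, -⟩
      · exact absurd (hM.fus_slot h3 hj hx hg (by group)) hgW
      · exact ⟨τ, ts, hte, hts⟩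
    obtain ⟨τa, ta, hta, hsa⟩ := hE a ha
    obtain ⟨τb, tb, htb, hsb⟩ := hE b hb
    obtain ⟨τc, tc, htc, hsc⟩ := hE _ hab'
    have h1 : g⁻¹ * a * g * (g⁻¹ * b * g) = g⁻¹ * (a * b) * g := by group
    rw [hta, htb, htc, wgl_mul] at h1
    have h4 := congrArg Equiv.Perm.sign (wgl_unique h1).1
    rw [Equiv.Perm.sign_mul, hsa.sign_eq, hsb.sign_eq, hsc.sign_eq] at h4
    exact absurd h4 (by decide)
  · push Not at hl
    exfalso
    have hκ : Fintype.card κ = 2 := by
      have h1 := Equiv.Perm.card_support_eq_two.2 hsw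
      rwa [show σ.support = Finset.univ from Finset.eq_univ_of_forall fun l => Equiv.Perm.mem_support.2 (hl l),
        Finset.card_univ] at h1
    obtain ⟨v, S, hv, hS, hSi, hSG, hse⟩ := hs
    have hs : SI c h i s := ⟨v, S, hv, hS, hSi, hSG, hse⟩
    have hs'i : wgl σ gs ∈ iso (tf c h) := hσe ▸ hM.iso_mem hs'M
    have hs'inv : (wgl σ gs)⁻¹ = s' := by rw [← hσe]; exact inv_eq_of_mul_eq_one_right hs'2
    have hswap : ∀ R : GL β F, ∃ R' : GL β F, s' * pe i R * s' = pe (σ⁻¹ i) R' := fun R => ⟨_, by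
      conv_lhs => arg 2; rw [← hs'inv]
      rw [hσe, conj_pe]⟩
    have hji : σ⁻¹ i ≠ i := fun e => hl i (by
      conv_lhs => rw [← e]
      exact perm_apply_inv σ i)
    obtain ⟨E, hEd⟩ : ∃ E : GL X F → GL X F, ∀ r, E r = g⁻¹ * (r * (s' * r * s')) * g := ⟨_, fun _ => rfl⟩
    have hEmul : ∀ R R' : GL β F, E (pe i R) * E (pe i R') = E (pe i (R * R')) := fun R R' => by
      obtain ⟨R'', hR⟩ := hswap R
      rw [hEd, hEd, hEd, map_mul]
      calc g⁻¹ * (pe i R * (s' * pe i R * s')) * g * (g⁻¹ * (pe i R' * (s' * pe i R' * s')) * g)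
          = g⁻¹ * (pe i R * ((s' * pe i R * s') * pe i R') * (s' * pe i R' * s')) * g := by group
        _ = g⁻¹ * (pe i R * (pe i R' * (s' * pe i R * s')) * (s' * pe i R' * s')) * g := by
            rw [hR, pe_comm hji R'' R']
        _ = g⁻¹ * (pe i R * pe i R' * (s' * pe i R * (s' * s') * pe i R' * s')) * g := by group
        _ = _ := by rw [hs'2, mul_one]; group
    have hEc : ∀ R : GL β F, pe i R ∈ GT (κ := κ) c h →
        E (pe i R) ∈ M ∧ E (pe i R) * s = s * E (pe i R) := fun R hR => by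
      have hRM := hM.pe_mem hR
      rw [hEd]
      refine ⟨mul_mem (mul_mem (inv_mem hg) (mul_mem hRM (mul_mem (mul_mem hs'M hRM) hs'M))) hg, hback _ ?_⟩
      obtain ⟨R'', hR'⟩ := hswap R
      rw [show s' * (pe i R * (s' * pe i R * s')) = (s' * pe i R * s') * pe i R * s' by group, hR',
        pe_comm hji R'' R]
    have hshape : ∀ e ∈ M, e * s = s * e → ∃ es : κ → GL β F, e = wgl 1 es ∧
        es i * S = S * es i ∧ ∃ l : F, (es i : Mb) *ᵥ v = l • v := by
      intro e he hec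
      obtain ⟨π, es, rfl⟩ := hM.cent_si h3 hs he hec
      rw [hse] at hec
      obtain ⟨h1, h4⟩ := comm_pe (hT.rot_nonscalar hv hS) hec
      obtain rfl := perm_eq_one_of_two hκ h1
      refine ⟨es, rfl, h4, _, hT.rot_fixed hv hS ?_⟩
      rw [Matrix.mulVec_mulVec, ← Units.val_mul, ← h4, Units.val_mul, ← Matrix.mulVec_mulVec, hT.rot_fix hv hS]
    obtain ⟨a, ha⟩ := hT.exists_si h3 i
    obtain ⟨b, hb, hab, hne⟩ := hT.si_other h3 ha
    have hab' := (hT.si_mul h3 ha hb hab).resolve_left hne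
    have key : ∀ p q r, SI c h i p → SI c h i q → SI c h i r → q * p = r →
        ∃ es : κ → GL β F, E r = wgl 1 es ∧ es i = S := by
      intro p q r hp hq hr hqp
      obtain ⟨R, hR, hRp⟩ := hT.si_conj_slot h3 hp hq
      obtain ⟨u, P, hu, hP, -, hPG, rfl⟩ := hp
      obtain ⟨ps, hps, hpS, l, hlv⟩ := hshape _ (hEc R hR).1 (hEc R hR).2
      obtain ⟨ds, hds, hdS, l', hl'v⟩ := hshape _ (hEc P hPG).1 (hEc P hPG).2
      have hr' : r = pe i (R * P * R⁻¹ * P⁻¹) := by
        rw [← hqp, ← hRp, ← map_inv, ← map_mul, ← map_mul, ← map_mul]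
        congr 1
        rw [inv_eq_of_mul_eq_one_right (hT.rot_sq hu hP)]
      have hinv : ∀ A : GL β F, E (pe i A⁻¹) = (E (pe i A))⁻¹ := fun A => by
        refine eq_inv_of_mul_eq_one_left ?_
        rw [hEmul, inv_mul_cancel, map_one, hEd, mul_one, one_mul, hs'2, mul_one, inv_mul_cancel]
      obtain ⟨α, hα⟩ : ∃ α : κ → GL β F, α = fun k => ps k * ds k * (ps k)⁻¹ * (ds k)⁻¹ := ⟨_, rfl⟩
      have hEr : E r = wgl 1 α := by
        rw [hr', ← hEmul, ← hEmul, ← hEmul, hinv, hinv, hps, hds, wgl_inv, wgl_inv, wgl_mul, wgl_mul, wgl_mul,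
          hα]
        rfl
      refine ⟨α, hEr, ?_⟩
      have hEM := hEc (R * P * R⁻¹ * P⁻¹) (by rw [← hr']; exact hM.le (hM.si_mem h3 hr).1)
      rw [← hr'] at hEM
      have hαS : α i * S = S * α i := by
        have hc1 : Commute (ps i) S := hpS
        have hc2 : Commute (ds i) S := hdS
        rw [hα]
        exact (((hc1.mul_left hc2).mul_left hc1.inv_left).mul_left hc2.inv_left).eq
      have hαv : (α i : Mb) *ᵥ v = v := by
        have hi : ∀ (A : GL β F) (m : F), (A : Mb) *ᵥ v = m • v → ((A⁻¹ : GL β F) : Mb) *ᵥ v = m⁻¹ • v := by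
          intro A m hm
          have hm0 : m ≠ 0 := fun e => hv (by
            have h4 := gl_mulVec_injective A (show (A : Mb) *ᵥ v = (A : Mb) *ᵥ 0 by rw [hm, e, zero_smul, Matrix.mulVec_zero])
            rw [h4, hT.hh.zero_left])
          have h5 := congrArg (((A⁻¹ : GL β F) : Mb) *ᵥ ·) hm
          simp only [inv_mulVec_cancel, Matrix.mulVec_smul] at h5
          conv_rhs => rw [h5]
          rw [inv_smul_smul₀ hm0]
        have hl0 : ∀ (A : GL β F) (m : F), (A : Mb) *ᵥ v = m • v → m ≠ 0 := fun A m hm e => hv (by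
          have h4 := gl_mulVec_injective A (show (A : Mb) *ᵥ v = (A : Mb) *ᵥ 0 by rw [hm, e, zero_smul, Matrix.mulVec_zero])
          rw [h4, hT.hh.zero_left])
        rw [hα]
        simp only [Units.val_mul, ← Matrix.mulVec_mulVec, hi _ _ hl'v, Matrix.mulVec_smul, hi _ _ hlv, hl'v, hlv,
          smul_smul]
        conv_rhs => rw [← one_smul F v]
        congr 1
        have := hl0 _ _ hlv
        have := hl0 _ _ hl'v
        field_simp
      have hdet : (α i : Mb).det = 1 := by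
        rw [hα, ← Matrix.GeneralLinearGroup.val_det_apply]
        simp
      have hrr : E r * E r = 1 := by
        have h4 := hT.si_sq h3 hr
        obtain ⟨u', D, -, -, -, -, rfl⟩ := hr
        rw [← map_mul] at h4
        rw [hEmul, h4, hEd, mul_one, one_mul, hs'2, mul_one, inv_mul_cancel]
      have hαα : α i * α i = 1 := by
        rw [hEr, wgl_mul] at hrr
        obtain ⟨r', hr''⟩ := (wgl_eq_one hrr).2 i
        refine Units.ext ?_
        simp only [Equiv.Perm.one_apply] at hr''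
        rw [hr'']
        have h4 := congrArg (· *ᵥ v) hr''
        simp only [Units.val_mul, ← Matrix.mulVec_mulVec, hαv, Matrix.smul_mulVec, Matrix.one_mulVec] at h4
        have hr1 : r' = 1 := smul_left_injective F (fun e : v = 0 => hv (by rw [e, hT.hh.zero_left]))
          (show r' • v = (1 : F) • v by rw [one_smul]; exact h4.symm)
        rw [hr1, one_smul, Units.val_one]
      refine hT.eq_rot_of h3 hv hS hαS hαv hdet hαα fun r' hr'' => ?_
      have hEW := hM.cent_si h3 hs hEM.1 hEM.2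
      have hD4 : Wt (r * (s' * r * s')) 4 := by
        have hsi : SI c h (σ⁻¹ i) (s' * r * s') := by
          have h4 := hT.si_conj_at h3 hr hs'i
          rwa [hs'inv, ← hσe] at h4
        exact hT.wt_two h3 hji.symm hr hsi
      obtain ⟨τ, ts, hτ, hn⟩ := hM.wt_of_conj h3 (g := r * (s' * r * s')) (k := g⁻¹)
        (by
          have hsi : SI c h (σ⁻¹ i) (s' * r * s') := by
            have h4 := hT.si_conj_at h3 hr hs'i
            rwa [hs'inv, ← hσe] at h4
          have hc : Commute r (s' * r * s') := hT.si_comm h3 hji.symm hr hsi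
          rw [← pow_two, hc.mul_pow, pow_two, pow_two, hT.si_sq h3 hr, hT.si_sq h3 hsi, one_mul])
        (by rw [hEd, inv_inv]) hEW hD4
      obtain ⟨h5, h6⟩ := wgl_unique (hEr.symm.trans hτ)
      obtain ⟨S', hS'⟩ : ∃ S' : Finset κ, ∀ k, k ∈ S' ↔ τ k = k ∧ ∀ r : F, (ts k : Mb) ≠ r • 1 :=
        ⟨Finset.univ.filter fun k => τ k = k ∧ ∀ r : F, (ts k : Mb) ≠ r • 1, fun k => by simp⟩
      rw [nsw_eq τ ts S' hS', ← h5] at hn
      simp only [Equiv.Perm.one_apply, ne_eq, not_true_eq_false, Finset.filter_false, Finset.card_empty] at hn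
      have hu' : S' = Finset.univ := Finset.eq_univ_of_card _ (by omega)
      obtain ⟨q', -, hq'⟩ := h6 i
      exact ((hS' i).1 (hu' ▸ Finset.mem_univ i)).2 (q' * r') (by rw [hq', hr'', smul_smul])
    have haa := hT.si_sq h3 ha
    have hbb := hT.si_sq h3 hb
    obtain ⟨ea, hea, hea'⟩ := key b (a * b) a hb hab' ha (by rw [mul_assoc, hbb, mul_one])
    obtain ⟨eb, heb, heb'⟩ := key (a * b) a b hab' ha hb (by rw [← mul_assoc, haa, one_mul])
    obtain ⟨ec, hec, hec'⟩ := key a b (a * b) ha hb hab' hab.symm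
    obtain ⟨u, A, -, -, -, -, rfl⟩ := ha
    obtain ⟨u', B, -, -, -, -, rfl⟩ := hb
    rw [← map_mul, ← hEmul, hea, heb, wgl_mul] at hec
    obtain ⟨r', hr0, hr'⟩ := (wgl_unique hec).2 i
    rw [hec'] at hr'
    simp only [Equiv.Perm.one_apply, hea', heb', hT.rot_sq hv hS, Units.val_one] at hr'
    exact hT.rot_nonscalar hv hS r' hr'

end Px

end Cfsg.Agent.Classical.TensorPowOrth
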