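import Cfsg.Agent.Lib.Classical.TensorPowOrth.ThreeLine
import Cfsg.Agent.Lib.Classical.TensorPow.SigFusion

/-!
Factors of dimension three: the involutions at one factor in the derived group of the isometries.
-/

set_option autoImplicit false
set_option linter.unusedSectionVars false
set_option linter.unusedSimpArgs false
set_option linter.style.haveILetI false

open scoped Kronecker

namespace Cfsg.Agent.Classical.TensorPowOrth

open Matrix Module MaxTv TensorMax TensorPow Overfield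
open Cfsg.Agent.Classical.TensorOrth (Sym NdOn iso ext_pure ext_kron)

variable {F : Type*} [Field F] [Fintype F] {κ β : Type} [Fintype κ] [DecidableEq κ] [Fintype β] [DecidableEq β]
  {c : F} {h : (β → F) → (β → F) → F}

local notation "X" => (κ → β)
local notation "V" => ((κ → β) → F)
local notation "Mn" => Matrix (κ → β) (κ → β) F
local notation "Mb" => Matrix β β F
local notation "W" => (β → F)

/-- The involution fixing `v` and negating its orthogonal complement. -/
def Rot (h : (β → F) → (β → F) → F) (v : β → F) (B : GL β F) : Prop :=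
  ∀ x, (B : Matrix β β F) *ᵥ x = (2 * h x v / h v v) • v - x

/-- An involution at the factor `i` in the derived group. -/
def SI (c : F) (h : (β → F) → (β → F) → F) (i : κ) (g : GL (κ → β) F) : Prop :=
  ∃ v B, h v v ≠ 0 ∧ Rot h v B ∧ B ∈ iso h ∧ pe i B ∈ GT c h ∧ g = pe i B

section rot

variable (hT : TData c h)
include hT

theorem TData.exists_rot {v : W} (hv : h v v ≠ 0) : ∃ B ∈ iso h, Rot h v B := by
  obtain ⟨A, hA, hAx⟩ := hT.exists_hrefl hv
  obtain ⟨B, hB⟩ := exists_gl_of_injective (-Matrix.toLin' (A : Mb)) fun x y e =>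
    gl_mulVec_injective A (neg_injective (a₁ := (A : Mb) *ᵥ x) e)
  refine ⟨B, fun x y => ?_, fun x => ?_⟩
  · rw [hB, hB, LinearMap.neg_apply, LinearMap.neg_apply, hT.hh.neg_left, hT.hh.neg_right, neg_neg,
      Matrix.toLin'_apply, Matrix.toLin'_apply, hA]
  · rw [hB, LinearMap.neg_apply, Matrix.toLin'_apply, hAx, neg_sub]

theorem TData.rot_fix {v : W} (hv : h v v ≠ 0) {B : GL β F} (hB : Rot h v B) : (B : Mb) *ᵥ v = v := by
  rw [hB, mul_div_assoc, div_self hv, mul_one, two_smul, add_sub_cancel_right]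

theorem TData.rot_perp {v x : W} {B : GL β F} (hB : Rot h v B) (hx : h x v = 0) : (B : Mb) *ᵥ x = -x := by
  rw [hB, hx, mul_zero, zero_div, zero_smul, zero_sub]

theorem TData.rot_fixed {v : W} (hv : h v v ≠ 0) {B : GL β F} (hB : Rot h v B) {x : W}
    (hx : (B : Mb) *ᵥ x = x) : x = (h x v / h v v) • v := by
  have h1 : (2 : F) • x = (2 : F) • ((h x v / h v v) • v) := by
    rw [smul_smul, ← mul_div_assoc]
    nth_rw 1 [two_smul]
    conv_lhs => arg 1; rw [← hx, hB]
    abel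
  exact smul_right_injective _ hT.two h1

theorem TData.rot_sq {v : W} (hv : h v v ≠ 0) {B : GL β F} (hB : Rot h v B) : B * B = 1 := by
  refine Units.ext (Matrix.ext_iff_mulVec.2 fun x => ?_)
  rw [Units.val_mul, ← Matrix.mulVec_mulVec, hB x, Matrix.mulVec_sub, Matrix.mulVec_smul, hT.rot_fix hv hB, hB,
    Units.val_one, Matrix.one_mulVec, sub_sub_cancel]

theorem TData.rot_unique {v : W} {B B' : GL β F} (hB : Rot h v B) (hB' : Rot h v B') : B = B' :=
  Units.ext (Matrix.ext_iff_mulVec.2 fun x => by rw [hB, hB'])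

theorem TData.rot_smul {v : W} {B : GL β F} (hB : Rot h v B) {r : F} (hr : r ≠ 0) : Rot h (r • v) B := fun x => by
  rw [hB, hT.hh.smul_left, hT.hh.smul_right, hT.hh.smul_right, smul_smul]
  congr 2
  field_simp

theorem TData.exists_perp_vec {v : W} (hv : h v v ≠ 0) : ∃ w, h w v = 0 ∧ h w w ≠ 0 := by
  have hs := hT.hh
  have hU := hs.ndOn_inf_ker (a := v) hs.ndOn_top trivial hv
  obtain ⟨w, hw, hww⟩ := hs.exists_aniso hT.two hU (Submodule.exists_mem_ne_zero_of_ne_bot fun e => by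
    have h1 := finrank_le_inf_ker_add_one (⊤ : Submodule F W) (hs.lin v)
    rw [finrank_top, Module.finrank_pi, e, finrank_bot] at h1
    have := hT.three; omega)
  exact ⟨w, hw.2, hww⟩

theorem TData.rot_nonscalar {v : W} (hv : h v v ≠ 0) {B : GL β F} (hB : Rot h v B) (r : F) : (B : Mb) ≠ r • 1 := by
  intro e
  obtain ⟨w, hw, hww⟩ := hT.exists_perp_vec hv
  have h1 := hT.rot_fix hv hB
  have h2 := hT.rot_perp hB hw
  rw [e, Matrix.smul_mulVec, Matrix.one_mulVec] at h1 h2
  have hr : r = 1 := smul_left_injective F (fun e0 : v = 0 => hv (by rw [e0, hT.hh.zero_left]))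
    (show r • v = (1 : F) • v by rw [one_smul]; exact h1)
  rw [hr, one_smul] at h2
  have h4 : (2 : F) • w = 0 := by rw [two_smul]; nth_rw 1 [h2]; rw [neg_add_cancel]
  exact hww (by rw [(smul_eq_zero.1 h4).resolve_left hT.two, hT.hh.zero_left])

theorem TData.rot_comm {v w : W} {A B : GL β F} (hA : Rot h v A) (hB : Rot h w B) (hvw : h v w = 0) :
    A * B = B * A := by
  refine Units.ext (Matrix.ext_iff_mulVec.2 fun x => ?_)
  rw [Units.val_mul, Units.val_mul, ← Matrix.mulVec_mulVec, ← Matrix.mulVec_mulVec, hA, hB, hB, hA]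
  simp only [hT.hh.sub_left, hT.hh.smul_left, hvw, hT.hh.symm w v, mul_zero, zero_sub]
  match_scalars <;> ring

/-- An isometry at a factor comes from an isometry. -/
theorem TData.pe_iso_rev (i : κ) {B : GL β F} (hB : pe i B ∈ iso (tf c h)) : B ∈ iso h := by
  intro y y'
  obtain ⟨b⟩ : Nonempty β := Fintype.card_pos_iff.1 (by have := hT.three; omega)
  obtain ⟨x₁, hx₁⟩ := (hT.sym (κ := Rst i)).sesq.exists_one (v := ptens fun _ : Rst i => (Pi.single b 1 : β → F))
    (ptens_ne_zero fun _ => by simp)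
  have h1 := (hT.sp_iso i).2 hB (tmul x₁ y) (tmul (ptens fun _ : Rst i => (Pi.single b 1 : β → F)) y')
  rw [sp_pe, k2_mulVec, k2_mulVec, hT.tfs_tmul, hT.tfs_tmul, Units.val_one, Matrix.one_mulVec, Matrix.one_mulVec,
    hx₁, one_mul, one_mul] at h1
  exact h1

end rot

section signs

variable (hT : TData c h) (h3 : Fintype.card β = 3)
include hT h3

/-- The sign of a rotation at a factor. -/
theorem TData.sgn_rot (i : κ) {v : W} (hv : h v v ≠ 0) {B : GL β F} (hBi : B ∈ iso h) (hB : Rot h v B) :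
    sgn (hT.sym (κ := κ)) hT.two (pe i B) = (1, OrthAut.sqSign ((gram h).det * h v v)) := by
  classical
  obtain ⟨e, he⟩ := hT.exists_frame (odd_of_three h3)
  have hd := hT.gram_det_ne
  obtain ⟨b, b₁, b₂, hb1, hb2, hb12, hu⟩ := Finset.card_eq_three.1 (show (Finset.univ : Finset β).card = 3 by
    rw [Finset.card_univ, h3])
  have hee : ∀ a, h (e a) (e a) ≠ 0 := fun a => by rw [he.val]; exact hd
  obtain ⟨A₀, hA₀, hA₀x⟩ := hT.exists_hrefl (hee b)
  obtain ⟨B₀, hB₀, hB₀G, hB₀x⟩ := hT.exists_pair (κ := κ) i (hee b₁) (hee b₂)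
    (Or.inr ⟨(gram h).det, by rw [he.val, he.val]⟩) (he.orth _ _ hb12)
  have hB₀r : Rot h (e b) B₀ := fun x => by
    have hx := he.expand hT hd x
    rw [hu, Finset.sum_insert (by simp [hb1, hb2]), Finset.sum_pair hb12] at hx
    rw [hB₀x, he.val, he.val, he.val]
    conv_rhs => arg 2; rw [hx]
    nth_rw 1 [hx]
    rw [hT.hh.symm x (e b), hT.hh.symm x (e b₁), hT.hh.symm x (e b₂)]
    match_scalars <;> field_simp <;> ring
  obtain ⟨A, hA, hAx⟩ := hT.exists_hrefl hv
  have hneg : A * B = A₀ * B₀ := by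
    refine Units.ext (Matrix.ext_iff_mulVec.2 fun x => ?_)
    rw [Units.val_mul, Units.val_mul, ← Matrix.mulVec_mulVec, ← Matrix.mulVec_mulVec, hAx, hA₀x, hB, hB₀r]
    simp only [hT.hh.sub_left, hT.hh.smul_left]
    have := hee b
    match_scalars <;> field_simp <;> ring
  have h1 := congrArg (fun g => sgn (hT.sym (κ := κ)) hT.two (pe i g)) hneg
  simp only [map_mul] at h1
  rw [sgn_mul hT.sym hT.two (hT.pe_iso i hA) (hT.pe_iso i hBi),
    sgn_mul hT.sym hT.two (hT.pe_iso i hA₀) (hT.pe_iso i hB₀), hT.sgn_pe_refl (odd_of_three h3) i hv hAx,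
    hT.sgn_pe_refl (odd_of_three h3) i (hee b) hA₀x, (hT.mem_GT.1 hB₀G).2, mul_one, he.val] at h1
  have h4 := congrArg ((-1, OrthAut.sqSign (h v v * spK c h κ)) * ·) h1
  simp only [← mul_assoc, Prod.mk_mul_mk, Int.units_mul_self, Prod.mk_one_one, one_mul] at h4
  rw [h4]
  congr 1
  rw [OrthAut.sqSign_mul hv hT.spK_ne, OrthAut.sqSign_mul hd hT.spK_ne, OrthAut.sqSign_mul hd hv, mul_mul_mul_comm,
    Int.units_mul_self, mul_one, mul_comm]

theorem TData.rot_GT (i : κ) {v : W} (hv : h v v = (gram h).det) {B : GL β F} (hBi : B ∈ iso h) (hB : Rot h v B) :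
    pe (κ := κ) i B ∈ GT c h :=
  hT.mem_GT.2 ⟨hT.pe_iso i hBi, by
    rw [hT.sgn_rot h3 i (hv ▸ hT.gram_det_ne) hBi hB, hv, OrthAut.sqSign_of_isSquare ⟨_, rfl⟩]; rfl⟩

/-- The vector of a rotation in the derived group is normalised. -/
theorem TData.rot_normal (i : κ) {v : W} (hv : h v v ≠ 0) {B : GL β F} (hBi : B ∈ iso h) (hB : Rot h v B)
    (hG : pe (κ := κ) i B ∈ GT c h) : ∃ r : F, r ≠ 0 ∧ h (r • v) (r • v) = (gram h).det := by
  have hd := hT.gram_det_ne
  have h1 := (hT.mem_GT.1 hG).2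
  rw [hT.sgn_rot h3 i hv hBi hB] at h1
  have hsq : IsSquare ((gram h).det * h v v) := by
    by_contra hn
    rw [OrthAut.sqSign_of_not hn] at h1
    exact absurd (congrArg Prod.snd h1) (by decide : (-1 : ℤˣ) ≠ 1)
  obtain ⟨s, hs⟩ := hsq
  have hs0 : s ≠ 0 := fun e => mul_ne_zero hd hv (by rw [hs, e, mul_zero])
  refine ⟨(gram h).det / s, div_ne_zero hd hs0, ?_⟩
  rw [hT.hh.smul_left, hT.hh.smul_right]
  field_simp
  linear_combination hs

/-- An involution at a factor in the derived group is a rotation. -/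
theorem TData.si_of_invol {i : κ} {B : GL β F} (hB2 : B * B = 1) (hns : ∀ r : F, (B : Mb) ≠ r • 1)
    (hG : pe i B ∈ GT c h) : SI c h i (pe i B) := by
  classical
  haveI : Nonempty β := Fintype.card_pos_iff.1 (by omega)
  have hs := hT.hh
  have hBi := hT.pe_iso_rev i (hT.gt_le_iso hG)
  have hBB : (B : Mb) * (B : Mb) = 1 := by rw [← Units.val_mul, hB2, Units.val_one]
  have hr := rank_invol hT.two hBB
  rw [h3] at hr
  have hne1 : ((B : Mb) - 1).rank ≠ 0 := fun e => hns 1 (by rw [one_smul]; exact sub_eq_zero.1 ((rank_zero_iff _).1 e))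
  have hne2 : ((B : Mb) + 1).rank ≠ 0 := fun e => hns (-1) (by
    rw [neg_smul, one_smul]; exact eq_neg_of_add_eq_zero_left ((rank_zero_iff _).1 e))
  rcases (show ((B : Mb) + 1).rank = 1 ∨ ((B : Mb) - 1).rank = 1 by omega) with h1 | h1
  · obtain ⟨v, φ, hv0, hφ, hvφ⟩ := eq_vmv_of_rank_one h1
    obtain ⟨y, hy⟩ := exists_dual hφ
    have hap : ∀ x, (B : Mb) *ᵥ x = (φ ⬝ᵥ x) • v - x := fun x => by
      have h4 := congrArg (· *ᵥ x) hvφ
      simp only [Matrix.add_mulVec, Matrix.one_mulVec, Matrix.vecMulVec_mulVec, op_smul_eq_smul] at h4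
      rw [← h4, add_sub_cancel_right]
    have hBv : (B : Mb) *ᵥ v = v := by
      obtain ⟨x, hx⟩ : ∃ x, φ ⬝ᵥ x = 1 := by
        by_contra hno
        push Not at hno
        refine hφ (funext fun a => by_contra fun ha => hno (Pi.single a (φ a)⁻¹) ?_)
        rw [dotProduct_single, mul_inv_cancel₀ ha]
      have h5 := hap x
      rw [hx, one_smul] at h5
      have h6 : (B : Mb) *ᵥ ((B : Mb) *ᵥ x) = x := by rw [Matrix.mulVec_mulVec, hBB, Matrix.one_mulVec]
      rw [h5, Matrix.mulVec_sub, h5, sub_sub_eq_add_sub, sub_eq_iff_eq_add, add_comm, add_left_cancel_iff] at h6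
      exact h6
    have hform : ∀ x, φ ⬝ᵥ x * h v v = 2 * h x v := fun x => by
      have h5 := hBi x v
      rw [hBv, hap, hs.sub_left, hs.smul_left] at h5
      linear_combination h5
    have hvv : h v v ≠ 0 := fun e => hv0 (hs.eq_zero v fun x => by
      have := hform x
      rw [e, mul_zero] at this
      exact (mul_eq_zero.1 this.symm).resolve_left hT.two)
    refine ⟨v, B, hvv, fun x => ?_, hBi, hG, rfl⟩
    rw [hap, ← hform x, mul_div_assoc, div_self hvv, mul_one]
  · exfalso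
    obtain ⟨v, φ, hv0, hφ, hvφ⟩ := eq_vmv_of_rank_one h1
    have hap : ∀ x, (B : Mb) *ᵥ x = x + (φ ⬝ᵥ x) • v := fun x => by
      have h4 := congrArg (· *ᵥ x) hvφ
      simp only [Matrix.sub_mulVec, Matrix.one_mulVec, Matrix.vecMulVec_mulVec, op_smul_eq_smul] at h4
      rw [← h4, add_sub_cancel]
    have hBv : (B : Mb) *ᵥ v = -v := by
      obtain ⟨x, hx⟩ : ∃ x, φ ⬝ᵥ x = 1 := by
        by_contra hno
        push Not at hno
        refine hφ (funext fun a => by_contra fun ha => hno (Pi.single a (φ a)⁻¹) ?_)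
        rw [dotProduct_single, mul_inv_cancel₀ ha]
      have h5 := hap x
      rw [hx, one_smul] at h5
      have h6 : (B : Mb) *ᵥ ((B : Mb) *ᵥ x) = x := by rw [Matrix.mulVec_mulVec, hBB, Matrix.one_mulVec]
      rw [h5, Matrix.mulVec_add, h5] at h6
      linear_combination (norm := module) h6
    have hform : ∀ x, φ ⬝ᵥ x * h v v = -(2 * h x v) := fun x => by
      have h5 := hBi x v
      rw [hBv, hap, hs.add_left, hs.neg_right, hs.smul_left, hs.neg_right] at h5
      linear_combination -h5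
    have hvv : h v v ≠ 0 := fun e => hv0 (hs.eq_zero v fun x => by
      have := hform x
      rw [e, mul_zero] at this
      exact (mul_eq_zero.1 (neg_eq_zero.1 this.symm)).resolve_left hT.two)
    have h5 := (hT.mem_GT.1 hG).2
    rw [hT.sgn_pe_refl (odd_of_three h3) i hvv (fun x => by
      rw [hap, sub_eq_add_neg, ← neg_smul]
      congr 2
      rw [← neg_div, ← hform, mul_div_assoc, div_self hvv, mul_one])] at h5
    exact absurd (congrArg Prod.fst h5) (by decide : (-1 : ℤˣ) ≠ 1)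

/-- The normal form of an involution at a factor. -/
theorem TData.si_normal {i : κ} {g : GL X F} (hg : SI c h i g) :
    ∃ v B, h v v = (gram h).det ∧ Rot h v B ∧ B ∈ iso h ∧ g = pe i B := by
  obtain ⟨v, B, hv, hB, hBi, hG, rfl⟩ := hg
  obtain ⟨r, hr, hrv⟩ := hT.rot_normal h3 i hv hBi hB hG
  exact ⟨r • v, B, hrv, hT.rot_smul hB hr, hBi, rfl⟩

theorem TData.si_of_val (i : κ) {v : W} (hv : h v v = (gram h).det) {B : GL β F} (hBi : B ∈ iso h)
    (hB : Rot h v B) : SI c h i (pe (κ := κ) i B) :=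
  ⟨v, B, hv ▸ hT.gram_det_ne, hB, hBi, hT.rot_GT h3 i hv hBi hB, rfl⟩

theorem TData.si_sq {i : κ} {g : GL X F} (hg : SI c h i g) : g * g = 1 := by
  obtain ⟨v, B, hv, hB, -, -, rfl⟩ := hg
  rw [← map_mul, hT.rot_sq hv hB, map_one]

theorem TData.si_conj {i : κ} {a g : GL X F} (ha : SI c h i a) (hg : g ∈ Wr F κ β)
    (hgi : g ∈ iso (tf c h)) : ∃ j, SI c h j (g * a * g⁻¹) := by
  obtain ⟨v, B, hv, hB, -, hG, rfl⟩ := ha
  have hG' := hT.conj_mem hgi hG
  obtain ⟨σ, gs, rfl⟩ := hg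
  rw [conj_pe] at hG' ⊢
  refine ⟨_, hT.si_of_invol h3 ?_ (fun r e => hT.rot_nonscalar hv hB r ?_) hG'⟩
  · rw [show ∀ a b : GL β F, a * b * a⁻¹ * (a * b * a⁻¹) = a * (b * b) * a⁻¹ from fun a b => by group,
      hT.rot_sq hv hB, mul_one, mul_inv_cancel]
  · have h1 := congrArg (fun D => ((gs (σ⁻¹ i))⁻¹ : GL β F).1 * D * (gs (σ⁻¹ i) : Mb)) e
    simp only [← Units.val_mul] at h1
    rw [show (gs (σ⁻¹ i))⁻¹ * (gs (σ⁻¹ i) * B * (gs (σ⁻¹ i))⁻¹) * gs (σ⁻¹ i) = B by group] at h1
    rw [h1, Matrix.mul_smul, mul_one, Matrix.smul_mul, ← Units.val_mul, inv_mul_cancel, Units.val_one]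

/-- Two commuting involutions at one factor. -/
theorem TData.si_mul {i : κ} {a b : GL X F} (ha : SI c h i a) (hb : SI c h i b) (hab : a * b = b * a) :
    a = b ∨ SI c h i (a * b) := by
  have haa := hT.si_sq h3 ha
  have hbb := hT.si_sq h3 hb
  obtain ⟨v, A, hv, hA, -, hAG, rfl⟩ := ha
  obtain ⟨w, B, hw, hB, -, hBG, rfl⟩ := hb
  haveI : Nonempty β := Fintype.card_pos_iff.1 (by omega)
  by_cases hsc : ∀ r : F, ((A * B : GL β F) : Mb) ≠ r • 1
  · right
    rw [← map_mul]
    refine hT.si_of_invol h3 (pe_injective i ?_) hsc (by rw [map_mul]; exact mul_mem hAG hBG)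
    rw [map_mul, map_mul, map_one, mul_assoc, ← mul_assoc (pe i B), ← hab]
    rw [mul_assoc, hbb, mul_one, haa]
  · push Not at hsc
    obtain ⟨r, hr⟩ := hsc
    have hBA : (B : Mb) = r • (A : Mb) := by
      have h1 := congrArg ((A : Mb) * ·) hr
      simp only [← Units.val_mul, Matrix.mul_smul, mul_one] at h1
      rwa [← mul_assoc, hT.rot_sq hv hA, one_mul] at h1
    have h1 : r • v = ((2 : F) * h v w / h w w) • w - v := by
      rw [← hB, hBA, Matrix.smul_mulVec, hT.rot_fix hv hA]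
    have hr1 : r = 1 := by
      have h4 : (B : Mb) * (B : Mb) = (r * r) • 1 := by
        rw [hBA, Matrix.smul_mul, Matrix.mul_smul, smul_smul, ← Units.val_mul, hT.rot_sq hv hA, Units.val_one]
      rw [← Units.val_mul, hT.rot_sq hw hB, Units.val_one] at h4
      obtain ⟨x⟩ := ‹Nonempty β›
      have h5 : r * r = 1 := by simpa using (congrFun (congrFun h4 x) x).symm
      rcases mul_self_eq_one_iff.1 h5 with h6 | h6
      · exact h6
      exfalso
      obtain ⟨u, hu, huu⟩ := hT.exists_perp_vec hw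
      obtain ⟨u', hu', hu'u⟩ := hT.exists_perp_vec hv
      have hAw : (A : Mb) *ᵥ w = -w := by
        have h7 := hT.rot_fix hw hB
        rw [hBA, h6, neg_smul, one_smul, Matrix.neg_mulVec, neg_eq_iff_eq_neg] at h7
        exact h7
      have hfix : ∀ x, h x w = 0 → x = (h x v / h v v) • v := fun x hx => hT.rot_fixed hv hA (by
        have h7 := hT.rot_perp hB hx
        rwa [hBA, h6, neg_smul, one_smul, Matrix.neg_mulVec, neg_inj] at h7)
      have hU := hT.hh.ndOn_inf_ker (a := w) hT.hh.ndOn_top trivial hw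
      obtain ⟨p, hp, hpv⟩ : ∃ p ∈ (⊤ : Submodule F W) ⊓ LinearMap.ker (hT.hh.lin w), p ∉ (F ∙ v) := by
        by_contra hno
        push Not at hno
        have h8 := Submodule.finrank_mono (s := (⊤ : Submodule F W) ⊓ LinearMap.ker (hT.hh.lin w)) (t := F ∙ v) hno
        have h9 := finrank_le_inf_ker_add_one (⊤ : Submodule F W) (hT.hh.lin w)
        rw [finrank_top, Module.finrank_pi] at h9
        have h10 := finrank_span_singleton (K := F) (fun e0 : v = 0 => hv (by rw [e0, hT.hh.zero_left]))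
        omega
      exact hpv (by rw [hfix p hp.2]; exact Submodule.smul_mem _ _ (Submodule.mem_span_singleton_self v))
    exact Or.inl (congrArg (pe i) (Units.ext (by rw [hBA, hr1, one_smul])))

/-- A second involution at a factor commuting with a given one. -/
theorem TData.si_other {i : κ} {a : GL X F} (ha : SI c h i a) :
    ∃ b, SI c h i b ∧ a * b = b * a ∧ a ≠ b := by
  classical
  obtain ⟨v, A, hv, hA, hAi, rfl⟩ := hT.si_normal h3 ha
  obtain ⟨b, b', hbb⟩ := Fintype.exists_pair_of_one_lt_card (α := β) (by omega)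
  obtain ⟨e, he, heq⟩ := hT.frame_extend (odd_of_three h3) hT.gram_det_ne ⟨(gram h).det, rfl⟩ {b} (fun _ => v)
    (by simp) (by simp [hv])
  have hev : e b = v := heq b (Finset.mem_singleton_self b)
  obtain ⟨B, hBi, hB⟩ := hT.exists_rot (v := e b') (by rw [he.val]; exact hT.gram_det_ne)
  refine ⟨pe i B, hT.si_of_val h3 i (he.val b') hBi hB, ?_, fun e0 => ?_⟩
  · rw [← map_mul, ← map_mul, hT.rot_comm hA hB (hev ▸ he.orth b b' hbb)]
  · haveI : Nonempty β := ⟨b⟩
    have h1 := pe_injective i e0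
    have h4 := hT.rot_fix (hv ▸ hT.gram_det_ne) hA
    rw [h1, hT.rot_perp hB (hev ▸ he.orth b b' hbb)] at h4
    have h5 : (2 : F) • v = 0 := by rw [two_smul]; nth_rw 1 [← h4]; rw [neg_add_cancel]
    have h6 := hv
    rw [(smul_eq_zero.1 h5).resolve_left hT.two, hT.hh.zero_left] at h6
    exact hT.gram_det_ne h6.symm

/-- Isometries carry one normalised vector to another. -/
theorem TData.exists_map {v w : W} (hv : h v v = (gram h).det) (hw : h w w = (gram h).det) :
    ∃ B ∈ iso h, (B : Mb) *ᵥ v = w := by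
  classical
  obtain ⟨b⟩ : Nonempty β := Fintype.card_pos_iff.1 (by omega)
  have hd := hT.gram_det_ne
  obtain ⟨e, he, heq⟩ := hT.frame_extend (odd_of_three h3) hd ⟨_, rfl⟩ {b} (fun _ => v) (by simp) (by simp [hv])
  obtain ⟨f, hf, hfeq⟩ := hT.frame_extend (odd_of_three h3) hd ⟨_, rfl⟩ {b} (fun _ => w) (by simp) (by simp [hw])
  obtain ⟨L, hL⟩ : ∃ L : W →ₗ[F] W, L = ∑ a, ((gram h).det⁻¹ • hT.hh.lin (e a)).smulRight (f a) := ⟨_, rfl⟩
  have hLx : ∀ x, L x = ∑ a, ((gram h).det⁻¹ * h x (e a)) • f a := fun x => by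
    simp only [hL, LinearMap.coe_sum, Finset.sum_apply, LinearMap.smulRight_apply, LinearMap.smul_apply,
      hT.hh.lin_apply, smul_eq_mul]
  have hLe : ∀ a, L (e a) = f a := fun a => by
    rw [hLx, Finset.sum_eq_single a (fun a' _ hne => by rw [he.orth a a' (Ne.symm hne), mul_zero, zero_smul])
      (fun hn => absurd (Finset.mem_univ a) hn), he.val, inv_mul_cancel₀ hd, one_smul]
  have hsumR : ∀ y (g : β → W) (r : β → F), h y (∑ a, r a • g a) = ∑ a, r a * h y (g a) := fun y g r => by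
    rw [hT.hh.symm, ← hT.hh.lin_apply, map_sum]
    exact Finset.sum_congr rfl fun a _ => by rw [map_smul, hT.hh.lin_apply, smul_eq_mul, hT.hh.symm]
  have hiso : ∀ x y, h (L x) (L y) = h x y := fun x y => by
    conv_rhs => rw [he.expand hT hd y]
    rw [hLx y, hsumR, hsumR]
    refine Finset.sum_congr rfl fun a _ => ?_
    rw [hLx x, hT.hh.symm _ (f a), hsumR, Finset.sum_eq_single a
      (fun a' _ hne => by rw [hf.orth a a' (Ne.symm hne), mul_zero])
      (fun hn => absurd (Finset.mem_univ a) hn), hf.val, hT.hh.symm (e a) y, hT.hh.symm x (e a), hT.hh.symm (e a) x]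
    field_simp
  obtain ⟨B, hB⟩ := exists_gl_of_injective L fun x y e0 => hT.hh.eq_of_forall fun z => by
    rw [← hiso x, ← hiso y, e0]
  refine ⟨B, fun x y => by rw [hB, hB, hiso], ?_⟩
  rw [hB, ← heq b (Finset.mem_singleton_self b), hLe, hfeq b (Finset.mem_singleton_self b)]

end signs

namespace Px

variable {M : Subgroup (GL (κ → β) F)} (hM : Px c h M) (h3 : Fintype.card β = 3)
include hM h3

theorem si_mem {i : κ} {g : GL X F} (hg : SI c h i g) : g ∈ M ∧ g ∈ Wr F κ β := by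
  obtain ⟨v, B, -, -, -, hG, rfl⟩ := hg
  exact ⟨hM.pe_mem hG, TensorPow.pe_mem _ _⟩

/-- The involutions at factors are conjugate in the stabiliser. -/
theorem si_trans {i j : κ} {a b : GL X F} (ha : SI c h i a) (hb : SI c h j b) :
    ∃ g ∈ M, g ∈ Wr F κ β ∧ g * a * g⁻¹ = b := by
  classical
  have hT := hM.data
  obtain ⟨v, A, hv, hA, hAi, rfl⟩ := hT.si_normal h3 ha
  obtain ⟨w, B, hw, hB, hBi, rfl⟩ := hT.si_normal h3 hb
  obtain ⟨gs, hgs, hπ⟩ := hM.exists_perm (odd_of_three h3) j i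
  obtain ⟨π, hπd⟩ : ∃ π, π = wgl (Equiv.swap j i) gs := ⟨_, rfl⟩
  rw [← hπd] at hπ
  have hπc : π * pe i A * π⁻¹ = pe j (gs j * A * (gs j)⁻¹) := by
    rw [hπd]; exact pe_conj_eq i A (Equiv.swap_apply_left j i)
  obtain ⟨S, hS, hSv⟩ := hT.exists_map h3 (v := (gs j : Mb) *ᵥ v) (w := w) (by rw [hgs j, hv]) hw
  obtain ⟨C, hC, hCw, hCG⟩ := hT.exists_fix_vec (odd_of_three h3) j (show h w w ≠ 0 from hw ▸ hT.gram_det_ne) (hT.pe_iso j (inv_mem hS))
  rw [← map_mul] at hCG
  obtain ⟨T, hTd⟩ : ∃ T, T = (S⁻¹ * C)⁻¹ * gs j := ⟨_, rfl⟩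
  refine ⟨(pe j (S⁻¹ * C))⁻¹ * π, mul_mem (inv_mem (hM.pe_mem hCG)) hπ,
    mul_mem (inv_mem (TensorPow.pe_mem _ _)) (hπd ▸ wgl_mem _ _), ?_⟩
  have hT' : T * A * T⁻¹ = B := by
    have hTi : T ∈ iso h := hTd ▸ mul_mem (inv_mem (mul_mem (inv_mem hS) hC)) (hgs j)
    have hTv : (T : Mb) *ᵥ v = w := by
      rw [hTd, _root_.mul_inv_rev, inv_inv, Units.val_mul, Units.val_mul, ← Matrix.mulVec_mulVec,
        ← Matrix.mulVec_mulVec, hSv]
      nth_rw 1 [← hCw]
      rw [inv_mulVec_cancel]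
    refine hT.rot_unique (v := w) (fun x => ?_) hB
    obtain ⟨y, rfl⟩ : ∃ y, (T : Mb) *ᵥ y = x := ⟨_, mulVec_inv_cancel T x⟩
    rw [Units.val_mul, Units.val_mul, ← Matrix.mulVec_mulVec, ← Matrix.mulVec_mulVec, inv_mulVec_cancel, hA,
      Matrix.mulVec_sub, Matrix.mulVec_smul, hTv, ← hTv, hTi, hTi]
  rw [show (pe j (S⁻¹ * C))⁻¹ * π * pe i A * ((pe j (S⁻¹ * C))⁻¹ * π)⁻¹ =
    (pe j (S⁻¹ * C))⁻¹ * (π * pe i A * π⁻¹) * (pe j (S⁻¹ * C)) by group, hπc, ← map_inv, ← map_mul, ← map_mul,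
    ← hT', hTd]
  congr 1
  group

end Px

end Cfsg.Agent.Classical.TensorPowOrth
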