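import Cfsg.Agent.Lib.Classical.TensorPowOrth.ThreeInv
import Cfsg.Agent.Lib.Classical.TensorPow.Comp
import Cfsg.Agent.Lib.Grp.HHCommute
import Cfsg.Agent.S0023
import Cfsg.Agent.S0058

/-!
Factors of dimension three: the members fixing the tensors of one anisotropic vector at a factor stabilise the
decomposition.
-/

set_option autoImplicit false
set_option linter.unusedSectionVars false
set_option linter.unusedSimpArgs false
set_option linter.style.haveILetI false

open scoped Kronecker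

namespace Cfsg.Agent.Classical.TensorPowOrth

open Matrix Module MaxTv TensorMax TensorPow Overfield
open Cfsg.Agent.Classical.TensorOrth (Sym NdOn iso IsSieg ext_pure ext_kron)

section group

variable {Γ : Type*} [Group Γ] [Finite Γ]

/-- A group normalised by an element of prime order without commuting elements of prime-power order. -/
theorem not_dvd_card_of_fix {p : ℕ} [hp : Fact p.Prime] (K : Subgroup Γ) {x : Γ} (hxp : x ^ p = 1)
    (hxK : x ∈ Subgroup.normalizer (K : Set Γ))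
    (hfix : ∀ z ∈ K, z * x = x * z → ∀ n : ℕ, z ^ p ^ n = 1 → z = 1) : ¬ p ∣ Nat.card K := by
  classical
  intro hdvd
  obtain ⟨N, hN⟩ : ∃ N : Subgroup Γ, N = K ⊔ Subgroup.zpowers x := ⟨_, rfl⟩
  have hKN : K ≤ N := hN ▸ le_sup_left
  have hxN : x ∈ N := hN ▸ le_sup_right (a := K) (Subgroup.mem_zpowers x)
  have hNK : N ≤ Subgroup.normalizer (K : Set Γ) :=
    hN ▸ sup_le Subgroup.le_normalizer (Subgroup.zpowers_le.2 hxK)
  have hxpg : IsPGroup p (Subgroup.zpowers (⟨x, hxN⟩ : N)) := by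
    intro g
    obtain ⟨g, k, rfl⟩ := g
    refine ⟨1, Subtype.ext ?_⟩
    show (((⟨x, hxN⟩ : N) ^ k) ^ p ^ 1 : N) = 1
    rw [pow_one, ← zpow_natCast, zpow_comm, zpow_natCast, show (⟨x, hxN⟩ : N) ^ p = 1 from Subtype.ext hxp, _root_.one_zpow]
  obtain ⟨Q, hQ⟩ := hxpg.exists_le_sylow
  have hxQ : (⟨x, hxN⟩ : N) ∈ (Q : Subgroup N) := hQ (Subgroup.mem_zpowers _)
  obtain ⟨y, hy⟩ := exists_prime_orderOf_dvd_card' p hdvd
  have hy' : orderOf (⟨y.1, hKN y.2⟩ : N) = p := by
    rw [← hy, ← orderOf_injective N.subtype Subtype.val_injective, ← orderOf_injective K.subtype Subtype.val_injective]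
    rfl
  have hypg : IsPGroup p (Subgroup.zpowers (⟨y.1, hKN y.2⟩ : N)) :=
    IsPGroup.of_card (n := 1) (by rw [Nat.card_zpowers, hy', pow_one])
  obtain ⟨Q0, hQ0⟩ := hypg.exists_le_sylow
  obtain ⟨g, hg⟩ := MulAction.exists_smul_eq N Q0 Q
  have hgy : g * ⟨y.1, hKN y.2⟩ * g⁻¹ ∈ (Q : Subgroup N) := by
    rw [← hg, Sylow.coe_subgroup_smul]
    exact Subgroup.smul_mem_pointwise_smul _ (MulAut.conj g) _ (hQ0 (Subgroup.mem_zpowers _))
  obtain ⟨P, hP⟩ : ∃ P : Subgroup N, P = (Q : Subgroup N) ⊓ K.subgroupOf N := ⟨_, rfl⟩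
  have hyP : g * ⟨y.1, hKN y.2⟩ * g⁻¹ ∈ P := by
    rw [hP]
    exact ⟨hgy, ((Subgroup.mem_normalizer_iff.1 (hNK g.2)) y.1).1 y.2⟩
  have hne : g * ⟨y.1, hKN y.2⟩ * g⁻¹ ≠ 1 := fun e => hp.out.ne_one (by
    rw [← hy', show (⟨y.1, hKN y.2⟩ : N) = g⁻¹ * (g * ⟨y.1, hKN y.2⟩ * g⁻¹) * g by group, e, mul_one,
      inv_mul_cancel, orderOf_one])
  have hPg : IsPGroup p P := Q.2.to_le (hP ▸ inf_le_left)
  have hconj : ∀ z : N, z ∈ P → ⟨x, hxN⟩ * z * (⟨x, hxN⟩ : N)⁻¹ ∈ P := by
    intro z hz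
    rw [hP] at hz ⊢
    exact Subgroup.mem_inf.2 ⟨mul_mem (mul_mem hxQ hz.1) (inv_mem hxQ),
      ((Subgroup.mem_normalizer_iff.1 hxK) z.1).1 hz.2⟩
  obtain ⟨φ, hφ⟩ : ∃ φ : P → P, ∀ z, (φ z : N) = ⟨x, hxN⟩ * z * (⟨x, hxN⟩ : N)⁻¹ :=
    ⟨fun z => ⟨_, hconj z.1 z.2⟩, fun _ => rfl⟩
  have hbij : Function.Bijective φ := Finite.injective_iff_bijective.1 fun a b e => Subtype.ext (by
    have := congrArg Subtype.val e
    rw [hφ, hφ, mul_left_inj, mul_right_inj] at this
    exact this)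
  obtain ⟨σ, hσ⟩ : ∃ σ : Equiv.Perm P, ∀ z, σ z = φ z := ⟨Equiv.ofBijective φ hbij, fun _ => rfl⟩
  have hσk : ∀ (k : ℕ) (z : P), ((σ ^ k) z : N) = (⟨x, hxN⟩ : N) ^ k * z * ((⟨x, hxN⟩ : N) ^ k)⁻¹ := by
    intro k
    induction k with
    | zero => intro z; simp
    | succ k ih =>
      intro z
      rw [pow_succ', Equiv.Perm.mul_apply, hσ, hφ, ih, pow_succ']
      group
  have hσp : σ ^ p ^ 1 = 1 := Equiv.ext fun z => Subtype.ext (by
    rw [hσk, pow_one, show (⟨x, hxN⟩ : N) ^ p = 1 from Subtype.ext hxp]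
    simp)
  haveI : Fintype P := Fintype.ofFinite P
  obtain ⟨m, hm⟩ := IsPGroup.iff_card.1 hPg
  have hdP : p ∣ Fintype.card P := by
    rw [← Nat.card_eq_fintype_card, hm]
    refine dvd_pow_self _ fun h0 => hne ?_
    rw [h0, pow_zero, Subgroup.card_eq_one] at hm
    simpa [hm] using hyP
  obtain ⟨b, hb, hb1⟩ := Equiv.Perm.exists_fixed_point_of_prime' hdP hσp (a := 1) (Subtype.ext (by
    rw [hσ, hφ]; simp))
  obtain ⟨n, hn⟩ := hPg b
  have hbK : b.1.1 ∈ K := (hP ▸ b.2 : b.1 ∈ (Q : Subgroup N) ⊓ K.subgroupOf N).2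
  refine hb1 (Subtype.ext (Subtype.ext (hfix _ hbK ?_ n ?_)))
  · have h1 := congrArg (fun z : P => z.1.1) hb
    simp only [hσ, hφ] at h1
    exact (mul_inv_eq_iff_eq_mul.1 h1).symm
  · exact congrArg (fun z : P => z.1.1) hn

/-- A subgroup containing a Sylow subgroup for every prime divisor of the order. -/
theorem le_of_sylows (K C : Subgroup Γ)
    (h : ∀ r : ℕ, r.Prime → r ∣ Nat.card K → ∃ P : Sylow r K, ∀ z : K, z ∈ (P : Subgroup K) → (z : Γ) ∈ C) :
    K ≤ C := by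
  rw [← Subgroup.subgroupOf_eq_top]
  by_contra hne
  have h1 : (C.subgroupOf K).index ≠ 1 := fun e => hne (Subgroup.index_eq_one.1 e)
  obtain ⟨r, hr, hrd⟩ := Nat.exists_prime_and_dvd h1
  haveI := Fact.mk hr
  obtain ⟨P, hP⟩ := h r hr (hrd.trans (Subgroup.index_dvd_card _))
  exact P.not_dvd_index (hrd.trans (Subgroup.index_dvd_of_le fun z hz => hP z hz))

end group

variable {F : Type*} [Field F] [Fintype F] {κ β : Type} [Fintype κ] [DecidableEq κ] [Fintype β] [DecidableEq β]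
  {c : F} {h : (β → F) → (β → F) → F}

local notation "X" => (κ → β)
local notation "V" => ((κ → β) → F)
local notation "Mn" => Matrix (κ → β) (κ → β) F
local notation "Mb" => Matrix β β F
local notation "W" => (β → F)

/-- The elements fixing the tensors with `v` at the factor `i`. -/
def Fx (F : Type*) [Field F] [Fintype F] {κ β : Type} [Fintype κ] [DecidableEq κ] [Fintype β] [DecidableEq β]
    (i : κ) (v : β → F) : Subgroup (GL (κ → β) F) where
  carrier := {g | ∀ t ∈ line i v, (g : Matrix (κ → β) (κ → β) F) *ᵥ t = t}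
  one_mem' := fun t _ => by rw [Units.val_one, Matrix.one_mulVec]
  mul_mem' := fun {a b} ha hb t ht => by rw [Units.val_mul, ← Matrix.mulVec_mulVec, hb t ht, ha t ht]
  inv_mem' := fun {a} ha t ht => by
    conv_lhs => rw [← ha t ht]
    rw [inv_mulVec_cancel]

theorem mem_Fx {i : κ} {v : W} {g : GL X F} : g ∈ Fx F i v ↔ ∀ t ∈ line i v, (g : Mn) *ᵥ t = t := Iff.rfl

/-- An element at another factor keeps the tensors with `v`. -/
theorem pe_line {i l : κ} (hl : l ≠ i) (B : GL β F) {v : W} {t : V} (ht : t ∈ line i v) :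
    (pe l B : Mn) *ᵥ t ∈ line i v := by
  obtain ⟨r, hr⟩ := mem_line_iff.1 ht
  refine mem_line_iff.2 ⟨(pe (⟨l, hl⟩ : Rst i) B : Matrix (Rst i → β) (Rst i → β) F) *ᵥ r, ?_⟩
  rw [← sp_mulVec, sp_pe_ne hl, hr, k2_mulVec, Units.val_one, Matrix.one_mulVec]

variable (hT : TData c h)
include hT

/-- An element of the stabiliser fixing the tensors with `v` at `i` is an element at `i` fixing `v`. -/
theorem TData.fx_Wr {i : κ} {v : W} (hv : v ≠ 0) {g : GL X F} (hg : g ∈ Wr F κ β) (hgi : g ∈ iso (tf c h))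
    (hfx : g ∈ Fx F i v) : ∃ B ∈ iso h, (B : Mb) *ᵥ v = v ∧ g = pe i B := by
  classical
  haveI : Nontrivial β := Fintype.one_lt_card_iff_nontrivial.1 (by have := hT.three; omega)
  obtain ⟨σ, gs, rfl⟩ := hg
  have himg : (line i v).map (Matrix.toLin' (wgl σ gs : Mn)) = line i v := by
    ext t
    constructor
    · rintro ⟨s, hs, rfl⟩
      rw [Matrix.toLin'_apply, hfx s hs]; exact hs
    · exact fun ht => ⟨t, ht, by rw [Matrix.toLin'_apply, hfx t ht]⟩
  rw [wgl_line' σ gs i hv] at himg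
  have hσ : σ i = i := by
    have h1 := line_eq_slot (gl_mulVec_ne_zero _ hv) hv himg
    conv_lhs => rw [← h1, perm_apply_inv]
  obtain ⟨A, B, hAB⟩ : ∃ A B, sp i (wgl σ gs) = k2 A B := ⟨_, _, sp_wgl σ hσ gs⟩
  have hfix : ∀ r, tmul ((A : Matrix (Rst i → β) (Rst i → β) F) *ᵥ r) ((B : Mb) *ᵥ v) = tmul r v := fun r => by
    have h1 := congrArg (spV i) (hfx _ (mem_line_iff.2 ⟨r, LinearEquiv.apply_symm_apply (spV i) (tmul r v)⟩))
    rwa [← sp_mulVec, LinearEquiv.apply_symm_apply, hAB, k2_mulVec] at h1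
  obtain ⟨φ, hφ⟩ := exists_dual hv
  have hA : ∀ r, (φ ⬝ᵥ ((B : Mb) *ᵥ v)) • ((A : Matrix (Rst i → β) (Rst i → β) F) *ᵥ r) = r := fun r => by
    have h1 := congrArg (slice φ) (hfix r)
    rwa [slice_tmul, slice_tmul, hφ, one_smul] at h1
  obtain ⟨μ, hμ⟩ : ∃ μ, μ = φ ⬝ᵥ ((B : Mb) *ᵥ v) := ⟨_, rfl⟩
  simp only [← hμ] at hA
  haveI : Nonempty (Rst i → β) := ⟨fun _ => Classical.arbitrary β⟩
  obtain ⟨r₀, hr₀⟩ : ∃ r : (Rst i → β) → F, r ≠ 0 := exists_ne _
  have hμ0 : μ ≠ 0 := fun e => hr₀ (by rw [← hA r₀, e, zero_smul])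
  have hspB : sp i (wgl σ gs) = k2 1 (scal μ⁻¹ (inv_ne_zero hμ0) B) := by
    rw [hAB]
    refine ext_kron fun x y => ?_
    rw [k2_mulVec, k2_mulVec, Units.val_one, Matrix.one_mulVec, scal_val, Matrix.smul_mulVec, tmul_smul_right]
    conv_rhs => arg 2; arg 1; rw [← hA x]
    rw [tmul_smul_left, smul_smul, inv_mul_cancel₀ hμ0, one_smul]
  have heq : wgl σ gs = pe i (scal μ⁻¹ (inv_ne_zero hμ0) B) := (sp i).injective (by rw [hspB, sp_pe])
  refine ⟨_, hT.pe_iso_rev i (heq ▸ hgi), ?_, heq⟩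
  have h1 := congrArg (spV i) (hfx _ (mem_line_iff.2 ⟨r₀, LinearEquiv.apply_symm_apply (spV i) (tmul r₀ v)⟩))
  rw [← sp_mulVec, LinearEquiv.apply_symm_apply, hspB, k2_mulVec, Units.val_one, Matrix.one_mulVec] at h1
  obtain ⟨ξ, hξ⟩ := exists_dual hr₀
  have h4 := congrArg (lslice ξ) h1
  rwa [lslice_tmul, lslice_tmul, hξ, one_smul, one_smul] at h4

/-- The Siegel elements of one singular vector, parametrised by the field. -/
theorem TData.exists_siegHom (h3 : Fintype.card β = 3) :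
    ∃ (z w : W) (S : Multiplicative F →* GL β F), h z z = 0 ∧ z ≠ 0 ∧ h w z = 0 ∧ h w w ≠ 0 ∧
      ∀ a : F, IsSieg h (S (Multiplicative.ofAdd a)) z (a • w) := by
  have hs := hT.hh
  obtain ⟨z, c', hz, -, hcz⟩ := hs.exists_hyp hT.two (by omega)
  have hz0 : z ≠ 0 := fun e => by rw [e, hs.zero_right] at hcz; exact zero_ne_one hcz
  obtain ⟨u, w, -, -, -, hwz, hww, -⟩ := exists_basis_three hs hT.two h3 hz hz0
  have hw' : ∀ a : F, h (a • w) z = 0 := fun a => by rw [hs.smul_left, hwz, mul_zero]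
  choose S hS hSx using fun a => hs.exists_sieg hT.two (w := a • w) hz (hw' a)
  refine ⟨z, w, MonoidHom.mk' (fun a => S (Multiplicative.toAdd a)) fun a b => ?_, hz, hz0, hwz, hww,
    fun a => hSx a⟩
  symm
  refine hs.sieg_mul hT.two (hSx _) (hSx _) ?_ hz (hw' _) (hw' _)
  rw [← add_smul]
  exact hSx _

namespace Px

variable {M : Subgroup (GL (κ → β) F)} (hM : Px c h M) (h3 : Fintype.card β = 3)
include hM h3

omit hT in
theorem fx_fix {i : κ} {v : W} (hv : h v v ≠ 0) {g : GL X F} (hg : g ∈ M) (hgW : g ∈ Wr F κ β) (hfx : g ∈ Fx F i v)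
    {p n : ℕ} [Fact p.Prime] [CharP F p] (hgp : g ^ p ^ n = 1) : g = 1 := by
  have hT := hM.data
  haveI : Nonempty β := Fintype.card_pos_iff.1 (by omega)
  obtain ⟨B, hB, hBv, rfl⟩ := hT.fx_Wr (fun e : v = 0 => hv (by rw [e, hT.hh.zero_left])) hgW (hM.iso_mem hg) hfx
  rw [← map_pow, ← map_one (pe (F := F) (κ := κ) (β := β) i)] at hgp
  have h1 := congrArg Units.val (pe_injective i hgp)
  rw [Units.val_pow_eq_pow_val, Units.val_one] at h1
  rw [eq_one_of_fix hT.hh hT.two h3 hB hv hBv (n := p ^ n) (by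
    rw [sub_pow_char_pow_of_commute (p := p) (h := Commute.one_right _), one_pow, h1, sub_self]), map_one]

omit hT in
/-- The members fixing the tensors of an anisotropic vector at a factor stabilise the decomposition. -/
theorem fx_le {i : κ} {v : W} (hv : h v v ≠ 0) : M ⊓ Fx F i v ≤ Wr F κ β := by
  classical
  have hT := hM.data
  have hs := hT.hh
  haveI : Nonempty β := Fintype.card_pos_iff.1 (by omega)
  obtain ⟨l, hli⟩ := nonempty_rst hM.ht i
  obtain ⟨z, w, S, hz, hz0, hwz, hww, hSx⟩ := hT.exists_siegHom h3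
  obtain ⟨p, hp⟩ := CharP.exists F
  haveI := hp
  haveI hpF : Fact p.Prime := ⟨CharP.char_is_prime F p⟩
  obtain ⟨K, hK⟩ : ∃ K, K = M ⊓ Fx F i v := ⟨_, rfl⟩
  rw [← hK]
  have hKM : ∀ g ∈ K, g ∈ M ∧ g ∈ Fx F i v := fun g hg => by rw [hK] at hg; exact hg
  have hwz' : ∀ a : F, h (a • w) z = 0 := fun a => by rw [hs.smul_left, hwz, mul_zero]
  have hxM : ∀ a, pe l (S a) ∈ M := fun a => hM.pe_mem (hT.pe_sieg (hSx a.toAdd) hz (hwz' _))
  have hxN : ∀ a, pe l (S a) ∈ Subgroup.normalizer (K : Set (GL X F)) := by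
    have hfwd : ∀ a, ∀ g ∈ K, pe l (S a) * g * (pe l (S a))⁻¹ ∈ K := fun a g hg => by
      rw [hK]
      refine Subgroup.mem_inf.2 ⟨mul_mem (mul_mem (hxM a) (hKM g hg).1) (inv_mem (hxM a)), fun t ht => ?_⟩
      rw [← map_inv, Units.val_mul, Units.val_mul, ← Matrix.mulVec_mulVec, ← Matrix.mulVec_mulVec,
        (hKM g hg).2 _ (pe_line hli _ ht), Matrix.mulVec_mulVec, ← Units.val_mul, ← map_mul, mul_inv_cancel, map_one,
        Units.val_one, Matrix.one_mulVec]
    intro a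
    rw [Subgroup.mem_normalizer_iff]
    refine fun g => ⟨hfwd a g, fun hg => ?_⟩
    have := hfwd a⁻¹ _ hg
    rwa [map_inv S, map_inv, inv_inv, show (pe l (S a))⁻¹ * (pe l (S a) * g * (pe l (S a))⁻¹) * pe l (S a) = g by
      group] at this
  have hcent : ∀ (a : F), a ≠ 0 → ∀ g ∈ K, g * pe l (S (Multiplicative.ofAdd a)) =
      pe l (S (Multiplicative.ofAdd a)) * g → g ∈ Wr F κ β := fun a ha g hg hcom =>
    hM.cent_sieg h3 (hKM g hg).1 hz hz0 (hwz' a)
      (by rw [hs.smul_left, hs.smul_right]; exact mul_ne_zero ha (mul_ne_zero ha hww)) (hSx a) hcom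
  have hSp : ∀ a, S a ^ p = 1 := fun a => by
    obtain ⟨a, rfl⟩ := Multiplicative.ofAdd.surjective a
    refine TensorOrth.pow_char_eq_one hT.two (Matrix.ext_iff_mulVec.2 fun x => ?_)
    rw [pow_succ, pow_two, ← Matrix.mulVec_mulVec, ← Matrix.mulVec_mulVec,
      hs.sieg_cube hT.two (hSx a) hz (hwz' _), Matrix.zero_mulVec]
  obtain ⟨x, hx⟩ : ∃ x, x = pe (κ := κ) l (S (Multiplicative.ofAdd (1 : F))) := ⟨_, rfl⟩
  have hxp : x ^ p = 1 := by rw [hx, ← map_pow, hSp, map_one]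
  have hpK : ¬ p ∣ Nat.card K := not_dvd_card_of_fix K hxp (hx ▸ hxN _) fun g hg hcom n hn =>
    hM.fx_fix h3 hv (hKM g hg).1 (hcent 1 one_ne_zero g hg (by rw [← hx]; exact hcom)) (hKM g hg).2 hn
  by_cases hFp : Fintype.card F = p
  · have hp5 : 5 ≤ p := hFp ▸ five_le_card hT.two fun e => hM.hex ⟨e, h3⟩
    intro g hg
    refine (le_of_sylows K (Wr F κ β) fun r hr hrd => ?_) hg
    haveI := Fact.mk hr
    have hrp : p ≠ r := fun e => hpK (e ▸ hrd)
    have hord : orderOf x ∣ p := orderOf_dvd_of_pow_eq_one hxp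
    have hcop : (Nat.card (Subgroup.zpowers x)).Coprime (Nat.card K) := by
      rw [Nat.card_zpowers]
      exact Nat.Coprime.coprime_dvd_left hord ((Nat.Prime.coprime_iff_not_dvd hpF.out).2 hpK)
    obtain ⟨P, hP⟩ := Cfsg.Agent.S0023.result (Subgroup.zpowers x) K (Subgroup.zpowers_le.2 (hx ▸ hxN _)) hcop
      (Or.inl inferInstance) r
    refine ⟨P, fun z hzP => hcent 1 one_ne_zero z.1 z.2 ?_⟩
    rw [← hx]
    let emb' : GL X F →* Module.End (AlgebraicClosure F) (X → AlgebraicClosure F) :=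
      (Matrix.toLinAlgEquiv' (R := AlgebraicClosure F) (n := X)).toMonoidHom.comp
        (((algebraMap F (AlgebraicClosure F)).mapMatrix.toMonoidHom).comp (Units.coeHom Mn))
    haveI : CharP (AlgebraicClosure F) p :=
      charP_of_injective_algebraMap (algebraMap F (AlgebraicClosure F)).injective p
    have hinj : Function.Injective emb' := fun a b e =>
      Units.ext (Matrix.map_injective (algebraMap F (AlgebraicClosure F)).injective
        ((Matrix.toLinAlgEquiv' (R := AlgebraicClosure F) (n := X)).injective e))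
    have hx3 : (emb' x - 1) ^ 3 = 0 := by
      have h1 : ((x : Mn) - 1) ^ 3 = 0 := by
        have e : (x : Mn) - 1 = et l ((S (Multiplicative.ofAdd (1 : F)) : Mb) - 1) := by
          conv_rhs => rw [sub_eq_add_neg, ← neg_one_smul F (1 : Mb), et_add, et_smul, et_one, neg_one_smul, et_val]
          rw [hx, sub_eq_add_neg]
        rw [e, pow_succ, pow_two, et_mul, et_mul,
          show ((S (Multiplicative.ofAdd (1 : F)) : Mb) - 1) * ((S (Multiplicative.ofAdd (1 : F)) : Mb) - 1) *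
            ((S (Multiplicative.ofAdd (1 : F)) : Mb) - 1) = (0 : F) • (1 : Mb) from by
            rw [zero_smul]
            exact Matrix.ext_iff_mulVec.2 fun y => by
              rw [← Matrix.mulVec_mulVec, ← Matrix.mulVec_mulVec, hs.sieg_cube hT.two (hSx 1) hz (hwz' _),
                Matrix.zero_mulVec], et_smul, zero_smul]
      show ((Matrix.toLinAlgEquiv' (R := AlgebraicClosure F) (n := X))
        ((algebraMap F (AlgebraicClosure F)).mapMatrix (x : Mn)) - 1) ^ 3 = 0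
      rw [← map_one (Matrix.toLinAlgEquiv' (R := AlgebraicClosure F) (n := X)),
        ← map_one ((algebraMap F (AlgebraicClosure F)).mapMatrix (m := X)), ← map_sub, ← map_sub, ← map_pow,
        ← map_pow, h1, map_zero, map_zero]
    have hQg : IsPGroup r ((P : Subgroup K).map K.subtype) := P.2.map K.subtype
    have h1 := Cfsg.Agent.Grp.HHExc.commute_of_injective (fun e => by omega) hrp hinj hQg
      (hP (Subgroup.mem_zpowers x)) (m := 0) (by rw [zero_add, pow_one]; exact hxp) (s := 3) hx3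
      (by rw [zero_add, pow_one]; omega) (Or.inr (Or.inr (Or.inr (by rw [zero_add, pow_one, pow_zero]; omega))))
      z.1 ⟨z, hzP, rfl⟩
    rw [pow_zero, pow_one] at h1
    exact (mul_inv_eq_iff_eq_mul.1 h1).symm
  · obtain ⟨A, hA⟩ : ∃ A, A = (((pe l).comp S) : Multiplicative F →* GL X F).range := ⟨_, rfl⟩
    haveI : IsMulCommutative A := ⟨⟨by
      rintro ⟨a, ha⟩ ⟨b, hb⟩
      obtain ⟨a, rfl⟩ := hA ▸ ha
      obtain ⟨b, rfl⟩ := hA ▸ hb
      refine Subtype.ext ?_
      show ((pe l).comp S) a * ((pe l).comp S) b = ((pe l).comp S) b * ((pe l).comp S) a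
      rw [← map_mul, mul_comm, map_mul]⟩⟩
    have hSinj : Function.Injective ((pe (F := F) (κ := κ) l).comp S) := fun a b e => by
      obtain ⟨a, rfl⟩ := Multiplicative.ofAdd.surjective a
      obtain ⟨b, rfl⟩ := Multiplicative.ofAdd.surjective b
      refine congrArg Multiplicative.ofAdd ?_
      have h1 := congrArg Units.val (pe_injective l e)
      obtain ⟨u, hu, huz⟩ := hs.exists_partner hT.two hz hz0
      have h4 := congrArg (fun D : Mb => h (D *ᵥ u) w) h1
      simp only [hSx a u, hSx b u, hs.add_left, hs.sub_left, hs.smul_left, hs.smul_right, hs.symm z w, hwz,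
        huz, mul_zero, sub_zero, one_mul, add_right_inj] at h4
      exact mul_right_cancel₀ hww h4
    have hcard : Nat.card A = Fintype.card F := by
      rw [hA, ← Nat.card_eq_fintype_card]
      exact (Nat.card_congr (Equiv.ofInjective _ hSinj)).symm
    have hAp : ∀ a ∈ A, a ^ p = 1 := fun a ha => by
      obtain ⟨a, rfl⟩ := hA ▸ ha
      rw [MonoidHom.comp_apply, ← map_pow, hSp, map_one]
    have hcyc : ¬ IsCyclic A := fun hc => by
      obtain ⟨a, ha⟩ := hc.exists_generator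
      have h1 := orderOf_eq_card_of_forall_mem_zpowers ha
      have h4 : orderOf a ∣ p := orderOf_dvd_of_pow_eq_one (Subtype.ext (hAp _ a.2))
      rw [h1, hcard, Nat.dvd_prime hpF.out] at h4
      rcases h4 with h4 | h4
      · have := Fintype.one_lt_card (α := F); omega
      · exact hFp h4
    obtain ⟨n, -, hn⟩ := FiniteField.card F p
    have hcop : (Nat.card A).Coprime (Nat.card K) := by
      rw [hcard, hn]
      exact Nat.Coprime.pow_left _ ((Nat.Prime.coprime_iff_not_dvd hpF.out).2 hpK)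
    have hgen := Cfsg.Agent.S0058.result A K hcyc (hA ▸ by rintro _ ⟨a, rfl⟩; exact hxN a) hcop
    rw [← hgen]
    refine iSup₂_le fun a ⟨ha, ha1⟩ g hg => ?_
    obtain ⟨b, rfl⟩ := hA ▸ ha
    refine hcent b.toAdd (fun e => ha1 ?_) g hg.1 ?_
    · rw [show b = 1 from Multiplicative.toAdd.injective e, map_one]
    · exact (Subgroup.mem_centralizer_singleton_iff).1 hg.2

end Px

end Cfsg.Agent.Classical.TensorPowOrth
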