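import Cfsg.Agent.Lib.Classical.TensorPowOrth.Conj

/-!
Factors of dimension three: unipotent isometries, elements carrying one singular line of a factor to a line of a
factor, and the centralisers of regular unipotent elements at a factor.
-/

set_option autoImplicit false
set_option linter.unusedSectionVars false
set_option linter.unusedSimpArgs false
set_option linter.style.haveILetI false

open scoped Kronecker

namespace Cfsg.Agent.Classical.TensorPowOrth

open Matrix Module MaxTv TensorMax TensorPow Overfield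
open Cfsg.Agent.Classical.TensorOrth (Sym NdOn iso IsSieg ext_pure ext_kron)

variable {F : Type*} [Field F] [Fintype F] {κ β : Type} [Fintype κ] [DecidableEq κ] [Fintype β] [DecidableEq β]
  {c : F} {h : (β → F) → (β → F) → F}

local notation "X" => (κ → β)
local notation "V" => ((κ → β) → F)
local notation "Mn" => Matrix (κ → β) (κ → β) F
local notation "Mb" => Matrix β β F
local notation "W" => (β → F)

section dimThree

theorem odd_of_three (h3 : Fintype.card β = 3) : Odd (Fintype.card β) := ⟨1, by omega⟩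

variable (hs : Sym h) (h2 : (2 : F) ≠ 0) (h3 : Fintype.card β = 3)
include hs h2 h3

/-- A singular vector completes to a basis. -/
theorem exists_basis_three {z : W} (hz : h z z = 0) (hz0 : z ≠ 0) :
    ∃ u w, h u u = 0 ∧ h u z = 1 ∧ h w u = 0 ∧ h w z = 0 ∧ h w w ≠ 0 ∧
      ∀ y, y = h y u • z + h y z • u + ((h w w)⁻¹ * h y w) • w := by
  obtain ⟨u, huu, hu⟩ := hs.exists_partner h2 hz hz0
  obtain ⟨w, hw, hww⟩ := hs.exists_aniso h2 (hs.ndOn_perp2 huu hz hu)
    (Submodule.exists_mem_ne_zero_of_ne_bot fun e => by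
      have := hs.finrank_perp2 u z; rw [e, finrank_bot] at *; omega)
  exact ⟨u, w, huu, hu, hw.1, hw.2, hww, hs.three_basis h3 hz huu hu hw.1 hw.2 hww⟩

/-- A singular vector orthogonal to a singular vector is a multiple. -/
theorem prop_of_singular {z y : W} (hz : h z z = 0) (hz0 : z ≠ 0) (hy : h y y = 0) (hyz : h y z = 0) :
    ∃ a : F, y = a • z := by
  obtain ⟨u, w, -, -, hwu, hwz, hww, hb⟩ := exists_basis_three hs h2 h3 hz hz0
  obtain ⟨a, b, hab⟩ : ∃ a b : F, y = a • z + b • w :=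
    ⟨h y u, (h w w)⁻¹ * h y w, by conv_lhs => rw [hb y, hyz, zero_smul, add_zero]⟩
  refine ⟨a, ?_⟩
  rw [hab] at hy
  simp only [hs.add_left, hs.add_right, hs.smul_left, hs.smul_right, hz, hwz, hs.symm z w, mul_zero, zero_add,
    add_zero] at hy
  rw [hab, show b = 0 by simpa [hww] using hy, zero_smul, add_zero]

/-- An isometry with quadratic displacement is trivial. -/
theorem eq_one_of_sq {B : GL β F} (hB : B ∈ iso h) (hsq : ((B : Mb) - 1) * ((B : Mb) - 1) = 0) : B = 1 := by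
  obtain ⟨N, hN⟩ : ∃ N : Mb, N = (B : Mb) - 1 := ⟨_, rfl⟩
  rw [← hN] at hsq
  have hNN : ∀ x, N *ᵥ (N *ᵥ x) = 0 := fun x => by rw [Matrix.mulVec_mulVec, hsq, Matrix.zero_mulVec]
  have hBx : ∀ x, (B : Mb) *ᵥ x = x + N *ᵥ x := fun x => by
    rw [hN, Matrix.sub_mulVec, Matrix.one_mulVec]; abel
  have k1 : ∀ x y, h (N *ᵥ x) y + h x (N *ᵥ y) + h (N *ᵥ x) (N *ᵥ y) = 0 := fun x y => by
    have h1 := hB x y
    rw [hBx, hBx, hs.add_left, hs.add_right, hs.add_right] at h1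
    linear_combination h1
  have k2 : ∀ x y, h (N *ᵥ x) (N *ᵥ y) = 0 := fun x y => by
    have h1 := k1 x (N *ᵥ y)
    rwa [hNN, hs.zero_right, hs.zero_right, add_zero, add_zero] at h1
  refine Units.ext (sub_eq_zero.1 ?_)
  rw [Units.val_one, ← hN]
  by_contra h0
  obtain ⟨x₀, hx₀⟩ : ∃ x, N *ᵥ x ≠ 0 := by
    by_contra hall
    push Not at hall
    exact h0 (Matrix.ext_iff_mulVec.2 fun x => by rw [hall, Matrix.zero_mulVec])
  obtain ⟨z, hz⟩ : ∃ z, z = N *ᵥ x₀ := ⟨_, rfl⟩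
  rw [← hz] at hx₀
  have hzz : h z z = 0 := hz ▸ k2 _ _
  have hprop : ∀ x, ∃ a : F, N *ᵥ x = a • z := fun x =>
    prop_of_singular hs h2 h3 hzz hx₀ (k2 x x) (hz ▸ k2 x x₀)
  obtain ⟨u, -, -, huz, -, -, -, -⟩ := exists_basis_three hs h2 h3 hzz hx₀
  have hu0 : N *ᵥ u = 0 := by
    obtain ⟨a, ha⟩ := hprop u
    have h1 := k1 u u
    rw [k2, add_zero, hs.symm u, ← two_mul, ha, hs.smul_left, hs.symm z u, huz, mul_one] at h1
    rw [ha, (mul_eq_zero.1 h1).resolve_left h2, zero_smul]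
  have h1 := k1 x₀ u
  rw [← hz, hu0, hs.zero_right, hs.zero_right, add_zero, add_zero, hs.symm, huz] at h1
  exact one_ne_zero h1

/-- An isometry with nilpotent displacement fixing an anisotropic vector is trivial. -/
theorem eq_one_of_fix {B : GL β F} (hB : B ∈ iso h) {v : W} (hv : h v v ≠ 0) (hBv : (B : Mb) *ᵥ v = v) {n : ℕ}
    (hn : ((B : Mb) - 1) ^ n = 0) : B = 1 := by
  classical
  obtain ⟨N, hN⟩ : ∃ N : Mb, N = (B : Mb) - 1 := ⟨_, rfl⟩
  rw [← hN] at hn
  have hBx : ∀ x, (B : Mb) *ᵥ x = x + N *ᵥ x := fun x => by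
    rw [hN, Matrix.sub_mulVec, Matrix.one_mulVec]; abel
  have hNv : N *ᵥ v = 0 := by rw [hN, Matrix.sub_mulVec, Matrix.one_mulVec, hBv, sub_self]
  refine eq_one_of_sq hs h2 h3 hB ?_
  rw [← hN]
  by_contra h0
  obtain ⟨x₀, hx₀⟩ : ∃ x, (N * N) *ᵥ x ≠ 0 := by
    by_contra hall
    push Not at hall
    exact h0 (Matrix.ext_iff_mulVec.2 fun x => by rw [hall, Matrix.zero_mulVec])
  obtain ⟨j, hj⟩ : ∃ j, j = Nat.find (p := fun j => (N ^ j) *ᵥ x₀ = 0) ⟨n, by rw [hn, Matrix.zero_mulVec]⟩ :=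
    ⟨_, rfl⟩
  have hjs : (N ^ j) *ᵥ x₀ = 0 := hj ▸ Nat.find_spec (p := fun j => (N ^ j) *ᵥ x₀ = 0) _
  have hjm : ∀ i, i < j → (N ^ i) *ᵥ x₀ ≠ 0 := fun i hi => Nat.find_min (p := fun j => (N ^ j) *ᵥ x₀ = 0) _ (hj ▸ hi)
  have h3j : 3 ≤ j := by
    by_contra hc
    interval_cases j
    · simp only [pow_zero, Matrix.one_mulVec] at hjs; simp [hjs] at hx₀
    · simp only [pow_one] at hjs; simp [← Matrix.mulVec_mulVec, hjs] at hx₀
    · rw [pow_two] at hjs; exact hx₀ hjs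
  obtain ⟨m, rfl⟩ : ∃ m, j = m + 3 := ⟨j - 3, by omega⟩
  obtain ⟨z, hz⟩ : ∃ z, z = (N ^ (m + 2)) *ᵥ x₀ := ⟨_, rfl⟩
  have hz0 : z ≠ 0 := hz ▸ hjm _ (by omega)
  have hNz : N *ᵥ z = 0 := by rw [hz, Matrix.mulVec_mulVec, ← pow_succ']; exact hjs
  have hperp : ∀ w, N *ᵥ w = 0 → ∀ x, h w (N *ᵥ x) = 0 := fun w hw x => by
    have h1 := hB w x
    rw [hBx, hBx, hw, add_zero, hs.add_right] at h1
    linear_combination h1
  have hzi : z = N *ᵥ ((N ^ (m + 1)) *ᵥ x₀) := by rw [hz, Matrix.mulVec_mulVec, ← pow_succ']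
  have hzz : h z z = 0 := by
    conv_lhs => arg 2; rw [hzi]
    exact hperp z hNz _
  have hzv : h z v = 0 := by rw [hzi, hs.symm]; exact hperp v hNv _
  obtain ⟨u, w, huu, huz, hwu, hwz, hww, hb⟩ := exists_basis_three hs h2 h3 hzz hz0
  obtain ⟨a, b, hvb⟩ : ∃ a b : F, v = a • z + b • w :=
    ⟨h v u, (h w w)⁻¹ * h v w, by conv_lhs => rw [hb v, hs.symm v z, hzv, zero_smul, add_zero]⟩
  have hb0 : b ≠ 0 := fun e => hv (by rw [hvb, e, zero_smul, add_zero, hs.smul_left, hs.smul_right, hzz, mul_zero, mul_zero])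
  have hNw : N *ᵥ w = 0 := by
    have h1 := hNv
    rw [hvb, Matrix.mulVec_add, Matrix.mulVec_smul, Matrix.mulVec_smul, hNz, smul_zero, zero_add] at h1
    exact (smul_eq_zero.1 h1).resolve_left hb0
  have hline : ∀ x, ∃ a : F, N *ᵥ x = a • z := fun x => ⟨h (N *ᵥ x) u, by
    conv_lhs => rw [hb (N *ᵥ x), hs.symm (N *ᵥ x) z, hperp z hNz, hs.symm (N *ᵥ x) w, hperp w hNw, mul_zero,
      zero_smul, zero_smul, add_zero, add_zero]⟩
  obtain ⟨a₀, ha₀⟩ := hline x₀
  exact hx₀ (by rw [← Matrix.mulVec_mulVec, ha₀, Matrix.mulVec_smul, hNz, smul_zero])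

/-- The fixed vectors of a regular unipotent element. -/
theorem sieg_fixed {B : GL β F} {z w : W} (hz : h z z = 0) (hz0 : z ≠ 0) (hwz : h w z = 0) (hww : h w w ≠ 0)
    (hB : IsSieg h B z w) {x : W} (hx : (B : Mb) *ᵥ x = x) : ∃ a : F, x = a • z := by
  rw [hB] at hx
  have h1 := congrArg (h · w) hx
  simp only [hs.add_left, hs.sub_left, hs.smul_left, hs.symm z w, hwz, mul_zero, sub_zero] at h1
  have hxz : h x z = 0 := by simpa [hww] using h1
  rw [hxz, zero_smul, add_zero, mul_zero, zero_smul, sub_zero] at hx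
  have hxw : h x w = 0 := by
    have h4 := congrArg (x - ·) hx
    simp only [sub_sub_cancel, sub_self] at h4
    exact (smul_eq_zero.1 h4).resolve_right hz0
  obtain ⟨u, w', -, -, -, hw'z, hw'w, hb⟩ := exists_basis_three hs h2 h3 hz hz0
  obtain ⟨a, b, hwb⟩ : ∃ a b : F, w = a • z + b • w' :=
    ⟨h w u, (h w' w')⁻¹ * h w w', by conv_lhs => rw [hb w, hwz, zero_smul, add_zero]⟩
  have hb0 : b ≠ 0 := fun e => hww (by rw [hwb, e, zero_smul, add_zero, hs.smul_left, hs.smul_right, hz, mul_zero, mul_zero])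
  rw [hwb, hs.add_right, hs.smul_right, hs.smul_right, hxz, mul_zero, zero_add] at hxw
  refine ⟨h x u, ?_⟩
  conv_lhs => rw [hb x, hxz, zero_smul, add_zero, (mul_eq_zero.1 hxw).resolve_left hb0, mul_zero, zero_smul, add_zero]

end dimThree

/-- The tensors fixed by an element at a factor. -/
theorem mem_line_of_fixed {i : κ} {B : GL β F} {v : W} (hv : v ≠ 0)
    (hfix : ∀ x, (B : Mb) *ᵥ x = x → ∃ a : F, x = a • v) {t : V} (ht : (pe i B : Mn) *ᵥ t = t) : t ∈ line i v := by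
  classical
  obtain ⟨T, hT⟩ : ∃ T, T = spV i t := ⟨_, rfl⟩
  have h1 : (k2 (1 : GL (Rst i → β) F) B : Matrix ((Rst i → β) × β) ((Rst i → β) × β) F) *ᵥ T = T := by
    rw [hT, ← sp_pe, sp_mulVec, ht]
  have hrow : ∀ p, (B : Mb) *ᵥ (fun b => T (p, b)) = fun b => T (p, b) := fun p => funext fun b => by
    have h4 := congrFun h1 (p, b)
    simp only [Matrix.mulVec, dotProduct, k2_val, Units.val_one, Matrix.kroneckerMap_apply, Matrix.one_apply,
      Fintype.sum_prod_type, ite_mul, one_mul, zero_mul, Finset.sum_ite_irrel, Finset.sum_const_zero,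
      Finset.sum_ite_eq, Finset.mem_univ, if_true] at h4
    exact h4
  choose r hr using fun p => hfix _ (hrow p)
  refine mem_line_iff.2 ⟨r, ?_⟩
  rw [← hT]
  funext ⟨p, b⟩
  have h4 := congrFun (hr p) b
  simp only [Pi.smul_apply, smul_eq_mul] at h4
  rw [h4]
  rfl

/-- An element at a factor fixes its line. -/
theorem fixed_of_mem_line {i : κ} {B : GL β F} {v : W} (hBv : (B : Mb) *ᵥ v = v) {t : V} (ht : t ∈ line i v) :
    (pe i B : Mn) *ᵥ t = t := by
  obtain ⟨r, hr⟩ := mem_line_iff.1 ht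
  refine (spV i).injective ?_
  rw [← sp_mulVec, sp_pe, hr, k2_mulVec, hBv, Units.val_one, Matrix.one_mulVec]

namespace Px

variable {M : Subgroup (GL (κ → β) F)} (hM : Px c h M)
include hM

/-- An element mapping a line of a singular vector into a line of a factor stabilises the decomposition. -/
theorem mem_Wr_of_line (hodd : Odd (Fintype.card β)) {g : GL X F} (hg : g ∈ M) {i j : κ} {z v : W} (hz : h z z = 0) (hz0 : z ≠ 0) (hv : v ≠ 0)
    (hline : ∀ t ∈ line i z, (g : Mn) *ᵥ t ∈ line j v) : g ∈ Wr F κ β := by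
  classical
  obtain ⟨gs, -, hπ⟩ := hM.exists_perm hodd i j
  obtain ⟨π, hπd⟩ : ∃ π, π = wgl (Equiv.swap i j) gs := ⟨_, rfl⟩
  rw [← hπd] at hπ
  have hk : IsKron (sp i (π * g)) := by
    refine (hM.sl' i).line_kron (hM.noRoot i) (hM.scal i) (hM.kmem i) (mem_Mi.2 (mul_mem hπ hg)) hz hz0
      (v := (gs i : Mb) *ᵥ v) fun x => ?_
    have h1 : ((π * g : GL X F) : Mn) *ᵥ (spV i).symm (tmul x z) ∈ line i ((gs i : Mb) *ᵥ v) := by
      rw [Units.val_mul, ← Matrix.mulVec_mulVec]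
      have h4 : Matrix.toLin' (π : Mn) ((g : Mn) *ᵥ (spV i).symm (tmul x z)) ∈
          (line j v).map (Matrix.toLin' (π : Mn)) := Submodule.mem_map_of_mem
        (hline _ (mem_line_iff.2 ⟨x, LinearEquiv.apply_symm_apply _ _⟩))
      rw [hπd, wgl_line' _ _ _ hv, Equiv.swap_inv, Equiv.swap_apply_right, Matrix.toLin'_apply] at h4
      rwa [hπd]
    obtain ⟨x', hx'⟩ := mem_line_iff.1 h1
    refine ⟨x', ?_⟩
    rw [← LinearEquiv.apply_symm_apply (spV i) (tmul x z), sp_mulVec, hx']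
  have h1 := hM.kron_mem (mul_mem hπ hg) hk
  have := mul_mem ((Wr F κ β).inv_mem (hπd ▸ wgl_mem _ _ : π ∈ Wr F κ β)) h1
  rwa [inv_mul_cancel_left] at this

/-- The centraliser of a regular unipotent element at a factor stabilises the decomposition. -/
theorem cent_sieg (h3 : Fintype.card β = 3) {g : GL X F} (hg : g ∈ M) {l : κ} {B : GL β F} {z w : W}
    (hz : h z z = 0) (hz0 : z ≠ 0) (hwz : h w z = 0) (hww : h w w ≠ 0) (hB : IsSieg h B z w)
    (hcom : g * pe l B = pe l B * g) : g ∈ Wr F κ β := by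
  have hs := hM.data.hh
  refine hM.mem_Wr_of_line (odd_of_three h3) hg hz hz0 hz0 (i := l) (j := l) fun t ht =>
    mem_line_of_fixed hz0 (fun x => sieg_fixed hs hM.data.two h3 hz hz0 hwz hww hB) ?_
  have hBz : (B : Mb) *ᵥ z = z := hs.IsSieg_fix hB hz (by rw [hs.symm]; exact hwz)
  rw [Matrix.mulVec_mulVec, ← Units.val_mul, ← hcom, Units.val_mul, ← Matrix.mulVec_mulVec, fixed_of_mem_line hBz ht]

end Px

end Cfsg.Agent.Classical.TensorPowOrth
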