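import Cfsg.Agent.Lib.Classical.TensorPowOrth.ThreeFus

/-!
Factors of dimension three: the centralisers of products of involutions, and a proper overgroup stabilises the
decomposition.
-/

set_option autoImplicit false
set_option linter.unusedSectionVars false
set_option linter.unusedSimpArgs false
set_option linter.style.haveILetI false

namespace Cfsg.Agent.Classical.TensorPowOrth

open Matrix Module MaxTv TensorMax TensorPow Overfield
open Cfsg.Agent.Classical.TensorOrth (Sym NdOn iso)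

variable {F : Type*} [Field F] [Fintype F] {κ β : Type} [Fintype κ] [DecidableEq κ] [Fintype β] [DecidableEq β]
  {c : F} {h : (β → F) → (β → F) → F}

local notation "X" => (κ → β)
local notation "Mn" => Matrix (κ → β) (κ → β) F
local notation "Mb" => Matrix β β F

theorem mul_invol {G : Type*} [Group G] {a b : G} (ha : a * a = 1) (hb : b * b = 1) (hab : a * b = b * a) :
    a * b * (a * b) = 1 := by
  rw [mul_assoc, ← mul_assoc b, ← hab, mul_assoc, hb, mul_one, ha]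

namespace Px

variable {M : Subgroup (GL (κ → β) F)} (hM : Px c h M) (h3 : Fintype.card β = 3)
include hM h3

theorem wt_unique {g : GL X F} {n m : ℕ} (hg : g * g = 1) (hn : Wt g n) (hm : Wt g m) : n = m :=
  wt_conj hM.data.two h3 (k := 1) hg (by rw [one_mul, inv_one, mul_one]) hn hm

/-- The centraliser of a product of two involutions at distinct factors. -/
theorem cent_two {l m : κ} {a a2 : GL X F} (hlm : l ≠ m) (ha : SI c h l a) (ha2 : SI c h m a2) :
    Cen M (a * a2) := by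
  classical
  intro g hg hgv
  have hT := hM.data
  have haa := hT.si_sq h3 ha
  have ha22 := hT.si_sq h3 ha2
  have hc12 := hT.si_comm h3 hlm ha ha2
  obtain ⟨b0, hb0, hab0, hne⟩ := hT.si_other h3 ha
  have hbb0 := hT.si_sq h3 hb0
  have hsab := (hT.si_mul h3 ha hb0 hab0).resolve_left hne
  have hb0a2 := hT.si_comm h3 hlm hb0 ha2
  obtain ⟨v, hv⟩ : ∃ v, v = a * a2 := ⟨_, rfl⟩
  rw [← hv] at hgv
  have hva : a2 = a * v := by rw [hv, ← mul_assoc, haa, one_mul]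
  have hb0v : b0 * v = a * b0 * a2 := by rw [hv, ← mul_assoc, ← hab0]
  have hW0 : Wt (b0 * v) 4 := hb0v ▸ hT.wt_two h3 hlm hsab ha2
  obtain ⟨C, hC⟩ : ∃ C, C = M ⊓ Subgroup.centralizer {v} := ⟨_, rfl⟩
  have hmemC : ∀ x, x ∈ C ↔ x ∈ M ∧ x * v = v * x := fun x => by
    rw [hC, Subgroup.mem_inf, Subgroup.mem_centralizer_singleton_iff]
  have haC : a ∈ C := (hmemC a).2 ⟨(hM.si_mem h3 ha).1, by rw [hv, mul_assoc, ← hc12]⟩
  have hb0C : b0 ∈ C := (hmemC b0).2 ⟨(hM.si_mem h3 hb0).1, by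
    rw [hv, ← mul_assoc, ← hab0, mul_assoc, hb0a2, ← mul_assoc]⟩
  have hgC : g ∈ C := (hmemC g).2 ⟨hg, hgv⟩
  obtain ⟨b, hb⟩ : ∃ b, b = g * b0 * g⁻¹ := ⟨_, rfl⟩
  have hbC : b ∈ C := hb ▸ mul_mem (mul_mem hgC hb0C) (inv_mem hgC)
  have hbb : b * b = 1 := by
    rw [hb, show g * b0 * g⁻¹ * (g * b0 * g⁻¹) = g * (b0 * b0) * g⁻¹ by group, hbb0, mul_one, mul_inv_cancel]
  have hcv : ∀ k ∈ C, ∀ x, k * (x * v) * k⁻¹ = k * x * k⁻¹ * v := fun k hk x => by
    rw [show k * (x * v) * k⁻¹ = k * x * (v * k⁻¹) by group,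
      show v * k⁻¹ = k⁻¹ * v from ((hmemC _).1 (inv_mem hk)).2.symm, ← mul_assoc]
  have hb0vs : b0 * v * (b0 * v) = 1 := by
    rw [hb0v]; exact mul_invol (hT.si_sq h3 hsab) ha22 (hT.si_comm h3 hlm hsab ha2)
  have hbv : b * v = g * (b0 * v) * g⁻¹ := by rw [hcv g hgC, ← hb]
  have hnc : ∀ k ∈ C, k * a * k⁻¹ ≠ b := fun k hk e => by
    have h1 : (g⁻¹ * k) * a2 * (g⁻¹ * k)⁻¹ = b0 * v := by
      rw [hva, show g⁻¹ * k * (a * v) * (g⁻¹ * k)⁻¹ = g⁻¹ * (k * (a * v) * k⁻¹) * g by group, hcv k hk, e, hbv]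
      group
    have := wt_conj hT.two h3 ha22 h1 (hT.wt_si h3 ha2) hW0
    omega
  obtain ⟨z, hzC, hz1, hza, hzb, hcase⟩ := dih_split haa hbb haC hbC hnc
  have hzM := ((hmemC z).1 hzC).1
  have hzv := ((hmemC z).1 hzC).2
  have hzW := hM.cent_si h3 ha hzM hza
  obtain ⟨σ, hσ⟩ : ∃ σ, σ = a * z := ⟨_, rfl⟩
  have hσW : σ ∈ Wr F κ β := hσ ▸ mul_mem (hM.si_mem h3 ha).2 hzW
  have hσa : σ * a = a * σ := by rw [hσ, mul_assoc, hza]
  have hσv : σ * v = v * σ := by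
    rw [hσ, mul_assoc, hzv, ← mul_assoc, ((hmemC a).1 haC).2, mul_assoc]
  have hσa2 : σ * a2 = a2 * σ := by rw [hva, ← mul_assoc, hσa, mul_assoc, hσv, ← mul_assoc]
  have hzσ : z = a * σ := by rw [hσ, ← mul_assoc, haa, one_mul]
  have hfin : b ∈ Wr F κ β → g ∈ Wr F κ β := fun hbW => hM.fus_si h3 hb0 hg (hb ▸ hbW)
  rcases hcase with ⟨k, hk, hka, hkb⟩ | ⟨k, hk, hkb, -⟩
  · rw [← hσ] at hka
    have hkM := ((hmemC k).1 hk).1
    have hkW := hM.fus_si h3 ha hkM (hka ▸ hσW)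
    obtain ⟨p, hp⟩ := hT.si_conj h3 ha hkW (hM.iso_mem hkM)
    rw [hka] at hp
    obtain ⟨q, hq⟩ := hT.si_conj h3 ha2 hkW (hM.iso_mem hkM)
    have hσv' : k * a2 * k⁻¹ = σ * v := by rw [hva, hcv k hk, hka]
    rw [hσv'] at hq
    have hW2 := hT.wt_si h3 hq
    have hqq := hT.si_sq h3 hq
    exfalso
    by_cases hpl : p = l
    · subst hpl
      rcases hT.si_mul h3 hp ha hσa with e | hs
      · exact hz1 (by rw [hzσ, e, haa])
      · have h4 : σ * v = σ * a * a2 := by rw [hv, mul_assoc]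
        have := hM.wt_unique h3 hqq hW2 (h4 ▸ hT.wt_two h3 hlm hs ha2)
        omega
    by_cases hpm : p = m
    · subst hpm
      rcases hT.si_mul h3 hp ha2 hσa2 with e | hs
      · have hzv' : z = v := by rw [hzσ, e, hv]
        have h5 : g⁻¹ * k * g * b0 * (g⁻¹ * k * g)⁻¹ = b0 * v := by
          rw [show g⁻¹ * k * g * b0 * (g⁻¹ * k * g)⁻¹ = g⁻¹ * (k * (g * b0 * g⁻¹) * k⁻¹) * g by group, ← hb, hkb,
            hzv', hbv]
          group
        have := wt_conj hT.two h3 hbb0 h5 (hT.wt_si h3 hb0) hW0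
        omega
      · have h4 : σ * v = a * (σ * a2) := by rw [hv, ← mul_assoc, hσa, mul_assoc]
        have := hM.wt_unique h3 hqq hW2 (h4 ▸ hT.wt_two h3 hlm ha hs)
        omega
    have h4 : σ * v = σ * a * a2 := by rw [hv, mul_assoc]
    have := hM.wt_unique h3 hqq hW2 (h4 ▸ hT.wt_three h3 hpl hpm hlm hp ha ha2)
    omega
  · rw [← hσ] at hkb
    have hkgC := mul_mem hk hgC
    have hkg := ((hmemC _).1 hkgC).1
    have he : k * g * b0 * (k * g)⁻¹ = σ := by rw [← hkb, hb]; group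
    have hkgW := hM.fus_si h3 hb0 hkg (he ▸ hσW)
    obtain ⟨p, hp⟩ := hT.si_conj h3 hb0 hkgW (hM.iso_mem hkg)
    rw [he] at hp
    have hσv' : k * g * (b0 * v) * (k * g)⁻¹ = σ * v := by rw [hcv _ hkgC, he]
    have hvW : v ∈ Wr F κ β := hv ▸ mul_mem (hM.si_mem h3 ha).2 (hM.si_mem h3 ha2).2
    have hW4 := hM.wt_of_conj h3 hb0vs hσv' (mul_mem hσW hvW) hW0
    have hσσ : σ * v * (σ * v) = 1 := mul_invol (hT.si_sq h3 hp) (hv ▸ mul_invol haa ha22 hc12) hσv
    by_cases hpl : p = l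
    · subst hpl
      rcases hT.si_mul h3 ha hp hσa.symm with e | hs
      · exact absurd (by rw [hzσ, ← e, haa]) hz1
      · exact hfin (hM.cent_si h3 (hzσ.symm ▸ hs) ((hmemC b).1 hbC).1 hzb.symm)
    by_cases hpm : p = m
    · subst hpm
      rcases hT.si_mul h3 hp ha2 hσa2 with e | hs
      · have h4 : σ * v = a := by rw [hv, e, hc12, ← mul_assoc, ha22, one_mul]
        have := hM.wt_unique h3 hσσ hW4 (h4 ▸ hT.wt_si h3 ha)
        omega
      · have h4 : z * v = σ * a2 := by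
          rw [hzσ, hv, ← mul_assoc, mul_assoc a, hσa, ← mul_assoc, haa, one_mul]
        refine hfin (hM.cent_si h3 (h4.symm ▸ hs) ((hmemC b).1 hbC).1 ?_)
        rw [← mul_assoc, ← hzb, mul_assoc, ((hmemC b).1 hbC).2, ← mul_assoc]
    have h4 : σ * v = σ * a * a2 := by rw [hv, mul_assoc]
    have := hM.wt_unique h3 hσσ hW4 (h4 ▸ hT.wt_three h3 hpl hpm hlm hp ha ha2)
    omega

/-- A product of two commuting involutions at factors. -/
theorem cen_mul {l p : κ} {a σ : GL X F} (ha : SI c h l a) (hσ : SI c h p σ) (hc' : a * σ = σ * a)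
    (hne : a * σ ≠ 1) : Cen M (a * σ) := by
  have hT := hM.data
  by_cases e : l = p
  · subst e
    rcases hT.si_mul h3 ha hσ hc' with rfl | hs
    · exact absurd (hT.si_sq h3 ha) hne
    · exact fun g hg hgc => hM.cent_si h3 hs hg hgc
  · exact hM.cent_two h3 e ha hσ

/-- The centraliser of a product of three involutions at distinct factors. -/
theorem cent_three {l m n : κ} {a a2 a3 : GL X F} (hlm : l ≠ m) (hln : l ≠ n) (hmn : m ≠ n) (ha : SI c h l a)
    (ha2 : SI c h m a2) (ha3 : SI c h n a3) : Cen M (a * a2 * a3) := by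
  classical
  intro g hg hgw
  have hT := hM.data
  have haa := hT.si_sq h3 ha
  obtain ⟨b0, hb0, hab0, hne⟩ := hT.si_other h3 ha
  have hsab := (hT.si_mul h3 ha hb0 hab0).resolve_left hne
  have hbb0 := hT.si_sq h3 hb0
  have c12 := hT.si_comm h3 hlm ha ha2
  have c13 := hT.si_comm h3 hln ha ha3
  have d12 := hT.si_comm h3 hlm hb0 ha2
  have d13 := hT.si_comm h3 hln hb0 ha3
  have c23 := hT.si_comm h3 hmn ha2 ha3
  obtain ⟨w, hw⟩ : ∃ w, w = a * a2 * a3 := ⟨_, rfl⟩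
  rw [← hw] at hgw
  obtain ⟨C, hC⟩ : ∃ C, C = M ⊓ Subgroup.centralizer {w} := ⟨_, rfl⟩
  have hmemC : ∀ x, x ∈ C ↔ x ∈ M ∧ x * w = w * x := fun x => by
    rw [hC, Subgroup.mem_inf, Subgroup.mem_centralizer_singleton_iff]
  have hcomm : ∀ x, x * a = a * x → x * a2 = a2 * x → x * a3 = a3 * x → x * w = w * x := fun x e1 e2 e3 => by
    rw [hw, ← mul_assoc, ← mul_assoc, e1, mul_assoc a, e2, mul_assoc a (a2 * x), mul_assoc a2, e3, ← mul_assoc,
      ← mul_assoc]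
  have haC : a ∈ C := (hmemC a).2 ⟨(hM.si_mem h3 ha).1, hcomm a rfl c12 c13⟩
  have hb0C : b0 ∈ C := (hmemC b0).2 ⟨(hM.si_mem h3 hb0).1, hcomm b0 hab0.symm d12 d13⟩
  have hgC : g ∈ C := (hmemC g).2 ⟨hg, hgw⟩
  obtain ⟨b, hb⟩ : ∃ b, b = g * b0 * g⁻¹ := ⟨_, rfl⟩
  have hbC : b ∈ C := hb ▸ mul_mem (mul_mem hgC hb0C) (inv_mem hgC)
  have hbb : b * b = 1 := by
    rw [hb, show g * b0 * g⁻¹ * (g * b0 * g⁻¹) = g * (b0 * b0) * g⁻¹ by group, hbb0, mul_one, mul_inv_cancel]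
  have hcv : ∀ k ∈ C, ∀ x, k * (x * w) * k⁻¹ = k * x * k⁻¹ * w := fun k hk x => by
    rw [show k * (x * w) * k⁻¹ = k * x * (w * k⁻¹) by group,
      show w * k⁻¹ = k⁻¹ * w from ((hmemC _).1 (inv_mem hk)).2.symm, ← mul_assoc]
  have e2 : a * w = a2 * a3 := by rw [hw, ← mul_assoc, ← mul_assoc, haa, one_mul]
  have e3 : b0 * w = a * b0 * a2 * a3 := by rw [hw, ← mul_assoc, ← mul_assoc, ← hab0]
  have hnc : ∀ k ∈ C, k * a * k⁻¹ ≠ b := fun k hk e => by
    have h1 : (g⁻¹ * k) * (a * w) * (g⁻¹ * k)⁻¹ = b0 * w := by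
      rw [show g⁻¹ * k * (a * w) * (g⁻¹ * k)⁻¹ = g⁻¹ * (k * (a * w) * k⁻¹) * g by group, hcv k hk, e, hb,
        ← hcv g hgC]
      group
    have := wt_conj hT.two h3 (by rw [e2]; exact mul_invol (hT.si_sq h3 ha2) (hT.si_sq h3 ha3) c23) h1
      (e2 ▸ hT.wt_two h3 hmn ha2 ha3) (e3 ▸ hT.wt_three h3 hlm hln hmn hsab ha2 ha3)
    omega
  obtain ⟨z, hzC, hz1, hza, hzb, hcase⟩ := dih_split haa hbb haC hbC hnc
  have hzM := ((hmemC z).1 hzC).1
  have hσW : a * z ∈ Wr F κ β := mul_mem (hM.si_mem h3 ha).2 (hM.cent_si h3 ha hzM hza)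
  obtain ⟨p, hp⟩ : ∃ p, SI c h p (a * z) := by
    rcases hcase with ⟨k, hk, hka, -⟩ | ⟨k, hk, hkb, -⟩
    · have hkM := ((hmemC k).1 hk).1
      obtain ⟨p, hp⟩ := hT.si_conj h3 ha (hM.fus_si h3 ha hkM (hka ▸ hσW)) (hM.iso_mem hkM)
      exact ⟨p, hka ▸ hp⟩
    · have hkg := mul_mem ((hmemC k).1 hk).1 hg
      have he : k * g * b0 * (k * g)⁻¹ = a * z := by rw [← hkb, hb]; group
      obtain ⟨p, hp⟩ := hT.si_conj h3 hb0 (hM.fus_si h3 hb0 hkg (he ▸ hσW)) (hM.iso_mem hkg)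
      exact ⟨p, he ▸ hp⟩
  have e4 : a * (a * z) = z := by rw [← mul_assoc, haa, one_mul]
  have hcen := hM.cen_mul h3 ha hp (by rw [mul_assoc a z a, hza]) (by rw [e4]; exact hz1)
  rw [e4] at hcen
  exact hM.fus_si h3 hb0 hg (hb ▸ hcen b ((hmemC b).1 hbC).1 hzb.symm)

/-- An element conjugating a product of two involutions to an element with a fixed factor. -/
theorem fus_two_fixed {l m p : κ} {a a2 k : GL X F} (hlm : l ≠ m) (ha : SI c h l a) (ha2 : SI c h m a2)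
    (hk : k ∈ M) {σ : Equiv.Perm κ} {gs : κ → GL β F} (he : k * (a * a2) * k⁻¹ = wgl σ gs) (hp : σ p = p) :
    k ∈ Wr F κ β := by
  classical
  have hT := hM.data
  haveI : Nontrivial β := Fintype.one_lt_card_iff_nontrivial.1 (by omega)
  haveI : Nonempty β := inferInstance
  have hvv := mul_invol (hT.si_sq h3 ha) (hT.si_sq h3 ha2) (hT.si_comm h3 hlm ha ha2)
  have hsq : wgl σ gs * wgl σ gs = 1 := by
    rw [← he, show k * (a * a2) * k⁻¹ * (k * (a * a2) * k⁻¹) = k * (a * a2 * (a * a2)) * k⁻¹ by group, hvv,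
      mul_one, mul_inv_cancel]
  have hM' : wgl σ gs ∈ M :=
    he ▸ mul_mem (mul_mem hk (mul_mem (hM.si_mem h3 ha).1 (hM.si_mem h3 ha2).1)) (inv_mem hk)
  obtain ⟨A, B, -, hB, hAB⟩ := hT.split_iso (odd_of_three h3) (i := p) (hM.iso_mem hM') (by
    rw [sp_wgl σ hp, isKron_iff]; exact ⟨_, _, rfl⟩)
  obtain ⟨r, hr⟩ : ∃ r : F, (B : Mb) * (B : Mb) = r • 1 := by
    have h1 := congrArg (fun x => (sp p x : Matrix ((Rst p → β) × β) ((Rst p → β) × β) F)) hsq
    simp only [map_mul, map_one, hAB, k2_mul, Units.val_one, k2_val] at h1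
    obtain ⟨x₀, y₀, hA0⟩ : ∃ x₀ y₀, ((A * A : GL (Rst p → β) F) : Matrix (Rst p → β) (Rst p → β) F) x₀ y₀ ≠ 0 := by
      by_contra hc
      push Not at hc
      exact Units.ne_zero (A * A) (Matrix.ext hc)
    refine ⟨(if x₀ = y₀ then 1 else 0) / ((A * A : GL (Rst p → β) F) : Matrix (Rst p → β) (Rst p → β) F) x₀ y₀, ?_⟩
    ext u v
    have h4 := congrFun (congrFun h1 (x₀, u)) (y₀, v)
    rw [Matrix.kroneckerMap_apply, Matrix.one_apply, Units.val_mul B B] at h4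
    rw [Matrix.smul_apply, smul_eq_mul, Matrix.one_apply, div_mul_eq_mul_div, eq_div_iff hA0, mul_comm, h4]
    simp only [Prod.mk.injEq]
    by_cases e1 : x₀ = y₀ <;> by_cases e2 : u = v <;> simp [e1, e2]
  have hB1 : B * B = 1 := by
    obtain ⟨b⟩ := ‹Nonempty β›
    obtain ⟨w, -, hw⟩ := hT.hh.exists_aniso hT.two hT.hh.ndOn_top ⟨Pi.single b 1, trivial, by simp⟩
    have h1 := mul_mem hB hB w w
    rw [Units.val_mul, hr, Matrix.smul_mulVec, Matrix.one_mulVec, hT.hh.smul_left, hT.hh.smul_right] at h1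
    have hr2 : r * r = 1 := mul_right_cancel₀ hw (by rw [mul_assoc, h1, one_mul])
    have h4 := congrArg Matrix.det hr
    rw [Matrix.det_mul, Matrix.det_smul, Matrix.det_one, mul_one, h3] at h4
    obtain ⟨G, hG⟩ : ∃ G, G = (gram h).det := ⟨_, rfl⟩
    have hd : (B : Mb).det * (B : Mb).det = 1 := by
      have hm : (B : Mb)ᵀ * (gram h * (B : Mb)) = gram h := Matrix.ext fun i j => by
        have h1 : ((B : Mb)ᵀ * (gram h * (B : Mb))) i j =
            h ((B : Mb) *ᵥ Pi.single i 1) ((B : Mb) *ᵥ Pi.single j 1) := by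
          rw [← apply_gram hT.hh, Matrix.mulVec_single_one, Matrix.mulVec_single_one]
          rfl
        rw [h1, hB]
        rfl
      have h5 := congrArg Matrix.det hm
      rw [Matrix.det_mul, Matrix.det_mul, Matrix.det_transpose] at h5
      refine mul_right_cancel₀ hT.gram_det_ne ?_
      linear_combination h5
    refine Units.ext ?_
    rw [Units.val_mul, Units.val_one, hr, show r = 1 by linear_combination (-h4) + hd - r * hr2, one_smul]
  obtain ⟨w, ε, hε, hw, hBw⟩ := hT.exists_eigvec h3 hB hB1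
  obtain ⟨Z, hZi, hZ⟩ := hT.exists_rot (v := w) (hw ▸ hT.gram_det_ne)
  have hζ : SI c h p (pe p Z) := hT.si_of_val h3 p hw hZi hZ
  have hBZ : B * Z = Z * B := by
    refine Units.ext (Matrix.ext_iff_mulVec.2 fun x => ?_)
    rw [Units.val_mul, Units.val_mul, ← Matrix.mulVec_mulVec, ← Matrix.mulVec_mulVec, hZ, hZ, Matrix.mulVec_sub,
      Matrix.mulVec_smul, hBw, smul_smul]
    congr 2
    have h1 : h x w = ε * h ((B : Mb) *ᵥ x) w := by
      rw [← hT.hh.smul_right, ← hBw, hB]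
    rw [h1]
    rcases hε with rfl | rfl <;> ring
  have hcom : pe p Z * wgl σ gs = wgl σ gs * pe p Z :=
    (sp p).injective (by rw [map_mul, map_mul, hAB, sp_pe, k2_mul, k2_mul, one_mul, mul_one, hBZ])
  have hζM := (hM.si_mem h3 hζ).1
  have hbk : k⁻¹ * pe p Z * k * (a * a2) = a * a2 * (k⁻¹ * pe p Z * k) := by
    rw [show k⁻¹ * pe p Z * k * (a * a2) = k⁻¹ * (pe p Z * (k * (a * a2) * k⁻¹)) * k by group, he, hcom, ← he]
    group
  have hW := hM.cent_two h3 hlm ha ha2 _ (mul_mem (mul_mem (inv_mem hk) hζM) hk) hbk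
  have := hM.fus_si h3 hζ (inv_mem hk) (by rwa [inv_inv])
  simpa using (Wr F κ β).inv_mem this

omit hM in
theorem mem_pair_of_comm (hT : TData c h) {l m : κ} {a a2 : GL X F} (hlm : l ≠ m) (ha : SI c h l a)
    (ha2 : SI c h m a2) {τ : Equiv.Perm κ} {ts : κ → GL β F} (hτ : wgl τ ts * (a * a2) = a * a2 * wgl τ ts)
    {x : κ} (hx : τ x = l ∨ τ x = m) : x = l ∨ x = m := by
  classical
  haveI : Nontrivial β := Fintype.one_lt_card_iff_nontrivial.1 (by omega)
  obtain ⟨v, A, hv, hA, -, -, rfl⟩ := ha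
  obtain ⟨w, A2, hw, hA2, -, -, rfl⟩ := ha2
  obtain ⟨f, hf⟩ : ∃ f, f = Function.update (Function.update (1 : κ → GL β F) l A) m A2 := ⟨_, rfl⟩
  have e : pe l A * pe m A2 = wgl 1 f := hf ▸ wgl1_mul_pe _ (by rw [Function.update_of_ne hlm.symm]; rfl) A2
  rw [e, wgl_mul, wgl_mul] at hτ
  obtain ⟨r, -, hr⟩ := (wgl_unique hτ).2 x
  simp only [Equiv.Perm.one_apply, Units.val_mul] at hr
  by_contra hc
  rw [not_or] at hc
  have hfx : f x = 1 := by rw [hf, Function.update_of_ne hc.2, Function.update_of_ne hc.1]; rfl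
  rw [hfx, Units.val_one, one_mul] at hr
  have hns : ∀ q : F, (f (τ x) : Mb) ≠ q • 1 := by
    rcases hx with e' | e' <;> rw [e', hf]
    · rw [Function.update_of_ne hlm, Function.update_self]; exact hT.rot_nonscalar hv hA
    · rw [Function.update_self]; exact hT.rot_nonscalar hw hA2
  have hr0 : r ≠ 0 := fun e0 => Units.ne_zero (ts x) (by rw [hr, e0, zero_smul])
  refine hns r⁻¹ ?_
  have h4 := congrArg (fun D => ((ts x)⁻¹ : GL β F).1 * D) hr
  simp only [Matrix.mul_smul, ← mul_assoc, ← Units.val_mul, inv_mul_cancel, Units.val_one, one_mul] at h4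
  rw [h4, inv_smul_smul₀ hr0]

/-- An element conjugating a product of two involutions into the stabiliser is in the stabiliser. -/
theorem fus_two {l m : κ} {a a2 g : GL X F} (hlm : l ≠ m) (ha : SI c h l a) (ha2 : SI c h m a2) (hg : g ∈ M)
    (hgv : g * (a * a2) * g⁻¹ ∈ Wr F κ β) : g ∈ Wr F κ β := by
  classical
  have hT := hM.data
  haveI : Nontrivial β := Fintype.one_lt_card_iff_nontrivial.1 (by omega)
  obtain ⟨σ, gs, hσ⟩ := hgv
  replace hσ : g * (a * a2) * g⁻¹ = wgl σ gs := hσ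
  by_cases hp : ∃ p, σ p = p
  · obtain ⟨p, hp⟩ := hp
    exact hM.fus_two_fixed h3 hlm ha ha2 hg hσ hp
  push Not at hp
  by_contra hgW
  have hvv := mul_invol (hT.si_sq h3 ha) (hT.si_sq h3 ha2) (hT.si_comm h3 hlm ha ha2)
  have hs2 : wgl σ gs * wgl σ gs = 1 := by
    rw [← hσ, show g * (a * a2) * g⁻¹ * (g * (a * a2) * g⁻¹) = g * (a * a2 * (a * a2)) * g⁻¹ by group, hvv,
      mul_one, mul_inv_cancel]
  have hs'M : wgl σ gs ∈ M :=
    hσ ▸ mul_mem (mul_mem hg (mul_mem (hM.si_mem h3 ha).1 (hM.si_mem h3 ha2).1)) (inv_mem hg)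
  have hcard : Fintype.card κ = 4 := by
    obtain ⟨τ, ts, he, hn⟩ := hM.wt_of_conj h3 hvv hσ (wgl_mem _ _) (hT.wt_two h3 hlm ha ha2)
    obtain ⟨rfl, -⟩ := wgl_unique he
    rw [nsw_eq σ ts ∅ (fun x => by simp [hp x]), Finset.filter_true_of_mem (fun x _ => hp x), Finset.card_univ,
      Finset.card_empty, mul_zero, add_zero] at hn
    exact hn
  obtain ⟨s', hs'⟩ : ∃ s', s' = wgl σ gs := ⟨_, rfl⟩
  rw [← hs'] at hs2 hs'M hσ
  have hs'inv : s'⁻¹ = s' := inv_eq_of_mul_eq_one_right hs2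
  have hji : σ⁻¹ l ≠ l := fun e => hp l (by
    conv_lhs => rw [← e]
    exact perm_apply_inv σ l)
  have hsi : ∀ r, SI c h l r → SI c h (σ⁻¹ l) (s' * r * s') := fun r hr => by
    have h4 := hT.si_conj_at h3 hr (gs := gs) (σ := σ) (hM.iso_mem (hs' ▸ hs'M))
    rwa [← hs', hs'inv] at h4
  obtain ⟨E, hE⟩ : ∃ E : GL X F → GL X F, ∀ r, E r = g⁻¹ * (r * (s' * r * s')) * g := ⟨_, fun _ => rfl⟩
  have hEsh : ∀ r, SI c h l r → ∃ τ ts, E r = wgl τ ts ∧ (∀ x, τ x ≠ x) ∧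
      ∀ x, (τ x = l ∨ τ x = m) → x = l ∨ x = m := fun r hr => by
    have hc : Commute r (s' * r * s') := hT.si_comm h3 hji.symm hr (hsi r hr)
    have hd : r * (s' * r * s') * s' = s' * (r * (s' * r * s')) := by
      rw [show s' * (r * (s' * r * s')) = (s' * r * s') * r * s' by group, ← hc.eq]
    have hEM : E r ∈ M := hE r ▸ mul_mem (mul_mem (inv_mem hg)
      (mul_mem (hM.si_mem h3 hr).1 (hM.si_mem h3 (hsi r hr)).1)) hg
    have hEc : E r * (a * a2) = a * a2 * E r := by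
      rw [hE, show g⁻¹ * (r * (s' * r * s')) * g * (a * a2) =
        g⁻¹ * (r * (s' * r * s') * (g * (a * a2) * g⁻¹)) * g by group, hσ, hd, ← hσ]
      group
    obtain ⟨τ, ts, hτ⟩ := hM.cent_two h3 hlm ha ha2 _ hEM hEc
    replace hτ : E r = wgl τ ts := hτ
    refine ⟨τ, ts, hτ, fun x hx => hgW ?_, fun x hx => mem_pair_of_comm h3 hT hlm ha ha2 (hτ ▸ hEc) hx⟩
    have := hM.fus_two_fixed h3 hji.symm hr (hsi r hr) (inv_mem hg) (σ := τ) (gs := ts)
      (by rw [inv_inv, ← hτ, hE]) hx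
    simpa using (Wr F κ β).inv_mem this
  obtain ⟨a', ha'⟩ := hT.exists_si h3 l
  obtain ⟨b', hb', hab, hne⟩ := hT.si_other h3 ha'
  have hab' := (hT.si_mul h3 ha' hb' hab).resolve_left hne
  obtain ⟨τa, ta, hta, fa, pa⟩ := hEsh a' ha'
  obtain ⟨τb, tb, htb, fb, pb⟩ := hEsh b' hb'
  obtain ⟨τc, tc, htc, fc, pc⟩ := hEsh _ hab'
  obtain ⟨S, hS⟩ : ∃ S : Finset κ, S = ({l, m} : Finset κ) := ⟨_, rfl⟩
  have huniq : ∀ τ τ' : Equiv.Perm κ, (∀ x, τ x ≠ x) → (∀ x, (τ x = l ∨ τ x = m) → x = l ∨ x = m) →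
      (∀ x, τ' x ≠ x) → (∀ x, (τ' x = l ∨ τ' x = m) → x = l ∨ x = m) → τ = τ' := by
    intro τ τ' f p f' p'
    have key : ∀ τ : Equiv.Perm κ, (∀ x, (τ x = l ∨ τ x = m) → x = l ∨ x = m) →
        ∀ x, (x ∈ S ↔ τ x ∈ S) := fun τ p x => by
      have h1 : (Finset.univ.filter fun x => τ x ∈ S) = S := by
        refine Finset.eq_of_subset_of_card_le (fun x hx => ?_) (le_of_eq ?_)
        · simp only [hS, Finset.mem_filter, Finset.mem_univ, true_and, Finset.mem_insert, Finset.mem_singleton] at hx ⊢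
          exact p x hx
        · refine Finset.card_bij (fun y _ => τ⁻¹ y) (fun y hy => by simp [perm_apply_inv, hy])
            (fun _ _ _ _ e => τ⁻¹.injective e) fun y hy => ⟨τ y, by simpa using hy, perm_inv_apply τ y⟩
      conv_lhs => rw [← h1]
      simp
    have hother : ∀ x, (Finset.univ.filter fun y => y ≠ x ∧ (y ∈ S ↔ x ∈ S)).card = 1 := fun x => by
      have hS2 : S.card = 2 := hS ▸ Finset.card_pair hlm
      by_cases hx : x ∈ S
      · rw [show (Finset.univ.filter fun y => y ≠ x ∧ (y ∈ S ↔ x ∈ S)) = S.erase x by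
          ext y; simp [hx, and_comm], Finset.card_erase_of_mem hx, hS2]
      · rw [show (Finset.univ.filter fun y => y ≠ x ∧ (y ∈ S ↔ x ∈ S)) = Sᶜ.erase x by
          ext y; simp [hx, and_comm], Finset.card_erase_of_mem (by simpa using hx), Finset.card_compl, hS2, hcard]
    refine Equiv.ext fun x => Finset.card_le_one.1 (hother x).le _ ?_ _ ?_
    · simp only [Finset.mem_filter, Finset.mem_univ, true_and]
      exact ⟨f x, (key τ p x).symm⟩
    · simp only [Finset.mem_filter, Finset.mem_univ, true_and]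
      exact ⟨f' x, (key τ' p' x).symm⟩
  obtain ⟨u', A', -, -, -, -, hA'⟩ := id ha'
  obtain ⟨u'', B', -, -, -, -, hB'⟩ := id hb'
  have hmul : E a' * E b' = E (a' * b') := by
    rw [hE, hE, hE]
    calc g⁻¹ * (a' * (s' * a' * s')) * g * (g⁻¹ * (b' * (s' * b' * s')) * g)
        = g⁻¹ * (a' * ((s' * a' * s') * b') * (s' * b' * s')) * g := by group
      _ = g⁻¹ * (a' * (b' * (s' * a' * s')) * (s' * b' * s')) * g := by
          rw [hT.si_comm h3 hji (hsi a' ha') hb']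
      _ = g⁻¹ * (a' * b' * (s' * a' * (s' * s') * b' * s')) * g := by group
      _ = _ := by rw [hs2, mul_one]; group
  rw [hta, htb, htc, wgl_mul] at hmul
  have h4 := (wgl_unique hmul).1
  rw [huniq τa τc fa pa fc pc, huniq τb τc fb pb fc pc, mul_eq_left] at h4
  exact fc l (by rw [h4]; rfl)

/-- For factors of dimension three the overgroup stabilises the decomposition. -/
theorem le_Wr_three : M ≤ Wr F κ β := by
  classical
  intro g hg
  have hT := hM.data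
  obtain ⟨l, m, hlm⟩ := Fintype.exists_pair_of_one_lt_card (α := κ) (by have := hM.ht; omega)
  obtain ⟨a, ha⟩ := hT.exists_si h3 l
  obtain ⟨a2, ha2⟩ := hT.exists_si h3 m
  have hc12 := hT.si_comm h3 hlm ha ha2
  have haa := hT.si_sq h3 ha
  have ha22 := hT.si_sq h3 ha2
  obtain ⟨v, hv⟩ : ∃ v, v = a * a2 := ⟨_, rfl⟩
  have hvv : v * v = 1 := hv ▸ mul_invol haa ha22 hc12
  have hvM : v ∈ M := hv ▸ mul_mem (hM.si_mem h3 ha).1 (hM.si_mem h3 ha2).1
  have hW4 : Wt v 4 := hv ▸ hT.wt_two h3 hlm ha ha2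
  obtain ⟨b, hb⟩ : ∃ b, b = g * v * g⁻¹ := ⟨_, rfl⟩
  have hbb : b * b = 1 := by
    rw [hb, show g * v * g⁻¹ * (g * v * g⁻¹) = g * (v * v) * g⁻¹ by group, hvv, mul_one, mul_inv_cancel]
  have hbM : b ∈ M := hb ▸ mul_mem (mul_mem hg hvM) (inv_mem hg)
  have hnc : ∀ k ∈ M, k * a * k⁻¹ ≠ b := fun k hk e => by
    have h1 : g⁻¹ * k * a * (g⁻¹ * k)⁻¹ = v := by
      rw [show g⁻¹ * k * a * (g⁻¹ * k)⁻¹ = g⁻¹ * (k * a * k⁻¹) * g by group, e, hb]
      group
    have := wt_conj hT.two h3 haa h1 (hT.wt_si h3 ha) hW4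
    omega
  obtain ⟨z, hzM, hz1, hza, hzb, hcase⟩ := dih_split haa hbb (hM.si_mem h3 ha).1 hbM hnc
  rcases hcase with ⟨k, hk, hka, -⟩ | ⟨k, hk, -, hka⟩
  · have hσW : a * z ∈ Wr F κ β := mul_mem (hM.si_mem h3 ha).2 (hM.cent_si h3 ha hzM hza)
    obtain ⟨p, hp⟩ := hT.si_conj h3 ha (hM.fus_si h3 ha hk (hka ▸ hσW)) (hM.iso_mem hk)
    rw [hka] at hp
    have e4 : a * (a * z) = z := by rw [← mul_assoc, haa, one_mul]
    have hcen := hM.cen_mul h3 ha hp (by rw [mul_assoc a z a, hza]) (by rw [e4]; exact hz1)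
    rw [e4] at hcen
    have hbW := hcen b hbM hzb.symm
    exact hM.fus_two h3 hlm ha ha2 hg (by rw [← hv, ← hb]; exact hbW)
  · obtain ⟨z', hz'⟩ : ∃ z', z' = g⁻¹ * z * g := ⟨_, rfl⟩
    have hz'M : z' ∈ M := hz' ▸ mul_mem (mul_mem (inv_mem hg) hzM) hg
    have hz'v : z' * v = v * z' := by
      rw [hz', show g⁻¹ * z * g * v = g⁻¹ * (z * (g * v * g⁻¹)) * g by group, ← hb, hzb, hb]
      group
    have hz'W := hM.cent_two h3 hlm ha ha2 z' hz'M (hv ▸ hz'v)
    have he : g⁻¹ * k⁻¹ * a * (g⁻¹ * k⁻¹)⁻¹ = v * z' := by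
      rw [show g⁻¹ * k⁻¹ * a * (g⁻¹ * k⁻¹)⁻¹ = g⁻¹ * (k⁻¹ * a * k) * g by group, hka, hz', hb]
      group
    have hkM := mul_mem (inv_mem hg) (inv_mem hk)
    have hkW := hM.fus_si h3 ha hkM (he ▸ mul_mem (hv ▸ mul_mem (hM.si_mem h3 ha).2 (hM.si_mem h3 ha2).2) hz'W)
    obtain ⟨p, hp⟩ := hT.si_conj h3 ha hkW (hM.iso_mem hkM)
    rw [he] at hp
    obtain ⟨σ, hσ⟩ : ∃ σ, σ = v * z' := ⟨_, rfl⟩
    rw [← hσ] at hp
    have hz'eq : z' = v * σ := by rw [hσ, ← mul_assoc, hvv, one_mul]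
    have hσv : σ * v = v * σ := by rw [hσ, mul_assoc, hz'v]
    have hz'1 : z' ≠ 1 := fun e => hz1 (by
      rw [show z = g * (g⁻¹ * z * g) * g⁻¹ by group, ← hz', e, mul_one, mul_inv_cancel])
    have hcen : Cen M z' := by
      by_cases hpl : p = l
      · subst hpl
        have hσa : σ * a = a * σ := by
          have h1 : σ * a2 = a2 * σ := hT.si_comm h3 hlm hp ha2
          have h4 : a = v * a2 := by rw [hv, mul_assoc, ha22, mul_one]
          rw [h4, ← mul_assoc, hσv, mul_assoc, h1, ← mul_assoc]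
        rcases hT.si_mul h3 hp ha hσa with e | hs
        · have h5 : z' = a2 := by rw [hz'eq, e, hv, hc12, mul_assoc, haa, mul_one]
          rw [h5]
          exact fun x hx hxc => hM.cent_si h3 ha2 hx hxc
        · have h5 : z' = σ * a * a2 := by rw [hz'eq, ← hσv, hv, mul_assoc]
          rw [h5]
          exact hM.cent_two h3 hlm hs ha2
      by_cases hpm : p = m
      · subst hpm
        have h1 : σ * a = a * σ := hT.si_comm h3 (Ne.symm hlm) hp ha
        have hσa2 : σ * a2 = a2 * σ := by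
          have h4 : a2 = a * v := by rw [hv, ← mul_assoc, haa, one_mul]
          rw [h4, ← mul_assoc, h1, mul_assoc, hσv, ← mul_assoc]
        rcases hT.si_mul h3 hp ha2 hσa2 with e | hs
        · have h5 : z' = a := by rw [hz'eq, e, hv, mul_assoc, ha22, mul_one]
          rw [h5]
          exact fun x hx hxc => hM.cent_si h3 ha hx hxc
        · have h5 : z' = a * (σ * a2) := by rw [hz'eq, hσa2, hv, mul_assoc]
          rw [h5]
          exact hM.cent_two h3 hlm ha hs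
      rw [hz'eq, hv]
      exact hM.cent_three h3 hlm (Ne.symm hpl) (Ne.symm hpm) ha ha2 hp
    have hgW := hcen (g⁻¹ * a * g) (mul_mem (mul_mem (inv_mem hg) (hM.si_mem h3 ha).1) hg) (by
      rw [hz', show g⁻¹ * a * g * (g⁻¹ * z * g) = g⁻¹ * (a * z) * g by group, ← hza]
      group)
    have := hM.fus_si h3 ha (inv_mem hg) (by rwa [inv_inv])
    simpa using (Wr F κ β).inv_mem this

end Px

end Cfsg.Agent.Classical.TensorPowOrth
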