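import Cfsg.Agent.Lib.Classical.TensorPow.RankMono
import Cfsg.Agent.Lib.Classical.TensorPow.SigFusion
import Cfsg.Agent.Lib.Classical.TensorPow.Comp

/-!
The difference of the two ranks of an involution permuting the factors, for factors of dimension three.
-/

set_option autoImplicit false
set_option linter.unusedSectionVars false
set_option linter.unusedSimpArgs false

open scoped Kronecker

namespace Cfsg.Agent.Classical.TensorPowOrth

open Matrix Module MaxTv TensorMax TensorPow

variable {F : Type*} [Field F] [Fintype F] {κ β : Type} [Fintype κ] [DecidableEq κ] [Fintype β] [DecidableEq β]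

local notation "X" => (κ → β)
local notation "Mn" => Matrix (κ → β) (κ → β) F
local notation "Mb" => Matrix β β F

/-- The difference of the dimensions of the eigenspaces of an involution. -/
noncomputable def mu {ι : Type} [Fintype ι] [DecidableEq ι] (A : Matrix ι ι F) : ℤ :=
  ((A + 1).rank : ℤ) - ((A - 1).rank : ℤ)

section general

variable {ι α : Type} [Fintype ι] [DecidableEq ι] [Fintype α] [DecidableEq α]

theorem exists_factor (A : Matrix ι α F) : ∃ (L : Matrix ι (Fin A.rank) F) (R : Matrix (Fin A.rank) α F),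
    A = L * R := by
  classical
  let b := Module.finBasis F (LinearMap.range A.mulVecLin)
  refine ⟨Matrix.of fun i k => (b k).1 i,
    Matrix.of fun k j => b.repr ⟨A.mulVecLin (Pi.single j 1), ⟨_, rfl⟩⟩ k, ?_⟩
  ext i j
  have h1 := congrFun (congrArg Subtype.val (b.sum_repr ⟨A.mulVecLin (Pi.single j 1), ⟨_, rfl⟩⟩)) i
  simp only [AddSubmonoidClass.coe_finsetSum, SetLike.val_smul, Finset.sum_apply, Pi.smul_apply, smul_eq_mul,
    Matrix.mulVecLin_apply, Matrix.mulVec_single_one] at h1
  rw [Matrix.mul_apply]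
  refine h1.symm.trans (Finset.sum_congr rfl fun k _ => ?_)
  simp only [Matrix.of_apply, Matrix.mulVecLin_apply, Matrix.mulVec_single_one]
  exact mul_comm _ _

theorem rank_kron_le (A : Matrix ι ι F) (B : Matrix α α F) : (A ⊗ₖ B).rank ≤ A.rank * B.rank := by
  obtain ⟨L, R, hA⟩ := exists_factor A
  obtain ⟨L', R', hB⟩ := exists_factor B
  conv_lhs => rw [hA, hB, Matrix.mul_kronecker_mul]
  refine (Matrix.rank_mul_le_left _ _).trans ((Matrix.rank_le_card_width _).trans ?_)
  rw [Fintype.card_prod, Fintype.card_fin, Fintype.card_fin]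

theorem mu_conj (g k : GL ι F) : mu ((k⁻¹ * g * k : GL ι F) : Matrix ι ι F) = mu (g : Matrix ι ι F) := by
  have h1 := rank_conj_sub g k 1
  have h2 := rank_conj_sub g k (-1)
  simp only [neg_smul, one_smul, sub_neg_eq_add] at h1 h2
  rw [mu, mu, h1, h2]

theorem mu_reindex (e : ι ≃ α) (A : Matrix ι ι F) : mu (Matrix.reindex e e A) = mu A := by
  have h1 : Matrix.reindex e e A + 1 = Matrix.reindex e e (A + 1) := by
    simp [Matrix.reindex_apply, Matrix.submatrix_one_equiv, Matrix.submatrix_add]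
  have h2 : Matrix.reindex e e A - 1 = Matrix.reindex e e (A - 1) := by
    simp [Matrix.reindex_apply, Matrix.submatrix_one_equiv, Matrix.submatrix_sub]
  rw [mu, mu, h1, h2, Matrix.rank_reindex, Matrix.rank_reindex]

theorem mu_kron (h2 : (2 : F) ≠ 0) {A : Matrix ι ι F} {B : Matrix α α F} (hA : A * A = 1) (hB : B * B = 1) :
    mu (A ⊗ₖ B) = mu A * mu B := by
  have hT : (A ⊗ₖ B) * (A ⊗ₖ B) = 1 := by rw [← Matrix.mul_kronecker_mul, hA, hB, Matrix.one_kronecker_one]
  have bound : ∀ s : F, s = 1 ∨ s = -1 → (A ⊗ₖ B + s • 1).rank ≤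
      (A + 1).rank * (B + s • (1 : Matrix α α F)).rank + (A - 1).rank * (B - s • (1 : Matrix α α F)).rank := by
    intro s hs
    have e : (2 : F) • (A ⊗ₖ B + s • (1 : Matrix (ι × α) (ι × α) F)) =
        (A + 1) ⊗ₖ (B + s • (1 : Matrix α α F)) + (A - 1) ⊗ₖ (B - s • (1 : Matrix α α F)) := by
      ext p q
      simp only [Matrix.smul_apply, Matrix.add_apply, Matrix.sub_apply, Matrix.kroneckerMap_apply, smul_eq_mul,
        Matrix.one_apply, Prod.ext_iff]
      by_cases e1 : p.1 = q.1 <;> by_cases e2 : p.2 = q.2 <;> simp [e1, e2] <;> ring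
    rw [← rank_smul_eq (A ⊗ₖ B + s • 1) h2, e]
    exact (rank_add_le' _ _).trans (add_le_add (rank_kron_le _ _) (rank_kron_le _ _))
  have b1 := bound 1 (Or.inl rfl)
  have b2 := bound (-1) (Or.inr rfl)
  simp only [one_smul, neg_smul, sub_neg_eq_add, ← sub_eq_add_neg] at b1 b2
  have r := rank_invol h2 hT
  have rA := rank_invol h2 hA
  have rB := rank_invol h2 hB
  rw [Fintype.card_prod, ← rA, ← rB] at r
  obtain ⟨e1, e2⟩ : (A ⊗ₖ B + 1).rank = (A + 1).rank * (B + 1).rank + (A - 1).rank * (B - 1).rank ∧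
      (A ⊗ₖ B - 1).rank = (A + 1).rank * (B - 1).rank + (A - 1).rank * (B + 1).rank := by
    constructor <;> nlinarith
  rw [mu, mu, mu, e1, e2]
  push_cast
  ring

theorem mu_one : mu (1 : Matrix ι ι F) = ((1 + 1 : Matrix ι ι F).rank : ℤ) := by
  rw [mu, sub_self, Matrix.rank_zero, Nat.cast_zero, sub_zero]

end general

/-- The weight of a permutation with components: moved factors and twice the non-scalar fixed ones. -/
def NS (σ : Equiv.Perm κ) (gs : κ → GL β F) [DecidablePred fun l => ∀ r : F, (gs l : Matrix β β F) ≠ r • 1] : ℕ :=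
  (Finset.univ.filter fun l => σ l ≠ l).card +
    2 * ((Finset.univ.filter fun l => σ l = l).filter fun l => ∀ r : F, (gs l : Matrix β β F) ≠ r • 1).card

theorem card_fixZ {σ : Equiv.Perm κ} (hσ : σ * σ = 1) :
    (fixZ (β := β) σ).card * (fixZ (β := β) σ).card * Fintype.card β ^ (Finset.univ.filter fun l => σ l ≠ l).card =
      Fintype.card X * Fintype.card X := by
  classical
  let σ' : Equiv.Perm {l // σ l ≠ l} := σ.subtypePerm fun l => by
    constructor <;> intro h h' <;> first | exact h (by rw [h', h']) | exact h (σ.injective h')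
  have hσ' : σ' * σ' = 1 := Equiv.ext fun l => Subtype.ext (sq_apply hσ l.1)
  have hno : ∀ l, σ' l ≠ l := fun l e => l.2 (congrArg Subtype.val e)
  let eqv : {x : X // x ∘ σ = x} ≃ ({l // ¬ σ l ≠ l} → β) × {y : {l // σ l ≠ l} → β // y ∘ σ' = y} :=
    { toFun := fun x => (fun l => x.1 l.1, ⟨fun l => x.1 l.1, funext fun l => congrFun x.2 l.1⟩)
      invFun := fun p => ⟨fun l => if hl : σ l ≠ l then p.2.1 ⟨l, hl⟩ else p.1 ⟨l, hl⟩, funext fun l => by
        by_cases hl : σ l ≠ l
        · have hl' : σ (σ l) ≠ σ l := fun e => hl (σ.injective e)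
          simp only [Function.comp_apply, dif_pos hl, dif_pos hl']
          exact congrFun p.2.2 ⟨l, hl⟩
        · simp only [Function.comp_apply, not_not.1 hl]⟩
      left_inv := fun x => Subtype.ext (funext fun l => by simp only; split_ifs <;> rfl)
      right_inv := fun p => by
        refine Prod.ext (funext fun l => ?_) (Subtype.ext (funext fun l => ?_))
        · simp only; rw [dif_neg l.2]
        · simp only; rw [dif_pos l.2] }
  have h1 : (fixZ (β := β) σ).card =
      Fintype.card β ^ Fintype.card {l // ¬ σ l ≠ l} * (fixZ (β := β) σ').card := by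
    rw [fixZ, ← Fintype.card_subtype, Fintype.card_congr eqv, Fintype.card_prod, Fintype.card_fun, fixZ,
      ← Fintype.card_subtype]
  have h2 := card_fixZ_sq (β := β) hσ' hno
  rw [Fintype.card_fun] at h2
  rw [h1, ← Fintype.card_subtype, Fintype.card_fun, Fintype.card_subtype_compl]
  have h3 := Fintype.card_subtype_le fun l => σ l ≠ l
  obtain ⟨a, ha⟩ : ∃ a, a = Fintype.card {l // σ l ≠ l} := ⟨_, rfl⟩
  obtain ⟨b, hb⟩ : ∃ b, Fintype.card κ = a + b := ⟨Fintype.card κ - a, by omega⟩
  rw [← ha, hb, Nat.add_sub_cancel_left]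
  rw [← ha] at h2
  calc _ = Fintype.card β ^ b * Fintype.card β ^ b * ((fixZ (β := β) σ').card * (fixZ (β := β) σ').card) *
        Fintype.card β ^ a := by ring
    _ = _ := by rw [h2, pow_add]; ring

/-- The difference of the ranks of an involution of the stabiliser. -/
theorem mu_wgl (h2 : (2 : F) ≠ 0) (h3 : Fintype.card β = 3) {σ : Equiv.Perm κ} {gs : κ → GL β F}
    [DecidablePred fun l => ∀ r : F, (gs l : Matrix β β F) ≠ r • 1] (hw : wgl σ gs * wgl σ gs = 1) :
    mu (wgl σ gs : Mn) * mu (wgl σ gs : Mn) * (3 : ℤ) ^ NS σ gs = (3 : ℤ) ^ (2 * Fintype.card κ) := by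
  classical
  haveI : Nontrivial β := Fintype.one_lt_card_iff_nontrivial.1 (by omega)
  haveI : Nonempty β := inferInstance
  have hσ : σ * σ = 1 := by
    rw [wgl_mul] at hw
    exact (wgl_eq_one hw).1
  obtain ⟨n, hn⟩ : ∃ n, n = ((Finset.univ.filter fun l => σ l = l).filter
      fun l => ∀ r : F, (gs l : Mb) ≠ r • 1).card := ⟨_, rfl⟩
  induction n generalizing gs with
  | zero =>
    have hall : ∀ l, σ l = l → ∃ r : F, (gs l : Mb) = r • 1 := fun l hl => by
      by_contra hc
      push Not at hc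
      have h0 := Finset.card_eq_zero.1 hn.symm
      have : l ∈ ((Finset.univ.filter fun l => σ l = l).filter fun l => ∀ r : F, (gs l : Mb) ≠ r • 1) := by
        simp [hl, hc]
      rw [h0] at this
      exact absurd this (Finset.notMem_empty _)
    rw [NS, ← hn, mul_zero, add_zero]
    have h1 := rank_mono hσ hw hall
    have hr := rank_invol h2 (A := (wgl σ gs : Mn)) (by rw [← Units.val_mul, hw, Units.val_one])
    have hh := card_halves (β := β) hσ
    have hz := card_fixZ (β := β) hσ
    rw [Fintype.card_fun, h3] at hz hr hh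
    have hz' : ((fixZ (β := β) σ).card : ℤ) * (fixZ (β := β) σ).card *
        (3 : ℤ) ^ (Finset.univ.filter fun l => σ l ≠ l).card = (3 : ℤ) ^ (2 * Fintype.card κ) := by
      rw [two_mul, pow_add]
      exact_mod_cast hz
    rw [← hz']
    congr 1
    rw [mu]
    rcases h1 with h1 | h1
    · rw [h1] at hr ⊢
      have : ((wgl σ gs : Mn) + 1).rank = (halfY (β := β) σ).card + (fixZ (β := β) σ).card := by omega
      rw [this]; push_cast; ring
    · rw [h1] at hr ⊢
      have : ((wgl σ gs : Mn) + 1).rank = (halfY (β := β) σ).card := by omega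
      rw [this]; push_cast; ring
  | succ n ih =>
    obtain ⟨l, hl⟩ := Finset.card_pos.1 (show 0 < ((Finset.univ.filter fun l => σ l = l).filter
      fun l => ∀ r : F, (gs l : Mb) ≠ r • 1).card by omega)
    obtain ⟨hlσ, hns⟩ : σ l = l ∧ ∀ r : F, (gs l : Mb) ≠ r • 1 := by simpa using hl
    obtain ⟨r, hr⟩ : ∃ r : F, (gs l : Mb) * (gs l : Mb) = r • 1 := by
      have h1 := hw
      rw [wgl_mul] at h1
      obtain ⟨r, hr⟩ := (wgl_eq_one h1).2 l
      exact ⟨r, by simpa [hlσ] using hr⟩
    have hr0 : r ≠ 0 := fun e => by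
      rw [e, zero_smul, ← Units.val_mul] at hr
      exact Units.ne_zero (gs l * gs l) hr
    obtain ⟨N, ⟨d, hd⟩, hN⟩ := exists_norm (Or.inr (by rw [h3]; exact ⟨1, rfl⟩) : Exact F β) (gs l) hr0 hr
    have hd0 : d ≠ 0 := fun e => Units.ne_zero N (by rw [hd, e, zero_smul])
    obtain ⟨S, hS⟩ : ∃ S, S = scal d⁻¹ (inv_ne_zero hd0) (1 : GL β F) := ⟨_, rfl⟩
    have hSc : ∀ B : GL β F, S * B = B * S := fun B => Units.ext (by
      rw [hS, Units.val_mul, Units.val_mul, scal_val, Units.val_one, Matrix.smul_mul, Matrix.mul_smul, one_mul,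
        mul_one])
    have hSN : S * N = gs l := Units.ext (by
      rw [hS, Units.val_mul, scal_val, Units.val_one, Matrix.smul_mul, one_mul, hd, smul_smul,
        inv_mul_cancel₀ hd0, one_smul])
    have hw' : wgl σ gs = wgl σ (Function.update gs l S) * pe l N := by
      show _ = _ * wgl 1 _
      rw [wgl_mul, one_mul]
      congr 1
      funext k
      by_cases e : k = l
      · subst e; rw [hlσ, Function.update_self, Function.update_self, hSN]
      · rw [Function.update_of_ne e, Function.update_of_ne (fun e' => e (σ.injective (e'.trans hlσ.symm)))]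
        exact (mul_one _).symm
    have hcom : wgl σ (Function.update gs l S) * pe l N = pe l N * wgl σ (Function.update gs l S) := by
      rw [← mul_inv_eq_iff_eq_mul, pe_conj_eq l N hlσ, Function.update_self, hSc, mul_inv_cancel_right]
    have hsq : wgl σ (Function.update gs l S) * wgl σ (Function.update gs l S) = 1 := by
      have h1 := hw
      rw [hw', mul_assoc, ← mul_assoc (pe l N), ← hcom, mul_assoc, ← map_mul, hN, map_one, mul_one] at h1
      exact h1
    have hset : ((Finset.univ.filter fun k => σ k = k).filter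
        fun k => ∀ r : F, ((Function.update gs l S k : GL β F) : Mb) ≠ r • 1) =
        ((Finset.univ.filter fun k => σ k = k).filter fun k => ∀ r : F, (gs k : Mb) ≠ r • 1).erase l := by
      ext k
      simp only [Finset.mem_filter, Finset.mem_univ, true_and, Finset.mem_erase]
      by_cases e : k = l
      · subst e
        rw [Function.update_self]
        refine iff_of_false (fun h => h.2 d⁻¹ (by rw [hS, scal_val, Units.val_one])) fun h => h.1 rfl
      · rw [Function.update_of_ne e]
        exact ⟨fun h => ⟨e, h⟩, fun h => h.2⟩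
    have hn' : n = ((Finset.univ.filter fun k => σ k = k).filter
        fun k => ∀ r : F, ((Function.update gs l S k : GL β F) : Mb) ≠ r • 1).card := by
      rw [hset, Finset.card_erase_of_mem hl, ← hn]; omega
    have hih := ih hsq hn'
    obtain ⟨A0, hA0⟩ : ∃ A0, A0 = wgl (rperm σ hlσ) fun j : Rst l => Function.update gs l S j.1 := ⟨_, rfl⟩
    have h0 : sp l (wgl σ (Function.update gs l S)) = k2 A0 S := by
      rw [sp_wgl σ hlσ, Function.update_self, hA0]
    obtain ⟨A, hA⟩ : ∃ A : GL (Rst l → β) F, (A : Matrix (Rst l → β) (Rst l → β) F) = d⁻¹ • (A0 : Matrix _ _ F) :=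
      ⟨scal d⁻¹ (inv_ne_zero hd0) A0, rfl⟩
    have h1 : (sp l (wgl σ (Function.update gs l S)) : Matrix ((Rst l → β) × β) ((Rst l → β) × β) F) = (A : Matrix (Rst l → β) (Rst l → β) F) ⊗ₖ (1 : Mb) := by
      rw [h0, k2_val, hA, hS, scal_val, Units.val_one, Matrix.smul_kronecker, Matrix.kronecker_smul]
    have h4 : (sp l (wgl σ gs) : Matrix ((Rst l → β) × β) ((Rst l → β) × β) F) = (A : Matrix (Rst l → β) (Rst l → β) F) ⊗ₖ (N : Mb) := by
      rw [hw', map_mul, Units.val_mul, h1, sp_pe, k2_val, Units.val_one, ← Matrix.mul_kronecker_mul, mul_one,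
        one_mul]
    have hAA : (A : Matrix (Rst l → β) (Rst l → β) F) * (A : Matrix (Rst l → β) (Rst l → β) F) = 1 := by
      have h5 : ((A : Matrix (Rst l → β) (Rst l → β) F) * (A : Matrix (Rst l → β) (Rst l → β) F)) ⊗ₖ (1 : Mb) =
          (1 : Matrix (Rst l → β) (Rst l → β) F) ⊗ₖ (1 : Mb) := by
        rw [Matrix.one_kronecker_one, ← one_mul (1 : Mb), Matrix.mul_kronecker_mul, ← h1, ← Units.val_mul,
          ← map_mul, hsq, map_one, Units.val_one]
      obtain ⟨b⟩ := ‹Nonempty β›
      ext p q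
      simpa using congrFun (congrFun h5 (p, b)) (q, b)
    have hNN : (N : Mb) * (N : Mb) = 1 := by rw [← Units.val_mul, hN, Units.val_one]
    have m1 : mu (wgl σ gs : Mn) = mu (A : Matrix (Rst l → β) (Rst l → β) F) * mu (N : Mb) := by
      rw [← mu_kron h2 hAA hNN, ← h4, sp_val, mu_reindex]
    have m0 : mu (wgl σ (Function.update gs l S) : Mn) = mu (A : Matrix (Rst l → β) (Rst l → β) F) * 3 := by
      rw [← mu_reindex (spE l), ← sp_val, h1, mu_kron h2 hAA (one_mul _), mu_one]
      congr 1
      rw [show (1 : Mb) + 1 = (2 : F) • 1 by rw [two_smul], rank_smul_eq _ h2, Matrix.rank_one, h3]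
      norm_num
    have mN : mu (N : Mb) * mu (N : Mb) = 1 := by
      have hrk := rank_invol h2 hNN
      rw [h3] at hrk
      have n1 : ((N : Mb) - 1).rank ≠ 0 := fun e => hns d⁻¹ (by
        rw [← one_smul F (gs l : Mb), ← inv_mul_cancel₀ hd0, mul_smul, ← hd, sub_eq_zero.1 ((rank_zero_iff _).1 e)])
      have n2 : ((N : Mb) + 1).rank ≠ 0 := fun e => hns (-d⁻¹) (by
        rw [← one_smul F (gs l : Mb), ← inv_mul_cancel₀ hd0, mul_smul, ← hd,
          eq_neg_of_add_eq_zero_left ((rank_zero_iff _).1 e), neg_smul, smul_neg])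
      rw [mu]
      rcases (show ((N : Mb) + 1).rank = 1 ∨ ((N : Mb) + 1).rank = 2 by omega) with e | e
      · rw [e, show ((N : Mb) - 1).rank = 2 by omega]; norm_num
      · rw [e, show ((N : Mb) - 1).rank = 1 by omega]; norm_num
    rw [NS, ← hn]
    rw [NS, ← hn', m0] at hih
    rw [m1, ← hih]
    linear_combination mu (A : Matrix (Rst l → β) (Rst l → β) F) * mu (A : Matrix (Rst l → β) (Rst l → β) F) *
      (3 : ℤ) ^ ((Finset.univ.filter fun l => σ l ≠ l).card + 2 * (n + 1)) * mN

/-- Conjugate involutions of the stabiliser have one weight. -/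
theorem NS_eq_of_conj (h2 : (2 : F) ≠ 0) (h3 : Fintype.card β = 3) {σ τ : Equiv.Perm κ} {gs ks : κ → GL β F}
    [DecidablePred fun l => ∀ r : F, (gs l : Matrix β β F) ≠ r • 1]
    [DecidablePred fun l => ∀ r : F, (ks l : Matrix β β F) ≠ r • 1] {k : GL X F}
    (hw : wgl σ gs * wgl σ gs = 1) (hk : k * wgl σ gs * k⁻¹ = wgl τ ks) : NS σ gs = NS τ ks := by
  have hw' : wgl τ ks * wgl τ ks = 1 := by
    rw [← hk, show k * wgl σ gs * k⁻¹ * (k * wgl σ gs * k⁻¹) = k * (wgl σ gs * wgl σ gs) * k⁻¹ by group, hw,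
      mul_one, mul_inv_cancel]
  have h1 := mu_wgl h2 h3 hw
  have h4 := mu_wgl h2 h3 hw'
  have h5 : mu (wgl τ ks : Mn) = mu (wgl σ gs : Mn) := by
    rw [← mu_conj (wgl σ gs) k⁻¹, inv_inv, hk]
  rw [h5, ← h1] at h4
  have hne : mu (wgl σ gs : Mn) * mu (wgl σ gs : Mn) ≠ 0 := fun e => by
    rw [e, zero_mul] at h1
    exact pow_ne_zero _ (by norm_num : (3 : ℤ) ≠ 0) h1.symm
  have h6 : (3 : ℕ) ^ NS τ ks = 3 ^ NS σ gs := by exact_mod_cast mul_left_cancel₀ hne h4
  exact (Nat.pow_right_injective (by norm_num) h6).symm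

end Cfsg.Agent.Classical.TensorPowOrth
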