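import Cfsg.Agent.Lib.Classical.TensorPowOrth.ThreeInv
import Cfsg.Agent.Lib.Classical.TensorPowOrth.ThreeRank
import Cfsg.Agent.Lib.Classical.TensorPow.Dih
import Cfsg.Agent.Lib.Classical.TensorPow.Comp

/-!
Factors of dimension three: weights of products of involutions at factors, and two tools for their fusion.
-/

set_option autoImplicit false
set_option linter.unusedSectionVars false
set_option linter.unusedSimpArgs false
set_option linter.style.haveILetI false

open scoped Kronecker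

namespace Cfsg.Agent.Classical.TensorPowOrth

open Matrix Module MaxTv TensorMax TensorPow Overfield
open Cfsg.Agent.Classical.TensorOrth (Sym NdOn iso)

section dih

variable {G : Type*} [Group G] [Finite G]

/-- Two involutions not conjugate in a subgroup: a central involution of the group they generate. -/
theorem dih_split {a b : G} (ha : a * a = 1) (hb : b * b = 1) {C : Subgroup G} (haC : a ∈ C) (hbC : b ∈ C)
    (hnc : ∀ k ∈ C, k * a * k⁻¹ ≠ b) :
    ∃ z ∈ C, z ≠ 1 ∧ z * a = a * z ∧ z * b = b * z ∧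
      ((∃ k ∈ C, k * a * k⁻¹ = a * z ∧ k * b * k⁻¹ = b * z) ∨
        (∃ k ∈ C, k * b * k⁻¹ = a * z ∧ k⁻¹ * a * k = b * z)) := by
  classical
  obtain ⟨r, hr⟩ : ∃ r, r = a * b := ⟨_, rfl⟩
  have hrC : r ∈ C := hr ▸ mul_mem haC hbC
  have hai : a⁻¹ = a := inv_eq_of_mul_eq_one_right ha
  have hbi : b⁻¹ = b := inv_eq_of_mul_eq_one_right hb
  have hra : r⁻¹ * a = b := by rw [hr, _root_.mul_inv_rev, hai, hbi, mul_assoc, ha, mul_one]
  have hk : 0 < orderOf r := orderOf_pos r
  have e : b = a * r := by rw [hr, ← mul_assoc, ha, one_mul]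
  have hconj : ∀ j, r ^ j * a * (r ^ j)⁻¹ = r ^ (2 * j) * a := fun j => by
    rw [hr]; exact conj_pow_invol ha hb j
  rcases Nat.even_or_odd' (orderOf r) with ⟨l, hl | hl⟩
  · obtain ⟨w, hw⟩ : ∃ w, w = r ^ l := ⟨_, rfl⟩
    have hww : w * w = 1 := by rw [hw, ← pow_add, ← two_mul, ← hl, pow_orderOf_eq_one]
    have hw1 : w ≠ 1 := fun e' => by
      have := Nat.le_of_dvd (by omega) (orderOf_dvd_of_pow_eq_one (hw ▸ e'))
      omega
    have hwa : w * a = a * w := by
      have h1 := hconj l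
      rw [← hl, pow_orderOf_eq_one, one_mul, ← hw, mul_inv_eq_iff_eq_mul] at h1
      exact h1
    have hwr : w * r = r * w := by rw [hw, ← pow_succ, ← pow_succ']
    have hwb : w * b = b * w := by
      calc w * b = w * (a * r) := by rw [← e]
        _ = a * (w * r) := by rw [← mul_assoc, hwa, mul_assoc]
        _ = a * (r * w) := by rw [hwr]
        _ = b * w := by rw [← mul_assoc, ← e]
    refine ⟨w, hw ▸ pow_mem hrC l, hw1, hwa, hwb, ?_⟩
    rcases Nat.even_or_odd' l with ⟨j, hj | hj⟩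
    · have h1 : r ^ j * a * (r ^ j)⁻¹ = a * w := by rw [hconj, ← hj, ← hw, hwa]
      refine Or.inl ⟨r ^ j, pow_mem hrC j, h1, ?_⟩
      have hjr : r * (r ^ j)⁻¹ = (r ^ j)⁻¹ * r := ((Commute.refl r).pow_right j).inv_right.eq
      calc r ^ j * b * (r ^ j)⁻¹ = r ^ j * a * (r * (r ^ j)⁻¹) := by rw [e]; simp only [mul_assoc]
        _ = r ^ j * a * (r ^ j)⁻¹ * r := by rw [hjr, ← mul_assoc]
        _ = b * w := by rw [h1, mul_assoc, hwr, ← mul_assoc, ← e]
    · have h1 : r ^ j * a * (r ^ j)⁻¹ = b * w := by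
        have e1 : r ^ (2 * j) = w * r⁻¹ := by rw [hw, hj, pow_succ, mul_inv_cancel_right]
        rw [hconj, e1, mul_assoc, hra, hwb]
      refine Or.inr ⟨(r ^ j)⁻¹, inv_mem (pow_mem hrC j), ?_, by rw [inv_inv, h1]⟩
      have hwj : w * r ^ j = r ^ j * w := by rw [hw, ← pow_add, ← pow_add, add_comm]
      have hb' : b = r ^ j * a * (r ^ j)⁻¹ * w := by rw [h1, mul_assoc, hww, mul_one]
      rw [hb', inv_inv]
      rw [show (r ^ j)⁻¹ * (r ^ j * a * (r ^ j)⁻¹ * w) * r ^ j = a * (r ^ j)⁻¹ * (w * r ^ j) by group, hwj]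
      group
  · exfalso
    refine hnc (r ^ l) (pow_mem hrC l) ?_
    have e1 : r ^ (2 * l) = r⁻¹ := by
      refine eq_inv_of_mul_eq_one_left ?_
      rw [← pow_succ, ← hl, pow_orderOf_eq_one]
    rw [hconj, e1, hra]

end dih

variable {F : Type*} [Field F] [Fintype F] {κ β : Type} [Fintype κ] [DecidableEq κ] [Fintype β] [DecidableEq β]
  {c : F} {h : (β → F) → (β → F) → F}

local notation "X" => (κ → β)
local notation "Mn" => Matrix (κ → β) (κ → β) F
local notation "Mb" => Matrix β β F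
local notation "W" => (β → F)

/-- The weight, with classical decisions. -/
noncomputable def nsw (σ : Equiv.Perm κ) (gs : κ → GL β F) : ℕ :=
  letI : DecidablePred fun l => ∀ r : F, (gs l : Matrix β β F) ≠ r • 1 := Classical.decPred _
  NS σ gs

/-- An element of the stabiliser of weight `n`. -/
def Wt (g : GL (κ → β) F) (n : ℕ) : Prop := ∃ σ gs, g = wgl σ gs ∧ nsw σ gs = n

theorem nsw_eq (σ : Equiv.Perm κ) (gs : κ → GL β F) (s : Finset κ)
    (hs : ∀ l, l ∈ s ↔ σ l = l ∧ ∀ r : F, (gs l : Mb) ≠ r • 1) :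
    nsw σ gs = (Finset.univ.filter fun l => σ l ≠ l).card + 2 * s.card := by
  classical
  rw [nsw, NS]
  congr 3
  ext l
  simp [hs]

theorem wgl1_mul_pe (gs : κ → GL β F) {m : κ} (hm : gs m = 1) (B : GL β F) :
    wgl (1 : Equiv.Perm κ) gs * pe m B = wgl 1 (Function.update gs m B) := by
  show _ * wgl 1 _ = _
  rw [wgl_mul, one_mul]
  congr 1
  funext k
  by_cases e : k = m
  · subst e; simp [hm]
  · simp [e]

theorem wt_diag (gs : κ → GL β F) (s : Finset κ) (hin : ∀ l ∈ s, ∀ r : F, (gs l : Mb) ≠ r • 1)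
    (hout : ∀ l ∉ s, gs l = 1) : Wt (wgl (1 : Equiv.Perm κ) gs) (2 * s.card) := by
  classical
  refine ⟨1, gs, rfl, ?_⟩
  rw [nsw_eq 1 gs s fun l => ⟨fun hl => ⟨rfl, hin l hl⟩, fun hl => by_contra fun hn => hl.2 1 (by
    rw [hout l hn, Units.val_one, one_smul])⟩]
  simp

/-- A diagonal element scalar away from one factor is an element at that factor. -/
theorem eq_pe_of_scalar [Nonempty β] {gs : κ → GL β F} {j : κ}
    (hsc : ∀ l, l ≠ j → ∃ r : F, (gs l : Mb) = r • 1) :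
    ∃ (r : F) (B : GL β F), r ≠ 0 ∧ (B : Mb) = r • (gs j : Mb) ∧ wgl (1 : Equiv.Perm κ) gs = pe j B := by
  classical
  choose! r hr using hsc
  have hr0 : ∀ l, l ≠ j → r l ≠ 0 := fun l hl e => Units.ne_zero (gs l) (by rw [hr l hl, e, zero_smul])
  obtain ⟨μ, hμ⟩ : ∃ μ, μ = ∏ l ∈ Finset.univ.erase j, r l := ⟨_, rfl⟩
  have hμ0 : μ ≠ 0 := hμ ▸ Finset.prod_ne_zero_iff.2 fun l hl => hr0 l (Finset.ne_of_mem_erase hl)
  refine ⟨μ, scal μ hμ0 (gs j), hμ0, scal_val _ _ _, ?_⟩
  refine Units.ext (Matrix.ext fun x y => ?_)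
  show (wgl (1 : Equiv.Perm κ) gs : Mn) x y = (wgl (1 : Equiv.Perm κ) (Function.update 1 j (scal μ hμ0 (gs j))) : Mn) x y
  simp only [wgl_val, wm, Matrix.of_apply, Equiv.Perm.one_apply]
  rw [← Finset.mul_prod_erase _ _ (Finset.mem_univ j), ← Finset.mul_prod_erase _ _ (Finset.mem_univ j)]
  simp only [Function.update_self, scal_val, Matrix.smul_apply, smul_eq_mul, hμ]
  rw [mul_comm _ ((gs j : Mb) (x j) (y j)), mul_assoc, ← Finset.prod_mul_distrib]
  congr 1
  refine Finset.prod_congr rfl fun l hl => ?_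
  rw [Function.update_of_ne (Finset.ne_of_mem_erase hl), Pi.one_apply, hr l (Finset.ne_of_mem_erase hl),
    Matrix.smul_apply, smul_eq_mul, Units.val_one]

theorem wt_conj (h2 : (2 : F) ≠ 0) (h3 : Fintype.card β = 3) {g g' k : GL X F} {n m : ℕ} (hg : g * g = 1)
    (hk : k * g * k⁻¹ = g') (hn : Wt g n) (hm : Wt g' m) : n = m := by
  classical
  obtain ⟨σ, gs, rfl, rfl⟩ := hn
  obtain ⟨τ, ks, rfl, rfl⟩ := hm
  exact @NS_eq_of_conj _ _ _ _ _ _ _ _ _ h2 h3 σ τ gs ks (Classical.decPred _) (Classical.decPred _) k hg hk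

variable (hT : TData c h) (h3 : Fintype.card β = 3)
include hT h3

theorem TData.wt_si {i : κ} {a : GL X F} (ha : SI c h i a) : Wt a 2 := by
  classical
  obtain ⟨v, A, hv, hA, -, -, rfl⟩ := ha
  exact wt_diag (Function.update 1 i A) {i} (fun l hl r => by
    rw [Finset.mem_singleton] at hl
    subst hl
    rw [Function.update_self]; exact hT.rot_nonscalar hv hA r) fun l hl => by
      rw [Function.update_of_ne (Finset.notMem_singleton.1 hl)]; rfl

theorem TData.wt_two {l m : κ} (hlm : l ≠ m) {a b : GL X F} (ha : SI c h l a) (hb : SI c h m b) :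
    Wt (a * b) 4 := by
  classical
  obtain ⟨v, A, hv, hA, -, -, rfl⟩ := ha
  obtain ⟨w, B, hw, hB, -, -, rfl⟩ := hb
  have e : pe l A * pe m B = wgl 1 (Function.update (Function.update 1 l A) m B) :=
    wgl1_mul_pe _ (by rw [Function.update_of_ne hlm.symm]; rfl) B
  rw [e, show 4 = 2 * ({l, m} : Finset κ).card by rw [Finset.card_pair hlm]]
  refine wt_diag _ _ (fun k hk r => ?_) fun k hk => ?_
  · simp only [Finset.mem_insert, Finset.mem_singleton] at hk
    rcases hk with rfl | rfl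
    · rw [Function.update_of_ne hlm, Function.update_self]; exact hT.rot_nonscalar hv hA r
    · rw [Function.update_self]; exact hT.rot_nonscalar hw hB r
  · simp only [Finset.mem_insert, Finset.mem_singleton, not_or] at hk
    rw [Function.update_of_ne hk.2, Function.update_of_ne hk.1]; rfl

theorem TData.wt_three {l m n : κ} (hlm : l ≠ m) (hln : l ≠ n) (hmn : m ≠ n) {a b d : GL X F} (ha : SI c h l a)
    (hb : SI c h m b) (hd : SI c h n d) : Wt (a * b * d) 6 := by
  classical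
  obtain ⟨v, A, hv, hA, -, -, rfl⟩ := ha
  obtain ⟨w, B, hw, hB, -, -, rfl⟩ := hb
  obtain ⟨u, D, hu, hD, -, -, rfl⟩ := hd
  have e : pe l A * pe m B = wgl 1 (Function.update (Function.update 1 l A) m B) :=
    wgl1_mul_pe _ (by rw [Function.update_of_ne hlm.symm]; rfl) B
  rw [e, wgl1_mul_pe _ (by rw [Function.update_of_ne hmn.symm, Function.update_of_ne hln.symm]; rfl),
    show 6 = 2 * ({l, m, n} : Finset κ).card by rw [Finset.card_eq_three.2 ⟨l, m, n, hlm, hln, hmn, rfl⟩]]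
  refine wt_diag _ _ (fun k hk r => ?_) fun k hk => ?_
  · simp only [Finset.mem_insert, Finset.mem_singleton] at hk
    rcases hk with rfl | rfl | rfl
    · rw [Function.update_of_ne hln, Function.update_of_ne hlm, Function.update_self]
      exact hT.rot_nonscalar hv hA r
    · rw [Function.update_of_ne hmn, Function.update_self]; exact hT.rot_nonscalar hw hB r
    · rw [Function.update_self]; exact hT.rot_nonscalar hu hD r
  · simp only [Finset.mem_insert, Finset.mem_singleton, not_or] at hk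
    rw [Function.update_of_ne hk.2.2, Function.update_of_ne hk.2.1, Function.update_of_ne hk.1]; rfl

theorem TData.si_comm {l m : κ} (hlm : l ≠ m) {a b : GL X F} (ha : SI c h l a) (hb : SI c h m b) :
    a * b = b * a := by
  obtain ⟨v, A, -, -, -, -, rfl⟩ := ha
  obtain ⟨w, B, -, -, -, -, rfl⟩ := hb
  exact pe_comm hlm A B

/-- A member of weight two. -/
theorem TData.wt_two_cases {g : GL X F} (hg : g ∈ GT c h) (hgg : g * g = 1) (hw : Wt g 2) :
    (∃ j, SI c h j g) ∨
      ∃ σ gs, g = wgl σ gs ∧ σ.IsSwap ∧ ∀ l, σ l = l → ∃ r : F, (gs l : Mb) = r • 1 := by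
  classical
  haveI : Nontrivial β := Fintype.one_lt_card_iff_nontrivial.1 (by omega)
  haveI : Nonempty β := inferInstance
  obtain ⟨σ, gs, rfl, hn⟩ := hw
  obtain ⟨s, hs⟩ : ∃ s : Finset κ, ∀ l, l ∈ s ↔ σ l = l ∧ ∀ r : F, (gs l : Mb) ≠ r • 1 :=
    ⟨Finset.univ.filter fun l => σ l = l ∧ ∀ r : F, (gs l : Mb) ≠ r • 1, fun l => by simp⟩
  rw [nsw_eq σ gs s hs] at hn
  have hsupp : (Finset.univ.filter fun l => σ l ≠ l) = σ.support := by
    ext l; simp [Equiv.Perm.mem_support]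
  rw [hsupp] at hn
  have h1 := Equiv.Perm.card_support_ne_one σ
  rcases (show (σ.support.card = 0 ∧ s.card = 1) ∨ (σ.support.card = 2 ∧ s.card = 0) by omega) with ⟨h0, hs1⟩ | ⟨h0, hs1⟩
  · obtain rfl : σ = 1 := Equiv.Perm.card_support_eq_zero.1 h0
    obtain ⟨j, hj⟩ := Finset.card_eq_one.1 hs1
    have hjn : ∀ r : F, (gs j : Mb) ≠ r • 1 := ((hs j).1 (by rw [hj]; exact Finset.mem_singleton_self j)).2
    obtain ⟨r, B, hr, hB, hgB⟩ := eq_pe_of_scalar (gs := gs) (j := j) fun l hl => by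
      by_contra hc
      push Not at hc
      have := (hs l).2 ⟨rfl, hc⟩
      rw [hj, Finset.mem_singleton] at this
      exact hl this
    rw [hgB] at hg hgg ⊢
    refine Or.inl ⟨j, hT.si_of_invol h3 (pe_injective j (by rw [map_mul, map_one]; exact hgg)) (fun a e => ?_) hg⟩
    refine hjn (r⁻¹ * a) ?_
    rw [mul_smul, ← e, hB, inv_smul_smul₀ hr]
  · refine Or.inr ⟨σ, gs, rfl, Equiv.Perm.card_support_eq_two.1 h0, fun l hl => ?_⟩
    by_contra hc
    push Not at hc
    have := (hs l).2 ⟨hl, hc⟩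
    rw [Finset.card_eq_zero.1 hs1] at this
    exact absurd this (Finset.notMem_empty l)

/-- An isometric involution of the factor keeps a normalised vector up to sign. -/
theorem TData.exists_eigvec {B : GL β F} (hB : B ∈ iso h) (hBB : B * B = 1) :
    ∃ (w : W) (ε : F), (ε = 1 ∨ ε = -1) ∧ h w w = (gram h).det ∧ (B : Mb) *ᵥ w = ε • w := by
  classical
  have hs := hT.hh
  have h2 := hT.two
  have hBm : (B : Mb) * (B : Mb) = 1 := by rw [← Units.val_mul, hBB, Units.val_one]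
  have hr := rank_invol h2 hBm
  rw [h3] at hr
  obtain ⟨ε, hε, hrk⟩ : ∃ ε : F, (ε = 1 ∨ ε = -1) ∧ ((B : Mb) - ε • 1).rank ≤ 1 := by
    rcases (show ((B : Mb) - 1).rank ≤ 1 ∨ ((B : Mb) + 1).rank ≤ 1 by omega) with e | e
    · exact ⟨1, Or.inl rfl, by rwa [one_smul]⟩
    · exact ⟨-1, Or.inr rfl, by rwa [neg_smul, one_smul, sub_neg_eq_add]⟩
  have hee : ε * ε = 1 := by rcases hε with rfl | rfl <;> ring
  obtain ⟨U, hU⟩ : ∃ U, U = LinearMap.ker (Matrix.toLin' ((B : Mb) - ε • 1)) := ⟨_, rfl⟩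
  have hmem : ∀ x, x ∈ U ↔ (B : Mb) *ᵥ x = ε • x := fun x => by
    rw [hU, LinearMap.mem_ker, Matrix.toLin'_apply, Matrix.sub_mulVec, Matrix.smul_mulVec, Matrix.one_mulVec,
      sub_eq_zero]
  have hdim : 2 ≤ finrank F U := by
    have := finrank_ker_mulVec ((B : Mb) - ε • 1)
    rw [h3, ← hU] at this
    omega
  have hnd : NdOn h U := fun w hw hw0 => by
    by_contra hperp
    push Not at hperp
    refine hw0 (hs.eq_zero w fun y => ?_)
    obtain ⟨p, hp⟩ : ∃ p, p = y + ε • ((B : Mb) *ᵥ y) := ⟨_, rfl⟩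
    have hpU : p ∈ U := by
      rw [hmem, hp, Matrix.mulVec_add, Matrix.mulVec_smul, Matrix.mulVec_mulVec, hBm, Matrix.one_mulVec, smul_add,
        smul_smul, hee, one_smul, add_comm]
    have h1 := hperp p hpU
    rw [hs.symm w p] at h1
    have h4 := hB y w
    rw [(hmem w).1 hw, hs.smul_right] at h4
    rw [hp, hs.add_left, hs.smul_left, h4, ← two_mul] at h1
    exact (mul_eq_zero.1 h1).resolve_left h2
  obtain ⟨w, hw, hwv⟩ := hT.exists_val hnd hdim hT.gram_det_ne
  exact ⟨w, ε, hε, hwv, (hmem w).1 hw⟩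

theorem TData.exists_si (i : κ) : ∃ a : GL X F, SI c h i a := by
  obtain ⟨e, he⟩ := hT.exists_frame (odd_of_three h3)
  obtain ⟨b⟩ : Nonempty β := Fintype.card_pos_iff.1 (by omega)
  obtain ⟨B, hBi, hB⟩ := hT.exists_rot (v := e b) (by rw [he.val]; exact hT.gram_det_ne)
  exact ⟨_, hT.si_of_val h3 i (he.val b) hBi hB⟩

/-- An element at a factor conjugating one involution to another. -/
theorem TData.si_conj_slot {i : κ} {a b : GL X F} (ha : SI c h i a) (hb : SI c h i b) :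
    ∃ R : GL β F, pe i R ∈ GT (κ := κ) c h ∧ pe i R * a * (pe i R)⁻¹ = b := by
  obtain ⟨v, A, hv, hA, hAi, rfl⟩ := hT.si_normal h3 ha
  obtain ⟨w, B, hw, hB, hBi, rfl⟩ := hT.si_normal h3 hb
  obtain ⟨S, hS, hSv⟩ := hT.exists_map h3 hv hw
  obtain ⟨C, hC, hCv, hG⟩ := hT.exists_fix_vec (odd_of_three h3) i (show h v v ≠ 0 from hv ▸ hT.gram_det_ne) (hT.pe_iso i hS)
  rw [← map_mul] at hG
  refine ⟨S * C, hG, ?_⟩
  rw [← map_inv, ← map_mul, ← map_mul]
  congr 1
  obtain ⟨T, hTd⟩ : ∃ T, T = S * C := ⟨_, rfl⟩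
  rw [← hTd]
  have hTi : T ∈ iso h := hTd ▸ mul_mem hS hC
  have hTv : (T : Mb) *ᵥ v = w := by rw [hTd, Units.val_mul, ← Matrix.mulVec_mulVec, hCv, hSv]
  refine hT.rot_unique (v := w) (fun x => ?_) hB
  obtain ⟨y, rfl⟩ : ∃ y, (T : Mb) *ᵥ y = x := ⟨_, mulVec_inv_cancel T x⟩
  rw [Units.val_mul, Units.val_mul, ← Matrix.mulVec_mulVec, ← Matrix.mulVec_mulVec, inv_mulVec_cancel, hA,
    Matrix.mulVec_sub, Matrix.mulVec_smul, hTv, ← hTv, hTi, hTi]

end Cfsg.Agent.Classical.TensorPowOrth
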