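import Cfsg.Agent.Lib.Classical.TensorPowOrth.Px
import Cfsg.Agent.Lib.Classical.TensorPowOrth.Pattern

/-!
Unipotent members of a subgroup given by their matrices, rank one maps of a symmetric space, and pure matrices.
-/

set_option autoImplicit false
set_option linter.unusedSectionVars false
set_option linter.unusedSimpArgs false
set_option linter.style.haveILetI false

open scoped Kronecker

namespace Cfsg.Agent.Classical.TensorPowOrth

open Matrix Module MaxTv TensorMax TensorPow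
open Cfsg.Agent.Classical.TensorOrth (Sym NdOn iso cj wd ext_pure)

variable {F : Type*} [Field F] [Fintype F] {κ β : Type} [Fintype κ] [DecidableEq κ] [Fintype β] [DecidableEq β]
  {c : F} {h : (β → F) → (β → F) → F}

local notation "X" => (κ → β)
local notation "V" => ((κ → β) → F)
local notation "Mn" => Matrix (κ → β) (κ → β) F
local notation "Mb" => Matrix β β F
local notation "W" => (β → F)
local notation "Eb" => ((β → F) →ₗ[F] (β → F))

/-- The group has an element `1 + Y`. -/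
def Un (M : Subgroup (GL (κ → β) F)) (Y : Matrix (κ → β) (κ → β) F) : Prop :=
  ∃ g ∈ M, (g : Matrix (κ → β) (κ → β) F) = 1 + Y

variable {M : Subgroup (GL (κ → β) F)}

theorem un_zero : Un M (0 : Mn) := ⟨1, one_mem M, by rw [Units.val_one, add_zero]⟩

theorem Un.add {Y Z : Mn} (hY : Un M Y) (hZ : Un M Z) (h0 : Y * Z = 0) : Un M (Y + Z) := by
  obtain ⟨g, hg, hgY⟩ := hY
  obtain ⟨g', hg', hgZ⟩ := hZ
  refine ⟨g * g', mul_mem hg hg', ?_⟩
  rw [Units.val_mul, hgY, hgZ, mul_add, mul_one, add_mul, one_mul, h0, add_zero, add_assoc]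

theorem Un.neg {Y : Mn} (hY : Un M Y) (h0 : Y * Y = 0) : Un M (-Y) := by
  obtain ⟨g, hg, hgY⟩ := hY
  refine ⟨g⁻¹, inv_mem hg, Units.inv_eq_of_mul_eq_one_right ?_⟩
  rw [hgY, add_mul, one_mul, mul_add, mul_one, mul_neg, h0, neg_zero, add_zero, neg_add_cancel_right]

theorem Un.conj {Y : Mn} (hY : Un M Y) {l : κ} {B : GL β F} (hB : pe l B ∈ M) :
    Un M (et l (B : Mb) * Y * et l ((B⁻¹ : GL β F) : Mb)) := by
  obtain ⟨g, hg, hgY⟩ := hY
  refine ⟨pe l B * g * (pe l B)⁻¹, mul_mem (mul_mem hB hg) (inv_mem hB), ?_⟩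
  rw [← map_inv, Units.val_mul, Units.val_mul, hgY, ← et_val, ← et_val, mul_add, mul_one, add_mul, et_mul,
    ← Units.val_mul, mul_inv_cancel, Units.val_one, et_one]

/-- The commutator of two elements with square zero displacement. -/
theorem Un.comm {Y Z : Mn} (hY : Un M Y) (hZ : Un M Z) (h1 : Y * Y = 0) (h2 : Z * Z = 0) (h3 : Y * Z * Y = 0)
    (h4 : Z * Y * Z = 0) : Un M (Y * Z - Z * Y) := by
  obtain ⟨g, hg, hgY⟩ := hY
  obtain ⟨g', hg', hgZ⟩ := hZ
  obtain ⟨gi, hgi, hgi'⟩ := Un.neg ⟨g, hg, hgY⟩ h1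
  obtain ⟨gi', hgi1, hgi2⟩ := Un.neg ⟨g', hg', hgZ⟩ h2
  refine ⟨g * g' * gi * gi', mul_mem (mul_mem (mul_mem hg hg') hgi) hgi1, ?_⟩
  have e : (1 + Y) * (1 + Z) * (1 + -Y) * (1 + -Z) = 1 + (Y * Z - Z * Y) - Y * Y + Y * Y * Z - Z * Z + Z * Y * Z -
      Y * Z * Y - Y * (Z * Z) + (Y * Z * Y) * Z := by noncomm_ring
  rw [Units.val_mul, Units.val_mul, Units.val_mul, hgY, hgZ, hgi', hgi2, e, h1, h2, h3, h4]
  simp

/-- The matrix with prescribed parts at the factor `i`. -/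
def kx (i : κ) (D : Matrix (Rst i → β) (Rst i → β) F) (T : Matrix β β F) : Matrix (κ → β) (κ → β) F :=
  (Matrix.reindex (spE i) (spE i)).symm (D ⊗ₖ T)

theorem rX_kx (i : κ) (D : Matrix (Rst i → β) (Rst i → β) F) (T : Mb) : rX i (kx i D T) = D ⊗ₖ T :=
  Equiv.apply_symm_apply _ _

theorem kx_add (i : κ) (D D' : Matrix (Rst i → β) (Rst i → β) F) (T : Mb) :
    kx i (D + D') T = kx i D T + kx i D' T :=
  rX_inj i (by rw [rX_add, rX_kx, rX_kx, rX_kx, Matrix.add_kronecker])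

theorem kx_mul (i : κ) (D D' : Matrix (Rst i → β) (Rst i → β) F) (T T' : Mb) :
    kx i D T * kx i D' T' = kx i (D * D') (T * T') :=
  rX_inj i (by rw [rX_mul, rX_kx, rX_kx, rX_kx, Matrix.mul_kronecker_mul])

theorem kx_zero (i : κ) (D : Matrix (Rst i → β) (Rst i → β) F) : kx i D (0 : Mb) = 0 :=
  rX_inj i (by rw [rX_kx, Matrix.kronecker_zero]; rfl)

theorem kx_smul (i : κ) (r : F) (D : Matrix (Rst i → β) (Rst i → β) F) (T : Mb) :
    kx i (r • D) T = r • kx i D T :=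
  rX_inj i (by rw [rX_smul, rX_kx, rX_kx, Matrix.smul_kronecker])

theorem kx_smul' (i : κ) (r : F) (D : Matrix (Rst i → β) (Rst i → β) F) (T : Mb) :
    kx i D (r • T) = r • kx i D T :=
  rX_inj i (by rw [rX_smul, rX_kx, rX_kx, Matrix.kronecker_smul])

theorem kx_conj (i : κ) (j : Rst i) (S S' : Mb) (D : Matrix (Rst i → β) (Rst i → β) F) (T : Mb) :
    kx i (et j S * D * et j S') T = et j.1 S * kx i D T * et j.1 S' :=
  rX_inj i (by rw [rX_mul, rX_mul, rX_kx, rX_kx, rX_et_ne j.2, rX_et_ne j.2, ← Matrix.mul_kronecker_mul,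
    ← Matrix.mul_kronecker_mul, one_mul, mul_one])

theorem kx_conj_self (i : κ) (S S' : Mb) (D : Matrix (Rst i → β) (Rst i → β) F) (T : Mb) :
    et i S * kx i D T * et i S' = kx i D (S * T * S') :=
  rX_inj i (by rw [rX_mul, rX_mul, rX_kx, rX_kx, rX_et, rX_et, ← Matrix.mul_kronecker_mul,
    ← Matrix.mul_kronecker_mul, one_mul, mul_one])

theorem kx_wm (i : κ) (gs : κ → Mb) : kx i (wm 1 fun j : Rst i => gs j.1) (gs i) = wm 1 gs :=
  rX_inj i (by rw [rX_kx, rX_wm])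

theorem kx_one (i : κ) (T : Mb) : kx i 1 T = et i T := rX_inj i (by rw [rX_kx, rX_et])

theorem wm_conj (gs : κ → Mb) (l : κ) (S S' : Mb) (hSS : S * S' = 1) :
    et l S * wm 1 gs * et l S' = wm 1 (Function.update gs l (S * gs l * S')) := by
  rw [et, et, wm1_mul, wm1_mul]
  congr 1
  funext m
  by_cases e : m = l
  · subst e; simp
  · simp [e]

theorem wm_mul_zero (gs hs : κ → Mb) {l : κ} (hl : gs l * hs l = 0) :
    wm (1 : Equiv.Perm κ) gs * wm 1 hs = 0 := by
  rw [wm1_mul]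
  ext x y
  exact Finset.prod_eq_zero (Finset.mem_univ l) (by rw [Pi.mul_apply, hl]; rfl)

theorem wm_ptens (gs : κ → Mb) (xs : κ → β → F) :
    wm (1 : Equiv.Perm κ) gs *ᵥ ptens xs = ptens fun l => gs l *ᵥ xs l := by
  rw [wm_mulVec]; rfl

/-- A rank one map. -/
def rk (hs : Sym h) (x y : β → F) : Matrix β β F := LinearMap.toMatrix' ((hs.lin y).smulRight x)

theorem rk_mulVec (hs : Sym h) (x y v : W) : rk hs x y *ᵥ v = h v y • x := by
  rw [← Matrix.toLin'_apply, rk, Matrix.toLin'_toMatrix']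
  rfl

theorem rk_conj (hs : Sym h) {g : GL β F} (hg : g ∈ iso h) (x y : W) :
    (g : Mb) * rk hs x y * ((g⁻¹ : GL β F) : Mb) = rk hs ((g : Mb) *ᵥ x) ((g : Mb) *ᵥ y) :=
  Matrix.ext_iff_mulVec.2 fun v => by
    obtain ⟨v', rfl⟩ : ∃ v', (g : Mb) *ᵥ v' = v := ⟨_, mulVec_inv_cancel g v⟩
    rw [← Matrix.mulVec_mulVec, ← Matrix.mulVec_mulVec, inv_mulVec_cancel, rk_mulVec, rk_mulVec, hg,
      Matrix.mulVec_smul]

theorem rk_add_left (hs : Sym h) (x x' y : W) : rk hs (x + x') y = rk hs x y + rk hs x' y :=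
  Matrix.ext_iff_mulVec.2 fun v => by simp only [Matrix.add_mulVec, rk_mulVec, smul_add]

theorem rk_add_right (hs : Sym h) (x y y' : W) : rk hs x (y + y') = rk hs x y + rk hs x y' :=
  Matrix.ext_iff_mulVec.2 fun v => by simp only [Matrix.add_mulVec, rk_mulVec, hs.add_right, add_smul]

theorem rk_smul_left (hs : Sym h) (r : F) (x y : W) : rk hs (r • x) y = r • rk hs x y :=
  Matrix.ext_iff_mulVec.2 fun v => by simp only [Matrix.smul_mulVec, rk_mulVec, smul_comm r]

theorem rk_smul_right (hs : Sym h) (r : F) (x y : W) : rk hs x (r • y) = r • rk hs x y :=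
  Matrix.ext_iff_mulVec.2 fun v => by simp only [Matrix.smul_mulVec, rk_mulVec, hs.smul_right, mul_smul]

theorem toMatrix_AE (hs : Sym h) (a : W) : LinearMap.toMatrix' (AE hs a) = rk hs a a := rfl

theorem toMatrix_wd (hs : Sym h) (a e : W) : LinearMap.toMatrix' (wd a e hs) = rk hs e a - rk hs a e :=
  Matrix.ext_iff_mulVec.2 fun v => by
    rw [← Matrix.toLin'_apply, Matrix.toLin'_toMatrix', Matrix.sub_mulVec, rk_mulVec, rk_mulVec, TensorOrth.wd_apply]

theorem rk_mul (hs : Sym h) (x y x' y' : W) : rk hs x y * rk hs x' y' = h x' y • rk hs x y' :=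
  Matrix.ext_iff_mulVec.2 fun v => by
    rw [← Matrix.mulVec_mulVec, rk_mulVec, rk_mulVec, hs.smul_left, Matrix.smul_mulVec, rk_mulVec, smul_smul,
      mul_comm]

end Cfsg.Agent.Classical.TensorPowOrth
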