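import Cfsg.Agent.Lib.Classical.TensorPowOrth.Block
import Cfsg.Agent.Lib.Classical.TensorPow.Swap

/-!
Elements of the stabiliser of a tensor power in odd characteristic: quadratic ones act at one factor, and an element
sending a pure tensor to the sum of two of them differing at two factors is outside.
-/

set_option autoImplicit false
set_option linter.unusedSectionVars false
set_option linter.unusedSimpArgs false
set_option linter.style.haveILetI false

open scoped Kronecker

namespace Cfsg.Agent.Classical.TensorPowOrth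

open Matrix Module MaxTv TensorMax TensorPow

variable {F : Type*} [Field F] [Fintype F] {κ β : Type} [Fintype κ] [DecidableEq κ] [Fintype β] [DecidableEq β]

local notation "X" => (κ → β)
local notation "V" => ((κ → β) → F)
local notation "Mn" => Matrix (κ → β) (κ → β) F
local notation "Mb" => Matrix β β F
local notation "W" => (β → F)

/-- Two terms differing at two factors are not a pure tensor. -/
theorem not_mem_Wr_of_two {T : GL X F} {a b : κ → β → F} {r : F} (hr : r ≠ 0)
    (hT : (T : Mn) *ᵥ ptens a = ptens a + r • ptens b) (ξ ξ' : κ → β → F) (h1 : ∀ l, ξ l ⬝ᵥ a l = 1)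
    (h2 : ∀ l, ξ' l ⬝ᵥ b l = 1) {j k : κ} (hjk : j ≠ k) (hj : ξ j ⬝ᵥ b j = 0) (hj' : ξ' j ⬝ᵥ a j = 0)
    (hk' : ξ' k ⬝ᵥ a k = 0) : T ∉ Wr F κ β := by
  classical
  rintro ⟨π, ws, rfl⟩
  rw [wgl_mulVec] at hT
  set w : κ → β → F := fun l => (ws l : Mb) *ᵥ a (π l)
  have key : ∀ η : κ → β → F, ∏ l, η l ⬝ᵥ w l = (∏ l, η l ⬝ᵥ a l) + r * ∏ l, η l ⬝ᵥ b l := fun η => by
    have h3 := congrArg (ptens η ⬝ᵥ ·) hT
    simp only [dotProduct_add, dotProduct_smul, dot_ptens, smul_eq_mul] at h3
    exact h3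
  have hA : ∏ l, ξ l ⬝ᵥ w l = 1 := by
    rw [key, Finset.prod_eq_one fun l _ => h1 l, Finset.prod_eq_zero (Finset.mem_univ j) hj, mul_zero, add_zero]
  have hB : ∏ l, ξ' l ⬝ᵥ w l = r := by
    rw [key, Finset.prod_eq_one (f := fun l => ξ' l ⬝ᵥ b l) fun l _ => h2 l,
      Finset.prod_eq_zero (Finset.mem_univ j) hj', zero_add, mul_one]
  have hm : ∏ l, Function.update ξ' j (ξ j) l ⬝ᵥ w l = 0 := by
    rw [key, Finset.prod_eq_zero (Finset.mem_univ k) (by rw [Function.update_of_ne hjk.symm, hk']),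
      Finset.prod_eq_zero (Finset.mem_univ j) (by rw [Function.update_self, hj]), mul_zero, add_zero]
  obtain ⟨l, -, hl⟩ := Finset.prod_eq_zero_iff.1 hm
  rcases eq_or_ne l j with rfl | e
  · rw [Function.update_self] at hl
    exact one_ne_zero (hA.symm.trans (Finset.prod_eq_zero (Finset.mem_univ l) hl))
  · rw [Function.update_of_ne e] at hl
    exact hr (hB.symm.trans (Finset.prod_eq_zero (Finset.mem_univ l) hl))

/-- A nilpotent nonzero matrix has a vector moved once. -/
theorem exists_moved_once {N : Mb} {p : ℕ} (hp : N ^ p = 0) (hN : N ≠ 0) :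
    ∃ x, N *ᵥ x ≠ 0 ∧ N *ᵥ (N *ᵥ x) = 0 := by
  classical
  obtain ⟨v, hv⟩ : ∃ v, N *ᵥ v ≠ 0 := by
    by_contra hc
    push Not at hc
    exact hN (Matrix.ext_iff_mulVec.2 fun v => by rw [hc, Matrix.zero_mulVec])
  have hex : ∃ m, (N ^ m) *ᵥ v = 0 := ⟨p, by rw [hp, Matrix.zero_mulVec]⟩
  obtain ⟨m, hm⟩ : ∃ m, Nat.find hex = m + 2 := by
    refine ⟨Nat.find hex - 2, ?_⟩
    have h0 : Nat.find hex ≠ 0 := fun e => hv (by
      have := Nat.find_spec hex
      rw [e, pow_zero, Matrix.one_mulVec] at this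
      rw [this, Matrix.mulVec_zero])
    have h1 : Nat.find hex ≠ 1 := fun e => hv (by
      have := Nat.find_spec hex
      rwa [e, pow_one] at this)
    omega
  refine ⟨(N ^ m) *ᵥ v, ?_, ?_⟩
  · rw [Matrix.mulVec_mulVec, ← pow_succ']
    exact Nat.find_min hex (by omega)
  · have := Nat.find_spec hex
    rwa [hm, pow_succ', pow_succ', ← Matrix.mulVec_mulVec, ← Matrix.mulVec_mulVec] at this

/-- A quadratic element of the stabiliser acts at one factor. -/
theorem quad_mem_Wr (h2 : (2 : F) ≠ 0) (hb : 3 ≤ Fintype.card β) [Nonempty κ] {y : GL X F}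
    (hy : y ∈ Wr F κ β) (hsq : ((y : Mn) - 1) * ((y : Mn) - 1) = 0) : ∃ (m : κ) (B : GL β F), y = pe m B := by
  classical
  haveI : Nonempty β := Fintype.card_pos_iff.1 (by omega)
  haveI : Nontrivial β := Fintype.one_lt_card_iff_nontrivial.1 (by omega)
  obtain ⟨p, hp⟩ := CharP.exists F
  haveI : Fact p.Prime := ⟨CharP.char_is_prime F p⟩
  have hodd : p % 2 = 1 := (Fact.out (p := p.Prime)).eq_two_or_odd.resolve_left fun h' => by
    subst h'; exact h2 CharTwo.two_eq_zero
  obtain ⟨σ, gs, rfl⟩ := hy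
  have hσ2 := perm_sq_eq_one hb hsq
  have hzp := TensorPow.pow_char_eq_one p hsq
  obtain rfl : σ = 1 := by
    obtain ⟨hs, he⟩ := wgl_pow (σ := σ) (gs := gs) p
    rw [he] at hzp
    have h1 := (wgl_eq_one hzp).1
    rw [← Nat.div_add_mod p 2, hodd, pow_succ, pow_mul, pow_two, hσ2, one_pow, one_mul] at h1
    exact h1
  rw [wgl_one_pow] at hzp
  obtain ⟨-, hsc⟩ := wgl_eq_one hzp
  choose c hc using hsc
  simp only [Pi.pow_apply, Units.val_pow_eq_pow_val] at hc
  choose d N hd hB hN using fun l => exists_unip p (hc l)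
  obtain ⟨D, hD⟩ : ∃ D, D = ∏ l, d l := ⟨_, rfl⟩
  obtain ⟨L, hL⟩ : ∃ L : (κ → β → F) → κ → β → F, L = fun u l => u l + N l *ᵥ u l := ⟨_, rfl⟩
  have hap : ∀ u : κ → β → F, (wgl 1 gs : Mn) *ᵥ ptens u = D • ptens (L u) := fun u => by
    rw [wgl_mulVec, hD, hL]
    funext x
    simp only [Equiv.Perm.coe_one, id_eq, ptens, hB, Matrix.smul_mulVec, Matrix.add_mulVec, Matrix.one_mulVec,
      Pi.smul_apply, smul_eq_mul, Finset.prod_mul_distrib]
  have hquad : ∀ u : κ → β → F, (D * D) • ptens (L (L u)) - (2 * D) • ptens (L u) + ptens u = 0 := fun u => by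
    have h1 := congrArg (· *ᵥ ptens u) hsq
    simp only [Matrix.zero_mulVec, ← Matrix.mulVec_mulVec, Matrix.sub_mulVec, Matrix.one_mulVec,
      Matrix.mulVec_sub, hap, Matrix.mulVec_smul] at h1
    linear_combination (norm := module) h1
  have hk : ∀ l, ∃ k : β → F, k ≠ 0 ∧ N l *ᵥ k = 0 := fun l => exists_ker_of_pow (hN l)
  choose k hk0 hkN using hk
  obtain rfl : D = 1 := by
    have h1 := hquad k
    simp only [hL, hkN, add_zero] at h1
    have h3 : (D - 1) * (D - 1) = 0 := by
      have h4 : ((D - 1) * (D - 1)) • ptens k = 0 := by linear_combination (norm := module) h1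
      exact (smul_eq_zero.1 h4).resolve_right (ptens_ne_zero hk0)
    exact sub_eq_zero.1 (mul_self_eq_zero.1 h3)
  have hone : ∀ a b, N a ≠ 0 → N b ≠ 0 → a = b := fun a b ha hb' => by
    by_contra hne
    obtain ⟨x, hx, hxx⟩ := exists_moved_once (hN a) ha
    obtain ⟨y, hy, hyy⟩ := exists_moved_once (hN b) hb'
    obtain ⟨T, hT⟩ : ∃ T : (β → F) → (β → F) → κ → β → F,
        T = fun s t => Function.update (Function.update k b t) a s := ⟨_, rfl⟩
    have hLT : ∀ s t, L (T s t) = T (s + N a *ᵥ s) (t + N b *ᵥ t) := fun s t => by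
      funext l
      simp only [hL, hT]
      by_cases e : l = a
      · subst e; simp
      · rw [Function.update_of_ne e, Function.update_of_ne e]
        by_cases e' : l = b
        · subst e'; simp
        · rw [Function.update_of_ne e', Function.update_of_ne e', hkN, add_zero]
    have haddl : ∀ s s' t, ptens (T (s + s') t) = ptens (T s t) + ptens (T s' t) := fun s s' t => funext fun z => by
      simp only [hT, Pi.add_apply, ptens_update]
      ring
    have haddr : ∀ s t t', ptens (T s (t + t')) = ptens (T s t) + ptens (T s t') := fun s t t' => funext fun z => by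
      simp only [hT, Function.update_comm (Ne.symm hne), Pi.add_apply, ptens_update]
      ring
    have hne0 : ptens (T (N a *ᵥ x) (N b *ᵥ y)) ≠ 0 := ptens_ne_zero fun l => by
      simp only [hT]
      by_cases e : l = a
      · subst e; rwa [Function.update_self]
      · rw [Function.update_of_ne e]
        by_cases e' : l = b
        · subst e'; rwa [Function.update_self]
        · rw [Function.update_of_ne e']; exact hk0 l
    have h1 := hquad (T x y)
    simp only [hLT, Matrix.mulVec_add, hxx, hyy, add_zero, haddl, haddr, one_mul, mul_one] at h1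
    refine hne0 ((smul_eq_zero.1 (?_ : (2 : F) • ptens (T (N a *ᵥ x) (N b *ᵥ y)) = 0)).resolve_left h2)
    linear_combination (norm := module) h1
  obtain ⟨m, hm⟩ : ∃ m, ∀ l, l ≠ m → N l = 0 := by
    by_cases hall : ∀ l, N l = 0
    · exact ⟨Classical.arbitrary κ, fun l _ => hall l⟩
    · push Not at hall
      obtain ⟨m, hm⟩ := hall
      exact ⟨m, fun l hl => by_contra fun h => hl (hone l m h hm)⟩
  obtain ⟨B, hBv⟩ : ∃ B : GL β F, (B : Mb) = 1 + N m := by
    have h1 : (1 + N m) ^ p = 1 := by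
      rw [add_pow_char_of_commute (p := p) (Commute.one_left _), one_pow, hN, add_zero]
    exact ⟨(IsUnit.of_pow_eq_one h1 (Fact.out : p.Prime).ne_zero).unit, rfl⟩
  refine ⟨m, B, Units.ext (Matrix.toLin'.injective (ext_ptens fun u => ?_))⟩
  rw [Matrix.toLin'_apply, Matrix.toLin'_apply, hap, one_smul, pe_mulVec]
  congr 1
  funext l
  simp only [hL]
  by_cases e : l = m
  · subst e; rw [Function.update_self, hBv, Matrix.add_mulVec, Matrix.one_mulVec]
  · rw [Function.update_of_ne e, hm l e, Matrix.zero_mulVec, add_zero]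

/-- An element of the stabiliser commuting with a non-scalar element at a factor splits there. -/
theorem kron_of_comm_pe [Nontrivial β] {g : GL X F} (hg : g ∈ Wr F κ β) {i : κ} {U : GL β F}
    (hU : ∀ c : F, (U : Mb) ≠ c • 1) (h : g * pe i U = pe i U * g) : IsKron (sp i g) := by
  obtain ⟨π, hs, rfl⟩ := hg
  rw [sp_wgl π (comm_pe hU h).1, isKron_iff]
  exact ⟨_, _, rfl⟩

end Cfsg.Agent.Classical.TensorPowOrth
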